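import Groth.Agent.HenselLib.Idem
import Mathlib.Dynamics.Newton
import Mathlib.Algebra.Polynomial.Lifts

/-!
# Henselian pairs: permanence properties
-/

set_option autoImplicit false

open Polynomial

namespace Groth.Agent.HenselLib

universe u

variable {A : Type u} [CommRing A]

theorem mk_map (I : Ideal A) (f : A[X]) (a : A) :
    (f.map (Ideal.Quotient.mk I)).eval (Ideal.Quotient.mk I a) = Ideal.Quotient.mk I (f.eval a) := by
  rw [eval_map, eval₂_at_apply]

theorem le_nilradical_le_jacobson {I : Ideal A} (hI : ∀ x ∈ I, IsNilpotent x) :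
    I ≤ Ideal.jacobson ⊥ := fun x hx =>
  Ideal.mem_jacobson_bot.mpr fun r =>
    ((Commute.all x r).isNilpotent_mul_right (hI x hx)).isUnit_add_one

theorem henselianRing_of_nilpotent (I : Ideal A) (hI : ∀ x ∈ I, IsNilpotent x) :
    HenselianRing A I := by
  refine ⟨le_nilradical_le_jacobson hI, fun f _ a₀ h0 h1 => ?_⟩
  obtain ⟨r, ⟨hr, hr'⟩, -⟩ := existsUnique_nilpotent_sub_and_aeval_eq_zero (P := f) (x := a₀)
    (by simpa using hI _ h0) (by simpa using isUnit_of_isUnit_mk (le_nilradical_le_jacobson hI) h1)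
  have hr'' : f.eval r = 0 := by simpa using hr'
  refine ⟨r, hr'', ?_⟩
  refine (Ideal.Quotient.mk_eq_mk_iff_sub_mem _ _).mp ?_
  symm
  refine root_unique (I := nilradical (A ⧸ I)) (le_nilradical_le_jacobson fun x hx => hx)
    (f.map (Ideal.Quotient.mk I)) ?_ ?_ ?_ ?_
  · rw [IsRoot, mk_map]; exact Ideal.Quotient.eq_zero_iff_mem.mpr h0
  · rw [IsRoot, mk_map, hr'', map_zero]
  · rw [← map_sub, ← neg_sub, map_neg]
    exact (hr.map _).neg
  · rw [derivative_map, mk_map]
    exact h1.map _

theorem henselianRing_bot : HenselianRing A (⊥ : Ideal A) :=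
  henselianRing_of_nilpotent _ fun x hx => by rw [Ideal.mem_bot.mp hx]; exact IsNilpotent.zero

theorem henselianRing_of_isIntegral (I : Ideal A) [HenselianRing A I] (B : Type u) [CommRing B]
    [Algebra A B] [Algebra.IsIntegral A B] : HenselianRing B (I.map (algebraMap A B)) := by
  refine henselianRing_of_idempotents _ fun C _ _ hC => ?_
  let : Algebra A C := ((algebraMap B C).comp (algebraMap A B)).toAlgebra
  have : IsScalarTower A B C := .of_algebraMap_eq' rfl
  have : Algebra.IsIntegral A C := Algebra.IsIntegral.trans B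
  rw [Ideal.map_map, ← IsScalarTower.algebraMap_eq]
  exact bijOn_idempotents I C

theorem henselianRing_quotient (J : Ideal A) [HenselianRing A J] (I : Ideal A) :
    HenselianRing (A ⧸ I) (J.map (Ideal.Quotient.mk I)) :=
  henselianRing_of_isIntegral J (A ⧸ I)

theorem henselianRing_of_le {I J : Ideal A} (hIJ : I ≤ J) [hJ : HenselianRing A J] :
    HenselianRing A I := by
  refine ⟨hIJ.trans hJ.jac, fun f hf a₀ h0 h1 => ?_⟩
  obtain ⟨a, ha, haJ⟩ := exists_root J f a₀ (hIJ h0)
    (by simpa using h1.map (Ideal.Quotient.factor hIJ))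
  refine ⟨a, ha, ?_⟩
  obtain ⟨c, hc⟩ := exists_mul_sq_add_linear_part_eq_eval_add f a₀ (a - a₀)
  have hu : IsUnit (c * (a - a₀) + f.derivative.eval a₀) := isUnit_of_isUnit_mk hJ.jac (by
    rw [map_add, Ideal.Quotient.eq_zero_iff_mem.mpr (J.mul_mem_left c haJ), zero_add]
    exact h1.map (Ideal.Quotient.factor hIJ))
  rw [add_sub_cancel, ha.eq_zero] at hc
  have hmem : (a - a₀) * (c * (a - a₀) + f.derivative.eval a₀) ∈ I := by
    have : (a - a₀) * (c * (a - a₀) + f.derivative.eval a₀) = -f.eval a₀ := by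
      linear_combination hc
    rw [this]; exact I.neg_mem h0
  exact (I.mul_unit_mem_iff_mem hu).mp hmem

theorem henselianRing_trans {I J : Ideal A} (hIJ : I ≤ J) [hI : HenselianRing A I]
    [hQ : HenselianRing (A ⧸ I) (J.map (Ideal.Quotient.mk I))] : HenselianRing A J := by
  let π := Ideal.Quotient.mk I
  have hmem : ∀ x, π x ∈ J.map π → x ∈ J := by
    intro x hx
    obtain ⟨y, hy, hxy⟩ := (Ideal.mem_map_iff_of_surjective _ Ideal.Quotient.mk_surjective).mp hx
    have h2 : y - x ∈ I := (Ideal.Quotient.mk_eq_mk_iff_sub_mem _ _).mp hxy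
    simpa using J.sub_mem hy (hIJ h2)
  have hJ : J ≤ Ideal.jacobson ⊥ := by
    intro x hx
    refine Ideal.mem_jacobson_bot.mpr fun r => isUnit_of_isUnit_mk hI.jac ?_
    rw [map_add, map_mul, map_one]
    exact Ideal.mem_jacobson_bot.mp (hQ.jac (Ideal.mem_map_of_mem π hx)) (π r)
  refine ⟨hJ, fun f hf a₀ h0 h1 => ?_⟩
  have hu : IsUnit (f.derivative.eval a₀) := isUnit_of_isUnit_mk hJ h1
  obtain ⟨b, hb, hbJ⟩ := exists_root (J.map π) (f.map π) (π a₀)
    (by rw [mk_map]; exact Ideal.mem_map_of_mem π h0)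
    (by rw [derivative_map, mk_map]; exact (hu.map π).map _)
  obtain ⟨a₁, rfl⟩ := Ideal.Quotient.mk_surjective b
  have ha₁ : a₁ - a₀ ∈ J := hmem _ (by rwa [map_sub])
  obtain ⟨a, ha, haI⟩ := exists_root I f a₁
    (Ideal.Quotient.eq_zero_iff_mem.mp (by rw [← mk_map]; exact hb))
    (by
      refine IsUnit.map _ (isUnit_of_isUnit_mk hJ ?_)
      rwa [(Ideal.Quotient.mk_eq_mk_iff_sub_mem _ _).mpr (eval_sub_eval_mem (derivative f) ha₁)])
  exact ⟨a, ha, by simpa using J.add_mem (hIJ haI) ha₁⟩

theorem henselianRing_iff_of_le {I J : Ideal A} (hIJ : I ≤ J) :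
    HenselianRing A J ↔
      (HenselianRing A I ∧ HenselianRing (A ⧸ I) (J.map (Ideal.Quotient.mk I))) :=
  ⟨fun _ => ⟨henselianRing_of_le hIJ, henselianRing_quotient J I⟩,
    fun ⟨_, _⟩ => henselianRing_trans hIJ⟩

theorem henselianRing_radical (I : Ideal A) [HenselianRing A I] : HenselianRing A I.radical := by
  have : HenselianRing (A ⧸ I) (I.radical.map (Ideal.Quotient.mk I)) := by
    refine henselianRing_of_nilpotent _ fun x hx => ?_
    obtain ⟨y, hy, rfl⟩ := (Ideal.mem_map_iff_of_surjective _ Ideal.Quotient.mk_surjective).mp hx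
    obtain ⟨n, hn⟩ := hy
    exact ⟨n, by rw [← map_pow]; exact Ideal.Quotient.eq_zero_iff_mem.mpr hn⟩
  exact henselianRing_trans Ideal.le_radical

theorem henselianRing_sup (I J : Ideal A) [HenselianRing A I] [HenselianRing A J] :
    HenselianRing A (I ⊔ J) := by
  have : HenselianRing (A ⧸ I) ((I ⊔ J).map (Ideal.Quotient.mk I)) := by
    rw [Ideal.map_sup, Ideal.map_quotient_self, bot_sup_eq]
    exact henselianRing_quotient J I
  exact henselianRing_trans le_sup_left

theorem exists_largest (A : Type u) [CommRing A] :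
    ∃ I : Ideal A, HenselianRing A I ∧ ∀ J : Ideal A, HenselianRing A J → J ≤ I := by
  set s := {J : Ideal A | HenselianRing A J}
  have hne : s.Nonempty := ⟨⊥, henselianRing_bot⟩
  have hdir : DirectedOn (· ≤ ·) s := fun I hI J hJ => by
    have : HenselianRing A I := hI
    have : HenselianRing A J := hJ
    exact ⟨I ⊔ J, henselianRing_sup I J, le_sup_left, le_sup_right⟩
  have hjac : sSup s ≤ Ideal.jacobson ⊥ := sSup_le fun J hJ => HenselianRing.jac
    (self := hJ)
  refine ⟨sSup s, ⟨hjac, fun f hf a₀ h0 h1 => ?_⟩, fun J hJ => le_sSup hJ⟩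
  obtain ⟨J, hJ, h0'⟩ := (Submodule.mem_sSup_of_directed hne hdir).mp h0
  obtain ⟨a, ha, haJ⟩ := hJ.is_henselian f hf a₀ h0' ((isUnit_of_isUnit_mk hjac h1).map _)
  exact ⟨a, ha, le_sSup (show J ∈ s from hJ) haJ⟩

theorem henselianLocalRing_of_henselianRing (R : Type u) [CommRing R] [IsLocalRing R]
    [hR : HenselianRing R (IsLocalRing.maximalIdeal R)] : HenselianLocalRing R where
  is_henselian f hf a₀ h0 h1 := hR.is_henselian f hf a₀ h0 (h1.map _)

theorem henselianRing_maximalIdeal (R : Type u) [CommRing R] [HenselianLocalRing R] :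
    HenselianRing R (IsLocalRing.maximalIdeal R) := inferInstance

theorem henselianLocalRing_of_isIntegral (R : Type u) [CommRing R] [HenselianLocalRing R]
    (S : Type u) [CommRing S] [IsLocalRing S] [Algebra R S] [Algebra.IsIntegral R S] :
    HenselianLocalRing S := by
  set J := (IsLocalRing.maximalIdeal R).map (algebraMap R S) with hJ
  have : HenselianRing S J := henselianRing_of_isIntegral _ S
  have : HenselianRing (S ⧸ J) ((IsLocalRing.maximalIdeal S).map (Ideal.Quotient.mk J)) := by
    refine henselianRing_of_nilpotent _ fun x hx => ?_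
    rw [← mem_nilradical, nilradical_eq_sInf, Submodule.mem_sInf]
    intro (p : Ideal (S ⧸ J)) hp
    have hp' : p.IsPrime := hp
    have : (p.comap (Ideal.Quotient.mk J)).IsPrime := Ideal.IsPrime.comap _
    have hle : J ≤ p.comap (Ideal.Quotient.mk J) := fun y hy => by
      simp [Ideal.mem_comap, Ideal.Quotient.eq_zero_iff_mem.mpr hy]
    have hlie : IsLocalRing.maximalIdeal R ≤ (p.comap (Ideal.Quotient.mk J)).comap (algebraMap R S) :=
      Ideal.map_le_iff_le_comap.mp hle
    have hmax : ((p.comap (Ideal.Quotient.mk J)).comap (algebraMap R S)).IsMaximal := by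
      rw [(IsLocalRing.maximalIdeal.isMaximal R).eq_of_le (Ideal.IsPrime.ne_top inferInstance) hlie
        |>.symm]
      infer_instance
    have := Ideal.isMaximal_of_isIntegral_of_isMaximal_comap (R := R)
      (p.comap (Ideal.Quotient.mk J)) hmax
    rw [← Ideal.map_comap_of_surjective _ Ideal.Quotient.mk_surjective p,
      IsLocalRing.eq_maximalIdeal this]
    exact hx
  have hJm : J ≤ IsLocalRing.maximalIdeal S :=
    (map_le_jacobson_of_isIntegral (I := IsLocalRing.maximalIdeal R)
      (henselianRing_maximalIdeal R).jac S).trans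
      (IsLocalRing.jacobson_eq_maximalIdeal ⊥ bot_ne_top).le
  have := henselianRing_trans hJm
  exact henselianLocalRing_of_henselianRing S

end Groth.Agent.HenselLib
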