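import Groth.Agent.HenselLib.Pointed
import Groth.Agent.HenselLib.Perm

/-!
# Henselization of pairs as the hull of `R ⧸ I`
-/

set_option autoImplicit false

namespace Groth.Agent.HenselLib

open CategoryTheory

universe u

variable (R : Type u) [CommRing R] (I : Ideal R)

/-- The henselization of the pair `(R, I)`. -/
abbrev PairH : Type u := Hull R (R ⧸ I)

/-- The universal property of a henselization of a pair, without the prelude. -/
def IsPairHull (B : Type u) [CommRing B] [Algebra R B] : Prop :=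
  HenselianRing B (I.map (algebraMap R B)) ∧
    ∀ (C : Type u) [CommRing C] (J : Ideal C) (f : R →+* C), HenselianRing C J → I.map f ≤ J →
      ∃! g : B →+* C, g.comp (algebraMap R B) = f

theorem mem_map_algHom {R A B : Type*} [CommRing R] [CommRing A] [CommRing B] [Algebra R A]
    [Algebra R B] (f : A →ₐ[R] B) (I : Ideal R) {x : A} (hx : x ∈ I.map (algebraMap R A)) :
    f x ∈ I.map (algebraMap R B) := by
  have h : (I.map (algebraMap R A)).map f.toRingHom = I.map (algebraMap R B) := by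
    rw [Ideal.map_map]
    exact congrArg (Ideal.map · I) f.comp_algebraMap
  exact h ▸ Ideal.mem_map_of_mem f.toRingHom hx

theorem hullPt_surjective : Function.Surjective (hullPt R (R ⧸ I)) := fun x => by
  obtain ⟨r, rfl⟩ := Ideal.Quotient.mk_surjective x
  exact ⟨algebraMap R _ r, (hullPt R (R ⧸ I)).commutes r⟩

theorem exists_hom_ker_le_map (P : Pt R (R ⧸ I)) :
    ∃ (Q : Pt R (R ⧸ I)) (g : P ⟶ Q), ∀ y, P.pt y = 0 → g.map y ∈ I.map (algebraMap R Q.Ring) := by
  obtain ⟨e, he1, he⟩ := exists_idempotent_of_section P.pt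
  have : Algebra.Etale R (Localization.Away e) := Algebra.Etale.comp R P.Ring _
  let σ : Localization.Away e →ₐ[R] R ⧸ I :=
    IsLocalization.Away.liftAlgHom e (f := P.pt) (by rw [he1]; exact isUnit_one)
  obtain ⟨Q, g, ε, -, hmap⟩ := P.exists_hom σ (IsScalarTower.toAlgHom R P.Ring (Localization.Away e))
    (AlgHom.ext fun y => by simp [σ])
  refine ⟨Q, g, fun y hy => ?_⟩
  have h1 : g.map (e * y) ∈ I.map (algebraMap R Q.Ring) := mem_map_algHom g.map I (he y hy)
  rw [map_mul] at h1
  refine ((I.map (algebraMap R Q.Ring)).unit_mul_mem_iff_mem ?_).mp h1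
  rw [hmap]
  exact ((IsLocalization.Away.algebraMap_isUnit (S := Localization.Away e) e).map ε.symm)

theorem ker_hullPt_pair :
    RingHom.ker (hullPt R (R ⧸ I)) = I.map (algebraMap R (PairH R I)) := by
  refine le_antisymm (fun h hh => ?_) (Ideal.map_le_iff_le_comap.mpr fun r hr => ?_)
  · obtain ⟨P, x, rfl⟩ := exists_rep h
    rw [RingHom.mem_ker, hullPt_ι] at hh
    obtain ⟨Q, g, hg⟩ := exists_hom_ker_le_map R I P
    rw [← ι_map g]
    exact mem_map_algHom (ι Q) I (hg x hh)
  · rw [Ideal.mem_comap, RingHom.mem_ker, AlgHom.commutes]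
    exact Ideal.Quotient.eq_zero_iff_mem.mpr hr

theorem exists_sub_algebraMap_mem (h : PairH R I) :
    ∃ r, h - algebraMap R (PairH R I) r ∈ I.map (algebraMap R (PairH R I)) := by
  obtain ⟨r, hr⟩ := Ideal.Quotient.mk_surjective (hullPt R (R ⧸ I) h)
  refine ⟨r, ?_⟩
  rw [← ker_hullPt_pair, RingHom.mem_ker, map_sub, AlgHom.commutes, ← hr]
  exact sub_self _

theorem isPairHull_pairH : IsPairHull R I (PairH R I) := by
  refine ⟨ker_hullPt_pair R I ▸ henselianRing_hull, fun C _ J f hJ hle => ?_⟩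
  let : Algebra R C := f.toAlgebra
  let τ : R ⧸ I →ₐ[R] C ⧸ J := Ideal.Quotient.liftₐ I (Algebra.ofId R (C ⧸ J)) fun a ha =>
    Ideal.Quotient.eq_zero_iff_mem.mpr (hle (Ideal.mem_map_of_mem f ha))
  obtain ⟨G, hG, hGuniq⟩ := hull_universal J τ
  refine ⟨G.toRingHom, G.comp_algebraMap, fun g hg => ?_⟩
  let g' : PairH R I →ₐ[R] C := { g with commutes' := fun r => congr($hg r) }
  have : g' = G := hGuniq g' (AlgHom.ext fun h => by
    obtain ⟨r, hr⟩ := exists_sub_algebraMap_mem R I h
    have h1 : g' (h - algebraMap R _ r) ∈ J := by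
      exact hle (mem_map_algHom g' I hr)
    rw [map_sub, AlgHom.commutes] at h1
    have h3 : hullPt R (R ⧸ I) h = Ideal.Quotient.mk I r := by
      rw [← ker_hullPt_pair, RingHom.mem_ker, map_sub, AlgHom.commutes, sub_eq_zero] at hr
      exact hr
    show Ideal.Quotient.mk J (g' h) = τ (hullPt R (R ⧸ I) h)
    rw [h3, (Ideal.Quotient.mk_eq_mk_iff_sub_mem _ _).mpr h1]
    rfl)
  exact congrArg AlgHom.toRingHom this

variable {R I}

/-- Any henselization of a pair is the hull. -/
theorem IsPairHull.nonempty_equiv {B B' : Type u} [CommRing B] [Algebra R B] [CommRing B']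
    [Algebra R B'] (hB : IsPairHull R I B) (hB' : IsPairHull R I B') :
    Nonempty (B ≃ₐ[R] B') := by
  obtain ⟨f, hf, -⟩ := hB.2 B' _ (algebraMap R B') hB'.1 le_rfl
  obtain ⟨g, hg, -⟩ := hB'.2 B _ (algebraMap R B) hB.1 le_rfl
  have h1 : g.comp f = RingHom.id B := (hB.2 B _ (algebraMap R B) hB.1 le_rfl).unique
    (by rw [RingHom.comp_assoc, hf, hg]) (RingHom.id_comp _)
  have h2 : f.comp g = RingHom.id B' := (hB'.2 B' _ (algebraMap R B') hB'.1 le_rfl).unique
    (by rw [RingHom.comp_assoc, hg, hf]) (RingHom.id_comp _)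
  exact ⟨AlgEquiv.ofRingEquiv (f := RingEquiv.ofRingHom f g h2 h1) fun r => congr($hf r)⟩

theorem IsPairHull.equiv_pairH {B : Type u} [CommRing B] [Algebra R B] (hB : IsPairHull R I B) :
    Nonempty (PairH R I ≃ₐ[R] B) :=
  (isPairHull_pairH R I).nonempty_equiv hB

end Groth.Agent.HenselLib
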