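import Groth.Agent.HenselLib.HullFlat
import Groth.Agent.HenselLib.PairHens
import Groth.Agent.FlatCrit.Tor
import Groth.Agent.AdicRing.Noetherian
import Mathlib.RingTheory.AdicCompletion.LocalRing
import Mathlib.RingTheory.Flat.FaithfullyFlat.Algebra

/-!
# Noetherianity of hulls
-/

set_option autoImplicit false

namespace Groth.Agent.HenselLib

open scoped TensorProduct

universe u

theorem isNoetherianRing_of_faithfullyFlat (A B : Type u) [CommRing A] [CommRing B] [Algebra A B]
    [Module.FaithfullyFlat A B] [IsNoetherianRing B] : IsNoetherianRing A :=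
  have hmono : StrictMono fun I : Ideal A => I.map (algebraMap A B) := fun I J h =>
    lt_of_le_of_ne (Ideal.map_mono h.le) fun he => h.ne (by
      simp only at he
      rw [← Ideal.comap_map_eq_self_of_faithfullyFlat (B := B) I,
        ← Ideal.comap_map_eq_self_of_faithfullyFlat (B := B) J, he])
  isNoetherian_iff.mpr hmono.wellFoundedGT.wf

section Completion

variable {R H : Type u} [CommRing R] [CommRing H] [Algebra R H]

/-- `A ⊗_R Ĥ` is `A ⊗_R H` for modules `A` killed by a power of `I`. -/
theorem quotFlat_adicCompletion [Module.Flat R H] (I : Ideal R) (hI : I.FG) (n : ℕ) :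
    FlatCrit.QuotFlat R (AdicCompletion (I.map (algebraMap R H)) H) (I ^ n) := by
  set J := I.map (algebraMap R H) with hJ
  set C := AdicCompletion J H with hC
  refine FlatCrit.quotFlat_of_flat (I ^ n) ?_
  have : IsScalarTower R H C := IsScalarTower.of_algebraMap_eq fun r => rfl
  have hJn : (I ^ n).map (algebraMap R H) = J ^ n := by rw [Ideal.map_pow]
  let ev : C →ₗ[R] H ⧸ (J ^ n • (⊤ : Submodule H H)) :=
    (AdicCompletion.eval J H n).restrictScalars R
  have hev : Function.Surjective ev := AdicCompletion.eval_surjective J H n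
  have hkerev : LinearMap.ker ev = (I ^ n) • (⊤ : Submodule R C) := by
    rw [LinearMap.ker_restrictScalars, ← AdicCompletion.pow_smul_top_eq_ker_eval (hI.map _),
      ← hJn, Ideal.smul_restrictScalars, Submodule.restrictScalars_top]
  have hsub : (J ^ n • (⊤ : Submodule H H)).restrictScalars R = (I ^ n) • (⊤ : Submodule R H) := by
    rw [← hJn, Ideal.smul_restrictScalars, Submodule.restrictScalars_top]
  let e₁ : (C ⧸ (I ^ n) • (⊤ : Submodule R C)) ≃ₗ[R] H ⧸ (J ^ n • (⊤ : Submodule H H)) :=
    (Submodule.quotEquivOfEq _ _ hkerev.symm).trans (ev.quotKerEquivOfSurjective hev)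
  let e₂ : (H ⧸ (J ^ n • (⊤ : Submodule H H))) ≃ₗ[R] H ⧸ (I ^ n) • (⊤ : Submodule R H) :=
    (Submodule.Quotient.restrictScalarsEquiv R _).symm.trans (Submodule.quotEquivOfEq _ _ hsub)
  let e : (R ⧸ I ^ n) ⊗[R] C ≃ₗ[R] (R ⧸ I ^ n) ⊗[R] H :=
    (TensorProduct.quotTensorEquivQuotSMul C (I ^ n)).trans
      ((e₁.trans e₂).trans (TensorProduct.quotTensorEquivQuotSMul H (I ^ n)).symm)
  exact Module.Flat.of_linearEquiv (e.extendScalarsOfSurjective Ideal.Quotient.mk_surjective)

theorem flat_adicCompletion [IsNoetherianRing R] [Module.Flat R H] (I : Ideal R)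
    [IsNoetherianRing (H ⧸ I.map (algebraMap R H))] :
    IsNoetherianRing (AdicCompletion (I.map (algebraMap R H)) H) ∧
      Module.Flat R (AdicCompletion (I.map (algebraMap R H)) H) := by
  set J := I.map (algebraMap R H) with hJ
  set C := AdicCompletion J H with hC
  have hJfg : J.FG := Ideal.FG.map (IsNoetherian.noetherian I) _
  have : IsScalarTower R H C := IsScalarTower.of_algebraMap_eq fun r => rfl
  have := AdicCompletion.isAdicComplete_self J hJfg
  have hq : IsNoetherianRing (C ⧸ J.map (algebraMap H C)) :=
    isNoetherianRing_of_ringEquiv _ (((Ideal.quotEquivOfEq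
      (AdicCompletion.ker_evalOneₐ_eq_map J hJfg).symm).trans
        (RingHom.quotientKerEquivOfSurjective (f := (AdicCompletion.evalOneₐ J).toRingHom)
          (AdicCompletion.evalOneₐ_surjective J))).symm)
  have hCN : IsNoetherianRing C :=
    AdicRing.isNoetherianRing_of_isAdicComplete (J.map (algebraMap H C)) (hJfg.map _)
  have hmap : I.map (algebraMap R C) = J.map (algebraMap H C) := by
    show _ = (I.map (algebraMap R H)).map _
    rw [Ideal.map_map, ← IsScalarTower.algebraMap_eq]
  refine ⟨hCN, FlatCrit.flat_of_quotFlat_pow (S := C) I ?_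
    fun n => quotFlat_adicCompletion I (IsNoetherian.noetherian I) n⟩
  rw [hmap]
  exact IsAdicComplete.le_jacobson_bot _

end Completion

variable {R K : Type u} [CommRing R] [CommRing K] [Algebra R K]

/-- The completion of a hull along `I` is faithfully flat over it. -/
theorem faithfullyFlat_completion_hull [IsNoetherianRing R] (I : Ideal R)
    (hker : RingHom.ker (hullPt R K) = I.map (algebraMap R (Hull R K)))
    [IsNoetherianRing (Hull R K ⧸ I.map (algebraMap R (Hull R K)))] :
    Module.FaithfullyFlat (Hull R K)
      (AdicCompletion (I.map (algebraMap R (Hull R K))) (Hull R K)) := by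
  set J := I.map (algebraMap R (Hull R K)) with hJ
  set C := AdicCompletion J (Hull R K)
  obtain ⟨-, hflat⟩ := flat_adicCompletion (H := Hull R K) I
  have hH : Module.Flat (Hull R K) C := flat_of_flat_stages fun P => by
    let := ((algebraMap (Hull R K) C).comp (ι P).toRingHom).toAlgebra
    have : IsScalarTower R P.Ring C :=
      IsScalarTower.of_algebraMap_eq (R := R) (S := P.Ring) (A := C) fun r =>
        (congrArg (algebraMap (Hull R K) C) (AlgHom.commutes (ι P) r)).symm
    exact flat_of_flat_of_etale (R := R)
  refine { hH with submodule_ne_top := fun m hm h => ?_ }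
  have hJm : J ≤ m := by
    rw [← hker]
    exact ker_hullPt_le_jacobson.trans (sInf_le ⟨bot_le, hm⟩)
  have hJfg : J.FG := Ideal.FG.map (IsNoetherian.noetherian I) _
  have := AdicCompletion.isMaximal_map_of_le J m hJm hJfg
  refine this.ne_top ((Ideal.eq_top_iff_one _).mpr ?_)
  have h1 : (1 : C) ∈ m • (⊤ : Submodule (Hull R K) C) := by rw [h]; trivial
  rwa [Ideal.smul_top_eq_map] at h1

theorem isNoetherianRing_hull [IsNoetherianRing R] (I : Ideal R)
    (hker : RingHom.ker (hullPt R K) = I.map (algebraMap R (Hull R K)))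
    [IsNoetherianRing (Hull R K ⧸ I.map (algebraMap R (Hull R K)))] :
    IsNoetherianRing (Hull R K) := by
  obtain ⟨hN, -⟩ := flat_adicCompletion (H := Hull R K) I
  have := faithfullyFlat_completion_hull I hker
  exact isNoetherianRing_of_faithfullyFlat (Hull R K)
    (AdicCompletion (I.map (algebraMap R (Hull R K))) (Hull R K))

theorem isNoetherianRing_pairH [IsNoetherianRing R] (I : Ideal R) :
    IsNoetherianRing (PairH R I) := by
  have : IsNoetherianRing (PairH R I ⧸ I.map (algebraMap R (PairH R I))) :=
    isNoetherianRing_of_ringEquiv _ (((Ideal.quotEquivOfEq (ker_hullPt_pair R I).symm).trans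
      (RingHom.quotientKerEquivOfSurjective (hullPt_surjective R I))).symm)
  exact isNoetherianRing_hull I (ker_hullPt_pair R I)

end Groth.Agent.HenselLib
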