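import Mathlib.RingTheory.Smooth.NoetherianDescent
import Mathlib.RingTheory.Smooth.Flat
import Mathlib.RingTheory.Etale.Basic
import Mathlib.RingTheory.Unramified.Field
import Mathlib.RingTheory.Flat.Basic
import Mathlib.RingTheory.LocalRing.ResidueField.Ideal
import Mathlib.RingTheory.Ideal.MinimalPrime.Noetherian
import Mathlib.RingTheory.FiniteType

/-!
# Etale algebras over reduced rings are reduced
-/

set_option autoImplicit false

namespace Groth.Agent.HenselLib

open scoped TensorProduct

universe u

theorem isReduced_of_etale_of_isNoetherianRing (R A : Type u) [CommRing R] [CommRing A] [Algebra R A]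
    [IsNoetherianRing R] [IsReduced R] [Algebra.Etale R A] : IsReduced A := by
  classical
  let K : minimalPrimes R → Type u := fun p =>
    haveI : (p.1).IsPrime := Ideal.IsMinimalPrime.isPrime p.2
    (p.1).ResidueField
  let iK : ∀ p, Field (K p) := fun p =>
    haveI : (p.1).IsPrime := Ideal.IsMinimalPrime.isPrime p.2
    inferInstanceAs (Field (p.1).ResidueField)
  let aK : ∀ p, Algebra R (K p) := fun p =>
    haveI : (p.1).IsPrime := Ideal.IsMinimalPrime.isPrime p.2
    inferInstanceAs (Algebra R (p.1).ResidueField)
  have : Finite (minimalPrimes R) := (minimalPrimes.finite_of_isNoetherianRing R).to_subtype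
  have := Fintype.ofFinite (minimalPrimes R)
  let j : R →ₗ[R] ∀ p, K p := LinearMap.pi fun p => Algebra.linearMap R (K p)
  have hj : Function.Injective j := by
    rw [injective_iff_map_eq_zero]
    intro r hr
    have : r ∈ nilradical R := by
      rw [nilradical, Ideal.zero_eq_bot, ← Ideal.sInf_minimalPrimes, Ideal.mem_sInf]
      intro p hp
      have : p.IsPrime := Ideal.IsMinimalPrime.isPrime hp
      exact Ideal.algebraMap_residueField_eq_zero.mp (congrFun hr ⟨p, hp⟩)
    rwa [nilradical_eq_zero, Ideal.zero_eq_bot, Ideal.mem_bot] at this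
  refine ⟨fun x hx => ?_⟩
  have hp : ∀ p : minimalPrimes R, x ⊗ₜ[R] (1 : K p) = 0 := fun p => by
    have : IsReduced (K p ⊗[R] A) := Algebra.FormallyUnramified.isReduced_of_field (K p) _
    have h := (hx.map (Algebra.TensorProduct.includeRight : A →ₐ[R] K p ⊗[R] A)).eq_zero
    have := congrArg (TensorProduct.comm R (K p) A) h
    simpa using this
  have h1 : j.lTensor A (x ⊗ₜ[R] (1 : R)) = 0 := by
    refine (TensorProduct.piRight R R A K).injective ?_
    rw [map_zero]
    funext p
    simpa [j] using hp p
  have h2 : x ⊗ₜ[R] (1 : R) = 0 :=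
    Module.Flat.lTensor_preserves_injective_linearMap j hj (h1.trans (map_zero _).symm)
  simpa using congrArg (TensorProduct.rid R A) h2

theorem isReduced_of_etale (R A : Type u) [CommRing R] [CommRing A] [Algebra R A] [IsReduced R]
    [Algebra.Etale R A] : IsReduced A := by
  obtain ⟨R₀, B₀, _, _, hR₀, hB₀, ⟨e⟩⟩ := Algebra.Etale.exists_subalgebra_fg ℤ R A
  have : Algebra.FiniteType ℤ R₀ := (Subalgebra.fg_iff_finiteType R₀).mp hR₀
  have : IsNoetherianRing R₀ := Algebra.FiniteType.isNoetherianRing ℤ R₀
  have : IsReduced (B₀ ⊗[R₀] R) := IsReduced.tensorProduct_of_flat_of_forall_fg fun B hB => by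
    have : Algebra.FiniteType R₀ B := (Subalgebra.fg_iff_finiteType B).mp hB
    have : IsNoetherianRing B := Algebra.FiniteType.isNoetherianRing R₀ B
    have : IsReduced B := isReduced_of_injective B.val Subtype.val_injective
    have := isReduced_of_etale_of_isNoetherianRing B (B ⊗[R₀] B₀)
    exact isReduced_of_injective (Algebra.TensorProduct.comm R₀ B₀ B)
      (Algebra.TensorProduct.comm R₀ B₀ B).injective
  exact isReduced_of_injective ((e.restrictScalars R₀).trans (Algebra.TensorProduct.comm R₀ R B₀))
    ((e.restrictScalars R₀).trans (Algebra.TensorProduct.comm R₀ R B₀)).injective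

end Groth.Agent.HenselLib
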