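import Groth.Agent.HenselLib.Perm
import Mathlib.RingTheory.Artinian.Ring
import Mathlib.RingTheory.Artinian.Instances
import Mathlib.RingTheory.Localization.AtPrime.Basic
import Mathlib.RingTheory.Ideal.Quotient.Operations

/-!
# Idempotent lifting and decompositions into local rings
-/

set_option autoImplicit false

open Polynomial

namespace Groth.Agent.HenselLib

universe u v

/-- `B` is a finite product of local rings. -/
def IsPiLocal (B : Type u) [CommRing B] : Prop :=
  ∃ (ι : Type u) (_ : Fintype ι) (C : ι → Type u) (_ : ∀ j, CommRing (C j)),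
    (∀ j, IsLocalRing (C j)) ∧ Nonempty (B ≃+* (∀ j, C j))

/-- Idempotents lift modulo `J`. -/
def IdemLift {B : Type v} [CommRing B] (J : Ideal B) : Prop :=
  ∀ b : B, b * b - b ∈ J → ∃ e, IsIdempotentElem e ∧ e - b ∈ J

theorem idemLift_iff_surjOn {B : Type v} [CommRing B] (J : Ideal B) :
    IdemLift J ↔ Set.SurjOn (Ideal.Quotient.mk J) {e : B | IsIdempotentElem e}
      {e | IsIdempotentElem e} := by
  constructor
  · intro h y hy
    obtain ⟨b, rfl⟩ := Ideal.Quotient.mk_surjective y
    obtain ⟨e, he, heb⟩ := h b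
      ((Ideal.Quotient.mk_eq_mk_iff_sub_mem _ _).mp (by rw [map_mul]; exact hy))
    exact ⟨e, he, (Ideal.Quotient.mk_eq_mk_iff_sub_mem _ _).mpr heb⟩
  · intro h b hb
    obtain ⟨e, he, heb⟩ := h (show IsIdempotentElem (Ideal.Quotient.mk J b) by
      show _ * _ = _
      rw [← map_mul]; exact (Ideal.Quotient.mk_eq_mk_iff_sub_mem _ _).mpr hb)
    exact ⟨e, he, (Ideal.Quotient.mk_eq_mk_iff_sub_mem _ _).mp heb⟩

theorem idemLift_of_nilpotent {B : Type u} [CommRing B] {J : Ideal B}
    (hJ : ∀ x ∈ J, IsNilpotent x) : IdemLift J := by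
  intro b hb
  have := henselianRing_of_nilpotent J hJ
  obtain ⟨e, he, heb⟩ := exists_root J (X * X - X) b (by simpa using hb) (by
    refine IsUnit.of_mul_eq_one (Ideal.Quotient.mk J (2 * b - 1)) ?_
    have h0 : Ideal.Quotient.mk J b * Ideal.Quotient.mk J b = Ideal.Quotient.mk J b := by
      rw [← map_mul]; exact (Ideal.Quotient.mk_eq_mk_iff_sub_mem _ _).mpr hb
    simp only [derivative_mul, derivative_X, eval_sub, eval_add,
      eval_one, eval_X, map_sub, map_add, map_mul, map_one, map_ofNat, one_mul, mul_one]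
    linear_combination 4 * h0)
  exact ⟨e, show e * e = e from sub_eq_zero.mp (by simpa using he), heb⟩

theorem IdemLift.of_isPiLocal {B : Type u} [CommRing B] (hB : IsPiLocal B) (J : Ideal B) :
    IdemLift J := by
  classical
  obtain ⟨ι, _, C, _, hC, ⟨φ⟩⟩ := hB
  intro b hb
  let e' : ∀ i, C i := fun i => if IsUnit (φ b i) then 1 else 0
  have hz : ∀ i, ∃ y ∈ J, φ y i = e' i - φ b i := by
    intro i
    by_cases h : IsUnit (φ b i)
    · obtain ⟨w, hw⟩ := h.exists_left_inv
      refine ⟨-(φ.symm (Pi.single i w)) * (b * b - b), J.mul_mem_left _ hb, ?_⟩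
      simp only [map_mul, map_neg, map_sub, φ.apply_symm_apply, Pi.mul_apply, Pi.neg_apply,
        Pi.sub_apply, Pi.single_eq_same, e', if_pos h]
      linear_combination (-φ b i + 1) * hw
    · have h1 : IsUnit (1 - φ b i) :=
        (IsLocalRing.isUnit_or_isUnit_of_add_one (add_sub_cancel (φ b i) 1)).resolve_left h
      obtain ⟨w, hw⟩ := h1.exists_left_inv
      refine ⟨φ.symm (Pi.single i w) * (b * b - b), J.mul_mem_left _ hb, ?_⟩
      simp only [map_mul, map_sub, φ.apply_symm_apply, Pi.mul_apply, Pi.sub_apply,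
        Pi.single_eq_same, e', if_neg h, zero_sub]
      linear_combination -(φ b i) * hw
  choose y hy hy' using hz
  refine ⟨φ.symm e', (show IsIdempotentElem e' from funext fun i => ?_).map φ.symm, ?_⟩
  · simp only [e', Pi.mul_apply]; split_ifs <;> simp
  · have : φ.symm e' - b = ∑ i, φ.symm (Pi.single i 1) * y i := by
      refine φ.injective (funext fun i => ?_)
      rw [map_sum, Finset.sum_apply, Finset.sum_eq_single i (fun j _ hj => by
        simp [map_mul, Pi.single_eq_of_ne hj.symm]) (by simp)]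
      simp [map_mul, hy']
    rw [this]
    exact J.sum_mem fun i _ => J.mul_mem_left _ (hy i)

theorem isUnit_of_forall_notMem {B : Type v} [CommRing B] {x : B}
    (h : ∀ M : Ideal B, M.IsMaximal → x ∉ M) : IsUnit x := by
  by_contra hx
  obtain ⟨M, hM, hxM⟩ := exists_max_ideal_of_mem_nonunits hx
  exact h M hM hxM

theorem exists_idempotents_maximalSpectrum {B : Type u} [CommRing B] (J : Ideal B)
    (hJ : J ≤ Ideal.jacobson ⊥) [IsArtinianRing (B ⧸ J)] (hl : IdemLift J) :
    Finite (MaximalSpectrum B) ∧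
      ∀ M : MaximalSpectrum B, ∃ e : B, IsIdempotentElem e ∧ e ∉ M.asIdeal ∧
        ∀ M' : MaximalSpectrum B, M' ≠ M → e ∈ M'.asIdeal := by
  classical
  have hJM : ∀ M : MaximalSpectrum B, J ≤ M.asIdeal := fun M =>
    hJ.trans (sInf_le ⟨bot_le, M.isMaximal⟩)
  have hfin : Finite (MaximalSpectrum B) := by
    refine Finite.of_injective (β := MaximalSpectrum (B ⧸ J))
      (fun M => ⟨M.asIdeal.map (Ideal.Quotient.mk J),
        Ideal.IsMaximal.map_of_surjective_of_ker_le Ideal.Quotient.mk_surjective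
          (by rw [Ideal.mk_ker]; exact hJM M)⟩) fun M M' h => MaximalSpectrum.ext ?_
    have h2 := congrArg (fun N => N.comap (Ideal.Quotient.mk J))
      (congrArg MaximalSpectrum.asIdeal h)
    simpa only [Ideal.comap_map_of_surjective _ Ideal.Quotient.mk_surjective,
      ← RingHom.ker_eq_comap_bot, Ideal.mk_ker, sup_eq_left.mpr (hJM M),
      sup_eq_left.mpr (hJM M')] using h2
  refine ⟨hfin, fun M => ?_⟩
  obtain ⟨b, hb⟩ := Ideal.pi_quotient_surjective
    (I := fun M : MaximalSpectrum B => M.asIdeal)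
    (fun M M' h => Ideal.isCoprime_of_isMaximal (fun h' => h (MaximalSpectrum.ext h')))
    (Pi.single M 1)
  have hbb : ∀ N : MaximalSpectrum B, b * b - b ∈ N.asIdeal := by
    intro N
    rw [← Ideal.Quotient.eq_zero_iff_mem, map_sub, map_mul, hb N]
    by_cases h : N = M
    · subst h; simp
    · simp [Pi.single_eq_of_ne h]
  have hnil : ∀ x ∈ Ideal.jacobson (⊥ : Ideal (B ⧸ J)), IsNilpotent x := by
    obtain ⟨n, hn⟩ := IsArtinianRing.isNilpotent_jacobson_bot (R := B ⧸ J)
    exact fun x hx => ⟨n, by simpa [hn] using Ideal.pow_mem_pow hx n⟩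
  have hbJ : Ideal.Quotient.mk J b * Ideal.Quotient.mk J b - Ideal.Quotient.mk J b ∈
      Ideal.jacobson (⊥ : Ideal (B ⧸ J)) := by
    rw [Ideal.jacobson, Submodule.mem_sInf]
    rintro (N : Ideal (B ⧸ J)) ⟨-, hN⟩
    have : N.IsMaximal := hN
    have := Ideal.comap_isMaximal_of_surjective (Ideal.Quotient.mk J)
      Ideal.Quotient.mk_surjective (K := N)
    simpa using hbb ⟨_, this⟩
  obtain ⟨e₁, he₁, he₁b⟩ := idemLift_of_nilpotent hnil _ hbJ
  obtain ⟨b₁, rfl⟩ := Ideal.Quotient.mk_surjective e₁
  obtain ⟨e, he, heb₁⟩ := hl b₁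
    ((Ideal.Quotient.mk_eq_mk_iff_sub_mem _ _).mp (by rw [map_mul]; exact he₁))
  have hmem : ∀ N : MaximalSpectrum B, e - b ∈ N.asIdeal := by
    intro N
    have hmax : (N.asIdeal.map (Ideal.Quotient.mk J)).IsMaximal :=
      Ideal.IsMaximal.map_of_surjective_of_ker_le Ideal.Quotient.mk_surjective
        (by rw [Ideal.mk_ker]; exact hJM N)
    have h2 : Ideal.Quotient.mk J (b₁ - b) ∈ N.asIdeal.map (Ideal.Quotient.mk J) := by
      rw [map_sub]; exact Ideal.mem_sInf.mp he₁b ⟨bot_le, hmax⟩
    obtain ⟨y, hy, hyb⟩ :=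
      (Ideal.mem_map_iff_of_surjective _ Ideal.Quotient.mk_surjective).mp h2
    have h3 : b₁ - b - y ∈ N.asIdeal := hJM N ((Ideal.Quotient.mk_eq_mk_iff_sub_mem _ _).mp hyb.symm)
    have h4 : e - b = (e - b₁) + ((b₁ - b - y) + y) := by ring
    rw [h4]
    exact N.asIdeal.add_mem (hJM N heb₁) (N.asIdeal.add_mem h3 hy)
  have hval : ∀ N : MaximalSpectrum B,
      Ideal.Quotient.mk N.asIdeal e = (Pi.single M 1 : ∀ N : MaximalSpectrum B, B ⧸ N.asIdeal) N :=
    fun N => by rw [← hb N]; exact (Ideal.Quotient.mk_eq_mk_iff_sub_mem _ _).mpr (hmem N)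
  refine ⟨e, he, fun h => ?_, fun M' h => ?_⟩
  · have h2 := (hval M).symm.trans (Ideal.Quotient.eq_zero_iff_mem.mpr h)
    simp at h2
  · rw [← Ideal.Quotient.eq_zero_iff_mem, hval M', Pi.single_eq_of_ne h]

theorem pi_localizations_injective (B : Type u) [CommRing B] :
    Function.Injective
      (RingHom.pi (fun n : MaximalSpectrum B => algebraMap B (Localization.AtPrime n.asIdeal))) := by
  refine (injective_iff_map_eq_zero _).mpr fun x hx => ?_
  let K : Ideal B := LinearMap.ker (LinearMap.toSpanSingleton B B x)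
  by_contra hne
  obtain ⟨M, hM, hKM⟩ := Ideal.exists_le_maximal K (fun h => hne (by
    have : (1 : B) ∈ K := h ▸ Submodule.mem_top
    simpa [K] using this))
  obtain ⟨⟨c, hc⟩, hcx⟩ :=
    (IsLocalization.map_eq_zero_iff M.primeCompl (Localization.AtPrime M) x).mp
      (congrFun hx ⟨M, hM⟩)
  exact hc (hKM (by simpa [K] using hcx))

theorem bijective_pi_localizations {B : Type u} [CommRing B] [Finite (MaximalSpectrum B)]
    (he : ∀ M : MaximalSpectrum B, ∃ e : B, IsIdempotentElem e ∧ e ∉ M.asIdeal ∧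
        ∀ M' : MaximalSpectrum B, M' ≠ M → e ∈ M'.asIdeal) :
    Function.Bijective
      (RingHom.pi (fun n : MaximalSpectrum B => algebraMap B (Localization.AtPrime n.asIdeal))) := by
  classical
  have := Fintype.ofFinite (MaximalSpectrum B)
  refine ⟨pi_localizations_injective B, fun z => ?_⟩
  choose e hidem hnot hin using he
  have hzero : ∀ M : MaximalSpectrum B,
      algebraMap B (Localization.AtPrime M.asIdeal) (1 - e M) = 0 := by
    intro M
    rw [IsLocalization.map_eq_zero_iff M.asIdeal.primeCompl]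
    exact ⟨⟨e M, hnot M⟩, by rw [mul_sub, mul_one, (hidem M).eq, sub_self]⟩
  have hother : ∀ M N : MaximalSpectrum B, M ≠ N →
      algebraMap B (Localization.AtPrime N.asIdeal) (e M) = 0 := by
    intro M N h
    rw [IsLocalization.map_eq_zero_iff N.asIdeal.primeCompl]
    refine ⟨⟨1 - e M, fun h' => ?_⟩, by rw [sub_mul, one_mul, (hidem M).eq, sub_self]⟩
    exact N.asIdeal.ne_top_iff_one.mp N.isMaximal.ne_top
      (by simpa using N.asIdeal.add_mem h' (hin M N h.symm))
  have hsingle : ∀ M, ∃ c : B, algebraMap B _ c = z M := by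
    intro M
    obtain ⟨b, ⟨s, hs⟩, hbs⟩ := IsLocalization.exists_mk'_eq M.asIdeal.primeCompl (z M)
    have hu : IsUnit (s * e M + (1 - e M)) := by
      refine isUnit_of_forall_notMem fun N hN hmem => ?_
      by_cases h : (⟨N, hN⟩ : MaximalSpectrum B) = M
      · subst h
        have h1 : 1 - e ⟨N, hN⟩ ∈ N := (hN.isPrime.mem_or_mem (by
          rw [mul_sub, mul_one, (hidem ⟨N, hN⟩).eq, sub_self]; exact N.zero_mem)).resolve_left (hnot ⟨N, hN⟩)
        have h2 : s * e ⟨N, hN⟩ ∈ N := by simpa using N.sub_mem hmem h1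
        exact (hN.isPrime.mem_or_mem h2).elim hs (hnot ⟨N, hN⟩)
      · have h1 := hin M ⟨N, hN⟩ h
        have h3 : (1 : B) ∈ N := by
          have h4 : (1 : B) = (s * e M + (1 - e M)) - (s - 1) * e M := by ring
          rw [h4]; exact N.sub_mem hmem (N.mul_mem_left _ h1)
        exact hN.ne_top (N.eq_top_iff_one.mpr h3)
    obtain ⟨w, hw⟩ := hu.exists_left_inv
    refine ⟨w * b, ?_⟩
    rw [← hbs, IsLocalization.eq_mk'_iff_mul_eq]
    have h1 := congrArg (algebraMap B (Localization.AtPrime M.asIdeal)) hw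
    simp only [map_mul, map_add, map_one, hzero] at h1
    have h2 : algebraMap B (Localization.AtPrime M.asIdeal) (e M) = 1 := by
      have h3 := hzero M; rw [map_sub, map_one, sub_eq_zero] at h3; exact h3.symm
    rw [h2] at h1
    simp only [map_mul]
    linear_combination algebraMap B (Localization.AtPrime M.asIdeal) b * h1
  choose c hc using hsingle
  refine ⟨∑ M, e M * c M, funext fun N => ?_⟩
  show algebraMap B _ (∑ M, e M * c M) = z N
  rw [map_sum, Finset.sum_eq_single N (fun M _ h => by rw [map_mul, hother M N h, zero_mul])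
    (by simp), map_mul, hc]
  have h3 := hzero N
  rw [map_sub, map_one, sub_eq_zero] at h3
  rw [← h3, one_mul]

theorem isPiLocal_of_bijective_pi {B : Type u} [CommRing B] [Finite (MaximalSpectrum B)]
    (h : Function.Bijective
      (RingHom.pi (fun n : MaximalSpectrum B => algebraMap B (Localization.AtPrime n.asIdeal)))) :
    IsPiLocal B :=
  ⟨MaximalSpectrum B, Fintype.ofFinite _, fun n => Localization.AtPrime n.asIdeal,
    fun _ => inferInstance, fun _ => inferInstance, ⟨RingEquiv.ofBijective _ h⟩⟩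

theorem IdemLift.isPiLocal {B : Type u} [CommRing B] {J : Ideal B}
    (hJ : J ≤ Ideal.jacobson ⊥) [IsArtinianRing (B ⧸ J)] (hl : IdemLift J) : IsPiLocal B := by
  obtain ⟨hf, he⟩ := exists_idempotents_maximalSpectrum J hJ hl
  exact isPiLocal_of_bijective_pi (bijective_pi_localizations he)

section LocalBase

variable (A : Type u) [CommRing A] [IsLocalRing A] (B : Type u) [CommRing B] [Algebra A B]
  [Module.Finite A B]

theorem maximalIdeal_le_jacobson : IsLocalRing.maximalIdeal A ≤ Ideal.jacobson ⊥ :=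
  (IsLocalRing.jacobson_eq_maximalIdeal ⊥ bot_ne_top).ge

theorem map_maximalIdeal_le_jacobson :
    (IsLocalRing.maximalIdeal A).map (algebraMap A B) ≤ Ideal.jacobson ⊥ :=
  map_le_jacobson_of_isIntegral (maximalIdeal_le_jacobson A) B

theorem isArtinianRing_closedFibre :
    IsArtinianRing (B ⧸ (IsLocalRing.maximalIdeal A).map (algebraMap A B)) := by
  letI : Field (A ⧸ IsLocalRing.maximalIdeal A) := Ideal.Quotient.field _
  have : Module.Finite (A ⧸ IsLocalRing.maximalIdeal A)
      (B ⧸ (IsLocalRing.maximalIdeal A).map (algebraMap A B)) :=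
    Module.Finite.of_restrictScalars_finite A _ _
  exact IsArtinianRing.of_finite (A ⧸ IsLocalRing.maximalIdeal A) _

include A in
theorem finite_maximalSpectrum : Finite (MaximalSpectrum B) := by
  have := isArtinianRing_closedFibre A B
  have hJ := map_maximalIdeal_le_jacobson A B
  refine Finite.of_injective
    (β := MaximalSpectrum (B ⧸ (IsLocalRing.maximalIdeal A).map (algebraMap A B)))
    (fun M => ⟨M.asIdeal.map (Ideal.Quotient.mk _),
      Ideal.IsMaximal.map_of_surjective_of_ker_le Ideal.Quotient.mk_surjective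
        (by rw [Ideal.mk_ker]; exact hJ.trans (sInf_le ⟨bot_le, M.isMaximal⟩))⟩)
    fun M M' h => MaximalSpectrum.ext ?_
  have hle : ∀ M : MaximalSpectrum B,
      (IsLocalRing.maximalIdeal A).map (algebraMap A B) ≤ M.asIdeal :=
    fun M => hJ.trans (sInf_le ⟨bot_le, M.isMaximal⟩)
  have h2 := congrArg (fun N => N.comap (Ideal.Quotient.mk _)) (congrArg MaximalSpectrum.asIdeal h)
  simpa only [Ideal.comap_map_of_surjective _ Ideal.Quotient.mk_surjective,
    ← RingHom.ker_eq_comap_bot, Ideal.mk_ker, sup_eq_left.mpr (hle M),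
    sup_eq_left.mpr (hle M')] using h2

theorem isPiLocal_iff_idemLift :
    IsPiLocal B ↔ IdemLift ((IsLocalRing.maximalIdeal A).map (algebraMap A B)) := by
  have := isArtinianRing_closedFibre A B
  exact ⟨fun h => IdemLift.of_isPiLocal h _,
    fun h => h.isPiLocal (map_maximalIdeal_le_jacobson A B)⟩

include A in
theorem isPiLocal_iff_bijective :
    IsPiLocal B ↔ Function.Bijective
      (RingHom.pi (fun n : MaximalSpectrum B => algebraMap B (Localization.AtPrime n.asIdeal))) := by
  have := isArtinianRing_closedFibre A B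
  have := finite_maximalSpectrum A B
  refine ⟨fun h => ?_, isPiLocal_of_bijective_pi⟩
  exact bijective_pi_localizations
    (exists_idempotents_maximalSpectrum _ (map_maximalIdeal_le_jacobson A B)
      ((isPiLocal_iff_idemLift A B).mp h)).2

end LocalBase

theorem isPiLocal_of_henselian (A : Type u) [CommRing A] [HenselianLocalRing A] (B : Type u)
    [CommRing B] [Algebra A B] [Module.Finite A B] : IsPiLocal B :=
  (isPiLocal_iff_idemLift A B).mpr fun b hb =>
    exists_idempotent (IsLocalRing.maximalIdeal A) b hb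

theorem henselianRing_of_idemLift_adjoinRoot {A : Type u} [CommRing A] (I : Ideal A)
    (hI : I ≤ Ideal.jacobson ⊥)
    (h : ∀ f : A[X], f.Monic → IdemLift (I.map (algebraMap A (AdjoinRoot f)))) :
    HenselianRing A I :=
  ⟨hI, fun f hf a₀ h0 h1 => exists_root_of_idempotent_lift hI f hf (h f hf) a₀ h0 h1⟩

theorem henselianLocalRing_of_isPiLocal_adjoinRoot (A : Type u) [CommRing A] [IsLocalRing A]
    (h : ∀ f : A[X], f.Monic → IsPiLocal (AdjoinRoot f)) : HenselianLocalRing A := by
  have : HenselianRing A (IsLocalRing.maximalIdeal A) :=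
    henselianRing_of_idemLift_adjoinRoot _ (maximalIdeal_le_jacobson A)
      fun f hf => IdemLift.of_isPiLocal (h f hf) _
  exact henselianLocalRing_of_henselianRing A

end Groth.Agent.HenselLib
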