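import Groth.Agent.HenselLib.LocalHens
import Mathlib.RingTheory.Localization.AtPrime.Basic

/-!
# Small facts on henselizations used for base change
-/

set_option autoImplicit false
set_option linter.all false

universe u

open IsLocalRing

namespace Groth.Agent.HenselLib.HensBase

theorem map_maximalIdeal_of_isStrictHenselization (R S : Type u) [CommRing R] [IsLocalRing R]
    [CommRing S] [IsLocalRing S] [Algebra R S] [IsLocalHom (algebraMap R S)]
    [Hensel.IsStrictHenselization R S] :
    (maximalIdeal R).map (algebraMap R S) = maximalIdeal S := by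
  obtain ⟨e⟩ := exists_equiv_localSH (R := R) S
  rw [← e.toAlgHom.comp_algebraMap, ← Ideal.map_map, map_maximalIdeal_localSH]
  exact map_ringEquiv_maximalIdeal e.toRingEquiv

theorem map_maximalIdeal_of_isHenselization (R S : Type u) [CommRing R] [IsLocalRing R]
    [CommRing S] [IsLocalRing S] [Algebra R S] [IsLocalHom (algebraMap R S)]
    [Hensel.IsHenselization R S] :
    (maximalIdeal R).map (algebraMap R S) = maximalIdeal S := by
  obtain ⟨e⟩ := exists_equiv_localH (R := R) S
  rw [← e.toAlgHom.comp_algebraMap, ← Ideal.map_map, map_maximalIdeal_localH]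
  exact map_ringEquiv_maximalIdeal e.toRingEquiv

theorem isLocalHom_of_comap_eq {R T : Type u} [CommRing R] [CommRing T] [IsLocalRing T]
    (p : Ideal R) [p.IsPrime] (f : Localization.AtPrime p →+* T)
    (h : (maximalIdeal T).comap (f.comp (algebraMap R (Localization.AtPrime p))) = p) :
    IsLocalHom f := by
  constructor
  intro x hx
  obtain ⟨a, s, rfl⟩ := IsLocalization.exists_mk'_eq p.primeCompl x
  rw [IsLocalization.AtPrime.isUnit_mk'_iff (Localization.AtPrime p) p]
  intro ha
  have h1 : f (algebraMap R _ (s : R)) * f (IsLocalization.mk' _ a s) =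
      f (algebraMap R (Localization.AtPrime p) a) := by
    rw [← map_mul, IsLocalization.mk'_spec']
  have h2 : IsUnit (f (algebraMap R (Localization.AtPrime p) a)) := by
    rw [← h1]
    exact ((IsLocalization.map_units (Localization.AtPrime p) s).map f).mul hx
  rw [← h] at ha
  exact (IsLocalRing.mem_maximalIdeal _).mp ha h2

end Groth.Agent.HenselLib.HensBase
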