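import Groth.Agent.HenselLib.PairHens
import Groth.Prelude.Def_Hensel
import Mathlib.RingTheory.Unramified.LocalRing
import Mathlib.FieldTheory.IsSepClosed

/-!
# Henselization and strict henselization of a local ring
-/

set_option autoImplicit false

namespace Groth.Agent.HenselLib

open CategoryTheory IsLocalRing

universe u

variable {R : Type u} [CommRing R] {K : Type u} [CommRing K] [Algebra R K]

theorem isLocalRing_hull [IsLocalRing K] : IsLocalRing (Hull R K) := by
  have : Nontrivial (Hull R K) := (hullPt R K).toRingHom.domain_nontrivial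
  refine IsLocalRing.of_isUnit_or_isUnit_one_sub_self fun a => ?_
  refine (IsLocalRing.isUnit_or_isUnit_one_sub_self (hullPt R K a)).imp
    isUnit_of_isUnit_hullPt fun h => isUnit_of_isUnit_hullPt (by rwa [map_sub, map_one])

theorem isLocalHom_hullPt : IsLocalHom (hullPt R K).toRingHom :=
  ⟨fun _ h => isUnit_of_isUnit_hullPt h⟩

theorem maximalIdeal_hull {K : Type u} [Field K] [Algebra R K] [IsLocalRing (Hull R K)] :
    maximalIdeal (Hull R K) = RingHom.ker (hullPt R K) := by
  ext x
  rw [IsLocalRing.mem_maximalIdeal, mem_nonunits_iff, RingHom.mem_ker]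
  exact ⟨fun h => by_contra fun h' => h (isUnit_of_isUnit_hullPt (Ne.isUnit h')),
    fun h hu => (hu.map (hullPt R K)).ne_zero h⟩

theorem henselianLocalRing_hull {K : Type u} [Field K] [Algebra R K] :
    HenselianLocalRing (Hull R K) := by
  have := isLocalRing_hull (R := R) (K := K)
  have : HenselianRing (Hull R K) (maximalIdeal (Hull R K)) := by
    rw [maximalIdeal_hull]; exact henselianRing_hull
  exact henselianLocalRing_of_henselianRing _

variable [IsLocalRing R]

omit [IsLocalRing R] in
theorem isLocalHom_hull_algebraMap {K : Type u} [Field K] [Algebra R K]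
    [IsLocalHom (algebraMap R K)] : IsLocalHom (algebraMap R (Hull R K)) :=
  ⟨fun r h => IsUnit.of_map (algebraMap R K) r (by
    rw [← (hullPt R K).commutes]; exact h.map _)⟩

section Henselization

variable (R) in
/-- The henselization of a local ring. -/
abbrev LocalH : Type u := Hull R (R ⧸ maximalIdeal R)

noncomputable local instance : Field (R ⧸ maximalIdeal R) := Ideal.Quotient.field _

instance henselianLocalRing_localH : HenselianLocalRing (LocalH R) := henselianLocalRing_hull

instance isLocalHom_localH : IsLocalHom (algebraMap R (LocalH R)) := by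
  have : IsLocalHom (algebraMap R (R ⧸ maximalIdeal R)) :=
    ⟨fun r h => by_contra fun hr => h.ne_zero (Ideal.Quotient.eq_zero_iff_mem.mpr
      ((IsLocalRing.mem_maximalIdeal r).mpr hr))⟩
  exact isLocalHom_hull_algebraMap

theorem map_maximalIdeal_localH :
    (maximalIdeal R).map (algebraMap R (LocalH R)) = maximalIdeal (LocalH R) := by
  rw [maximalIdeal_hull]
  exact (ker_hullPt_pair R (maximalIdeal R)).symm

theorem isHenselization_localH : Hensel.IsHenselization R (LocalH R) where
  henselian := henselianLocalRing_localH
  universal T _ _ f hf :=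
    (isPairHull_pairH R (maximalIdeal R)).2 T _ f (henselianRing_maximalIdeal T)
      (((IsLocalRing.local_hom_TFAE f).out 0 2).mp hf)

theorem exists_equiv_localH (S : Type u) [CommRing S] [IsLocalRing S] [Algebra R S]
    [IsLocalHom (algebraMap R S)] [hS : Hensel.IsHenselization R S] :
    Nonempty (LocalH R ≃ₐ[R] S) := by
  have := hS.henselian
  obtain ⟨g, hg, huniq⟩ := (isHenselization_localH (R := R)).universal S (algebraMap R S) ‹_›
  obtain ⟨f, hf, -⟩ := hS.universal (LocalH R) (algebraMap R (LocalH R)) isLocalHom_localH
  have h1 : g.comp f = RingHom.id S :=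
    (hS.universal S (algebraMap R S) ‹_›).unique (by rw [RingHom.comp_assoc, hf, hg])
      (RingHom.id_comp _)
  have h2 : f.comp g = RingHom.id (LocalH R) :=
    ((isHenselization_localH (R := R)).universal (LocalH R) _ isLocalHom_localH).unique
      (by rw [RingHom.comp_assoc, hg, hf]) (RingHom.id_comp _)
  exact ⟨AlgEquiv.ofRingEquiv (f := RingEquiv.ofRingHom g f h1 h2) fun r => congr($hg r)⟩

theorem isPairHull_of_isHenselization (S : Type u) [CommRing S] [IsLocalRing S] [Algebra R S]
    [IsLocalHom (algebraMap R S)] [hS : Hensel.IsHenselization R S] :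
    IsPairHull R (maximalIdeal R) S := by
  have := hS.henselian
  obtain ⟨e⟩ := exists_equiv_localH S (R := R)
  constructor
  · exact henselianRing_of_le (((IsLocalRing.local_hom_TFAE (algebraMap R S)).out 0 2).mp ‹_›)
  · intro C _ J f hJ hle
    obtain ⟨g, hg, huniq⟩ := (isPairHull_pairH R (maximalIdeal R)).2 C J f hJ hle
    refine ⟨g.comp e.symm.toAlgHom.toRingHom, RingHom.ext fun r => ?_, fun g' hg' => ?_⟩
    · show g (e.symm (algebraMap R S r)) = f r
      rw [e.symm.commutes]; exact congr($hg r)
    · refine RingHom.ext fun x => ?_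
      have := huniq (g'.comp e.toAlgHom.toRingHom) (RingHom.ext fun r => by
        show g' (e (algebraMap R _ r)) = f r
        rw [e.commutes]; exact congr($hg' r))
      show g' x = g (e.symm x)
      rw [← this]
      show g' x = g' (e (e.symm x))
      rw [e.apply_symm_apply]

end Henselization

section Strict

variable (R) in
/-- The separable closure of the residue field. -/
abbrev SepRes : Type u := SeparableClosure (ResidueField R)

variable (R) in
/-- The strict henselization of a local ring. -/
abbrev LocalSH : Type u := Hull R (SepRes R)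

instance isLocalHom_sepRes : IsLocalHom (algebraMap R (SepRes R)) := by
  rw [IsScalarTower.algebraMap_eq R (ResidueField R) (SepRes R)]
  have : IsLocalHom (algebraMap R (ResidueField R)) :=
    inferInstanceAs (IsLocalHom (residue R))
  infer_instance

instance henselianLocalRing_localSH : HenselianLocalRing (LocalSH R) := henselianLocalRing_hull

instance isLocalHom_localSH : IsLocalHom (algebraMap R (LocalSH R)) := isLocalHom_hull_algebraMap

theorem map_maximalIdeal_localSH :
    (maximalIdeal R).map (algebraMap R (LocalSH R)) = maximalIdeal (LocalSH R) := by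
  refine le_antisymm (((IsLocalRing.local_hom_TFAE (algebraMap R (LocalSH R))).out 0 2).mp
    isLocalHom_localSH) fun h hh => ?_
  rw [maximalIdeal_hull] at hh
  obtain ⟨P, x, rfl⟩ := exists_rep h
  rw [RingHom.mem_ker, hullPt_ι] at hh
  let q : Ideal P.Ring := RingHom.ker P.pt
  have : q.IsPrime := RingHom.ker_isPrime _
  have : IsLocalHom (algebraMap R (Localization.AtPrime q)) := ⟨fun r hr => by
    rw [IsScalarTower.algebraMap_apply R P.Ring (Localization.AtPrime q),
      IsLocalization.AtPrime.isUnit_to_map_iff (Localization.AtPrime q) q] at hr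
    by_contra h'
    refine hr ?_
    show P.pt (algebraMap R P.Ring r) = 0
    rw [P.pt.commutes]
    exact by_contra fun h'' => h' (IsUnit.of_map (algebraMap R (SepRes R)) r (Ne.isUnit h''))⟩
  have : Algebra.FormallyUnramified R (Localization.AtPrime q) :=
    Algebra.FormallyUnramified.comp R P.Ring _
  have : Algebra.EssFiniteType R (Localization.AtPrime q) :=
    Algebra.EssFiniteType.comp R P.Ring _
  have hmap := Algebra.FormallyUnramified.map_maximalIdeal (R := R) (S := Localization.AtPrime q)
  have hx : algebraMap P.Ring (Localization.AtPrime q) x ∈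
      ((maximalIdeal R).map (algebraMap R P.Ring)).map (algebraMap P.Ring _) := by
    rw [Ideal.map_map, ← IsScalarTower.algebraMap_eq, hmap, IsLocalRing.mem_maximalIdeal,
      mem_nonunits_iff, IsLocalization.AtPrime.isUnit_to_map_iff (Localization.AtPrime q) q]
    exact fun h' => h' hh
  rw [IsLocalization.algebraMap_mem_map_algebraMap_iff q.primeCompl] at hx
  obtain ⟨s, hs, hsx⟩ := hx
  have h1 := mem_map_algHom (ι P) (maximalIdeal R) hsx
  rw [map_mul] at h1
  refine ((maximalIdeal R).map (algebraMap R (LocalSH R))).unit_mul_mem_iff_mem ?_ |>.mp h1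
  exact isUnit_of_isUnit_hullPt (by rw [hullPt_ι]; exact Ne.isUnit hs)

theorem hullPt_sep_surjective : Function.Surjective (hullPt R (SepRes R)) := by
  intro z
  have hint : IsIntegral (ResidueField R) z := Algebra.IsIntegral.isIntegral z
  obtain ⟨f, hfm, -, hf⟩ := Polynomial.lifts_and_natDegree_eq_and_monic
    (f := residue R) (p := minpoly (ResidueField R) z)
    (Polynomial.mem_lifts_of_surjective IsLocalRing.residue_surjective _) (minpoly.monic hint)
  let E : StandardEtalePair R :=
    { f := f, monic_f := hf, g := Polynomial.derivative f, cond := ⟨1, 0, 1, by ring⟩ }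
  have haev : ∀ p : Polynomial R, Polynomial.aeval z p =
      Polynomial.aeval z (p.map (residue R)) := fun p =>
    (Polynomial.aeval_map_algebraMap (ResidueField R) z p).symm
  have hE : E.HasMap z := by
    refine ⟨?_, ?_⟩
    · rw [haev, hfm]; exact minpoly.aeval _ _
    · rw [haev, ← Polynomial.derivative_map, hfm]
      exact Ne.isUnit ((Algebra.IsSeparable.isSeparable (ResidueField R) z).aeval_derivative_ne_zero
        (minpoly.aeval _ _))
  obtain ⟨φ, hφ⟩ := exists_map_of_etale (E.lift z hE)
  exact ⟨φ E.X, by rw [show hullPt R (SepRes R) (φ E.X) = _ from congr($hφ E.X), E.lift_X]⟩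

/-- The residue field of the strict henselization. -/
noncomputable def residueFieldEquivSepRes :
    ResidueField (LocalSH R) ≃+* SepRes R :=
  (Ideal.quotEquivOfEq (maximalIdeal_hull (R := R) (K := SepRes R))).trans
    (RingHom.quotientKerEquivOfSurjective hullPt_sep_surjective)

theorem residueFieldEquivSepRes_residue (h : LocalSH R) :
    residueFieldEquivSepRes (residue (LocalSH R) h) = hullPt R (SepRes R) h := rfl

theorem isSepClosure_residueField_localSH :
    IsSepClosure (ResidueField R) (ResidueField (LocalSH R)) := by
  let e : SepRes R ≃ₐ[ResidueField R] ResidueField (LocalSH R) :=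
    AlgEquiv.ofRingEquiv (f := residueFieldEquivSepRes.symm) fun x => by
      rw [RingEquiv.symm_apply_eq]
      obtain ⟨r, rfl⟩ := IsLocalRing.residue_surjective x
      show algebraMap R (SepRes R) r = hullPt R (SepRes R) (algebraMap R _ r)
      rw [AlgHom.commutes]
  have : IsSepClosed (SepRes R) := IsSepClosure.sep_closed (ResidueField R)
  refine ⟨IsSepClosed.of_exists_root _ fun p hp _ hps => ?_, AlgEquiv.Algebra.isSeparable e⟩
  have hsep : (p.map e.symm.toRingEquiv.toRingHom).Separable := hps.map
  have hdeg : (p.map e.symm.toRingEquiv.toRingHom).degree ≠ 0 := by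
    rw [Polynomial.degree_map]
    intro h0
    have := hp.degree_le_zero_iff_eq_one.mp h0.le
    exact (‹Irreducible p›).not_isUnit (this ▸ isUnit_one)
  obtain ⟨x, hx⟩ := IsSepClosed.exists_root _ hdeg hsep
  refine ⟨e x, e.symm.injective ?_⟩
  rw [map_zero]
  rw [Polynomial.IsRoot, Polynomial.eval_map] at hx
  rw [← hx]
  have : e.symm.toRingEquiv.toRingHom (p.eval (e x)) = p.eval₂ e.symm.toRingEquiv.toRingHom (e.symm (e x)) :=
    (Polynomial.eval₂_at_apply _ _).symm
  rw [e.symm_apply_apply] at this
  exact this

theorem isStrictHenselization_localSH : Hensel.IsStrictHenselization R (LocalSH R) where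
  henselian := henselianLocalRing_localSH
  isSepClosure := isSepClosure_residueField_localSH
  universal T _ _ f _ τ hτ := by
    let : Algebra R T := f.toAlgebra
    have hτ' : ∀ r, τ (residue (LocalSH R) (algebraMap R _ r)) = residue T (f r) := fun r =>
      congr($hτ (residue R r))
    let τK : SepRes R →ₐ[R] T ⧸ maximalIdeal T :=
      { τ.comp residueFieldEquivSepRes.symm.toRingHom with
        commutes' := fun r => by
          show τ (residueFieldEquivSepRes.symm (algebraMap R (SepRes R) r)) = _
          rw [show residueFieldEquivSepRes.symm (algebraMap R (SepRes R) r) =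
            residue (LocalSH R) (algebraMap R _ r) by
            rw [RingEquiv.symm_apply_eq, residueFieldEquivSepRes_residue, AlgHom.commutes]]
          exact hτ' r }
    obtain ⟨G, hG, hGuniq⟩ := hull_universal (maximalIdeal T) τK
    have hkey : ∀ h, τK (hullPt R (SepRes R) h) = τ (residue (LocalSH R) h) := fun h => by
      show τ (residueFieldEquivSepRes.symm _) = _
      rw [← residueFieldEquivSepRes_residue, RingEquiv.symm_apply_apply]
    refine ⟨G.toRingHom, ⟨G.comp_algebraMap, fun x => ?_⟩, fun g hg => ?_⟩
    · exact (congr($hG x)).trans (hkey x)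
    · let g' : LocalSH R →ₐ[R] T := { g with commutes' := fun r => congr($(hg.1) r) }
      have : g' = G := hGuniq g' (AlgHom.ext fun x => (hg.2 x).trans (hkey x).symm)
      exact congrArg AlgHom.toRingHom this

theorem exists_equiv_localSH (S : Type u) [CommRing S] [IsLocalRing S] [Algebra R S]
    [IsLocalHom (algebraMap R S)] [hS : Hensel.IsStrictHenselization R S] :
    Nonempty (LocalSH R ≃ₐ[R] S) := by
  have := hS.henselian
  have := hS.isSepClosure
  have := isSepClosure_residueField_localSH (R := R)
  let e := IsSepClosure.equiv (ResidueField R) (ResidueField (LocalSH R)) (ResidueField S)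
  have he : e.toRingEquiv.toRingHom.comp (ResidueField.map (algebraMap R (LocalSH R))) =
      ResidueField.map (algebraMap R S) := RingHom.ext fun x => e.commutes x
  have he' : e.symm.toRingEquiv.toRingHom.comp (ResidueField.map (algebraMap R S)) =
      ResidueField.map (algebraMap R (LocalSH R)) := RingHom.ext fun x => e.symm.commutes x
  obtain ⟨g, ⟨hg, hgres⟩, -⟩ :=
    (isStrictHenselization_localSH (R := R)).universal S (algebraMap R S) _ he
  obtain ⟨f, ⟨hf, hfres⟩, -⟩ := hS.universal (LocalSH R) (algebraMap R (LocalSH R)) _ he'
  have h1 : g.comp f = RingHom.id S :=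
    (hS.universal S (algebraMap R S) (RingHom.id _) (RingHom.id_comp _)).unique
      ⟨by rw [RingHom.comp_assoc, hf, hg], fun x => by
        show residue S (g (f x)) = residue S x
        rw [hgres, hfres]
        exact e.apply_symm_apply _⟩ ⟨RingHom.id_comp _, fun x => rfl⟩
  have h2 : f.comp g = RingHom.id (LocalSH R) :=
    ((isStrictHenselization_localSH (R := R)).universal (LocalSH R) (algebraMap R (LocalSH R))
      (RingHom.id _) (RingHom.id_comp _)).unique
      ⟨by rw [RingHom.comp_assoc, hg, hf], fun x => by
        show residue (LocalSH R) (f (g x)) = residue (LocalSH R) x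
        rw [hfres, hgres]
        exact e.symm_apply_apply _⟩ ⟨RingHom.id_comp _, fun x => rfl⟩
  exact ⟨AlgEquiv.ofRingEquiv (f := RingEquiv.ofRingHom g f h1 h2) fun r => congr($hg r)⟩

end Strict

end Groth.Agent.HenselLib
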