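import Groth.Agent.HenselLib.HullNoeth
import Groth.Agent.HenselLib.LocalHens
import Groth.Agent.HenselLib.EtaleReduced
import Mathlib.RingTheory.Ideal.GoingDown
import Mathlib.RingTheory.KrullDimension.Basic
import Mathlib.RingTheory.QuasiFinite.Basic
import Mathlib.RingTheory.RegularLocalRing.Defs
import Mathlib.Algebra.Module.SpanRankOperations
import Mathlib.LinearAlgebra.Dimension.Constructions

/-!
# Nilradical, dimension, flatness and regularity of hulls
-/

set_option autoImplicit false

namespace Groth.Agent.HenselLib

open IsLocalRing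
open scoped TensorProduct

universe u

variable {R K : Type u} [CommRing R] [CommRing K] [Algebra R K]

/-- The fibres of the spectrum of a hull have no specializations. -/
theorem hull_eq_of_le_of_comap_eq {q q' : Ideal (Hull R K)} [q.IsPrime] [q'.IsPrime] (hle : q ≤ q')
    (h : q.comap (algebraMap R (Hull R K)) = q'.comap (algebraMap R (Hull R K))) : q = q' := by
  refine le_antisymm hle fun a ha => ?_
  obtain ⟨P, x, rfl⟩ := exists_rep a
  have hP : q.comap (ι P) = q'.comap (ι P) :=
    Algebra.QuasiFinite.eq_of_le_of_under_eq (R := R) (q.comap (ι P)) (q'.comap (ι P))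
      (Ideal.comap_mono hle) (by
        ext r
        simp only [Ideal.mem_comap, AlgHom.commutes]
        exact SetLike.ext_iff.mp h r)
  exact (SetLike.ext_iff.mp hP x).mpr ha

theorem ringKrullDim_hull [Module.FaithfullyFlat R (Hull R K)] :
    ringKrullDim (Hull R K) = ringKrullDim R := by
  refine le_antisymm ?_ (iSup_le fun l => ?_)
  · refine Order.krullDim_le_of_strictMono (PrimeSpectrum.comap (algebraMap R (Hull R K)))
      fun q q' hlt => lt_of_le_of_ne (Ideal.comap_mono hlt.le) fun he => hlt.ne ?_
    exact PrimeSpectrum.ext (hull_eq_of_le_of_comap_eq hlt.le congr(($he).asIdeal))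
  · obtain ⟨P, hP⟩ := PrimeSpectrum.comap_surjective_of_faithfullyFlat (A := R) (B := Hull R K) l.last
    have : P.asIdeal.LiesOver l.last.asIdeal := ⟨congr(($hP).asIdeal).symm⟩
    obtain ⟨L, hL, -, -⟩ := Ideal.exists_ltSeries_of_hasGoingDown l P.asIdeal
    rw [← hL]
    exact Order.LTSeries.length_le_krullDim L

theorem map_nilradical_hull :
    (nilradical R).map (algebraMap R (Hull R K)) = nilradical (Hull R K) := by
  refine le_antisymm (Ideal.map_le_iff_le_comap.mpr fun r hr => ?_) fun a ha => ?_
  · exact (mem_nilradical.mp hr).map (algebraMap R (Hull R K))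
  obtain ⟨P, x, rfl⟩ := exists_rep a
  obtain ⟨n, hn⟩ := mem_nilradical.mp ha
  rw [← map_pow] at hn
  obtain ⟨Q, g, hg⟩ := (exists_eq_zero_iff _).mp hn
  rw [← ι_map g]
  refine mem_map_algHom (ι Q) _ ?_
  have : IsReduced (R ⧸ nilradical R) :=
    (Ideal.isRadical_iff_quotient_reduced _).mp (Ideal.radical_isRadical _)
  have := isReduced_of_etale (R ⧸ nilradical R) ((R ⧸ nilradical R) ⊗[R] Q.Ring)
  let e := Algebra.TensorProduct.quotIdealMapEquivQuotTensor Q.Ring (nilradical R)
  rw [← Ideal.Quotient.eq_zero_iff_mem]
  refine e.injective ?_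
  rw [map_zero]
  refine IsNilpotent.eq_zero ⟨n, ?_⟩
  rw [← map_pow, ← map_pow, ← map_pow, hg, map_zero, map_zero]

variable [IsLocalRing R]

instance faithfullyFlat_localH : Module.FaithfullyFlat R (LocalH R) :=
  Module.FaithfullyFlat.of_flat_of_isLocalHom

instance faithfullyFlat_localSH : Module.FaithfullyFlat R (LocalSH R) :=
  Module.FaithfullyFlat.of_flat_of_isLocalHom

theorem isNoetherianRing_localH [IsNoetherianRing R] : IsNoetherianRing (LocalH R) :=
  isNoetherianRing_pairH (maximalIdeal R)

theorem isNoetherianRing_localSH [IsNoetherianRing R] : IsNoetherianRing (LocalSH R) := by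
  have h := map_maximalIdeal_localSH (R := R)
  have : ((maximalIdeal R).map (algebraMap R (LocalSH R))).IsMaximal := h ▸ inferInstance
  let := Ideal.Quotient.field ((maximalIdeal R).map (algebraMap R (LocalSH R)))
  have : IsNoetherianRing (LocalSH R ⧸ (maximalIdeal R).map (algebraMap R (LocalSH R))) :=
    inferInstance
  exact isNoetherianRing_hull (maximalIdeal R) (by rw [h, maximalIdeal_hull])

section FlatLocal

variable (S : Type u) [CommRing S] [IsLocalRing S] [Algebra R S] [IsLocalHom (algebraMap R S)]
  [Module.Flat R S]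

/-- Generators of the maximal ideal are preserved by flat maps with trivial closed fibre. -/
theorem spanFinrank_maximalIdeal_of_flat [IsNoetherianRing R]
    (hmS : (maximalIdeal R).map (algebraMap R S) = maximalIdeal S) :
    (maximalIdeal S).spanFinrank = (maximalIdeal R).spanFinrank := by
  set m := maximalIdeal R
  have hfg : m.FG := IsNoetherian.noetherian m
  have hfgS : (m.map (algebraMap R S)).FG := hfg.map _
  rw [← hmS, ← TensorProduct.spanFinrank_top_eq_of_residueField m hfg,
    ← TensorProduct.spanFinrank_top_eq_of_residueField (m.map (algebraMap R S)) hfgS,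
    ← Module.finrank_eq_spanFinrank_of_free, ← Module.finrank_eq_spanFinrank_of_free]
  let μ : S ⊗[R] m →ₗ[S] S :=
    TensorProduct.AlgebraTensorModule.lift
      (LinearMap.toSpanSingleton S (m →ₗ[R] S) ((Algebra.linearMap R S).comp m.subtype))
  have hμ : ∀ (s : S) (x : m), μ (s ⊗ₜ[R] x) = s * algebraMap R S x := fun s x => by simp [μ]
  have hinj : Function.Injective μ := by
    have hcomp : ∀ z, μ z = TensorProduct.rid R S (m.subtype.lTensor S z) := fun z => by
      induction z using TensorProduct.induction_on with
      | zero => simp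
      | tmul s x => simp [hμ, Algebra.smul_def, mul_comm]
      | add a b ha hb => simp [ha, hb]
    intro a b hab
    rw [hcomp, hcomp] at hab
    exact Module.Flat.lTensor_preserves_injective_linearMap m.subtype m.subtype_injective
      ((TensorProduct.rid R S).injective hab)
  have hrange : LinearMap.range μ = m.map (algebraMap R S) := by
    refine le_antisymm ?_ (Ideal.map_le_iff_le_comap.mpr fun x hx => ⟨1 ⊗ₜ ⟨x, hx⟩, by simp [hμ]⟩)
    rintro _ ⟨z, rfl⟩
    induction z using TensorProduct.induction_on with
    | zero => simp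
    | tmul s x => rw [hμ]; exact Ideal.mul_mem_left _ _ (Ideal.mem_map_of_mem _ x.2)
    | add a b ha hb => rw [map_add]; exact add_mem ha hb
  let e : S ⊗[R] m ≃ₗ[S] (m.map (algebraMap R S)) :=
    (LinearEquiv.ofInjective μ hinj).trans (LinearEquiv.ofEq _ _ hrange)
  rw [← (e.baseChange S (ResidueField S)).finrank_eq,
    (TensorProduct.AlgebraTensorModule.cancelBaseChange R S (ResidueField S) (ResidueField S) m).finrank_eq,
    ← (TensorProduct.AlgebraTensorModule.cancelBaseChange R (ResidueField R) (ResidueField S)
      (ResidueField S) m).finrank_eq, Module.finrank_baseChange]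

theorem isRegularLocalRing_iff_of_flat [IsNoetherianRing R] [IsNoetherianRing S]
    (hmS : (maximalIdeal R).map (algebraMap R S) = maximalIdeal S)
    (hdim : ringKrullDim S = ringKrullDim R) :
    IsRegularLocalRing R ↔ IsRegularLocalRing S := by
  rw [isRegularLocalRing_iff, isRegularLocalRing_iff, spanFinrank_maximalIdeal_of_flat S hmS, hdim]

end FlatLocal

end Groth.Agent.HenselLib
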