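import Mathlib.RingTheory.Henselian
import Mathlib.RingTheory.ZariskisMainTheorem
import Mathlib.RingTheory.Etale.Basic
import Mathlib.RingTheory.Ideal.IdempotentFG
import Mathlib.RingTheory.Unramified.LocalStructure
import Mathlib.LinearAlgebra.Matrix.Charpoly.LinearMap

/-!
# Henselian pairs: roots of arbitrary polynomials, rank one idempotents, lifting of etale sections

Everything is stated for Mathlib's `HenselianRing A I`.
-/

set_option autoImplicit false

open Polynomial

namespace Groth.Agent.HenselLib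

universe u v

variable {A : Type u} [CommRing A] {I : Ideal A}

theorem isUnit_of_isUnit_mk (hI : I ≤ Ideal.jacobson ⊥) {a : A}
    (h : IsUnit (Ideal.Quotient.mk I a)) : IsUnit a :=
  (isLocalHom_of_le_jacobson_bot I hI).map_nonunit a h

theorem isUnit_of_sub_one_mem (hI : I ≤ Ideal.jacobson ⊥) {a : A} (h : a - 1 ∈ I) : IsUnit a :=
  isUnit_of_isUnit_mk hI (by
    rw [(Ideal.Quotient.mk_eq_mk_iff_sub_mem a 1).mpr h, map_one]; exact isUnit_one)

theorem eq_zero_of_isIdempotentElem_mem (hI : I ≤ Ideal.jacobson ⊥) {e : A}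
    (he : IsIdempotentElem e) (h : e ∈ I) : e = 0 := by
  have hu : IsUnit (1 - e) := isUnit_of_sub_one_mem hI (by simpa using h)
  exact hu.mul_right_eq_zero.mp (by linear_combination -he.eq)

theorem eval_sub_eval_mem (f : A[X]) {a b : A} (h : a - b ∈ I) : f.eval a - f.eval b ∈ I := by
  obtain ⟨c, hc⟩ := Polynomial.sub_dvd_eval_sub a b f
  rw [hc]; exact I.mul_mem_right c h

theorem root_unique (hI : I ≤ Ideal.jacobson ⊥) (f : A[X]) {a b : A} (ha : f.IsRoot a)
    (hb : f.IsRoot b) (hab : b - a ∈ I) (h : IsUnit (Ideal.Quotient.mk I (f.derivative.eval a))) :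
    a = b := by
  obtain ⟨c, hc⟩ := exists_mul_sq_add_linear_part_eq_eval_add f a (b - a)
  have hu : IsUnit (c * (b - a) + f.derivative.eval a) := isUnit_of_isUnit_mk hI (by
    rw [map_add, Ideal.Quotient.eq_zero_iff_mem.mpr (I.mul_mem_left c hab), zero_add]; exact h)
  have h0 : (c * (b - a) + f.derivative.eval a) * (b - a) = 0 := by
    rw [add_sub_cancel, hb.eq_zero, ha.eq_zero] at hc
    linear_combination hc
  exact (sub_eq_zero.mp (hu.mul_right_eq_zero.mp h0)).symm

/-- Gabber's condition. -/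
def GabberRoot (I : Ideal A) : Prop :=
  ∀ (n : ℕ), 0 < n → ∀ p : A[X], p.natDegree ≤ n → (∀ i, p.coeff i ∈ I) →
    ∃ α : A, α - 1 ∈ I ∧ IsRoot (X ^ n * (X - 1) + p) α

theorem gabber_derivative_eval {n : ℕ} {p : A[X]} (hp : ∀ i, p.coeff i ∈ I) {a : A}
    (ha : a - 1 ∈ I) :
    Ideal.Quotient.mk I ((X ^ n * (X - 1) + p).derivative.eval a) = 1 := by
  have hp0 : p.map (Ideal.Quotient.mk I) = 0 := by
    ext i; simpa using Ideal.Quotient.eq_zero_iff_mem.mpr (hp i)
  have ha1 : Ideal.Quotient.mk I a = 1 := by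
    rw [(Ideal.Quotient.mk_eq_mk_iff_sub_mem a 1).mpr ha, map_one]
  rw [← Polynomial.eval₂_at_apply, ← Polynomial.eval_map, ← derivative_map]
  simp [hp0, ha1, derivative_X_pow]

theorem gabberRoot (I : Ideal A) [hI : HenselianRing A I] : GabberRoot I := by
  intro n hn p hpn hpI
  nontriviality A
  have hm : (X ^ n * (X - 1) + p).Monic := by
    have h1 : (X ^ n * (X - 1 : A[X])).Monic := (monic_X_pow n).mul (monic_X_sub_C (1 : A))
    have h3 : (X ^ n * (X - 1 : A[X])).natDegree = n + 1 := by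
      rw [← map_one C, (monic_X_pow n).natDegree_mul (monic_X_sub_C 1), natDegree_X_pow,
        natDegree_X_sub_C]
    exact h1.add_of_left (degree_lt_degree (by omega))
  have h0 : (X ^ n * (X - 1) + p).eval 1 ∈ I := by
    simp only [eval_add, eval_mul, eval_pow, eval_X, eval_sub, eval_one, sub_self, mul_zero,
      zero_add]
    rw [eval_eq_sum_range]
    exact I.sum_mem fun i _ => I.mul_mem_right _ (hpI i)
  obtain ⟨α, hα, hα1⟩ := hI.is_henselian _ hm 1 h0
    (by rw [gabber_derivative_eval hpI (by simp)]; exact isUnit_one)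
  exact ⟨α, hα1, hα⟩

theorem exists_root_of_gabber (hI : I ≤ Ideal.jacobson ⊥) (hG : GabberRoot I) (f : A[X]) (a₀ : A)
    (h0 : f.eval a₀ ∈ I) (h1 : IsUnit (Ideal.Quotient.mk I (f.derivative.eval a₀))) :
    ∃ a, f.IsRoot a ∧ a - a₀ ∈ I := by
  obtain ⟨u, hu⟩ := isUnit_of_isUnit_mk hI h1
  set g := taylor a₀ f with hg
  set c0 := f.eval a₀ with hc0
  set q := g.divX.divX with hq
  have hgx : ∀ x, f.eval (x + a₀) = (q.eval x * x + u) * x + c0 := by
    intro x
    rw [← taylor_eval, ← hg]
    conv_lhs => rw [← divX_mul_X_add g]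
    conv_lhs => rw [← divX_mul_X_add g.divX]
    simp [q, g, hu, c0, taylor_coeff_one, coeff_divX, taylor_coeff_zero]
  set v : A := ↑u⁻¹ with hv
  have huv : (u : A) * v = 1 := u.mul_inv
  set w := -c0 * v with hw
  have hwI : w ∈ I := I.mul_mem_right _ (I.neg_mem h0)
  set d := -w * v with hd
  have hdI : d ∈ I := I.mul_mem_right _ (I.neg_mem hwI)
  set N := q.natDegree
  set s : A[X] := ∑ i ∈ Finset.range (N + 1), C (q.coeff i * w ^ i) * X ^ (N - i) with hs
  have hdeg : (C d * s).natDegree ≤ N + 1 := by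
    refine (natDegree_C_mul_le _ _).trans (natDegree_sum_le_of_forall_le _ _ fun i _ => ?_)
    exact (natDegree_C_mul_X_pow_le _ _).trans (by omega)
  obtain ⟨α, hα, hαroot⟩ := hG (N + 1) (by omega) (C d * s) hdeg
    (fun i => by rw [coeff_C_mul]; exact I.mul_mem_right _ hdI)
  obtain ⟨αu, rfl⟩ := isUnit_of_sub_one_mem hI hα
  set y : A := ↑αu⁻¹ with hy
  have hyα : y * αu = 1 := αu.inv_mul
  refine ⟨w * y + a₀, ?_, by simpa using I.mul_mem_right y hwI⟩
  have hS : q.eval (w * y) * (αu : A) ^ N = s.eval (αu : A) := by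
    rw [eval_eq_sum_range, Finset.sum_mul, hs, eval_finsetSum]
    refine Finset.sum_congr rfl fun i hi => ?_
    have hi' : i ≤ N := Nat.lt_succ_iff.mp (Finset.mem_range.mp hi)
    simp only [eval_mul, eval_C, eval_pow, eval_X]
    have : (αu : A) ^ N = (αu : A) ^ i * (αu : A) ^ (N - i) := by
      rw [← pow_add, Nat.add_sub_cancel' hi']
    rw [this, mul_pow]
    calc q.coeff i * (w ^ i * y ^ i) * ((αu : A) ^ i * (αu : A) ^ (N - i))
        = q.coeff i * w ^ i * (αu : A) ^ (N - i) * (y * (αu : A)) ^ i := by rw [mul_pow]; ring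
      _ = _ := by rw [hyα, one_pow, mul_one]
  have hr : (αu : A) ^ (N + 1) * ((αu : A) - 1) + d * s.eval (αu : A) = 0 := by
    have := hαroot.eq_zero; simpa using this
  have hw2 : w * w = c0 * d := by rw [hd, hw]; ring
  have huw : (u : A) * w = -c0 := by rw [hw]; linear_combination (-c0) * huv
  refine (αu.isUnit.pow (N + 2)).mul_left_eq_zero.mp ?_
  rw [hgx]
  calc ((q.eval (w * y) * (w * y) + u) * (w * y) + c0) * (αu : A) ^ (N + 2)
      = (w * w) * (y * αu) * (y * αu) * (q.eval (w * y) * (αu : A) ^ N)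
        + ((u : A) * w) * (y * αu) * (αu : A) ^ (N + 1) + c0 * (αu : A) ^ (N + 2) := by ring
    _ = 0 := by rw [hS, hyα, hw2, huw]; linear_combination c0 * hr

theorem henselianRing_of_gabberRoot (hI : I ≤ Ideal.jacobson ⊥) (hG : GabberRoot I) :
    HenselianRing A I :=
  ⟨hI, fun f _ a₀ h0 h1 => exists_root_of_gabber hI hG f a₀ h0 h1⟩

/-- Simple roots modulo `I` of arbitrary polynomials lift. -/
theorem exists_root (I : Ideal A) [hI : HenselianRing A I] (f : A[X]) (a₀ : A)
    (h0 : f.eval a₀ ∈ I) (h1 : IsUnit (Ideal.Quotient.mk I (f.derivative.eval a₀))) :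
    ∃ a, f.IsRoot a ∧ a - a₀ ∈ I :=
  exists_root_of_gabber hI.jac (gabberRoot I) f a₀ h0 h1

/-- An idempotent whose part is cyclic modulo `I` has cyclic part. -/
theorem exists_smul_eq_of_rankOne (hI : I ≤ Ideal.jacobson ⊥) {B : Type v} [CommRing B]
    [Algebra A B] [Module.Finite A B] {e b : B} (hee : IsIdempotentElem e)
    (heb : e - b ∈ I.map (algebraMap A B))
    (hb : ∀ y : B, ∃ a : A, b * y - a • b ∈ I.map (algebraMap A B)) (y : B) :
    ∃ a : A, e * y = a • e := by
  set IB := I.map (algebraMap A B) with hIB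
  have hsm : ∀ y, y ∈ I • (⊤ : Submodule A B) ↔ y ∈ IB := by
    intro y; rw [Ideal.smul_top_eq_map]; rfl
  let L : Submodule A B := LinearMap.range (LinearMap.mulLeft A e)
  have hL : L ≤ Submodule.span A {e} := by
    refine Submodule.le_of_le_smul_of_le_jacobson_bot
      (by rw [show L = Submodule.map (LinearMap.mulLeft A e) ⊤ from LinearMap.range_eq_map _]
          exact Module.Finite.fg_top.map _) hI ?_
    rintro _ ⟨y, rfl⟩
    obtain ⟨a, ha⟩ := hb y
    have hmem : e * y - a • e ∈ IB := by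
      have : e * y - a • e = (e - b) * y - (e - b) * algebraMap A B a + (b * y - a • b) := by
        simp only [Algebra.smul_def]; ring
      rw [this]
      exact IB.add_mem (IB.sub_mem (IB.mul_mem_right _ heb) (IB.mul_mem_right _ heb)) ha
    have h10 : e * (e * y - a • e) ∈ I • L := by
      have h11 := Submodule.mem_map_of_mem (f := LinearMap.mulLeft A e) ((hsm _).mpr hmem)
      rwa [Submodule.map_smul'', Submodule.map_top] at h11
    have h12 : e * (e * y - a • e) = e * y - a • e := by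
      rw [mul_sub, ← mul_assoc, hee.eq, mul_smul_comm, hee.eq]
    rw [h12] at h10
    refine Submodule.mem_sup.mpr ⟨a • e, Submodule.smul_mem _ a
      (Submodule.mem_span_singleton_self e), _, h10, ?_⟩
    simp
  obtain ⟨a, ha⟩ := Submodule.mem_span_singleton.mp (hL ⟨y, rfl⟩)
  exact ⟨a, ha.symm⟩

open Classical in
/-- An idempotent modulo `I` whose part of `B / I B` is cyclic lifts to an idempotent `e`
with `B e = A e`. -/
theorem exists_idempotent_of_rankOne (I : Ideal A) [hI : HenselianRing A I] {B : Type v}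
    [CommRing B] [Algebra A B] [Module.Finite A B] (b : B)
    (hbb : b * b - b ∈ I.map (algebraMap A B))
    (hb : ∀ y : B, ∃ a : A, b * y - a • b ∈ I.map (algebraMap A B)) :
    ∃ e : B, IsIdempotentElem e ∧ e - b ∈ I.map (algebraMap A B) ∧
      ∀ y : B, ∃ a : A, e * y = a • e := by
  set IB := I.map (algebraMap A B) with hIB
  have hsm : ∀ y, y ∈ I • (⊤ : Submodule A B) ↔ y ∈ IB := by
    intro y; rw [Ideal.smul_top_eq_map]; rfl
  obtain ⟨N, g, hg⟩ := Module.Finite.exists_fin (R := A) (M := B)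
  let w : Option (Fin N) → B := fun j => j.elim b fun i => (1 - b) * g i
  have hw : Submodule.span A (Set.range w) = ⊤ := by
    refine top_le_iff.mp (Submodule.le_of_le_smul_of_le_jacobson_bot Module.Finite.fg_top hI.jac ?_)
    rw [← hg, Submodule.span_le]
    rintro _ ⟨i, rfl⟩
    obtain ⟨a, ha⟩ := hb (g i)
    have : g i = ((1 - b) * g i + a • b) + (b * g i - a • b) := by ring
    rw [this, hg]
    exact Submodule.mem_sup.mpr ⟨_, Submodule.add_mem _ (Submodule.subset_span ⟨some i, rfl⟩)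
      (Submodule.smul_mem _ a (Submodule.subset_span ⟨none, rfl⟩)), _, (hsm _).mpr ha, rfl⟩
  have hcol : ∀ j, ∃ c : Option (Fin N) → A, (∀ i, c i ∈ I) ∧
      ∑ i, c i • w i = b * w j - (if j = none then b else 0) := by
    intro j
    have hmem : b * w j - (if j = none then b else 0) ∈
        LinearMap.range (Ideal.finsuppTotal (Option (Fin N)) B I w) := by
      rw [Ideal.range_finsuppTotal, hw, hsm]
      cases j with
      | none => simpa [w] using hbb
      | some i =>
          simp only [w, Option.elim_some, reduceCtorEq, if_false, sub_zero]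
          have : b * ((1 - b) * g i) = -(b * b - b) * g i := by ring
          rw [this]; exact IB.mul_mem_right _ (IB.neg_mem hbb)
    obtain ⟨c, hc⟩ := hmem
    refine ⟨fun i => c i, fun i => (c i).2, ?_⟩
    rw [← hc, Ideal.finsuppTotal_apply_eq_of_fintype]
  choose c hcI hc using hcol
  let E : Matrix (Option (Fin N)) (Option (Fin N)) A :=
    Matrix.diagonal fun i => if i = none then 1 else 0
  let M : Matrix (Option (Fin N)) (Option (Fin N)) A :=
    Matrix.of fun i j => E i j + c j i
  have hM : Matrix.Represents w M (LinearMap.mulLeft A b) := by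
    rw [Matrix.represents_iff']
    intro j
    simp only [M, E, Matrix.of_apply, add_smul, Finset.sum_add_distrib, hc, Matrix.diagonal_apply,
      LinearMap.mulLeft_apply]
    rw [Finset.sum_eq_single j (fun i _ hij => by simp [hij]) (by simp)]
    cases j <;> simp [w]
  set χ := M.charpoly with hχ
  have hχb : aeval b χ = 0 := by
    have h2 := Matrix.isRepresentation.eq_toEnd_of_represents A w hw ⟨M, _, hM⟩ hM
    have h3 : aeval (LinearMap.mulLeft A b) χ = 0 := by
      rw [← h2, Polynomial.aeval_algHom_apply,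
        ← map_zero (Matrix.isRepresentation.toEnd A w hw)]
      congr 1
      ext1
      rw [Polynomial.aeval_subalgebra_coe, Matrix.aeval_self_charpoly, Subalgebra.coe_zero]
    have h4 : Algebra.lmul A B (aeval b χ) = 0 := by
      rw [← Polynomial.aeval_algHom_apply]; exact h3
    simpa using LinearMap.congr_fun h4 1
  let π := Ideal.Quotient.mk I
  have hχI : χ.map π = X ^ N * (X - 1) := by
    rw [hχ, ← Matrix.charpoly_map]
    have : M.map π = Matrix.diagonal fun i => if i = none then (1 : A ⧸ I) else 0 := by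
      ext i j
      simp only [M, E, π, Matrix.map_apply, Matrix.of_apply, map_add,
        Ideal.Quotient.eq_zero_iff_mem.mpr (hcI j i), add_zero, Matrix.diagonal_apply]
      split_ifs <;> simp
    rw [this, Matrix.charpoly_diagonal, Fintype.prod_option]
    simp [mul_comm]
  set f := χ * X with hf
  have hfI : f.map π = X ^ (N + 1) * (X - 1) := by
    simp only [hf, Polynomial.map_mul, hχI, map_X]; ring
  have hfm : f.Monic := M.charpoly_monic.mul monic_X
  have hf1 : π (f.eval 1) = 0 := by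
    rw [← eval₂_at_apply, ← eval_map, hfI]; simp
  have hfd : π (f.derivative.eval 1) = 1 := by
    rw [← eval₂_at_apply, ← eval_map, ← derivative_map, hfI]; simp
  obtain ⟨lam, hlam, hlam1⟩ := hI.is_henselian f hfm 1 (Ideal.Quotient.eq_zero_iff_mem.mp hf1)
    (by rw [hfd]; exact isUnit_one)
  obtain ⟨q, hq⟩ := dvd_iff_isRoot.mpr hlam
  have hlamI : π lam = 1 := by
    rw [(Ideal.Quotient.mk_eq_mk_iff_sub_mem lam 1).mpr hlam1, map_one]
  have hqI : q.map π = X ^ (N + 1) := by
    refine (monic_X_sub_C (1 : A ⧸ I)).isRegular.left ?_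
    have h5 := congrArg (Polynomial.map π) hq
    rw [hfI, Polynomial.map_mul, Polynomial.map_sub, map_X, map_C, hlamI] at h5
    simp only
    rw [← h5, map_one]; ring
  have hqlam : π (q.eval lam) = 1 := by
    rw [← eval₂_at_apply, ← eval_map, hqI, hlamI]; simp
  obtain ⟨k, hk⟩ := isUnit_of_sub_one_mem hI.jac
    ((Ideal.Quotient.mk_eq_mk_iff_sub_mem (q.eval lam) 1).mp (by rw [map_one]; exact hqlam))
  set e0 := aeval b q with he0
  have hfb : aeval b f = 0 := by simp [hf, hχb]
  have hbe : (b - algebraMap A B lam) * e0 = 0 := by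
    rw [← hfb, hq]; simp [he0]
  have he00 : e0 * e0 = algebraMap A B k * e0 := by
    obtain ⟨r, hr⟩ := X_sub_C_dvd_sub_C_eval (a := lam) (p := q)
    have h6 : e0 = (b - algebraMap A B lam) * aeval b r + algebraMap A B k := by
      have h7 := congrArg (aeval b) hr
      simp only [map_sub, map_mul, aeval_X, aeval_C] at h7
      rw [he0, hk]; linear_combination h7
    calc e0 * e0 = ((b - algebraMap A B lam) * aeval b r + algebraMap A B k) * e0 := by
          rw [← h6]
      _ = _ := by linear_combination (aeval b r) * hbe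
  set e := algebraMap A B ↑k⁻¹ * e0 with he
  have hee : IsIdempotentElem e := by
    have h8 : algebraMap A B ↑k⁻¹ * algebraMap A B k = 1 := by
      rw [← map_mul, k.inv_mul, map_one]
    show e * e = e
    rw [he]
    linear_combination (algebraMap A B ↑k⁻¹) ^ 2 * he00 + (algebraMap A B ↑k⁻¹ * e0) * h8
  let ρ := Ideal.Quotient.mk IB
  have hρe : ρ e = ρ b := by
    have hidem : IsIdempotentElem (ρ b) := by
      show ρ b * ρ b = ρ b
      rw [← map_mul]; exact (Ideal.Quotient.mk_eq_mk_iff_sub_mem _ _).mpr hbb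
    have hk1 : ρ (algebraMap A B ↑k⁻¹) = 1 := by
      have : π ↑k⁻¹ = 1 := by
        have h9 : π ↑k⁻¹ * π (k : A) = 1 := by rw [← map_mul, k.inv_mul, map_one]
        rwa [hk, hqlam, mul_one] at h9
      change Ideal.quotientMap IB (algebraMap A B) Ideal.le_comap_map (π ↑k⁻¹) = 1
      rw [this, map_one]
    have hq0 : ρ e0 = ρ b := by
      let φ : A ⧸ I →+* B ⧸ IB := Ideal.quotientMap IB (algebraMap A B) Ideal.le_comap_map
      have hcomp : ρ.comp (algebraMap A B) = φ.comp π := RingHom.ext fun x => rfl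
      rw [he0, aeval_def, hom_eval₂, hcomp, ← eval₂_map, hqI, eval₂_X_pow, hidem.pow_succ_eq]
    rw [he, map_mul, hk1, hq0, one_mul]
  have heb : e - b ∈ IB := (Ideal.Quotient.mk_eq_mk_iff_sub_mem e b).mp hρe
  refine ⟨e, hee, heb, exists_smul_eq_of_rankOne hI.jac hee heb hb⟩

/-- The elements `s`, integral over `A`, such that `B[1/s]` comes from the integral closure
of `A` in `B`. -/
def zmtLocus (A : Type u) [CommRing A] (B : Type v) [CommRing B] [Algebra A B] :
    Submodule A B where
  carrier := {s | IsIntegral A s ∧ ∀ x, ∃ n, IsIntegral A (s ^ n * x)}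
  zero_mem' := ⟨isIntegral_zero, fun x => ⟨1, by simpa using isIntegral_zero⟩⟩
  smul_mem' a s hs := ⟨hs.1.smul a, fun x => by
    obtain ⟨n, hn⟩ := hs.2 x
    exact ⟨n, by rw [smul_pow, smul_mul_assoc]; exact hn.smul _⟩⟩
  add_mem' {s t} hs ht := ⟨hs.1.add ht.1, fun x => by
    obtain ⟨n, hn⟩ := hs.2 x
    obtain ⟨m, hm⟩ := ht.2 x
    refine ⟨n + m, ?_⟩
    rw [add_pow, Finset.sum_mul]
    refine IsIntegral.sum _ fun i hi => ?_
    rcases le_or_gt n i with h | h
    · have : s ^ i * t ^ (n + m - i) * ((n + m).choose i : B) * x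
          = s ^ (i - n) * t ^ (n + m - i) * ((n + m).choose i : B) * (s ^ n * x) := by
        have h2 : s ^ i = s ^ (i - n) * s ^ n := by rw [← pow_add, Nat.sub_add_cancel h]
        rw [h2]; ring
      rw [this]
      refine (((hs.1.pow _).mul (ht.1.pow _)).mul ?_).mul hn
      simpa [map_natCast] using
        (isIntegral_algebraMap (R := A) (A := B) (x := ((n + m).choose i : A)))
    · have : s ^ i * t ^ (n + m - i) * ((n + m).choose i : B) * x
          = s ^ i * t ^ (n + m - i - m) * ((n + m).choose i : B) * (t ^ m * x) := by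
        have h2 : t ^ (n + m - i) = t ^ (n + m - i - m) * t ^ m := by
          rw [← pow_add, Nat.sub_add_cancel (by omega)]
        rw [h2]; ring
      rw [this]
      refine (((hs.1.pow _).mul (ht.1.pow _)).mul ?_).mul hm
      simpa [map_natCast] using
        (isIntegral_algebraMap (R := A) (A := B) (x := ((n + m).choose i : A)))⟩

theorem span_zmtLocus (A : Type u) [CommRing A] (B : Type v) [CommRing B] [Algebra A B]
    [Algebra.FiniteType A B] [Algebra.QuasiFinite A B] :
    Ideal.span (zmtLocus A B : Set B) = ⊤ := by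
  by_contra h
  obtain ⟨q, hq, hle⟩ := Ideal.exists_le_maximal _ h
  obtain ⟨r, hrq, hr, H⟩ :=
    Algebra.zariskisMainProperty_iff.mp (Algebra.ZariskisMainProperty.of_finiteType (R := A) q)
  exact hrq (hle (Ideal.subset_span ⟨hr, H⟩))

/-- A section modulo `I` of an unramified algebra is cut out by an idempotent modulo `I`. -/
theorem exists_idempotent_of_section {B : Type v} [CommRing B] [Algebra A B]
    [Algebra.FiniteType A B] [Algebra.FormallyUnramified A B] (σ : B →ₐ[A] A ⧸ I) :
    ∃ e : B, σ e = 1 ∧ ∀ y, σ y = 0 → e * y ∈ I.map (algebraMap A B) := by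
  set IB := I.map (algebraMap A B) with hIB
  set J := RingHom.ker σ with hJ
  have hIBJ : IB ≤ J := Ideal.map_le_iff_le_comap.mpr fun a ha => by
    simpa [J] using Ideal.Quotient.eq_zero_iff_mem.mpr ha
  choose a₀ ha₀ using fun y => Ideal.Quotient.mk_surjective (σ y)
  have hlift : ∀ y, y - algebraMap A B (a₀ y) ∈ J := by
    intro y; simp [J, ha₀]
  obtain ⟨G, hG⟩ := Algebra.FiniteType.out (R := A) (A := B)
  set K := Ideal.span ((fun y => y - algebraMap A B (a₀ y)) '' (G : Set B)) ⊔ IB with hK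
  have hJK : J ≤ K := by
    let sec : A ⧸ I →ₐ[A] B ⧸ K := Ideal.Quotient.liftₐ I (Algebra.ofId A (B ⧸ K)) fun a ha =>
      Ideal.Quotient.eq_zero_iff_mem.mpr (Ideal.mem_sup_right (Ideal.mem_map_of_mem _ ha))
    have : sec.comp σ = Ideal.Quotient.mkₐ A K := by
      refine AlgHom.ext_of_adjoin_eq_top hG fun y hy => ?_
      rw [AlgHom.comp_apply, ← ha₀]
      change algebraMap A (B ⧸ K) (a₀ y) = Ideal.Quotient.mk K y
      refine ((Ideal.Quotient.mk_eq_mk_iff_sub_mem _ _).mpr ?_).symm
      exact Ideal.mem_sup_left (Ideal.subset_span ⟨y, hy, rfl⟩)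
    intro y hy
    have h := congr($this y)
    rw [AlgHom.comp_apply, show σ y = 0 from hy, map_zero] at h
    exact Ideal.Quotient.eq_zero_iff_mem.mp h.symm
  have hKJ : K ≤ J := sup_le (Ideal.span_le.mpr (by rintro _ ⟨y, _, rfl⟩; exact hlift y)) hIBJ
  have hsq : J ≤ J * J ⊔ IB := by
    set L := J * J ⊔ IB with hL
    let sec : A ⧸ I →ₐ[A] B ⧸ L := Ideal.Quotient.liftₐ I (Algebra.ofId A (B ⧸ L)) fun a ha =>
      Ideal.Quotient.eq_zero_iff_mem.mpr (Ideal.mem_sup_right (Ideal.mem_map_of_mem _ ha))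
    have hN : (J.map (Ideal.Quotient.mk L)) ^ 2 = ⊥ := by
      rw [← Ideal.map_pow, Ideal.map_eq_bot_iff_le_ker, Ideal.mk_ker, pow_two]
      exact le_sup_left
    have : sec.comp σ = Ideal.Quotient.mkₐ A L := by
      refine Algebra.FormallyUnramified.comp_injective (J.map (Ideal.Quotient.mk L)) hN ?_
      ext y
      rw [AlgHom.comp_apply, AlgHom.comp_apply, AlgHom.comp_apply, ← ha₀]
      refine (Ideal.Quotient.mk_eq_mk_iff_sub_mem _ _).mpr ?_
      change algebraMap A (B ⧸ L) (a₀ y) - Ideal.Quotient.mk L y ∈ _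
      rw [IsScalarTower.algebraMap_apply A B (B ⧸ L), Ideal.Quotient.algebraMap_eq, ← map_sub]
      refine Ideal.mem_map_of_mem _ ?_
      rw [← neg_sub]; exact J.neg_mem (hlift y)
    intro y hy
    have h := congr($this y)
    rw [AlgHom.comp_apply, show σ y = 0 from hy, map_zero] at h
    exact Ideal.Quotient.eq_zero_iff_mem.mp h.symm
  set J' := J.map (Ideal.Quotient.mk IB) with hJ'
  have hfg : J'.FG := by
    have h1 : J' = (Ideal.span ((fun y => y - algebraMap A B (a₀ y)) '' (G : Set B))).map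
        (Ideal.Quotient.mk IB) := by
      rw [hJ', le_antisymm hJK hKJ, hK, Ideal.map_sup, Ideal.map_quotient_self, sup_bot_eq]
    rw [h1]
    exact Ideal.FG.map (Submodule.fg_span (G.finite_toSet.image _)) _
  have hidem : IsIdempotentElem J' := by
    refine le_antisymm Ideal.mul_le_left ?_
    have h1 := Ideal.map_mono (f := Ideal.Quotient.mk IB) hsq
    rwa [Ideal.map_sup, Ideal.map_quotient_self, sup_bot_eq, Ideal.map_mul] at h1
  obtain ⟨ε, hε, hεJ⟩ := (Ideal.isIdempotentElem_iff_of_fg J' hfg).mp hidem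
  have hεmem : ε ∈ J' := by rw [hεJ]; exact Ideal.mem_span_singleton_self ε
  obtain ⟨z, hzJ, rfl⟩ := (Ideal.mem_map_iff_of_surjective _ Ideal.Quotient.mk_surjective).mp hεmem
  refine ⟨1 - z, by simp [show σ z = 0 from hzJ], fun y hy => ?_⟩
  have hy' : Ideal.Quotient.mk IB y ∈ J' := Ideal.mem_map_of_mem _ (show y ∈ J from hy)
  rw [hεJ] at hy'
  obtain ⟨c, hc⟩ := Ideal.mem_span_singleton.mp hy'
  rw [← Ideal.Quotient.eq_zero_iff_mem, map_mul, hc, map_sub, map_one, ← mul_assoc,
    sub_mul, one_mul, hε.eq, sub_self, zero_mul]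

/-- Sections modulo `I` of etale algebras lift. -/
theorem exists_lift_of_etale (I : Ideal A) [hI : HenselianRing A I] {B : Type v} [CommRing B]
    [Algebra A B] [Algebra.Etale A B] (σ : B →ₐ[A] A ⧸ I) :
    ∃ τ : B →ₐ[A] A, (Ideal.Quotient.mkₐ A I).comp τ = σ := by
  choose a₀ ha₀ using fun y => Ideal.Quotient.mk_surjective (σ y)
  obtain ⟨s, hs, hσs⟩ : ∃ s ∈ zmtLocus A B, σ s = 1 := by
    suffices ∀ z ∈ Ideal.span (zmtLocus A B : Set B), ∃ s ∈ zmtLocus A B, σ s = σ z by
      simpa using this 1 (by rw [span_zmtLocus]; trivial)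
    intro z hz
    refine Submodule.span_induction (fun x hx => ⟨x, hx, rfl⟩) ⟨0, zero_mem _, rfl⟩
      (fun x y _ _ ⟨s, hs, hsx⟩ ⟨t, ht, hty⟩ =>
        ⟨s + t, add_mem hs ht, by simp [hsx, hty]⟩)
      (fun c x _ ⟨s, hs, hsx⟩ => ⟨a₀ c • s, (zmtLocus A B).smul_mem _ hs, ?_⟩) hz
    rw [map_smul, hsx, smul_eq_mul, map_mul, ← ha₀ c, Algebra.smul_def,
      Ideal.Quotient.algebraMap_eq]
  obtain ⟨G, hG⟩ := Algebra.FiniteType.out (R := A) (A := B)
  choose nx hnx using hs.2
  let T : Set B := insert s ((fun x => s ^ nx x * x) '' (G : Set B))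
  let B₀ := Algebra.adjoin A T
  have hfg : B₀.toSubmodule.FG := fg_adjoin_of_finite ((G.finite_toSet.image _).insert _) (by
    rintro _ (rfl | ⟨x, _, rfl⟩)
    exacts [hs.1, hnx x])
  have hsB : s ∈ B₀ := Algebra.subset_adjoin (Set.mem_insert _ _)
  have hloc : ∀ x : B, ∃ n, s ^ n * x ∈ B₀ := by
    intro x
    have hx : x ∈ Algebra.adjoin A (G : Set B) := by rw [hG]; trivial
    induction hx using Algebra.adjoin_induction with
    | mem x hx => exact ⟨nx x, Algebra.subset_adjoin (Set.mem_insert_of_mem _ ⟨x, hx, rfl⟩)⟩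
    | algebraMap r => exact ⟨0, by simp⟩
    | add x y _ _ hx hy =>
        obtain ⟨n, hn⟩ := hx; obtain ⟨m, hm⟩ := hy
        refine ⟨n + m, ?_⟩
        have : s ^ (n + m) * (x + y) = s ^ m * (s ^ n * x) + s ^ n * (s ^ m * y) := by ring
        rw [this]
        exact add_mem (mul_mem (pow_mem hsB _) hn) (mul_mem (pow_mem hsB _) hm)
    | mul x y _ _ hx hy =>
        obtain ⟨n, hn⟩ := hx; obtain ⟨m, hm⟩ := hy
        refine ⟨n + m, ?_⟩
        have : s ^ (n + m) * (x * y) = (s ^ n * x) * (s ^ m * y) := by ring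
        rw [this]
        exact mul_mem hn hm
  have : Module.Finite A B₀ := ⟨(Submodule.fg_top _).mpr hfg⟩
  set I₀ := I.map (algebraMap A B₀) with hI₀
  have hI₀σ : ∀ z ∈ I₀, σ (z : B) = 0 := by
    intro z hz
    refine Submodule.span_induction ?_ (by simp) (fun x y _ _ hx hy => by simp [hx, hy])
      (fun c x _ hx => by simp [hx]) hz
    rintro _ ⟨a, ha, rfl⟩
    simpa using Ideal.Quotient.eq_zero_iff_mem.mpr ha
  obtain ⟨e₀, he₀, he₀J⟩ := exists_idempotent_of_section σ
  have hIz : ∀ z ∈ I.map (algebraMap A B), ∃ m, ∃ w ∈ I₀, (w : B) = s ^ m * z := by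
    intro z hz
    refine Submodule.span_induction ?_ ⟨0, 0, zero_mem _, by simp⟩ ?_ ?_ hz
    · rintro _ ⟨a, ha, rfl⟩
      exact ⟨0, algebraMap A B₀ a, Ideal.mem_map_of_mem _ ha, by simp⟩
    · rintro x y _ _ ⟨n, v, hv, hvx⟩ ⟨m, w, hw, hwy⟩
      refine ⟨n + m, ⟨s, hsB⟩ ^ m * v + ⟨s, hsB⟩ ^ n * w,
        add_mem (I₀.mul_mem_left _ hv) (I₀.mul_mem_left _ hw), ?_⟩
      push_cast; rw [hvx, hwy]; ring
    · rintro c x _ ⟨n, v, hv, hvx⟩
      obtain ⟨k, hk⟩ := hloc c
      refine ⟨k + n, ⟨_, hk⟩ * v, I₀.mul_mem_left _ hv, ?_⟩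
      push_cast; rw [hvx, smul_eq_mul]; ring
  obtain ⟨k, hk⟩ := hloc e₀
  obtain ⟨N, g, hg⟩ := Module.Finite.exists_fin (R := A) (M := B₀)
  have hgz : ∀ i, σ ((g i : B) - algebraMap A B (a₀ (g i))) = 0 := fun i => by simp [ha₀]
  choose m w hwI hw using fun i => hIz _ (he₀J _ (hgz i))
  let m' := ∑ i, m i
  let s₀ : B₀ := ⟨s, hsB⟩
  let e₁ : B₀ := ⟨s ^ k * e₀, hk⟩
  let b : B₀ := s₀ ^ m' * e₁
  have hσb : σ (b : B) = 1 := by simp [b, e₁, s₀, hσs, he₀]
  have hbg : ∀ i, b * (g i - algebraMap A B₀ (a₀ (g i))) ∈ I₀ := by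
    intro i
    have hle : m i ≤ m' := Finset.single_le_sum (fun j _ => Nat.zero_le _) (Finset.mem_univ i)
    have heq : b * (g i - algebraMap A B₀ (a₀ (g i))) = s₀ ^ (m' - m i + k) * w i := by
      refine Subtype.ext ?_
      have h1 : s ^ m' = s ^ (m' - m i) * s ^ m i := by rw [← pow_add, Nat.sub_add_cancel hle]
      simp only [b, e₁, s₀, Subalgebra.coe_mul, SubmonoidClass.coe_pow, Subalgebra.coe_algebraMap,
        AddSubgroupClass.coe_sub, hw, h1, pow_add]
      ring
    rw [heq]; exact I₀.mul_mem_left _ (hwI i)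
  have hb : ∀ y : B₀, ∃ a : A, b * y - a • b ∈ I₀ ∧ σ (y : B) = algebraMap A _ a := by
    intro y
    have hy : y ∈ Submodule.span A (Set.range g) := by rw [hg]; trivial
    induction hy using Submodule.span_induction with
    | mem y hy =>
        obtain ⟨i, rfl⟩ := hy
        refine ⟨a₀ (g i), ?_, (ha₀ _).symm⟩
        convert hbg i using 1
        simp only [Algebra.smul_def]; ring
    | zero => exact ⟨0, by simp, by simp⟩
    | add x y _ _ hx hy =>
        obtain ⟨a, ha, ha'⟩ := hx; obtain ⟨c, hc, hc'⟩ := hy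
        refine ⟨a + c, ?_, by rw [Subalgebra.coe_add, map_add, ha', hc', map_add]⟩
        convert I₀.add_mem ha hc using 1
        simp only [add_smul]; ring
    | smul r x _ hx =>
        obtain ⟨a, ha, ha'⟩ := hx
        refine ⟨r * a, ?_, ?_⟩
        · convert I₀.mul_mem_left (algebraMap A B₀ r) ha using 1
          simp only [Algebra.smul_def, map_mul]; ring
        · simp [ha', Algebra.smul_def]
  have hbb : b * b - b ∈ I₀ := by
    obtain ⟨a, ha, ha'⟩ := hb b
    have ha1 : a - 1 ∈ I := by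
      rw [← Ideal.Quotient.eq_zero_iff_mem, map_sub, map_one, sub_eq_zero,
        ← Ideal.Quotient.algebraMap_eq, ← ha', hσb]
    have h1 : b * b - b = (b * b - a • b) + algebraMap A B₀ (a - 1) * b := by
      simp only [Algebra.smul_def, map_sub, map_one]; ring
    rw [h1]; exact I₀.add_mem ha (I₀.mul_mem_right _ (Ideal.mem_map_of_mem _ ha1))
  obtain ⟨e, hee, heb, he⟩ :=
    exists_idempotent_of_rankOne I b hbb fun y => let ⟨a, ha, _⟩ := hb y; ⟨a, ha⟩
  have hσe : σ (e : B) = 1 := by
    have h := hI₀σ _ heb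
    simpa [hσb, sub_eq_zero] using h
  have heB : IsIdempotentElem (e : B) := hee.map B₀.val
  have hgen : ∀ x : B, ∃ a : A, (e : B) * x = algebraMap A B a * e := by
    intro x
    obtain ⟨c, hc⟩ := he s₀
    have hc' : (e : B) * s = algebraMap A B c * e := by
      simpa [s₀, Algebra.smul_def] using congrArg (Subtype.val) hc
    obtain ⟨cu, rfl⟩ : IsUnit c := isUnit_of_sub_one_mem hI.jac (by
      have h := congrArg σ hc'
      rw [← Ideal.Quotient.eq_zero_iff_mem, map_sub, map_one, sub_eq_zero]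
      simpa [hσe, hσs] using h.symm)
    obtain ⟨n, hn⟩ := hloc x
    obtain ⟨a, ha⟩ := he ⟨_, hn⟩
    have ha' : (e : B) * (s ^ n * x) = algebraMap A B a * e := by
      simpa [Algebra.smul_def] using congrArg (Subtype.val) ha
    have hpow : (e : B) * s ^ n = algebraMap A B (cu : A) ^ n * e := by
      clear ha' hn ha
      induction n with
      | zero => simp
      | succ n ih =>
          rw [pow_succ, ← mul_assoc, ih, mul_assoc, hc', pow_succ]; ring
    refine ⟨↑(cu⁻¹ ^ n) * a, ?_⟩
    have h2 : algebraMap A B ↑(cu⁻¹ ^ n) * algebraMap A B (cu : A) ^ n = 1 := by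
      rw [← map_pow, ← map_mul, ← Units.val_pow_eq_pow_val, ← Units.val_mul]
      simp [inv_pow]
    calc (e : B) * x = (algebraMap A B ↑(cu⁻¹ ^ n) * algebraMap A B (cu : A) ^ n) * (e * x) := by
          rw [h2, one_mul]
      _ = algebraMap A B ↑(cu⁻¹ ^ n) * ((e * s ^ n) * x) := by rw [hpow]; ring
      _ = _ := by rw [mul_assoc, ha', map_mul]; ring
  set Q := B ⧸ Ideal.span {1 - (e : B)}
  have : IsLocalization.Away (e : B) Q := IsLocalization.away_of_isIdempotentElem heB
    Ideal.mk_ker Ideal.Quotient.mk_surjective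
  have : Algebra.Etale B Q := Algebra.Etale.of_isLocalizationAway (e : B)
  have : Algebra.Etale A Q := Algebra.Etale.comp A B Q
  let σQ : Q →ₐ[A] A ⧸ I := Ideal.Quotient.liftₐ _ σ fun x hx => by
    obtain ⟨c, rfl⟩ := Ideal.mem_span_singleton.mp hx
    simp [hσe]
  have hsurj : Function.Surjective (algebraMap A Q) := by
    intro q
    obtain ⟨x, rfl⟩ := Ideal.Quotient.mk_surjective q
    obtain ⟨a, ha⟩ := hgen x
    refine ⟨a, ?_⟩
    have h1 : Ideal.Quotient.mk (Ideal.span {1 - (e : B)}) (e : B) = 1 := by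
      rw [← map_one (Ideal.Quotient.mk _), eq_comm, Ideal.Quotient.eq]
      exact Ideal.mem_span_singleton_self _
    have h3 := congrArg (Ideal.Quotient.mk (Ideal.span {1 - (e : B)})) ha
    rw [map_mul, map_mul, h1, one_mul, mul_one] at h3
    rw [h3]; rfl
  have hker : RingHom.ker (algebraMap A Q) = ⊥ := by
    have hi : IsIdempotentElem (RingHom.ker (algebraMap A Q)) :=
      (Algebra.FormallyEtale.iff_of_surjective hsurj).mp inferInstance
    have hkfg : (RingHom.ker (algebraMap A Q)).FG :=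
      Algebra.FinitePresentation.ker_fG_of_surjective (Algebra.ofId A Q) hsurj
    obtain ⟨ε, hε, hεk⟩ := (Ideal.isIdempotentElem_iff_of_fg _ hkfg).mp hi
    have hεI : ε ∈ I := by
      have h0 : algebraMap A Q ε = 0 := by
        rw [← RingHom.mem_ker, hεk]; exact Ideal.mem_span_singleton_self ε
      have := σQ.commutes ε
      rw [h0, map_zero] at this
      exact Ideal.Quotient.eq_zero_iff_mem.mp this.symm
    rw [hεk, eq_zero_of_isIdempotentElem_mem hI.jac hε hεI]
    exact Ideal.span_singleton_eq_bot.mpr rfl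
  let eqv : A ≃ₐ[A] Q := AlgEquiv.ofBijective (Algebra.ofId A Q)
    ⟨(RingHom.injective_iff_ker_eq_bot _).mpr hker, hsurj⟩
  refine ⟨eqv.symm.toAlgHom.comp (Ideal.Quotient.mkₐ A _), AlgHom.ext fun x => ?_⟩
  obtain ⟨a, ha⟩ := hsurj (Ideal.Quotient.mk _ x)
  have h1 : eqv.symm (Ideal.Quotient.mk _ x) = a := by
    rw [← ha]; exact eqv.symm_apply_apply a
  show Ideal.Quotient.mk I (eqv.symm (Ideal.Quotient.mk _ x)) = σ x
  have h2 : σ x = σQ (Ideal.Quotient.mk _ x) := rfl
  rw [h1, h2, ← ha, AlgHom.commutes]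
  rfl

/-- Algebra maps from an unramified algebra agreeing modulo an ideal in the Jacobson radical
agree. -/
theorem algHom_ext_of_le_jacobson {B C : Type v} [CommRing B] [CommRing C] [Algebra A B]
    [Algebra A C] [Algebra.EssFiniteType A B] [Algebra.FormallyUnramified A B] {J : Ideal C}
    (hJ : J ≤ Ideal.jacobson ⊥) {f g : B →ₐ[A] C} (h : ∀ x, f x - g x ∈ J) : f = g := by
  set K := RingHom.ker (Algebra.TensorProduct.lmul' A : TensorProduct A B B →ₐ[A] B) with hK
  obtain ⟨t, ht, htK⟩ := (Ideal.isIdempotentElem_iff_of_fg _ (KaehlerDifferential.ideal_fg A B)).mp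
    ((Ideal.cotangent_subsingleton_iff _).mp Algebra.FormallyUnramified.subsingleton_kaehlerDifferential)
  let Φ : TensorProduct A B B →ₐ[A] C := Algebra.TensorProduct.lift f g fun _ _ => Commute.all _ _
  have htker : t ∈ RingHom.ker (Algebra.TensorProduct.lmul' A : TensorProduct A B B →ₐ[A] B) := by
    rw [show RingHom.ker (Algebra.TensorProduct.lmul' A) = _ from htK]
    exact Ideal.mem_span_singleton_self t
  have hmod : ∀ z, Φ z - f (Algebra.TensorProduct.lmul' A z) ∈ J := by
    intro z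
    induction z using TensorProduct.induction_on with
    | zero => simp
    | tmul x y =>
        have : Φ (x ⊗ₜ y) - f (Algebra.TensorProduct.lmul' A (x ⊗ₜ y)) = -(f x * (f y - g y)) := by
          simp [Φ]; ring
        rw [this]; exact J.neg_mem (J.mul_mem_left _ (h y))
    | add x y hx hy => simpa [add_sub_add_comm] using J.add_mem hx hy
  have hΦt : Φ t = 0 := by
    refine eq_zero_of_isIdempotentElem_mem hJ (ht.map Φ) ?_
    simpa [show Algebra.TensorProduct.lmul' A t = 0 from htker] using hmod t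
  refine AlgHom.ext fun x => ?_
  have hx : x ⊗ₜ[A] (1 : B) - 1 ⊗ₜ[A] x ∈
      RingHom.ker (Algebra.TensorProduct.lmul' A : TensorProduct A B B →ₐ[A] B) := by simp
  rw [show RingHom.ker (Algebra.TensorProduct.lmul' A) = _ from htK] at hx
  obtain ⟨c, hc⟩ := Ideal.mem_span_singleton.mp hx
  have := congrArg Φ hc
  rw [map_mul, hΦt, zero_mul, map_sub, sub_eq_zero] at this
  simpa [Φ] using this

end Groth.Agent.HenselLib
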