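import Groth.Agent.HenselLib.Pair
import Mathlib.RingTheory.Polynomial.UniversalFactorizationRing
import Mathlib.RingTheory.Etale.StandardEtale
import Mathlib.RingTheory.AdjoinRoot
import Mathlib.RingTheory.Idempotents

/-!
# Henselian pairs: factorizations and idempotents in integral algebras
-/

set_option autoImplicit false

open Polynomial

namespace Groth.Agent.HenselLib

universe u v

variable {A : Type u} [CommRing A] {I : Ideal A}

theorem map_le_jacobson_of_isIntegral (hI : I ≤ Ideal.jacobson ⊥) (B : Type v) [CommRing B]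
    [Algebra A B] [Algebra.IsIntegral A B] : I.map (algebraMap A B) ≤ Ideal.jacobson ⊥ := by
  refine le_sInf ?_
  rintro M ⟨-, hM⟩
  have : M.IsMaximal := hM
  have hmax := Ideal.isMaximal_comap_of_isIntegral_of_isMaximal (R := A) M
  exact Ideal.map_le_iff_le_comap.mpr (hI.trans (sInf_le ⟨bot_le, hmax⟩))

theorem idempotent_eq_of_sub_mem {B : Type v} [CommRing B] {J : Ideal B}
    (hJ : J ≤ Ideal.jacobson ⊥) {e e' : B} (he : IsIdempotentElem e) (he' : IsIdempotentElem e')
    (h : e - e' ∈ J) : e = e' := by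
  have h3 : (e - e') * (1 - (e - e') * (e - e')) = 0 := by
    linear_combination (-(e + 1) + 3 * e') * he.eq + (-3 * e + e' + 1) * he'.eq
  have hu : IsUnit (1 - (e - e') * (e - e')) :=
    isUnit_of_sub_one_mem hJ (by simpa using J.mul_mem_left (e - e') h)
  exact sub_eq_zero.mp (hu.mul_left_eq_zero.mp h3)

theorem injOn_idempotents (hI : I ≤ Ideal.jacobson ⊥) (B : Type v) [CommRing B]
    [Algebra A B] [Algebra.IsIntegral A B] :
    Set.InjOn (Ideal.Quotient.mk (I.map (algebraMap A B))) {e : B | IsIdempotentElem e} :=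
  fun _ he _ he' h => idempotent_eq_of_sub_mem (map_le_jacobson_of_isIntegral hI B) he he'
    ((Ideal.Quotient.mk_eq_mk_iff_sub_mem _ _).mp h)

/-- Coprime monic factorizations modulo `I` lift. -/
theorem exists_factor (I : Ideal A) [hI : HenselianRing A I] (f : A[X]) (hf : f.Monic)
    (g₀ h₀ : (A ⧸ I)[X]) (hg : g₀.Monic) (hh : h₀.Monic) (hco : IsCoprime g₀ h₀)
    (hfac : f.map (Ideal.Quotient.mk I) = g₀ * h₀) :
    ∃ g h : A[X], g.Monic ∧ h.Monic ∧ IsCoprime g h ∧ f = g * h ∧
      g.map (Ideal.Quotient.mk I) = g₀ ∧ h.map (Ideal.Quotient.mk I) = h₀ := by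
  rcases subsingleton_or_nontrivial (A ⧸ I) with h | h
  · have hsub : Subsingleton A := by
      have : I = ⊤ := Ideal.Quotient.subsingleton_iff.mp h
      have h1 : (1 : A) ∈ Ideal.jacobson ⊥ := hI.jac (this ▸ Submodule.mem_top)
      have h2 := (Ideal.mem_jacobson_bot.mp h1) (-1)
      simp only [one_mul, neg_add_cancel, isUnit_zero_iff] at h2
      exact subsingleton_of_zero_eq_one h2
    exact ⟨1, 1, monic_one, monic_one, isCoprime_one_left, Subsingleton.elim _ _,
      Subsingleton.elim _ _, Subsingleton.elim _ _⟩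
  have : Nontrivial A := (Ideal.Quotient.mk I).domain_nontrivial
  have hn : f.natDegree = g₀.natDegree + h₀.natDegree := by
    rw [← hf.natDegree_map (Ideal.Quotient.mk I), hfac, hg.natDegree_mul hh]
  let p : MonicDegreeEq A f.natDegree := MonicDegreeEq.mk f hf rfl
  let q : { q : MonicDegreeEq (A ⧸ I) g₀.natDegree × MonicDegreeEq (A ⧸ I) h₀.natDegree //
      q.1.1 * q.2.1 = p.1.map (algebraMap A (A ⧸ I)) ∧ IsCoprime q.1.1 q.2.1 } :=
    ⟨(MonicDegreeEq.mk g₀ hg rfl, MonicDegreeEq.mk h₀ hh rfl), hfac.symm, hco⟩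
  let E := UniversalCoprimeFactorizationRing.homEquiv (A ⧸ I) g₀.natDegree h₀.natDegree hn p
  obtain ⟨τ, hτ⟩ := exists_lift_of_etale I (E.symm q)
  let E' := UniversalCoprimeFactorizationRing.homEquiv A g₀.natDegree h₀.natDegree hn p
  refine ⟨(E' τ).1.1.1, (E' τ).1.2.1, (E' τ).1.1.monic, (E' τ).1.2.monic, (E' τ).2.2, ?_, ?_, ?_⟩
  · rw [(E' τ).2.1]; simp [p, MonicDegreeEq.mk]
  · have := UniversalCoprimeFactorizationRing.homEquiv_comp_fst A g₀.natDegree h₀.natDegree hn p
      τ (Ideal.Quotient.mkₐ A I)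
    rw [hτ, Equiv.apply_symm_apply] at this
    exact congrArg Subtype.val this.symm
  · have := UniversalCoprimeFactorizationRing.homEquiv_comp_snd A g₀.natDegree h₀.natDegree hn p
      τ (Ideal.Quotient.mkₐ A I)
    rw [hτ, Equiv.apply_symm_apply] at this
    exact congrArg Subtype.val this.symm

/-- An element idempotent modulo `I B` of an integral algebra is killed by a monic polynomial
congruent to `X ^ d * (X - 1) ^ d`. -/
theorem exists_monic_annihilator {B : Type v} [CommRing B] [Algebra A B] [Algebra.IsIntegral A B]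
    (I : Ideal A) (b : B) (hb : b * b - b ∈ I.map (algebraMap A B)) :
    ∃ (f : A[X]) (d : ℕ), f.Monic ∧ 1 ≤ d ∧ aeval b f = 0 ∧
      f.map (Ideal.Quotient.mk I) = X ^ d * (X - 1) ^ d := by
  obtain ⟨n, c, x, hx⟩ : ∃ (n : ℕ) (c : Fin n → A) (x : Fin n → B),
      (∀ i, c i ∈ I) ∧ b * b - b = ∑ i, c i • x i := by
    refine Submodule.span_induction ?_ ⟨0, 0, 0, by simp⟩ ?_ ?_ hb
    · rintro _ ⟨a, ha, rfl⟩
      exact ⟨1, fun _ => a, fun _ => 1, fun _ => ha, by simp [Algebra.smul_def]⟩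
    · rintro y z _ _ ⟨n, c, x, hc, rfl⟩ ⟨m, c', x', hc', rfl⟩
      refine ⟨n + m, Fin.append c c', Fin.append x x', fun i => ?_, ?_⟩
      · refine Fin.addCases (fun i => ?_) (fun i => ?_) i <;> simp [hc, hc']
      · simp [Fin.sum_univ_add]
    · rintro r y _ ⟨n, c, x, hc, rfl⟩
      exact ⟨n, c, fun i => r * x i, hc, by simp [Finset.mul_sum]⟩
  let B₁ := Algebra.adjoin A (insert b (Set.range x))
  have : Module.Finite A B₁ := ⟨(Submodule.fg_top _).mpr
    (fg_adjoin_of_finite ((Set.finite_range x).insert _) fun y _ => Algebra.IsIntegral.isIntegral y)⟩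
  let b₁ : B₁ := ⟨b, Algebra.subset_adjoin (Set.mem_insert _ _)⟩
  let x₁ : Fin n → B₁ :=
    fun i => ⟨x i, Algebra.subset_adjoin (Set.mem_insert_of_mem _ ⟨i, rfl⟩)⟩
  have hrange : LinearMap.range (Algebra.lmul A B₁ (b₁ * b₁ - b₁)) ≤ I • ⊤ := by
    rintro _ ⟨y, rfl⟩
    have : b₁ * b₁ - b₁ = ∑ i, c i • x₁ i := Subtype.ext (by
      push_cast; exact hx.2)
    rw [this]
    simp only [Algebra.coe_lmul_eq_mul, LinearMap.mul_apply', Finset.sum_mul, smul_mul_assoc]
    exact sum_mem fun i _ => Submodule.smul_mem_smul (hx.1 i) trivial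
  obtain ⟨p, hp, -, hpc, hpa⟩ :=
    LinearMap.exists_monic_and_natDegree_eq_and_coeff_mem_pow_and_aeval_eq_zero A _ I hrange
  have hpa' : aeval (b * b - b) p = 0 := by
    rw [Polynomial.aeval_algHom_apply] at hpa
    have h1 := LinearMap.congr_fun hpa 1
    simp only [Algebra.coe_lmul_eq_mul, LinearMap.mul_apply', mul_one, LinearMap.zero_apply] at h1
    have h2 := congrArg B₁.val h1
    rwa [map_zero, ← Polynomial.aeval_algHom_apply] at h2
  rcases subsingleton_or_nontrivial A with hA | hA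
  · exact ⟨1, 1, monic_one, le_rfl, by rw [Subsingleton.elim (1 : A[X]) 0, map_zero],
      Subsingleton.elim _ _⟩
  have hX : (X * X - X : A[X]).Monic :=
    (monic_X.mul monic_X).sub_of_left (by rw [degree_mul' (by simp), degree_X]; decide)
  have hdeg : (X * X - X : A[X]).natDegree = 2 := by
    refine natDegree_eq_of_le_of_coeff_ne_zero (by compute_degree) ?_
    simp [coeff_X]
  refine ⟨p.comp (X * X - X) * (X * X - X), p.natDegree + 1,
    (hp.comp hX (by omega)).mul hX, by omega, by simp [aeval_comp, hpa'], ?_⟩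
  have hpm : p.map (Ideal.Quotient.mk I) = X ^ p.natDegree := by
    ext i
    rw [coeff_map, coeff_X_pow]
    split_ifs with h
    · rw [h, coeff_natDegree, hp.leadingCoeff, map_one]
    · rcases lt_or_gt_of_ne h with h | h
      · exact Ideal.Quotient.eq_zero_iff_mem.mpr (Ideal.pow_le_self (by omega) (hpc i))
      · rw [coeff_eq_zero_of_natDegree_lt h, map_zero]
  rw [Polynomial.map_mul, Polynomial.map_comp, hpm]
  simp only [X_pow_comp, Polynomial.map_sub, Polynomial.map_mul, map_X]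
  rw [show (X * X - X : (A ⧸ I)[X]) = X * (X - 1) by ring, ← mul_pow, pow_succ]

/-- Idempotents modulo `I` of integral algebras lift. -/
theorem exists_idempotent (I : Ideal A) [hI : HenselianRing A I] {B : Type v} [CommRing B]
    [Algebra A B] [Algebra.IsIntegral A B] (b : B) (hb : b * b - b ∈ I.map (algebraMap A B)) :
    ∃ e : B, IsIdempotentElem e ∧ e - b ∈ I.map (algebraMap A B) := by
  obtain ⟨f, d, hf, hd, hfb, hfm⟩ := exists_monic_annihilator I b hb
  have hco : IsCoprime ((X : (A ⧸ I)[X]) ^ d) ((X - 1) ^ d) :=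
    IsCoprime.pow ⟨1, -1, by ring⟩
  obtain ⟨g, h, -, -, ⟨u, v, huv⟩, hfgh, hgm, hhm⟩ :=
    exists_factor I f hf _ _ (monic_X_pow d) ((monic_X_sub_C (1 : A ⧸ I)).pow d) hco
      (by rwa [map_one])
  have h0 : aeval b g * aeval b h = 0 := by rw [← map_mul, ← hfgh, hfb]
  have h1 : aeval b u * aeval b g + aeval b v * aeval b h = 1 := by
    simpa using congrArg (aeval b) huv
  refine ⟨aeval b u * aeval b g, ?_, ?_⟩
  · show _ * _ = _
    linear_combination (aeval b u * aeval b g) * h1 - (aeval b u * aeval b v) * h0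
  · let ρ := Ideal.Quotient.mk (I.map (algebraMap A B))
    refine (Ideal.Quotient.mk_eq_mk_iff_sub_mem _ _).mp (show ρ _ = ρ b from ?_)
    let φ : A ⧸ I →+* B ⧸ I.map (algebraMap A B) :=
      Ideal.quotientMap _ (algebraMap A B) Ideal.le_comap_map
    have hcomp : ρ.comp (algebraMap A B) = φ.comp (Ideal.Quotient.mk I) := RingHom.ext fun x => rfl
    have key : ∀ q : A[X], ρ (aeval b q) = (q.map (Ideal.Quotient.mk I)).eval₂ φ (ρ b) := by
      intro q; rw [aeval_def, hom_eval₂, hcomp, eval₂_map]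
    have hi : IsIdempotentElem (ρ b) := by
      show ρ b * ρ b = ρ b
      rw [← map_mul]; exact (Ideal.Quotient.mk_eq_mk_iff_sub_mem _ _).mpr hb
    obtain ⟨d', rfl⟩ : ∃ d', d = d' + 1 := ⟨d - 1, by omega⟩
    have hkill : ρ b * ρ (aeval b h) = 0 := by
      rw [key, hhm, eval₂_pow, eval₂_sub, eval₂_X, eval₂_C, map_one, pow_succ,
        ← mul_assoc, mul_comm (ρ b), mul_assoc, mul_sub, mul_one, hi.eq, sub_self, mul_zero]
    have hg' : ρ (aeval b g) = ρ b := by rw [key, hgm, eval₂_X_pow, hi.pow_succ_eq]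
    have h1' : ρ (aeval b u) * ρ b + ρ (aeval b v) * ρ (aeval b h) = 1 := by
      have h2 := congrArg ρ h1; rwa [map_add, map_mul, map_mul, map_one, hg'] at h2
    rw [map_mul, hg']
    linear_combination (ρ b) * h1' - ρ (aeval b v) * hkill - ρ (aeval b u) * hi.eq

theorem bijOn_idempotents (I : Ideal A) [hI : HenselianRing A I] (B : Type v) [CommRing B]
    [Algebra A B] [Algebra.IsIntegral A B] :
    Set.BijOn (Ideal.Quotient.mk (I.map (algebraMap A B)))
      {e : B | IsIdempotentElem e} {e | IsIdempotentElem e} := by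
  refine ⟨fun e he => IsIdempotentElem.map he _, injOn_idempotents hI.jac B, fun y hy => ?_⟩
  obtain ⟨b, rfl⟩ := Ideal.Quotient.mk_surjective y
  obtain ⟨e, he, heb⟩ := exists_idempotent I b
    ((Ideal.Quotient.mk_eq_mk_iff_sub_mem _ _).mp (by rw [map_mul]; exact hy))
  exact ⟨e, he, (Ideal.Quotient.mk_eq_mk_iff_sub_mem _ _).mpr heb⟩

/-- If idempotents lift modulo `I` in `A[X] / (f)`, simple roots of `f` modulo `I` lift. -/
theorem exists_root_of_idempotent_lift (hI : I ≤ Ideal.jacobson ⊥) (f : A[X]) (hf : f.Monic)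
    (hlift : ∀ b : AdjoinRoot f, b * b - b ∈ I.map (algebraMap A (AdjoinRoot f)) →
      ∃ e, IsIdempotentElem e ∧ e - b ∈ I.map (algebraMap A (AdjoinRoot f)))
    (a₀ : A) (h0 : f.eval a₀ ∈ I)
    (h1 : IsUnit (Ideal.Quotient.mk I (f.derivative.eval a₀))) :
    ∃ a, f.IsRoot a ∧ a - a₀ ∈ I := by
  nontriviality A
  set IB := I.map (algebraMap A (AdjoinRoot f)) with hIB
  obtain ⟨q, hq⟩ := X_sub_C_dvd_sub_C_eval (a := a₀) (p := f)
  have hqf : f = (X - C a₀) * q + C (f.eval a₀) := eq_add_of_sub_eq hq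
  obtain ⟨u, hu⟩ : IsUnit (q.eval a₀) := by
    refine isUnit_of_isUnit_mk hI ?_
    have : f.derivative.eval a₀ = q.eval a₀ := by
      conv_lhs => rw [hqf]
      simp
    rwa [this] at h1
  set x := AdjoinRoot.root f with hx
  set alg := algebraMap A (AdjoinRoot f) with halg
  set b := alg ↑u⁻¹ * aeval x q with hb
  have hxb : b * (x - alg a₀) ∈ IB := by
    have h2 : aeval x f = 0 := by rw [hx, AdjoinRoot.aeval_eq, AdjoinRoot.mk_self]
    replace h2 := h2.symm.trans (congrArg (aeval x) hqf)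
    simp only [map_add, map_mul, map_sub, aeval_X, aeval_C] at h2
    have : b * (x - alg a₀) = -(alg ↑u⁻¹ * alg (f.eval a₀)) := by
      rw [hb]; linear_combination -(alg ↑u⁻¹) * h2
    rw [this]
    exact IB.neg_mem (IB.mul_mem_left _ (Ideal.mem_map_of_mem _ h0))
  have hby : ∀ p : A[X], b * aeval x p - p.eval a₀ • b ∈ IB := by
    intro p
    obtain ⟨r, hr⟩ := X_sub_C_dvd_sub_C_eval (a := a₀) (p := p)
    have h2 := congrArg (aeval x) hr
    simp only [map_sub, map_mul, aeval_X, aeval_C] at h2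
    have : b * aeval x p - p.eval a₀ • b = b * (x - alg a₀) * aeval x r := by
      rw [Algebra.smul_def]; linear_combination b * h2
    rw [this]; exact IB.mul_mem_right _ hxb
  have hb' : ∀ y : AdjoinRoot f, ∃ a : A, b * y - a • b ∈ IB := by
    intro y
    obtain ⟨p, rfl⟩ := AdjoinRoot.mk_surjective y
    exact ⟨_, by rw [← AdjoinRoot.aeval_eq p]; exact hby p⟩
  have hbb : b * b - b ∈ IB := by
    have h2 := IB.mul_mem_left (alg ↑u⁻¹) (hby q)
    have : b * b - b = alg ↑u⁻¹ * (b * aeval x q - q.eval a₀ • b) := by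
      have h3 : alg ↑u⁻¹ * alg (q.eval a₀) = 1 := by rw [← map_mul, ← hu, u.inv_mul, map_one]
      rw [Algebra.smul_def]
      linear_combination b * h3 + b * hb
    rwa [this]
  obtain ⟨e, he, heb⟩ := hlift b hbb
  have : Module.Finite A (AdjoinRoot f) := hf.finite_adjoinRoot
  obtain ⟨a, ha⟩ := exists_smul_eq_of_rankOne hI he heb hb' x
  -- the functional taking the top coefficient
  let lam : AdjoinRoot f →ₗ[A] A :=
    (Polynomial.lcoeff A (f.natDegree - 1)).comp (AdjoinRoot.modByMonicHom hf)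
  have hlI : ∀ z ∈ IB, lam z ∈ I := by
    intro z hz
    have hz' : z ∈ I • (⊤ : Submodule A (AdjoinRoot f)) := by
      rw [Ideal.smul_top_eq_map]; exact hz
    refine Submodule.smul_induction_on hz' (fun r hr y _ => ?_) fun y z hy hz => ?_
    · rw [map_smul]; exact I.mul_mem_right _ hr
    · rw [map_add]; exact I.add_mem hy hz
  have hfne : f.natDegree ≠ 0 := by
    intro h
    rw [hf.natDegree_eq_zero.mp h] at h1 h0
    simp only [derivative_one, eval_zero, map_zero, isUnit_zero_iff] at h1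
    simp only [eval_one] at h0
    have := (Ideal.mem_jacobson_bot.mp (hI h0)) (-1)
    simp at this
  have hlb : lam b = ↑u⁻¹ := by
    have hqm : q.Monic ∧ q.natDegree + 1 = f.natDegree := by
      have hd : (f - C (f.eval a₀)).Monic :=
        hf.sub_of_left (degree_C_le.trans_lt (natDegree_pos_iff_degree_pos.mp (by omega)))
      have hnd : (f - C (f.eval a₀)).natDegree = f.natDegree := natDegree_sub_C
      rw [hq] at hd hnd
      have hm : q.Monic := (monic_X_sub_C a₀).of_mul_monic_left hd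
      exact ⟨hm, by rw [← hnd, (monic_X_sub_C a₀).natDegree_mul hm, natDegree_X_sub_C]; omega⟩
    have hmk : b = AdjoinRoot.mk f (C (↑u⁻¹ : A) * q) := by
      rw [hb, hx, AdjoinRoot.aeval_eq, map_mul]; rfl
    have hdeg : (C (↑u⁻¹ : A) * q).degree < f.degree := by
      refine degree_lt_degree ((natDegree_C_mul_le _ _).trans_lt ?_)
      omega
    rw [hmk]
    simp only [lam, LinearMap.comp_apply, AdjoinRoot.modByMonicHom_mk, lcoeff_apply,
      (modByMonic_eq_self_iff hf).mpr hdeg]
    rw [coeff_C_mul, show f.natDegree - 1 = q.natDegree by omega, hqm.1.coeff_natDegree, mul_one]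
  have hle : IsUnit (lam e) := by
    refine isUnit_of_isUnit_mk hI ?_
    rw [show Ideal.Quotient.mk I (lam e) = Ideal.Quotient.mk I ↑u⁻¹ by
      rw [Ideal.Quotient.mk_eq_mk_iff_sub_mem, ← hlb, ← map_sub]; exact hlI _ heb]
    exact u⁻¹.isUnit.map _
  refine ⟨a, ?_, ?_⟩
  · have hpow : ∀ p : A[X], e * aeval x p = p.eval a • e := by
      intro p
      induction p using Polynomial.induction_on' with
      | add p r hp hr => simp [mul_add, add_smul, hp, hr]
      | monomial n c =>
          induction n with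
          | zero => simp [Algebra.smul_def, mul_comm]
          | succ n ih =>
              rw [← monomial_mul_X, map_mul, eval_mul, eval_X, aeval_X, ← mul_assoc, ih,
                smul_mul_assoc, ha, smul_smul]
    have h3 := hpow f
    rw [hx, AdjoinRoot.aeval_eq, AdjoinRoot.mk_self, mul_zero] at h3
    have h4 := congrArg lam h3.symm
    rw [map_smul, map_zero, smul_eq_mul] at h4
    exact hle.mul_left_eq_zero.mp h4
  · have h2 : (a - a₀) • e ∈ IB := by
      have : (a - a₀) • e = (e - b) * (x - alg a₀) + b * (x - alg a₀) := by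
        rw [sub_smul, ← ha, Algebra.smul_def]; ring
      rw [this]; exact IB.add_mem (IB.mul_mem_right _ heb) hxb
    have h3 := hlI _ h2
    rw [map_smul, smul_eq_mul] at h3
    exact (I.mul_unit_mem_iff_mem hle).mp h3

theorem le_jacobson_of_idempotents_injOn (I : Ideal A)
    (h : ∀ (B : Type u) [CommRing B] [Algebra A B], Module.Finite A B →
      Set.InjOn (Ideal.Quotient.mk (Ideal.map (algebraMap A B) I))
        {e : B | IsIdempotentElem e}) :
    I ≤ Ideal.jacobson ⊥ := by
  intro a ha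
  rw [Ideal.mem_jacobson_bot]
  intro r
  let J := Ideal.span {a * r + 1}
  have htop : I.map (algebraMap A (A ⧸ J)) = ⊤ := by
    rw [Ideal.eq_top_iff_one]
    have h1 : Ideal.Quotient.mk J (-(a * r)) = 1 := by
      rw [← map_one (Ideal.Quotient.mk J), Ideal.Quotient.eq,
        show -(a * r) - 1 = -(a * r + 1) by ring]
      exact J.neg_mem (Ideal.mem_span_singleton_self _)
    rw [← h1]
    exact Ideal.mem_map_of_mem _ (I.neg_mem (I.mul_mem_right _ ha))
  have h2 : (1 : A ⧸ J) = 0 := h (A ⧸ J) inferInstance IsIdempotentElem.one IsIdempotentElem.zero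
    ((Ideal.Quotient.mk_eq_mk_iff_sub_mem _ _).mpr (by rw [htop]; trivial))
  rw [← map_one (Ideal.Quotient.mk J), Ideal.Quotient.eq_zero_iff_mem,
    Ideal.mem_span_singleton] at h2
  exact isUnit_of_dvd_one h2

theorem henselianRing_of_idempotents (I : Ideal A)
    (h : ∀ (B : Type u) [CommRing B] [Algebra A B], Module.Finite A B →
      Set.BijOn (Ideal.Quotient.mk (Ideal.map (algebraMap A B) I))
        {e : B | IsIdempotentElem e} {e | IsIdempotentElem e}) :
    HenselianRing A I := by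
  have hI := le_jacobson_of_idempotents_injOn I fun B _ _ hB => (h B hB).injOn
  refine ⟨hI, fun f hf a₀ h0 h1 => exists_root_of_idempotent_lift hI f hf (fun b hb => ?_) a₀ h0 h1⟩
  obtain ⟨e, he, he'⟩ := (h (AdjoinRoot f) hf.finite_adjoinRoot).surjOn
    (show IsIdempotentElem (Ideal.Quotient.mk _ b) by
      show _ * _ = _
      rw [← map_mul]; exact (Ideal.Quotient.mk_eq_mk_iff_sub_mem _ _).mpr hb)
  exact ⟨e, he, (Ideal.Quotient.mk_eq_mk_iff_sub_mem _ _).mp he'⟩

theorem henselianRing_of_etale_lift (I : Ideal A)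
    (h : ∀ (A' : Type u) [CommRing A'] [Algebra A A'] [Algebra.Etale A A']
      (σ : A' →ₐ[A] A ⧸ I), ∃ τ : A' →ₐ[A] A, (Ideal.Quotient.mkₐ A I).comp τ = σ) :
    HenselianRing A I := by
  have hI : I ≤ Ideal.jacobson ⊥ := by
    intro a ha
    rw [Ideal.mem_jacobson_bot]
    intro r
    have : Algebra.Etale A (Localization.Away (a * r + 1)) :=
      Algebra.Etale.of_isLocalizationAway (a * r + 1)
    have hu : IsUnit (Algebra.ofId A (A ⧸ I) (a * r + 1)) := by
      show IsUnit (Ideal.Quotient.mk I (a * r + 1))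
      rw [map_add, Ideal.Quotient.eq_zero_iff_mem.mpr (I.mul_mem_right _ ha), zero_add, map_one]
      exact isUnit_one
    obtain ⟨τ, -⟩ := h (Localization.Away (a * r + 1))
      (IsLocalization.Away.liftAlgHom (a * r + 1) (f := Algebra.ofId A (A ⧸ I)) hu)
    have h2 := (IsLocalization.Away.algebraMap_isUnit (S := Localization.Away (a * r + 1))
      (a * r + 1)).map τ
    rwa [AlgHom.commutes, Algebra.algebraMap_self, RingHom.id_apply] at h2
  refine ⟨hI, fun f hf a₀ h0 h1 => ?_⟩
  let P : StandardEtalePair A :=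
    { f := f, monic_f := hf, g := derivative f, cond := ⟨1, 0, 1, by ring⟩ }
  have hP : P.HasMap (Ideal.Quotient.mk I a₀) := by
    refine ⟨?_, ?_⟩ <;>
      rw [← Ideal.Quotient.algebraMap_eq, aeval_algebraMap_apply_eq_algebraMap_eval]
    · exact Ideal.Quotient.eq_zero_iff_mem.mpr h0
    · exact h1
  obtain ⟨τ, hτ⟩ := h P.Ring (P.lift _ hP)
  refine ⟨τ P.X, ?_, ?_⟩
  · simpa [P] using (P.hasMap_X.map τ).1
  · refine (Ideal.Quotient.mk_eq_mk_iff_sub_mem _ _).mp ?_
    simpa using congr($hτ P.X)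

theorem henselianRing_of_factor (hI : I ≤ Ideal.jacobson ⊥)
    (h : ∀ f : A[X], f.Monic → ∀ g₀ h₀ : (A ⧸ I)[X], g₀.Monic → h₀.Monic →
      IsCoprime g₀ h₀ → f.map (Ideal.Quotient.mk I) = g₀ * h₀ →
      ∃ g h : A[X], g.Monic ∧ h.Monic ∧ f = g * h ∧
        g.map (Ideal.Quotient.mk I) = g₀ ∧ h.map (Ideal.Quotient.mk I) = h₀) :
    HenselianRing A I := by
  refine ⟨hI, fun f hf a₀ h0 h1 => ?_⟩
  rcases subsingleton_or_nontrivial (A ⧸ I) with hs | hs
  · have hI' : I = ⊤ := Ideal.Quotient.subsingleton_iff.mp hs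
    have h1 : (1 : A) ∈ Ideal.jacobson ⊥ := hI (hI' ▸ Submodule.mem_top)
    have h2 := (Ideal.mem_jacobson_bot.mp h1) (-1)
    simp only [one_mul, neg_add_cancel, isUnit_zero_iff] at h2
    have := subsingleton_of_zero_eq_one h2
    exact ⟨0, Subsingleton.elim _ _, hI'.symm ▸ Submodule.mem_top⟩
  have : Nontrivial A := (Ideal.Quotient.mk I).domain_nontrivial
  set a := Ideal.Quotient.mk I a₀ with ha
  set f₀ := f.map (Ideal.Quotient.mk I) with hf₀
  have hroot : f₀.IsRoot a := by
    rw [IsRoot, hf₀, eval_map, eval₂_at_apply]; exact Ideal.Quotient.eq_zero_iff_mem.mpr h0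
  obtain ⟨q, hq⟩ := dvd_iff_isRoot.mpr hroot
  have hqm : q.Monic := (monic_X_sub_C a).of_mul_monic_left (hq ▸ hf.map _)
  have hu : IsUnit (q.eval a) := by
    have : f₀.derivative.eval a = q.eval a := by rw [hq]; simp
    rw [← this, hf₀, derivative_map, eval_map, eval₂_at_apply]
    exact h1
  have hco : IsCoprime (X - C a) q := by
    obtain ⟨r, hr⟩ := X_sub_C_dvd_sub_C_eval (a := a) (p := q)
    obtain ⟨u, hu⟩ := hu
    have hC : C (q.eval a) * C (↑u⁻¹ : A ⧸ I) = 1 := by rw [← C_mul, ← hu, u.mul_inv, C_1]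
    exact ⟨-r * C (↑u⁻¹ : A ⧸ I), C (↑u⁻¹ : A ⧸ I),
      by linear_combination C (↑u⁻¹ : A ⧸ I) * hr + hC⟩
  obtain ⟨g, k, hg, -, hfgk, hgm, -⟩ := h f hf _ q (monic_X_sub_C a) hqm hco hq
  have hdeg : g.natDegree = 1 := by
    rw [← hg.natDegree_map (Ideal.Quotient.mk I), hgm, natDegree_X_sub_C]
  have hg1 : g = X + C (g.coeff 0) := hg.eq_X_add_C hdeg
  refine ⟨-g.coeff 0, ?_, ?_⟩
  · rw [IsRoot, hfgk, hg1]; simp
  · rw [hg1] at hgm
    have h2 := congrArg (fun p => p.coeff 0) hgm
    simp only [coeff_map, coeff_add, coeff_X_zero, coeff_C_zero, coeff_sub, zero_add, zero_sub,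
      ha] at h2
    rw [← Ideal.Quotient.mk_eq_mk_iff_sub_mem, map_neg, h2, neg_neg]

end Groth.Agent.HenselLib
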