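import Groth.Agent.HenselLib.Pair
import Groth.Agent.HenselLib.Idem

/-!
# Finite parts of quasi-finite algebras over henselian pairs
-/

set_option autoImplicit false

open Polynomial

namespace Groth.Agent.HenselLib

universe u v

variable {A : Type u} [CommRing A] {B : Type v} [CommRing B] [Algebra A B]

/-- An idempotent modulo `I`, in the Zariski main theorem locus, whose part modulo `I` is finite,
lifts to an idempotent with finite part. -/
theorem exists_finite_part (I : Ideal A) [hI : HenselianRing A I] [Algebra.FiniteType A B] (y : B)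
    (hyy : y * y - y ∈ I.map (algebraMap A B))
    (hy : y ∈ Ideal.span (zmtLocus A B : Set B) ⊔ I.map (algebraMap A B))
    (hfin : ∃ G : Finset B, ∀ x : B, ∃ c : B → A, y * x - ∑ g ∈ G, c g • g ∈ I.map (algebraMap A B)) :
    ∃ e : B, IsIdempotentElem e ∧ e - y ∈ I.map (algebraMap A B) ∧
      Module.Finite A (B ⧸ Ideal.span {1 - e}) := by
  classical
  set IB := I.map (algebraMap A B) with hIB
  let ρ := Ideal.Quotient.mk IB
  have hρ : ∀ {a b : B}, ρ a = ρ b ↔ a - b ∈ IB := fun {a b} => Ideal.Quotient.eq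
  obtain ⟨y₁, hy₁, z, hz, hy₁z⟩ := Submodule.mem_sup.mp hy
  obtain ⟨S, hSsub, hy₁S⟩ := Submodule.mem_span_finite_of_mem_span hy₁
  obtain ⟨G, hG⟩ := Algebra.FiniteType.out (R := A) (A := B)
  obtain ⟨G', hG'⟩ := hfin
  choose nx hnx using fun s : S => (hSsub s.2).2
  let GG := G ∪ G'
  let N := ∑ p : S × GG, nx p.1 p.2
  have hN : ∀ (s : S), ∀ g ∈ GG, nx s g ≤ N := fun s g hg =>
    Finset.single_le_sum (f := fun p : S × GG => nx p.1 p.2) (fun _ _ => Nat.zero_le _)
      (Finset.mem_univ (s, ⟨g, hg⟩))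
  have hint : ∀ s : S, ∀ g ∈ GG, IsIntegral A ((s : B) ^ N * g) := fun s g hg => by
    rw [← Nat.sub_add_cancel (hN s g hg), pow_add, mul_assoc]
    exact ((hSsub s.2).1.pow _).mul (hnx s g)
  let T : Set B := (S : Set B) ∪ Set.range fun p : S × GG => (p.1 : B) ^ N * p.2
  let B₀ := Algebra.adjoin A T
  have hfg : B₀.toSubmodule.FG := fg_adjoin_of_finite (S.finite_toSet.union (Set.finite_range _)) (by
    rintro _ (h | ⟨p, rfl⟩)
    exacts [(hSsub h).1, hint p.1 p.2 p.2.2])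
  have : Module.Finite A B₀ := ⟨(Submodule.fg_top _).mpr hfg⟩
  have hsB : ∀ s : S, (s : B) ∈ B₀ := fun s => Algebra.subset_adjoin (Or.inl s.2)
  have hsg : ∀ s : S, ∀ g ∈ GG, (s : B) ^ N * g ∈ B₀ := fun s g hg =>
    Algebra.subset_adjoin (Or.inr ⟨(s, ⟨g, hg⟩), rfl⟩)
  have hloc : ∀ (x : B) (s : S), ∃ n, (s : B) ^ n * x ∈ B₀ := by
    intro x s
    have hx : x ∈ Algebra.adjoin A (G : Set B) := by rw [hG]; trivial
    induction hx using Algebra.adjoin_induction with
    | mem x hx => exact ⟨N, hsg s x (Finset.mem_union_left _ hx)⟩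
    | algebraMap r => exact ⟨0, by simp⟩
    | add x y _ _ hx hy =>
        obtain ⟨n, hn⟩ := hx; obtain ⟨m, hm⟩ := hy
        refine ⟨n + m, ?_⟩
        rw [show (s : B) ^ (n + m) * (x + y) = (s : B) ^ m * ((s : B) ^ n * x) + (s : B) ^ n * ((s : B) ^ m * y) by ring]
        exact add_mem (mul_mem (pow_mem (hsB s) _) hn) (mul_mem (pow_mem (hsB s) _) hm)
    | mul x y _ _ hx hy =>
        obtain ⟨n, hn⟩ := hx; obtain ⟨m, hm⟩ := hy
        refine ⟨n + m, ?_⟩
        rw [show (s : B) ^ (n + m) * (x * y) = ((s : B) ^ n * x) * ((s : B) ^ m * y) by ring]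
        exact mul_mem hn hm
  set I₀ := I.map (algebraMap A B₀) with hI₀
  have hI₀IB : I₀.map B₀.val.toRingHom = IB := by
    rw [hI₀, Ideal.map_map]; exact congrArg (Ideal.map · I) B₀.val.comp_algebraMap
  have hI₀mem : ∀ w ∈ I₀, (w : B) ∈ IB := fun w hw => hI₀IB ▸ Ideal.mem_map_of_mem B₀.val.toRingHom hw
  have hIz : ∀ z ∈ IB, ∀ s : S, ∃ m, ∃ w ∈ I₀, (w : B) = (s : B) ^ m * z := by
    intro z hz s
    refine Submodule.span_induction ?_ ⟨0, 0, zero_mem _, by simp⟩ ?_ ?_ hz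
    · rintro _ ⟨a, ha, rfl⟩
      exact ⟨0, algebraMap A B₀ a, Ideal.mem_map_of_mem _ ha, by simp⟩
    · rintro x y _ _ ⟨n, v, hv, hvx⟩ ⟨m, w, hw, hwy⟩
      refine ⟨n + m, ⟨s, hsB s⟩ ^ m * v + ⟨s, hsB s⟩ ^ n * w,
        add_mem (I₀.mul_mem_left _ hv) (I₀.mul_mem_left _ hw), ?_⟩
      push_cast; rw [hvx, hwy]; ring
    · rintro c x _ ⟨n, v, hv, hvx⟩
      obtain ⟨k, hk⟩ := hloc c s
      refine ⟨k + n, ⟨_, hk⟩ * v, I₀.mul_mem_left _ hv, ?_⟩
      push_cast; rw [hvx, smul_eq_mul]; ring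
  let 𝔞 : Ideal B₀ := Ideal.span (Set.range fun s : S => (⟨s, hsB s⟩ : B₀))
  -- `y` comes from the finite subalgebra modulo `I`
  have happrox : ∀ x : B, ∀ s : S, ∃ u : B₀, ρ ((s : B) ^ N * (y * x)) = ρ u := by
    intro x s
    obtain ⟨c, hc⟩ := hG' x
    refine ⟨∑ g ∈ G'.attach, algebraMap A B₀ (c g.1) *
      ⟨_, hsg s g.1 (Finset.mem_union_right _ g.2)⟩, ?_⟩
    push_cast
    rw [Finset.sum_attach G' (fun g => algebraMap A B (c g) * ((s : B) ^ N * g)), map_mul,
      hρ.mpr hc, ← map_mul, Finset.mul_sum]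
    exact congrArg ρ (Finset.sum_congr rfl fun g _ => by rw [Algebra.smul_def]; ring)
  have hyidem : IsIdempotentElem (ρ y) := by
    show ρ y * ρ y = ρ y
    rw [← map_mul]; exact hρ.mpr hyy
  obtain ⟨a, ha𝔞, haρ⟩ : ∃ a ∈ 𝔞, ρ (a : B₀).1 = ρ y := by
    obtain ⟨K, hpow⟩ : y₁ ∈ (Ideal.span (Set.range fun s : S => (s : B) ^ (N + 1))).radical :=
      (Ideal.span_le (I := (Ideal.span (Set.range fun s : S => (s : B) ^ (N + 1))).radical)).mpr
        (fun t ht => ⟨N + 1, Ideal.subset_span ⟨⟨t, ht⟩, rfl⟩⟩) hy₁S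
    obtain ⟨c, hc⟩ := Ideal.mem_span_range_iff_exists_fun.mp hpow
    choose u hu using fun s : S => happrox (c s) s
    refine ⟨∑ s, u s * ⟨s, hsB s⟩, Ideal.sum_mem _ fun s _ =>
      Ideal.mul_mem_left _ _ (Ideal.subset_span ⟨s, rfl⟩), ?_⟩
    push_cast
    have hy₁ : ρ y₁ = ρ y := hρ.mpr (by rw [← hy₁z]; simpa using neg_mem hz)
    have h4 : ρ y = ρ y * ρ (y₁ ^ K) := by
      rw [map_pow, hy₁, ← pow_succ', hyidem.pow_succ_eq]
    rw [h4, ← hc, map_sum, map_sum, Finset.mul_sum]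
    refine Finset.sum_congr rfl fun s _ => ?_
    rw [map_mul, ← hu s, ← map_mul, ← map_mul]
    exact congrArg ρ (by ring)
  -- `a * a - a` dies on the open part
  have haIB : (a : B) * a - a ∈ IB := hρ.mp (by rw [map_mul, haρ]; exact hyidem.eq)
  let 𝔟 : Ideal B₀ :=
    { carrier := {w | w * (a * a - a) ∈ I₀}
      zero_mem' := by simp
      add_mem' := fun {p q} hp hq => by
        show (p + q) * _ ∈ I₀
        rw [add_mul]; exact add_mem hp hq
      smul_mem' := fun c p hp => by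
        show c * p * _ ∈ I₀
        rw [mul_assoc]; exact I₀.mul_mem_left _ hp }
  have h𝔟 : 𝔞 ≤ 𝔟.radical := Ideal.span_le.mpr (by
    rintro _ ⟨s, rfl⟩
    obtain ⟨m, w, hw, hwz⟩ := hIz _ haIB s
    refine ⟨m, ?_⟩
    show _ * _ ∈ I₀
    have : (⟨(s : B), hsB s⟩ : B₀) ^ m * (a * a - a) = w := Subtype.ext (by push_cast; rw [hwz])
    rw [this]; exact hw)
  obtain ⟨M, hM⟩ := h𝔟 ha𝔞
  let b : B₀ := a ^ (M + 1)
  have hbb : b * b - b ∈ I₀ := by
    have hM' : a ^ M * (a * a - a) ∈ I₀ := hM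
    obtain ⟨t, ht⟩ := sub_one_dvd_pow_sub_one a (M + 1)
    have : b * b - b = a ^ M * (a * a - a) * t := by
      have : b * b - b = b * (a ^ (M + 1) - 1) := by simp only [b]; ring
      rw [this, ht]; simp only [b, pow_succ]; ring
    rw [this]; exact I₀.mul_mem_right _ hM'
  obtain ⟨e, hee, heb⟩ := exists_idempotent I b hbb
  have heB : IsIdempotentElem (e : B) := hee.map B₀.val
  have hey : (e : B) - y ∈ IB := by
    refine hρ.mp ?_
    have h1 : ρ (e : B) = ρ (b : B) := hρ.mpr (by simpa using hI₀mem _ heb)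
    rw [h1]
    simp only [b, SubmonoidClass.coe_pow, map_pow, haρ]
    exact hyidem.pow_succ_eq M
  refine ⟨e, heB, hey, ?_⟩
  -- the part cut out by `e` comes from `B₀`
  have htop : 𝔞 ⊔ Ideal.span {1 - e} = ⊤ := by
    have hu : IsUnit (1 - (e - b)) := by
      refine isUnit_of_sub_one_mem (map_le_jacobson_of_isIntegral hI.jac B₀) ?_
      simpa using neg_mem heb
    refine Ideal.eq_top_of_isUnit_mem _ ?_ hu
    rw [show 1 - (e - b) = b + (1 - e) by ring]
    exact Submodule.add_mem_sup (Ideal.pow_mem_of_mem 𝔞 ha𝔞 _ (Nat.succ_pos M))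
      (Ideal.mem_span_singleton_self _)
  have hgen : ∀ x : B, ∃ w : B₀, (e : B) * x = e * w := by
    intro x
    let 𝔠 : Ideal B₀ :=
      { carrier := {w | ∃ w' : B₀, (e : B) * (w * x) = e * w'}
        zero_mem' := ⟨0, by simp⟩
        add_mem' := fun {p q} ⟨p', hp⟩ ⟨q', hq⟩ => ⟨p' + q', by
          push_cast
          linear_combination hp + hq⟩
        smul_mem' := fun c p ⟨p', hp⟩ => ⟨c * p', by
          simp only [smul_eq_mul]; push_cast
          linear_combination (c : B) * hp⟩ }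
    have h1 : 𝔞 ⊔ Ideal.span {1 - e} ≤ 𝔠.radical := by
      refine sup_le (Ideal.span_le.mpr ?_) (((Ideal.span_singleton_le_iff_mem _).mpr ?_).trans 𝔠.le_radical)
      · rintro _ ⟨s, rfl⟩
        obtain ⟨n, hn⟩ := hloc x s
        exact ⟨n, ⟨_, hn⟩, by push_cast; rfl⟩
      · refine ⟨0, ?_⟩
        push_cast
        linear_combination (-x) * heB.eq
    rw [htop, top_le_iff, Ideal.radical_eq_top] at h1
    obtain ⟨w, hw⟩ : (1 : B₀) ∈ 𝔠 := h1 ▸ trivial
    exact ⟨w, by simpa using hw⟩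
  let φ : B₀ →ₐ[A] B ⧸ Ideal.span {1 - (e : B)} := (Ideal.Quotient.mkₐ A _).comp B₀.val
  refine Module.Finite.of_surjective φ.toLinearMap fun q => ?_
  obtain ⟨x, rfl⟩ := Ideal.Quotient.mk_surjective q
  obtain ⟨w, hw⟩ := hgen x
  refine ⟨w, Ideal.Quotient.eq.mpr (Ideal.mem_span_singleton.mpr ⟨(w : B) - x, ?_⟩)⟩
  show (w : B) - x = _
  linear_combination -hw

/-- A quasi-finite algebra which is finite modulo `I` has a finite part containing the fibre. -/
theorem exists_finite_part_of_quasiFinite (I : Ideal A) [HenselianRing A I] [Algebra.FiniteType A B]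
    [Algebra.QuasiFinite A B] [hfin : Module.Finite A (B ⧸ I.map (algebraMap A B))] :
    ∃ e : B, IsIdempotentElem e ∧ e - 1 ∈ I.map (algebraMap A B) ∧
      Module.Finite A (B ⧸ Ideal.span {1 - e}) := by
  classical
  refine exists_finite_part I (1 : B) (by simp) ?_ ?_
  · rw [span_zmtLocus, top_sup_eq]; trivial
  · obtain ⟨n, g, hg⟩ := Module.Finite.exists_fin (R := A) (M := B ⧸ I.map (algebraMap A B))
    choose g' hg' using fun i => Ideal.Quotient.mk_surjective (g i)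
    refine ⟨Finset.univ.image g', fun x => ?_⟩
    have hx : Ideal.Quotient.mk (I.map (algebraMap A B)) x ∈
        Submodule.span A ((Ideal.Quotient.mkₐ A (I.map (algebraMap A B))).toLinearMap ''
          ((Finset.univ.image g' : Finset B) : Set B)) := by
      have : (Ideal.Quotient.mkₐ A (I.map (algebraMap A B))).toLinearMap ''
          ((Finset.univ.image g' : Finset B) : Set B) = Set.range g := by
        ext z
        simp [hg']
      rw [this, hg]; trivial
    rw [← Submodule.map_span, Submodule.mem_map] at hx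
    obtain ⟨w, hw, hwx⟩ := hx
    obtain ⟨c, hc⟩ := Submodule.mem_span_finset.mp hw
    exact ⟨c, by rw [one_mul, hc.2]; exact Ideal.Quotient.eq.mp hwx.symm⟩

end Groth.Agent.HenselLib
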