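import Groth.Agent.HenselLib.EtaleLift
import Groth.Agent.HenselLib.QFPart
import Mathlib.RingTheory.TensorProduct.Quotient
import Mathlib.RingTheory.QuasiFinite.Basic

/-!
# Finite etale algebras lift along henselian pairs
-/

set_option autoImplicit false

namespace Groth.Agent.HenselLib

open scoped TensorProduct

universe u

theorem exists_finiteEtale_lift (A : Type u) [CommRing A] (I : Ideal A) [HenselianRing A I]
    (C : Type u) [CommRing C] [Algebra (A ⧸ I) C] [Module.Finite (A ⧸ I) C]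
    [Algebra.Etale (A ⧸ I) C] :
    ∃ (B : Type u) (_ : CommRing B) (_ : Algebra A B), Module.Finite A B ∧ Algebra.Etale A B ∧
      Nonempty ((A ⧸ I) ⊗[A] B ≃ₐ[A ⧸ I] C) := by
  obtain ⟨B₀, _, _, _, θ, hθ, hker, hθc⟩ := exists_etale_lift A I C
  let : Algebra A C := ((algebraMap (A ⧸ I) C).comp (Ideal.Quotient.mk I)).toAlgebra
  have : IsScalarTower A (A ⧸ I) C := IsScalarTower.of_algebraMap_eq fun a => rfl
  have : Module.Finite A C := Module.Finite.trans (A ⧸ I) C
  let θA : B₀ →ₐ[A] C := { θ with commutes' := hθc }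
  let e₁ : (B₀ ⧸ I.map (algebraMap A B₀)) ≃ₐ[A] C :=
    (Ideal.quotientEquivAlgOfEq A hker.symm).trans (Ideal.quotientKerAlgEquivOfSurjective (f := θA) hθ)
  have : Module.Finite A (B₀ ⧸ I.map (algebraMap A B₀)) := Module.Finite.equiv e₁.symm.toLinearEquiv
  obtain ⟨e, he, he1, hfin⟩ := exists_finite_part_of_quasiFinite (A := A) (B := B₀) I
  set B := B₀ ⧸ Ideal.span {1 - e}
  have : IsLocalization.Away e B :=
    IsLocalization.away_of_isIdempotentElem he Ideal.mk_ker Ideal.Quotient.mk_surjective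
  have : Algebra.Etale B₀ B := Algebra.Etale.of_isLocalizationAway e
  have : Algebra.Etale A B := Algebra.Etale.comp A B₀ B
  refine ⟨B, inferInstance, inferInstance, hfin, inferInstance, ?_⟩
  have hθe : θ e = 1 := by
    rw [← hker, RingHom.mem_ker, map_sub, map_one, sub_eq_zero] at he1
    exact he1
  let θB : B →ₐ[A] C := Ideal.Quotient.liftₐ _ θA fun x hx => by
    obtain ⟨d, rfl⟩ := Ideal.mem_span_singleton.mp hx
    show θ _ = 0
    rw [map_mul, map_sub, map_one, hθe, sub_self, zero_mul]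
  let lam : (A ⧸ I) ⊗[A] B →ₐ[A ⧸ I] C :=
    Algebra.TensorProduct.lift (Algebra.ofId (A ⧸ I) C) θB fun _ _ => Commute.all _ _
  have hlam : ∀ b, lam ((1 : A ⧸ I) ⊗ₜ[A] b) = θB b := fun b => by simp [lam]
  have hsurj : ∀ z : (A ⧸ I) ⊗[A] B, ∃ b : B, (1 : A ⧸ I) ⊗ₜ[A] b = z := fun z => by
    induction z using TensorProduct.induction_on with
    | zero => exact ⟨0, TensorProduct.tmul_zero _ _⟩
    | tmul q b =>
        obtain ⟨a, rfl⟩ := Ideal.Quotient.mk_surjective q
        refine ⟨a • b, ?_⟩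
        rw [TensorProduct.tmul_smul, TensorProduct.smul_tmul', Algebra.smul_def, mul_one]
        rfl
    | add x y hx hy =>
        obtain ⟨a, rfl⟩ := hx; obtain ⟨b, rfl⟩ := hy
        exact ⟨a + b, TensorProduct.tmul_add _ _ _⟩
  refine ⟨AlgEquiv.ofBijective lam ⟨(injective_iff_map_eq_zero _).mpr fun z hz => ?_, fun c => ?_⟩⟩
  · obtain ⟨b, rfl⟩ := hsurj z
    rw [hlam] at hz
    obtain ⟨b, rfl⟩ := Ideal.Quotient.mk_surjective b
    have hb : b ∈ I.map (algebraMap A B₀) := by rw [← hker]; exact hz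
    let ι₀ : B₀ →ₐ[A] (A ⧸ I) ⊗[A] B :=
      Algebra.TensorProduct.includeRight.comp (Ideal.Quotient.mkₐ A (Ideal.span {1 - e}))
    have hle : I.map (algebraMap A B₀) ≤ RingHom.ker ι₀ := Ideal.map_le_iff_le_comap.mpr fun a ha => by
      show ι₀ (algebraMap A B₀ a) = 0
      rw [ι₀.commutes, IsScalarTower.algebraMap_apply A (A ⧸ I) ((A ⧸ I) ⊗[A] B),
        show algebraMap A (A ⧸ I) a = 0 from Ideal.Quotient.eq_zero_iff_mem.mpr ha, map_zero]
    exact hle hb
  · obtain ⟨b, rfl⟩ := hθ c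
    exact ⟨(1 : A ⧸ I) ⊗ₜ[A] Ideal.Quotient.mk _ b, hlam _⟩

end Groth.Agent.HenselLib
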