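import Groth.Agent.HenselLib.WEtField
import Groth.Agent.HenselLib.HullProps
import Mathlib.RingTheory.Unramified.Finite
import Mathlib.RingTheory.Ideal.Pure

/-!
# Hulls are weakly etale
-/

set_option autoImplicit false
set_option linter.all false

universe u

open TensorProduct Function

namespace Groth.Agent.HenselLib

variable {R : Type u} [CommRing R] {K : Type u} [CommRing K] [Algebra R K]

/-- The kernel of multiplication of an unramified algebra is generated by an idempotent. -/
theorem exists_eq_mul_of_lmul_eq_zero {S : Type u} [CommRing S] [Algebra R S]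
    [Algebra.FormallyUnramified R S] [Algebra.EssFiniteType R S] (v : S ⊗[R] S)
    (hv : Algebra.TensorProduct.lmul' R v = 0) :
    ∃ y : S ⊗[R] S, Algebra.TensorProduct.lmul' R y = 0 ∧ v = v * y := by
  have hte : ∀ u : S ⊗[R] S, u * Algebra.FormallyUnramified.elem R S =
      (Algebra.TensorProduct.lmul' R u ⊗ₜ[R] (1 : S)) * Algebra.FormallyUnramified.elem R S := by
    intro u
    induction u using TensorProduct.induction_on with
    | zero => simp
    | tmul a b =>
      rw [Algebra.TensorProduct.lmul'_apply_tmul,
        show a ⊗ₜ[R] b = (a ⊗ₜ[R] (1 : S)) * ((1 : S) ⊗ₜ[R] b) by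
          rw [Algebra.TensorProduct.tmul_mul_tmul, mul_one, one_mul],
        mul_assoc, Algebra.FormallyUnramified.one_tmul_mul_elem, ← mul_assoc,
        Algebra.TensorProduct.tmul_mul_tmul, mul_one]
    | add a b ha hb => rw [add_mul, ha, hb, map_add, add_tmul, add_mul]
  refine ⟨1 - Algebra.FormallyUnramified.elem R S, ?_, ?_⟩
  · rw [map_sub, Algebra.FormallyUnramified.lmul_elem, map_one, sub_self]
  · rw [mul_sub, mul_one, hte, hv, zero_tmul, zero_mul, sub_zero]

instance weaklyEtale_hull : Algebra.WeaklyEtale R (Hull R K) where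
  flat_lmul' := by
    let H := Hull R K
    let E := H ⊗[R] H
    let μ : E →ₐ[R] H := Algebra.TensorProduct.lmul' R
    have hstage : ∀ z : E, ∃ (P : Pt R K) (w : P.Ring ⊗[R] P.Ring),
        Algebra.TensorProduct.map (ι P) (ι P) w = z := by
      intro z
      induction z using TensorProduct.induction_on with
      | zero => exact ⟨(exists_base (R := R) (K := K)).choose, 0, map_zero _⟩
      | tmul a b =>
        obtain ⟨P, x, y, hx, hy⟩ := exists_rep₂ a b
        exact ⟨P, x ⊗ₜ y, by rw [Algebra.TensorProduct.map_tmul, hx, hy]⟩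
      | add a b ha hb =>
        obtain ⟨P, u, rfl⟩ := ha
        obtain ⟨Q, v, rfl⟩ := hb
        obtain ⟨S, p, q, -⟩ := CategoryTheory.IsFilteredOrEmpty.cocone_objs P Q
        refine ⟨S, Algebra.TensorProduct.map p.map p.map u + Algebra.TensorProduct.map q.map q.map v, ?_⟩
        rw [map_add, ← AlgHom.comp_apply, ← AlgHom.comp_apply, ← Algebra.TensorProduct.map_comp,
          ← Algebra.TensorProduct.map_comp]
        rw [show (ι S).comp p.map = ι P from AlgHom.ext (ι_map p),
          show (ι S).comp q.map = ι Q from AlgHom.ext (ι_map q)]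
    have key : ∀ z ∈ RingHom.ker μ.toRingHom, ∃ y ∈ RingHom.ker μ.toRingHom, z = z * y := by
      intro z hz
      obtain ⟨P, w, rfl⟩ := hstage z
      have hμ : ∀ (T : Pt R K) (v : T.Ring ⊗[R] T.Ring),
          μ (Algebra.TensorProduct.map (ι T) (ι T) v) = ι T (Algebra.TensorProduct.lmul' R v) := by
        intro T v
        induction v using TensorProduct.induction_on with
        | zero => simp
        | tmul a b =>
          rw [Algebra.TensorProduct.map_tmul]
          exact (Algebra.TensorProduct.lmul'_apply_tmul _ _).trans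
            ((map_mul (ι T) a b).symm.trans (congrArg _ (Algebra.TensorProduct.lmul'_apply_tmul _ _).symm))
        | add a b ha hb => simp only [map_add, ha, hb]
      have h0 : ι P (Algebra.TensorProduct.lmul' R w) = 0 := by rw [← hμ]; exact hz
      obtain ⟨Q, g, hg⟩ := (exists_eq_zero_iff _).mp h0
      haveI := Q.etale
      set v := Algebra.TensorProduct.map g.map g.map w
      have hv : Algebra.TensorProduct.lmul' R v = 0 := by
        rw [← hg]
        clear h0 hg hz
        simp only [v]
        induction w using TensorProduct.induction_on with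
        | zero => simp
        | tmul a b => simp
        | add a b ha hb => simp only [map_add, ha, hb]
      obtain ⟨y, hy, hvy⟩ := exists_eq_mul_of_lmul_eq_zero v hv
      have hcomp : Algebra.TensorProduct.map (ι Q) (ι Q) v = Algebra.TensorProduct.map (ι P) (ι P) w := by
        simp only [v]
        rw [← AlgHom.comp_apply, ← Algebra.TensorProduct.map_comp,
          show (ι Q).comp g.map = ι P from AlgHom.ext (ι_map g)]
      refine ⟨Algebra.TensorProduct.map (ι Q) (ι Q) y, ?_, ?_⟩
      · change μ _ = 0
        rw [hμ, hy, map_zero]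
      · rw [← hcomp, ← map_mul, ← hvy]
    haveI hpure : (RingHom.ker μ.toRingHom).Pure := by
      refine Ideal.Pure.of_inf_eq_mul _ fun J _ => le_antisymm (fun z hz => ?_) Ideal.mul_le_inf
      obtain ⟨y, hy, e⟩ := key z hz.1
      have hmem := Ideal.mul_mem_mul hy hz.2
      rw [mul_comm y z, ← e] at hmem
      exact hmem
    letI : Algebra E H := μ.toRingHom.toAlgebra
    have hs : Surjective (Algebra.ofId E H) := fun b => ⟨b ⊗ₜ 1, by
      change Algebra.TensorProduct.lmul' R (b ⊗ₜ[R] (1 : H)) = b
      simp⟩
    change Module.Flat E H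
    haveI : Module.Flat E (E ⧸ RingHom.ker (Algebra.ofId E H)) := hpure
    exact Module.Flat.of_linearEquiv (Ideal.quotientKerAlgEquivOfSurjective hs).symm.toLinearEquiv

theorem weaklyEtale_of_equiv {S T : Type u} [CommRing S] [CommRing T] [Algebra R S] [Algebra R T]
    (e : S ≃ₐ[R] T) [Algebra.WeaklyEtale R S] : Algebra.WeaklyEtale R T := by
  letI : Algebra S T := e.toAlgHom.toRingHom.toAlgebra
  haveI : IsScalarTower R S T := .of_algebraMap_eq fun r => (e.commutes r).symm
  haveI : Algebra.Etale S T :=
    Algebra.Etale.of_equiv ({ e.toRingEquiv with commutes' := fun s => rfl } : S ≃ₐ[S] T)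
  exact Algebra.WeaklyEtale.trans R S T

end Groth.Agent.HenselLib
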