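import Mathlib.RingTheory.Etale.Weakly
import Mathlib.RingTheory.Etale.Field
import Mathlib.RingTheory.Ideal.Pure
import Mathlib.RingTheory.Ideal.Cotangent
import Mathlib.RingTheory.Flat.Localization
import Mathlib.RingTheory.Flat.FaithfullyFlat.Algebra
import Mathlib.RingTheory.LocalProperties.Basic
import Mathlib.RingTheory.KrullDimension.Zero
import Mathlib.RingTheory.LocalProperties.Reduced

/-!
# Weakly etale algebras, absolutely flat rings
-/

set_option autoImplicit false
set_option linter.all false

universe u

open TensorProduct Function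

namespace Groth.Agent.HenselLib.WEt

/-- Von Neumann regular ring. -/
def VNR (A : Type*) [CommRing A] : Prop := ∀ x : A, ∃ a : A, x = x * x * a

section VNR

variable {A : Type u} [CommRing A]

theorem VNR.isReduced (h : VNR A) : IsReduced A := by
  refine isReduced_iff_pow_one_lt 2 one_lt_two |>.mpr fun x hx => ?_
  obtain ⟨a, ha⟩ := h x
  rw [ha, ← pow_two, hx, zero_mul]

theorem VNR.isMaximal (h : VNR A) (p : Ideal A) [hp : p.IsPrime] : p.IsMaximal := by
  rw [Ideal.isMaximal_iff]
  refine ⟨(Ideal.ne_top_iff_one p).mp hp.ne_top, fun J x hpJ hxp hxJ => ?_⟩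
  obtain ⟨a, ha⟩ := h x
  have : x * (1 - x * a) ∈ p := by
    rw [show x * (1 - x * a) = x - x * x * a by ring, ← ha, sub_self]; exact zero_mem _
  have := add_mem (hpJ ((hp.mem_or_mem this).resolve_left hxp)) (J.mul_mem_right a hxJ)
  simpa using this

theorem isField_localization_of (hr : IsReduced A) (hmax : ∀ p : Ideal A, p.IsPrime → p.IsMaximal)
    (p : Ideal A) [p.IsPrime] : IsField (Localization.AtPrime p) := by
  haveI : IsReduced (Localization.AtPrime p) :=
    isReduced_localizationPreserves p.primeCompl _ hr
  rw [IsLocalRing.isField_iff_maximalIdeal_eq, ← le_bot_iff]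
  intro x hx
  rw [Submodule.mem_bot]
  refine IsReduced.eq_zero x ?_
  rw [← mem_nilradical, nilradical_eq_sInf, Ideal.mem_sInf]
  intro Q (hQ : Q.IsPrime)
  haveI : Q.IsPrime := hQ
  have hle : Q.comap (algebraMap A (Localization.AtPrime p)) ≤ p :=
    fun a ha => by
      by_contra hap
      exact hQ.ne_top (Ideal.eq_top_of_isUnit_mem _ ha
        (IsLocalization.map_units (Localization.AtPrime p) (⟨a, hap⟩ : p.primeCompl)))
  have heq := ((hmax _ inferInstance).eq_of_le (Ideal.IsPrime.ne_top inferInstance) hle :
    Q.comap (algebraMap A (Localization.AtPrime p)) = p)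
  have : Q = IsLocalRing.maximalIdeal (Localization.AtPrime p) := by
    rw [← IsLocalization.map_comap p.primeCompl (Localization.AtPrime p) Q, show Ideal.under A Q = p from heq,
      Localization.AtPrime.map_eq_maximalIdeal]
  exact this ▸ hx

theorem flat_of_isField_localization
    (h : ∀ (p : Ideal A) [p.IsPrime], IsField (Localization.AtPrime p))
    (M : Type u) [AddCommGroup M] [Module A M] : Module.Flat A M := by
  refine Module.flat_of_localized_maximal M fun p hp => ?_
  letI : Field (Localization.AtPrime p) := (h p).toField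
  haveI : Module.Flat (Localization.AtPrime p) (LocalizedModule.AtPrime p M) := inferInstance
  exact Module.Flat.trans A (Localization.AtPrime p) _

theorem VNR.flat (h : VNR A) (M : Type u) [AddCommGroup M] [Module A M] : Module.Flat A M :=
  flat_of_isField_localization (fun p _ => isField_localization_of h.isReduced (fun q hq =>
    haveI := hq; h.isMaximal q) p) M

theorem vnr_of_flat (h : ∀ (M : Type u) [AddCommGroup M] [Module A M], Module.Flat A M) : VNR A := by
  intro x
  haveI : (Ideal.span {x}).Pure := h (A ⧸ Ideal.span {x})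
  obtain ⟨y, hy, hxy⟩ := Ideal.exists_eq_mul_of_pure (Ideal.mem_span_singleton_self x)
  obtain ⟨c, rfl⟩ := Ideal.mem_span_singleton'.mp hy
  exact ⟨c, by linear_combination hxy⟩

theorem vnr_pi_field (ι : Type u) (K : ι → Type u) [∀ i, Field (K i)] : VNR (∀ i, K i) := by
  intro x
  refine ⟨fun i => (x i)⁻¹, funext fun i => ?_⟩
  rcases eq_or_ne (x i) 0 with h | h
  · simp [h]
  · simp [h]

theorem vnr_field (K : Type u) [Field K] : VNR K := by
  intro x
  refine ⟨x⁻¹, ?_⟩
  rcases eq_or_ne x 0 with h | h <;> simp [h]

end VNR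

section Flat

variable {A B : Type u} [CommRing A] [CommRing B] [Algebra A B]

theorem flat_of_flat_lmul (h : (Algebra.TensorProduct.lmul' A (S := B)).Flat) (N : Type u)
    [AddCommGroup N] [Module B N] [Module A N] [IsScalarTower A B N] [Module.Flat A N] :
    Module.Flat B N := by
  rw [Module.Flat.iff_lTensor_preserves_injective_linearMap]
  intro X Y _ _ _ _ f hf
  letI : Module A X := Module.compHom X (algebraMap A B)
  haveI : IsScalarTower A B X := IsScalarTower.of_algebraMap_smul fun r x => rfl
  letI : Module A Y := Module.compHom Y (algebraMap A B)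
  haveI : IsScalarTower A B Y := IsScalarTower.of_algebraMap_smul fun r x => rfl
  let E := B ⊗[A] B
  letI : Algebra E B := (Algebra.TensorProduct.lmul' A (S := B)).toRingHom.toAlgebra
  haveI : Module.Flat E B := h
  -- the `E`-module structures
  let act : ∀ (Z : Type u) [AddCommGroup Z] [Module B Z] [Module A Z] [IsScalarTower A B Z],
      E →ₐ[A] Module.End A (N ⊗[A] Z) := fun Z _ _ _ _ =>
    Algebra.TensorProduct.lift
      { toFun := fun b => LinearMap.rTensor Z (Algebra.lsmul A A N b)
        map_one' := by rw [map_one]; exact LinearMap.rTensor_id _ _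
        map_mul' := fun a b => by rw [map_mul]; exact LinearMap.rTensor_comp _ _ _
        map_zero' := by rw [map_zero, LinearMap.rTensor_zero]
        map_add' := fun a b => by rw [map_add, LinearMap.rTensor_add]
        commutes' := fun r => TensorProduct.ext' fun n z => by
          simp only [LinearMap.rTensor_tmul, Algebra.lsmul_coe, Module.algebraMap_end_apply,
            algebraMap_smul, smul_tmul'] }
      { toFun := fun b => LinearMap.lTensor N (Algebra.lsmul A A Z b)
        map_one' := by rw [map_one]; exact LinearMap.lTensor_id _ _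
        map_mul' := fun a b => by rw [map_mul]; exact LinearMap.lTensor_comp _ _ _
        map_zero' := by rw [map_zero, LinearMap.lTensor_zero]
        map_add' := fun a b => by rw [map_add, LinearMap.lTensor_add]
        commutes' := fun r => TensorProduct.ext' fun n z => by
          simp only [LinearMap.lTensor_tmul, Algebra.lsmul_coe, Module.algebraMap_end_apply,
            algebraMap_smul, tmul_smul] }
      fun a b => TensorProduct.ext' fun n z => by simp
  letI mX : Module E (N ⊗[A] X) := Module.compHom _ (act X).toRingHom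
  letI mY : Module E (N ⊗[A] Y) := Module.compHom _ (act Y).toRingHom
  have smul_X : ∀ (a b : B) (n : N) (x : X), (a ⊗ₜ[A] b : E) • (n ⊗ₜ[A] x) = (a • n) ⊗ₜ (b • x) :=
    fun a b n x => by
      change act X (a ⊗ₜ[A] b) (n ⊗ₜ[A] x) = _
      simp only [act, Algebra.TensorProduct.lift_tmul]
      rfl
  have smul_Y : ∀ (a b : B) (n : N) (x : Y), (a ⊗ₜ[A] b : E) • (n ⊗ₜ[A] x) = (a • n) ⊗ₜ (b • x) :=
    fun a b n x => by
      change act Y (a ⊗ₜ[A] b) (n ⊗ₜ[A] x) = _
      simp only [act, Algebra.TensorProduct.lift_tmul]
      rfl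
  let g : N ⊗[A] X →ₗ[E] N ⊗[A] Y :=
    { toFun := (f.restrictScalars A).lTensor N
      map_add' := map_add _
      map_smul' := fun e z => by
        induction e using TensorProduct.induction_on with
        | zero => simp
        | add u v hu hv => simp only [add_smul, map_add, RingHom.id_apply] at *; rw [hu, hv]
        | tmul a b =>
          induction z with
          | zero => simp
          | add u v hu hv => simp only [smul_add, map_add, RingHom.id_apply] at *; rw [hu, hv]
          | tmul n x => simp [smul_X, smul_Y] }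
  have hg : Injective g := Module.Flat.lTensor_preserves_injective_linearMap (f.restrictScalars A) hf
  have hEg : Injective (g.lTensor B) := Module.Flat.lTensor_preserves_injective_linearMap g hg
  -- `B ⊗[E] (N ⊗[A] Z) → N ⊗[B] Z` has a left inverse
  have e1 : ∀ b : B, algebraMap E B (b ⊗ₜ[A] 1) = b := fun b => by
    change Algebra.TensorProduct.lmul' A (b ⊗ₜ[A] (1 : B)) = b
    simp
  have e2 : ∀ b : B, algebraMap E B ((1 : B) ⊗ₜ[A] b) = b := fun b => by
    change Algebra.TensorProduct.lmul' A ((1 : B) ⊗ₜ[A] b) = b
    simp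
  let mkX : N →ₗ[B] X →ₗ[B] B ⊗[E] (N ⊗[A] X) := LinearMap.mk₂ B (fun n x => (1 : B) ⊗ₜ[E] (n ⊗ₜ[A] x))
    (fun a b x => by rw [add_tmul, tmul_add])
    (fun b n x => by
      rw [smul_tmul', smul_eq_mul, mul_one, show (b • n) ⊗ₜ[A] x = (b ⊗ₜ[A] 1 : E) • (n ⊗ₜ[A] x) by
        rw [smul_X, one_smul], ← smul_tmul, Algebra.smul_def, mul_one, e1])
    (fun n x y => by rw [tmul_add, tmul_add])
    (fun b n x => by
      rw [smul_tmul', smul_eq_mul, mul_one, show n ⊗ₜ[A] (b • x) = ((1 : B) ⊗ₜ[A] b : E) • (n ⊗ₜ[A] x) by
        rw [smul_X, one_smul], ← smul_tmul, Algebra.smul_def, mul_one, e2])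
  let mkY : N →ₗ[B] Y →ₗ[B] B ⊗[E] (N ⊗[A] Y) := LinearMap.mk₂ B (fun n x => (1 : B) ⊗ₜ[E] (n ⊗ₜ[A] x))
    (fun a b x => by rw [add_tmul, tmul_add])
    (fun b n x => by
      rw [smul_tmul', smul_eq_mul, mul_one, show (b • n) ⊗ₜ[A] x = (b ⊗ₜ[A] 1 : E) • (n ⊗ₜ[A] x) by
        rw [smul_Y, one_smul], ← smul_tmul, Algebra.smul_def, mul_one, e1])
    (fun n x y => by rw [tmul_add, tmul_add])
    (fun b n x => by
      rw [smul_tmul', smul_eq_mul, mul_one, show n ⊗ₜ[A] (b • x) = ((1 : B) ⊗ₜ[A] b : E) • (n ⊗ₜ[A] x) by
        rw [smul_Y, one_smul], ← smul_tmul, Algebra.smul_def, mul_one, e2])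
  let ψX := TensorProduct.lift mkX
  let ψY := TensorProduct.lift mkY
  let φA : N ⊗[A] X →ₗ[A] N ⊗[B] X :=
    TensorProduct.lift (LinearMap.mk₂ A (fun n x => n ⊗ₜ[B] x) (fun a b x => add_tmul _ _ _)
      (fun r n x => smul_tmul' _ _ _) (fun n x y => tmul_add _ _ _) (fun r n x => tmul_smul _ _ _))
  have hψinj : Injective ψX := by
    let φE : B ⊗[E] (N ⊗[A] X) →+ N ⊗[B] X :=
      TensorProduct.liftAddHom
        (AddMonoidHom.mk' (fun b => (LinearMap.lsmul B (N ⊗[B] X) b).toAddMonoidHom.comp φA.toAddMonoidHom)
          (fun a b => AddMonoidHom.ext fun z => by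
            change (a + b) • φA z = a • φA z + b • φA z
            exact add_smul _ _ _))
        (fun e b z => by
          change (e • b) • φA z = b • φA (e • z)
          rw [Algebra.smul_def, mul_comm, mul_smul]
          congr 1
          induction e using TensorProduct.induction_on with
          | zero => simp
          | add u v hu hv => rw [map_add, add_smul, add_smul, map_add, hu, hv]
          | tmul a c =>
            induction z with
            | zero => simp
            | add u v hu hv => rw [map_add, smul_add, smul_add, map_add, hu, hv]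
            | tmul n x =>
              rw [smul_X]
              change Algebra.TensorProduct.lmul' A (a ⊗ₜ[A] c) • (n ⊗ₜ[B] x) = (a • n) ⊗ₜ[B] (c • x)
              rw [Algebra.TensorProduct.lmul'_apply_tmul, mul_smul, tmul_smul, ← smul_tmul', smul_comm])
    have : ∀ z, φE (ψX z) = z := by
      intro z
      induction z with
      | zero => simp
      | add u v hu hv => rw [map_add, map_add, hu, hv]
      | tmul n x =>
        change (1 : B) • φA (n ⊗ₜ[A] x) = _
        rw [one_smul]
        rfl
    exact LeftInverse.injective this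
  intro a b hab
  refine hψinj (hEg ?_)
  have hnat : ∀ z, g.lTensor B (ψX z) = ψY (f.lTensor N z) := by
    intro z
    induction z with
    | zero => simp
    | add u v hu hv => simp only [map_add, hu, hv]
    | tmul n x => rfl
  rw [hnat, hnat, hab]

/-- Flatness passes to quotients of the base. -/
theorem flat_of_surjective (hs : Surjective (algebraMap A B)) (N : Type u) [AddCommGroup N]
    [Module B N] [Module A N] [IsScalarTower A B N] [Module.Flat A N] : Module.Flat B N := by
  refine flat_of_flat_lmul (A := A) ?_ N
  refine RingHom.Flat.of_bijective ⟨?_, fun b => ⟨b ⊗ₜ 1, by simp⟩⟩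
  have h1 : ∀ z : B ⊗[A] B, ∃ b : B, b ⊗ₜ[A] (1 : B) = z := by
    intro z
    induction z with
    | zero => exact ⟨0, zero_tmul _ _⟩
    | add u v hu hv =>
      obtain ⟨a, rfl⟩ := hu
      obtain ⟨c, rfl⟩ := hv
      exact ⟨a + c, add_tmul _ _ _⟩
    | tmul a c =>
      obtain ⟨r, rfl⟩ := hs c
      exact ⟨r • a, by rw [smul_tmul, Algebra.smul_def, mul_one]⟩
  intro x y hxy
  obtain ⟨a, rfl⟩ := h1 x
  obtain ⟨c, rfl⟩ := h1 y
  have : a = c := by simpa using hxy
  rw [this]

theorem ringHom_flat_of_surjective {E E' G : Type u} [CommRing E] [CommRing E'] [CommRing G]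
    (q : E →+* E') (g : E' →+* G) (hq : Surjective q) (h : (g.comp q).Flat) : g.Flat := by
  algebraize [q, g, g.comp q]
  exact flat_of_surjective hq G

/-- Flatness descends along a faithfully flat map of the source. -/
theorem flat_of_faithfullyFlat {C : Type u} [CommRing C] [Algebra A C] [Algebra B C]
    [IsScalarTower A B C] [Module.FaithfullyFlat B C] [Module.Flat A C] : Module.Flat A B := by
  rw [Module.Flat.iff_lTensor_preserves_injective_linearMap]
  intro X Y _ _ _ _ f hf
  have h : Injective (f.lTensor C) := Module.Flat.lTensor_preserves_injective_linearMap f hf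
  have h' : Injective ((f.baseChange B).lTensor C) := by
    intro a b hab
    apply (AlgebraTensorModule.cancelBaseChange A B B C X).injective
    apply h
    have hc : ∀ z, f.lTensor C (AlgebraTensorModule.cancelBaseChange A B B C X z) =
        AlgebraTensorModule.cancelBaseChange A B B C Y ((f.baseChange B).lTensor C z) := by
      intro z
      induction z with
      | zero => simp
      | add u v hu hv => simp only [map_add, hu, hv]
      | tmul c w =>
        induction w with
        | zero => simp
        | add u v hu hv => simp only [tmul_add, map_add, hu, hv]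
        | tmul b x => simp
    rw [hc, hc, hab]
  exact (Module.FaithfullyFlat.lTensor_injective_iff_injective B C (f.baseChange B)).mp h'

end Flat

section WEtale

variable {A B C : Type u} [CommRing A] [CommRing B] [CommRing C] [Algebra A B] [Algebra A C]
  [Algebra B C] [IsScalarTower A B C]

theorem weaklyEtale_of_algHom [Algebra.WeaklyEtale A B] [Algebra.WeaklyEtale A C] :
    Algebra.WeaklyEtale B C where
  flat := flat_of_flat_lmul (Algebra.WeaklyEtale.flat_lmul' A B) C
  flat_lmul' := by
    let q : C ⊗[A] C →ₐ[A] C ⊗[B] C :=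
      Algebra.TensorProduct.lift ((Algebra.TensorProduct.includeLeft : C →ₐ[B] C ⊗[B] C).restrictScalars A)
        ((Algebra.TensorProduct.includeRight : C →ₐ[B] C ⊗[B] C).restrictScalars A) fun _ _ => Commute.all _ _
    refine ringHom_flat_of_surjective q.toRingHom _ (fun z => ?_) ?_
    · induction z with
      | zero => exact ⟨0, map_zero _⟩
      | add u v hu hv =>
        obtain ⟨a, rfl⟩ := hu
        obtain ⟨c, rfl⟩ := hv
        exact ⟨a + c, map_add _ _ _⟩
      | tmul a c => exact ⟨a ⊗ₜ c, by simp [q]⟩
    · have : (Algebra.TensorProduct.lmul' B (S := C)).toRingHom.comp q.toRingHom =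
          (Algebra.TensorProduct.lmul' A (S := C)).toRingHom := RingHom.ext fun z => by
        induction z with
        | zero => simp
        | add u v hu hv => simp only [map_add, hu, hv]
        | tmul a c => simp [q]
      rw [this]
      exact Algebra.WeaklyEtale.flat_lmul' A C

theorem weaklyEtale_of_faithfullyFlat [Module.FaithfullyFlat B C] [Algebra.WeaklyEtale A C] :
    Algebra.WeaklyEtale A B where
  flat := flat_of_faithfullyFlat (C := C)
  flat_lmul' := by
    letI a₁ : Algebra (B ⊗[A] B) B := (Algebra.TensorProduct.lmul' A (S := B)).toRingHom.toAlgebra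
    let j : B →ₐ[A] C := IsScalarTower.toAlgHom A B C
    let jj : B ⊗[A] B →ₐ[A] C ⊗[A] C := Algebra.TensorProduct.map j j
    letI a₂ : Algebra (B ⊗[A] B) C :=
      ((Algebra.TensorProduct.lmul' A (S := C)).comp jj).toRingHom.toAlgebra
    haveI : IsScalarTower (B ⊗[A] B) B C := .of_algebraMap_eq fun z => by
      change Algebra.TensorProduct.lmul' A (jj z) = algebraMap B C (Algebra.TensorProduct.lmul' A z)
      induction z with
      | zero => simp
      | add u v hu hv => simp only [map_add, hu, hv]
      | tmul a c => simp [jj, j]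
    haveI : Module.Flat (B ⊗[A] B) C := by
      have h1 : j.Flat := by
        change (algebraMap B C).Flat
        rw [RingHom.flat_algebraMap_iff]; infer_instance
      exact RingHom.Flat.comp (RingHom.Flat.tensorProductMap h1 h1)
        (Algebra.WeaklyEtale.flat_lmul' A C)
    exact flat_of_faithfullyFlat (A := B ⊗[A] B) (B := B) (C := C)

theorem formallyUnramified [Algebra.WeaklyEtale A B] : Algebra.FormallyUnramified A B := by
  constructor
  rw [KaehlerDifferential, Ideal.cotangent_subsingleton_iff]
  letI : Algebra (B ⊗[A] B) B := (Algebra.TensorProduct.lmul' A (S := B)).toRingHom.toAlgebra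
  haveI : Module.Flat (B ⊗[A] B) B := Algebra.WeaklyEtale.flat_lmul' A B
  haveI : (KaehlerDifferential.ideal A B).Pure := by
    have hs : Surjective (Algebra.ofId (B ⊗[A] B) B) := fun b => ⟨b ⊗ₜ 1, by
      change Algebra.TensorProduct.lmul' A (b ⊗ₜ[A] (1 : B)) = b
      simp⟩
    exact Module.Flat.of_linearEquiv (Ideal.quotientKerAlgEquivOfSurjective hs).toLinearEquiv
  exact Ideal.isIdempotentElem_of_pure _

theorem vnr_of_weaklyEtale [Algebra.WeaklyEtale A B] (hA : VNR A) : VNR B := by
  refine vnr_of_flat fun N _ _ => ?_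
  letI : Module A N := Module.compHom N (algebraMap A B)
  haveI : IsScalarTower A B N := IsScalarTower.of_algebraMap_smul fun r x => rfl
  haveI := hA.flat N
  exact flat_of_flat_lmul (Algebra.WeaklyEtale.flat_lmul' A B) N

theorem weaklyEtale_quotient [Algebra.WeaklyEtale A B] (hB : VNR B) (I : Ideal B) :
    Algebra.WeaklyEtale A (B ⧸ I) := by
  haveI := hB.flat (B ⧸ I)
  haveI : Algebra.WeaklyEtale B (B ⧸ I) :=
    { flat_lmul' := by
        refine RingHom.Flat.of_bijective ⟨?_, fun b => ⟨b ⊗ₜ 1, by simp⟩⟩
        have h1 : ∀ z : (B ⧸ I) ⊗[B] (B ⧸ I), ∃ b, b ⊗ₜ[B] (1 : B ⧸ I) = z := by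
          intro z
          induction z with
          | zero => exact ⟨0, zero_tmul _ _⟩
          | add u v hu hv =>
            obtain ⟨a, rfl⟩ := hu
            obtain ⟨c, rfl⟩ := hv
            exact ⟨a + c, add_tmul _ _ _⟩
          | tmul a c =>
            obtain ⟨r, rfl⟩ := Ideal.Quotient.mk_surjective c
            refine ⟨r • a, ?_⟩
            rw [smul_tmul, Algebra.smul_def, mul_one]
            rfl
        intro x y hxy
        obtain ⟨a, rfl⟩ := h1 x
        obtain ⟨c, rfl⟩ := h1 y
        have : a = c := by simpa using hxy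
        rw [this] }
  exact Algebra.WeaklyEtale.trans A B _

theorem isReduced_of_weaklyEtale [Algebra.WeaklyEtale A B] [IsReduced A] : IsReduced B := by
  let R := ∀ p : PrimeSpectrum A, FractionRing (A ⧸ p.asIdeal)
  have hinj : Injective (algebraMap A R) := by
    rw [injective_iff_map_eq_zero]
    intro a ha
    refine IsReduced.eq_zero a ?_
    rw [← mem_nilradical, nilradical_eq_sInf, Submodule.mem_sInf]
    intro p hp
    have h := congrFun ha ⟨p, hp⟩
    rw [Pi.algebraMap_apply, Pi.zero_apply,
      IsScalarTower.algebraMap_apply A (A ⧸ p) (FractionRing (A ⧸ p)),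
      FaithfulSMul.algebraMap_eq_zero_iff] at h
    exact Ideal.Quotient.eq_zero_iff_mem.mp h
  have hR : VNR R := vnr_pi_field (PrimeSpectrum A) fun p => FractionRing (A ⧸ p.asIdeal)
  haveI := (vnr_of_weaklyEtale (A := R) (B := R ⊗[A] B) hR).isReduced
  exact isReduced_of_injective (Algebra.TensorProduct.includeRight : B →ₐ[A] R ⊗[A] B)
    (Algebra.TensorProduct.includeRight_injective hinj)

end WEtale

end Groth.Agent.HenselLib.WEt
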