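import Groth.Agent.HenselLib.PairHens
import Groth.Agent.HenselLib.Perm

/-!
# A henselization of a pair modulo powers of the ideal
-/

set_option autoImplicit false

namespace Groth.Agent.HenselLib

universe u

variable {R : Type u} [CommRing R] {I : Ideal R} {B : Type u} [CommRing B] [Algebra R B]

theorem IsPairHull.bijective_quotientMap (hB : IsPairHull R I B) (n : ℕ) :
    Function.Bijective
      (Ideal.quotientMap ((I ^ n).map (algebraMap R B)) (algebraMap R B) Ideal.le_comap_map) := by
  rcases n with _ | n
  · have h1 : (I ^ 0).map (algebraMap R B) = ⊤ := by simp [Ideal.map_top]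
    have : Subsingleton (R ⧸ I ^ 0) := Ideal.Quotient.subsingleton_iff.mpr (by simp)
    have : Subsingleton (B ⧸ (I ^ 0).map (algebraMap R B)) := Ideal.Quotient.subsingleton_iff.mpr h1
    exact ⟨Function.injective_of_subsingleton _, fun x => ⟨0, Subsingleton.elim _ _⟩⟩
  have hnil : ∀ (C : Type u) [CommRing C] (f : R →+* C), (I ^ (n + 1)).map f = ⊥ →
      HenselianRing C (I.map f) := fun C _ f h => henselianRing_of_nilpotent _ fun x hx =>
    ⟨n + 1, by
      rw [← Ideal.mem_bot, ← h, Ideal.map_pow]
      exact Ideal.pow_mem_pow hx _⟩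
  set J := I ^ (n + 1) with hJ
  set θ := Ideal.quotientMap (J.map (algebraMap R B)) (algebraMap R B) Ideal.le_comap_map with hθ
  obtain ⟨g, hg, -⟩ := hB.2 (R ⧸ J) _ (Ideal.Quotient.mk J)
    (hnil _ _ (Ideal.map_quotient_self J)) le_rfl
  have hker : ∀ a ∈ J.map (algebraMap R B), g a = 0 := fun a ha => by
    have : (J.map (algebraMap R B)).map g = ⊥ := by
      rw [Ideal.map_map, hg, Ideal.map_quotient_self]
    exact Ideal.mem_bot.mp (this ▸ Ideal.mem_map_of_mem g ha)
  let g' : B ⧸ J.map (algebraMap R B) →+* R ⧸ J := Ideal.Quotient.lift _ g hker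
  have hleft : g'.comp θ = RingHom.id _ := Ideal.Quotient.ringHom_ext (RingHom.ext fun r => by
    show g (algebraMap R B r) = _
    exact congr($hg r))
  have hright : θ.comp g' = RingHom.id _ := by
    refine Ideal.Quotient.ringHom_ext ?_
    obtain ⟨g₁, -, huniq⟩ := hB.2 (B ⧸ J.map (algebraMap R B)) _
      ((Ideal.Quotient.mk _).comp (algebraMap R B))
      (hnil _ _ (by rw [← Ideal.map_map, Ideal.map_quotient_self])) le_rfl
    refine (huniq (θ.comp g) (RingHom.ext fun r => ?_)).trans (huniq (Ideal.Quotient.mk _) rfl).symm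
    show θ (g (algebraMap R B r)) = _
    rw [show g (algebraMap R B r) = Ideal.Quotient.mk J r from congr($hg r)]
    rfl
  exact ⟨Function.LeftInverse.injective fun x => congr($hleft x),
    Function.RightInverse.surjective fun x => congr($hright x)⟩

end Groth.Agent.HenselLib
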