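import Groth.Agent.CAlgH.FieldSmooth
import Groth.Agent.CommAlg6.GenericRegular

/-!
# Geometrically reduced field extensions are formally smooth
-/

set_option autoImplicit false
set_option linter.all false

universe u

open TensorProduct

namespace Groth.Agent.HenselLib

/-- A geometrically reduced (possibly large) field extension is formally smooth. -/
theorem formallySmooth_of_geometricallyReduced (F : Type u) [Field F] (k : Type u) [Field k]
    [Algebra F k] [Algebra.IsGeometricallyReduced F k] : Algebra.FormallySmooth F k := by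
  classical
  letI : Algebra (MvPolynomial k F) k := (MvPolynomial.aeval (id : k → k)).toRingHom.toAlgebra
  have : IsScalarTower F (MvPolynomial k F) k := IsScalarTower.of_algHom (MvPolynomial.aeval (id : k → k))
  have hsurj : Function.Surjective (algebraMap (MvPolynomial k F) k) := fun a =>
    ⟨MvPolynomial.X a, MvPolynomial.aeval_X _ _⟩
  refine ⟨inferInstance, (Algebra.FormallySmooth.kerCotangentToTensor_injective_iff hsurj).mp ?_⟩
  rw [injective_iff_map_eq_zero]
  intro z hz
  obtain ⟨⟨x, hx⟩, rfl⟩ := Ideal.toCotangent_surjective _ z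
  rw [CAlgH.kerCotangentToTensor_self_eq_zero_iff] at hz
  obtain ⟨s, q, rfl⟩ := MvPolynomial.exists_finset_rename x
  let k0 : IntermediateField F k := IntermediateField.adjoin F (s : Set k)
  have : Algebra.EssFiniteType F k0 := IntermediateField.essFiniteType_iff.mpr ⟨s, rfl⟩
  have : Algebra.IsGeometricallyReduced F k0 :=
    Algebra.IsGeometricallyReduced.of_injective k0.val k0.val.injective
  have : Algebra.FormallySmooth F k0 := CommAlg6.formallySmooth_of_isGeometricallyReduced F k0
  let inc : s → k0 := fun a => ⟨a.1, IntermediateField.subset_adjoin F _ a.2⟩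
  letI : Algebra (MvPolynomial k0 F) k0 := (MvPolynomial.aeval (id : k0 → k0)).toRingHom.toAlgebra
  have : IsScalarTower F (MvPolynomial k0 F) k0 := IsScalarTower.of_algHom (MvPolynomial.aeval (id : k0 → k0))
  have hsurj0 : Function.Surjective (algebraMap (MvPolynomial k0 F) k0) := fun a =>
    ⟨MvPolynomial.X a, MvPolynomial.aeval_X _ _⟩
  have hinj := (Algebra.FormallySmooth.kerCotangentToTensor_injective_iff (R := F) hsurj0).mpr inferInstance
  let ren : MvPolynomial k0 F →ₐ[F] MvPolynomial k F := MvPolynomial.rename Subtype.val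
  have hcomp : ∀ y, algebraMap (MvPolynomial k F) k (ren y) = (algebraMap (MvPolynomial k0 F) k0 y : k) := by
    intro y
    exact DFunLike.congr_fun
      (MvPolynomial.algHom_ext (f := (MvPolynomial.aeval (id : k → k)).comp ren)
        (g := k0.val.comp (MvPolynomial.aeval (id : k0 → k0))) (fun i => by simp [ren])) y
  let q0 : MvPolynomial k0 F := MvPolynomial.rename inc q
  have hq : ren q0 = MvPolynomial.rename Subtype.val q := by
    simp only [ren, q0, MvPolynomial.rename_rename]; rfl
  have hq0 : q0 ∈ RingHom.ker (algebraMap (MvPolynomial k0 F) k0) := by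
    rw [RingHom.mem_ker]
    apply Subtype.ext
    rw [← hcomp, hq]; exact hx
  have h0 : Ideal.toCotangent _ ⟨q0, hq0⟩ = 0 := by
    apply hinj
    rw [map_zero, CAlgH.kerCotangentToTensor_self_eq_zero_iff]
    intro i
    apply Subtype.ext
    rw [← hcomp]
    show algebraMap (MvPolynomial k F) k (MvPolynomial.rename Subtype.val (MvPolynomial.pderiv i q0)) = 0
    rw [← MvPolynomial.pderiv_rename Subtype.val_injective]
    show algebraMap (MvPolynomial k F) k (MvPolynomial.pderiv i.1 (ren q0)) = 0
    rw [hq]; exact hz i.1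
  rw [Ideal.toCotangent_eq_zero] at h0 ⊢
  show MvPolynomial.rename Subtype.val q ∈ _
  rw [← hq]
  have := Ideal.mem_map_of_mem ren h0
  rw [Ideal.map_pow] at this
  refine Ideal.pow_right_mono ?_ 2 this
  rw [Ideal.map_le_iff_le_comap]
  intro y hy
  rw [Ideal.mem_comap, RingHom.mem_ker, hcomp, RingHom.mem_ker.mp hy]
  rfl

/-- Lifting residue fields along nilpotent maximal ideals. -/
theorem exists_residue_section (F : Type u) [Field F] (A : Type u) [CommRing A] [IsLocalRing A]
    [Algebra F A] [Algebra.IsGeometricallyReduced F (IsLocalRing.ResidueField A)]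
    (hnil : ∃ n : ℕ, IsLocalRing.maximalIdeal A ^ n = ⊥) :
    ∃ σ : IsLocalRing.ResidueField A →ₐ[F] A, ∀ x, IsLocalRing.residue A (σ x) = x := by
  have := formallySmooth_of_geometricallyReduced F (IsLocalRing.ResidueField A)
  obtain ⟨σ, hσ⟩ := Algebra.FormallySmooth.exists_lift (IsLocalRing.maximalIdeal A)
    (by obtain ⟨n, hn⟩ := hnil; exact ⟨n, by rw [hn]; rfl⟩)
    (AlgHom.id F (IsLocalRing.ResidueField A))
  exact ⟨σ, fun x => DFunLike.congr_fun hσ x⟩

end Groth.Agent.HenselLib

namespace Groth.Agent.HenselLib

/-- Lifting residue fields along nilpotent maximal ideals, with a given map from a field. -/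
theorem exists_residue_section' (F : Type u) [Field F] (A : Type u) [CommRing A] [IsLocalRing A]
    (φ : F →+* A) (ψ : F →+* IsLocalRing.ResidueField A) (h : ∀ x, IsLocalRing.residue A (φ x) = ψ x)
    (hgr : @Algebra.IsGeometricallyReduced F (IsLocalRing.ResidueField A) _ _ ψ.toAlgebra)
    (hnil : ∃ n : ℕ, IsLocalRing.maximalIdeal A ^ n = ⊥) :
    ∃ σ : IsLocalRing.ResidueField A →+* A,
      (IsLocalRing.residue A).comp σ = RingHom.id _ ∧ σ.comp ψ = φ := by
  letI : Algebra F A := φ.toAlgebra
  have : Algebra.IsGeometricallyReduced F (IsLocalRing.ResidueField A) := by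
    convert hgr using 1
    exact Algebra.algebra_ext _ _ h
  obtain ⟨σ, hσ⟩ := exists_residue_section F A hnil
  refine ⟨σ.toRingHom, RingHom.ext hσ, RingHom.ext fun x => ?_⟩
  refine (congrArg σ ?_).trans (σ.commutes x)
  exact (h x).symm

end Groth.Agent.HenselLib
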