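import Groth.Agent.HenselLib.WEtale
import Mathlib.RingTheory.Flat.TorsionFree
import Mathlib.RingTheory.Valuation.ValuationRing
import Mathlib.RingTheory.Valuation.LocalSubring
import Mathlib.RingTheory.Localization.Algebra
import Mathlib.RingTheory.LocalRing.Module
import Mathlib.RingTheory.Adjoin.FG
import Mathlib.RingTheory.IntegralClosure.IntegrallyClosed
import Mathlib.Algebra.Algebra.Epi
import Mathlib.Algebra.Group.Pi.Units

/-!
# Rings of weak dimension at most one
-/

set_option autoImplicit false
set_option linter.all false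

universe u

open TensorProduct Function

namespace Groth.Agent.HenselLib.WeakDim

section TFAE

variable {A : Type u} [CommRing A]

theorem principal_regular {R : Type u} [CommRing R] [Nontrivial R] (J : Ideal R)
    [Module.Free R J] : J = ⊥ ∨ ∃ e : R, J = Ideal.span {e} ∧ ∀ r, r * e = 0 → r = 0 := by
  let b := Module.Free.chooseBasis R J
  have hsub : ∀ i j : Module.Free.ChooseBasisIndex R J, i = j := by
    intro i j
    by_contra hne
    have h : (b j : R) • b i = (b i : R) • b j := Subtype.ext (mul_comm _ _)
    have h2 := congrArg (fun v => b.repr v i) h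
    simp only [map_smul, Finsupp.smul_apply, Module.Basis.repr_self, Finsupp.single_eq_same,
      Finsupp.single_eq_of_ne hne, smul_eq_mul, mul_one, mul_zero] at h2
    exact b.ne_zero j (Subtype.ext h2)
  rcases isEmpty_or_nonempty (Module.Free.ChooseBasisIndex R J) with hE | ⟨⟨i⟩⟩
  · left
    rw [Submodule.eq_bot_iff]
    intro x hx
    have : (⟨x, hx⟩ : J) = 0 := b.repr.injective (Subsingleton.elim _ _)
    exact congrArg Subtype.val this
  · right
    haveI : Subsingleton (Module.Free.ChooseBasisIndex R J) := ⟨hsub⟩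
    haveI : Unique (Module.Free.ChooseBasisIndex R J) := uniqueOfSubsingleton i
    refine ⟨b default, le_antisymm (fun x hx => ?_) ?_, fun r hr => ?_⟩
    · rw [Ideal.mem_span_singleton']
      refine ⟨b.repr ⟨x, hx⟩ default, ?_⟩
      have := congrArg Subtype.val (b.sum_repr (⟨x, hx⟩ : J))
      simpa using this
    · rw [Ideal.span_le, Set.singleton_subset_iff]
      exact (b default).2
    · have h : r • b default = 0 := Subtype.ext hr
      have h2 := congrArg (fun v => b.repr v default) h
      simpa using h2

theorem two_imp_four (h : ∀ I : Ideal A, I.FG → Module.Flat A I) (p : Ideal A) [p.IsPrime] :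
    ∃ _ : IsDomain (Localization.AtPrime p), ValuationRing (Localization.AtPrime p) := by
  set R := Localization.AtPrime p
  have hspan : ∀ (x y : R), Module.Free R (Ideal.span ({x, y} : Set R)) := by
    intro x y
    obtain ⟨a, s, rfl⟩ := IsLocalization.exists_mk'_eq p.primeCompl x
    obtain ⟨b, t, rfl⟩ := IsLocalization.exists_mk'_eq p.primeCompl y
    have e : Ideal.span ({IsLocalization.mk' R a s, IsLocalization.mk' R b t} : Set R) =
        (Ideal.span ({a, b} : Set A)).map (algebraMap A R) := by
      rw [Ideal.map_span, Set.image_pair, Ideal.span_insert, Ideal.span_insert]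
      congr 1 <;>
        exact (Ideal.span_singleton_mul_right_unit (IsLocalization.map_units R _) _).symm.trans
          (by rw [IsLocalization.mk'_spec])
    rw [e]
    haveI : Module.Flat A (Ideal.span ({a, b} : Set A)) := h _ (Submodule.fg_span (by simp))
    haveI : Module.Flat R ((Ideal.span ({a, b} : Set A)).map (algebraMap A R)) :=
      Module.Flat.of_isLocalizedModule R p.primeCompl
        (Algebra.idealMap (Ideal.span ({a, b} : Set A)) (S := R))
    haveI : Module.Finite R ((Ideal.span ({a, b} : Set A)).map (algebraMap A R)) :=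
      Module.Finite.iff_fg.mpr (Ideal.FG.map (Submodule.fg_span (by simp)) _)
    exact Module.free_of_flat_of_isLocalRing
  have hdom : IsDomain R := by
    suffices NoZeroDivisors R from NoZeroDivisors.to_isDomain R
    refine ⟨fun {x y} hxy => ?_⟩
    by_contra hne
    simp only [not_or] at hne
    haveI := hspan x x
    rcases principal_regular (Ideal.span ({x, x} : Set R)) with hJ | ⟨e, he, hreg⟩
    · exact hne.1 (by simpa using hJ)
    · rw [Set.pair_eq_singleton] at he
      obtain ⟨c, hc⟩ := Ideal.mem_span_singleton'.mp (he ▸ Ideal.mem_span_singleton_self x)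
      obtain ⟨d, hd⟩ := Ideal.mem_span_singleton'.mp (he ▸ Ideal.mem_span_singleton_self e)
      have hdc : d * c = 1 := sub_eq_zero.mp (hreg _ (by linear_combination d * hc + hd))
      have hye : y * e = 0 := by linear_combination -y * hd + d * hxy
      exact hne.2 (hreg y hye)
  refine ⟨hdom, ?_⟩
  haveI := hdom
  refine ValuationRing.iff_local_bezout_domain.mpr ⟨inferInstance,
    IsBezout.iff_span_pair_isPrincipal.mpr fun x y => ?_⟩
  haveI := hspan x y
  rcases principal_regular (Ideal.span ({x, y} : Set R)) with hJ | ⟨e, he, -⟩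
  · exact ⟨0, by rw [hJ]; simp⟩
  · exact ⟨e, he⟩

theorem four_imp_three
    (h : ∀ (p : Ideal A) [p.IsPrime], ∃ _ : IsDomain (Localization.AtPrime p),
      ValuationRing (Localization.AtPrime p))
    (M : Type u) [AddCommGroup M] [Module A M] [Module.Flat A M] (N : Submodule A M) :
    Module.Flat A N := by
  refine Module.flat_of_localized_maximal N fun p hp => ?_
  obtain ⟨hd, hv⟩ := h p
  let ι := LocalizedModule.map p.primeCompl N.subtype
  have hι : Injective ι := LocalizedModule.map_injective p.primeCompl N.subtype N.injective_subtype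
  haveI : Module.Flat (Localization.AtPrime p) (LocalizedModule.AtPrime p M) :=
    Module.Flat.of_isLocalizedModule _ p.primeCompl (LocalizedModule.mkLinearMap p.primeCompl M)
  haveI : Module.Flat (Localization.AtPrime p) (LocalizedModule.AtPrime p N) := by
    rw [Module.Flat.flat_iff_torsion_eq_bot_of_isBezout, Submodule.eq_bot_iff]
    rintro x ⟨a, ha⟩
    have hM : Submodule.torsion (Localization.AtPrime p) (LocalizedModule.AtPrime p M) = ⊥ :=
      Module.Flat.torsion_eq_bot
    refine hι ?_
    rw [map_zero]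
    have : ι x ∈ Submodule.torsion (Localization.AtPrime p) (LocalizedModule.AtPrime p M) :=
      ⟨a, by
        simp only [Submonoid.smul_def] at ha ⊢
        rw [← map_smul, ha, map_zero]⟩
    rwa [hM, Submodule.mem_bot] at this
  exact Module.Flat.trans A (Localization.AtPrime p) _

theorem tfae : List.TFAE [∀ I : Ideal A, Module.Flat A I,
      ∀ I : Ideal A, I.FG → Module.Flat A I,
      ∀ (M : Type u) [AddCommGroup M] [Module A M], Module.Flat A M → ∀ N : Submodule A M,
        Module.Flat A N,
      ∀ (p : Ideal A) [p.IsPrime], ∃ _ : IsDomain (Localization.AtPrime p),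
        ValuationRing (Localization.AtPrime p)] := by
  tfae_have 1 → 2 := fun h I _ => h I
  tfae_have 2 → 4 := fun h p _ => two_imp_four h p
  tfae_have 4 → 3 := fun h M _ _ _ N => four_imp_three h M N
  tfae_have 3 → 1 := fun h I => h A inferInstance I
  tfae_finish

theorem flat_submodule (h : ∀ I : Ideal A, Module.Flat A I) (M : Type u) [AddCommGroup M]
    [Module A M] [Module.Flat A M] (N : Submodule A M) : Module.Flat A N :=
  four_imp_three (fun p _ => two_imp_four (fun I _ => h I) p) M N

theorem ideals_flat_of_fg (h : ∀ I : Ideal A, I.FG → Module.Flat A I) (I : Ideal A) :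
    Module.Flat A I :=
  four_imp_three (fun p _ => two_imp_four h p) A I

end TFAE

section Pi

variable {J : Type u} (A : J → Type u) [∀ j, CommRing (A j)] [∀ j, IsDomain (A j)]
    [∀ j, ValuationRing (A j)]

theorem pi_ideals_flat (I : Ideal (∀ j, A j)) : Module.Flat (∀ j, A j) I := by
  classical
  refine ideals_flat_of_fg (fun I hI => ?_) I
  obtain ⟨s, rfl⟩ := hI
  -- componentwise generators
  have hpr : ∀ j, (Ideal.span ((fun x : ∀ j, A j => x j) '' (s : Set (∀ j, A j)))).IsPrincipal :=
    fun j => IsBezout.isPrincipal_of_FG _ (Submodule.fg_span (s.finite_toSet.image _))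
  choose g hg using fun j => (hpr j).principal
  have hd : ∀ (x : ∀ j, A j), x ∈ s → ∀ j, ∃ d, d * g j = x j := fun x hx j =>
    Ideal.mem_span_singleton'.mp (by
      have : x j ∈ Submodule.span (A j) ((fun x : ∀ j, A j => x j) '' (s : Set (∀ j, A j))) :=
        Submodule.subset_span ⟨x, hx, rfl⟩
      have hg' := hg j
      simp only [Ideal.span] at hg'
      rw [hg'] at this
      exact this)
  have hc : ∀ j, ∃ c : (∀ j, A j) → A j, ∑ x ∈ s, c x * x j = g j := fun j => by
    have hm : g j ∈ Submodule.span (A j) ((fun x : ∀ j, A j => x j) '' (s : Set (∀ j, A j))) := by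
      have hg' := hg j
      simp only [Ideal.span] at hg'
      rw [hg']
      exact Submodule.mem_span_singleton_self _
    obtain ⟨c, hc⟩ := (Submodule.mem_span_image_finset_iff_exists_fun' (A j)).mp hm
    exact ⟨c, by simpa [smul_eq_mul] using hc⟩
  choose c hc using hc
  have hspan : Ideal.span (s : Set (∀ j, A j)) = Ideal.span {g} := by
    refine le_antisymm (Ideal.span_le.mpr fun x hx => ?_) ?_
    · rw [SetLike.mem_coe, Ideal.mem_span_singleton']
      choose d hd using hd x hx
      exact ⟨d, funext hd⟩
    · rw [Ideal.span_le, Set.singleton_subset_iff, SetLike.mem_coe]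
      have : g = ∑ x ∈ s, (fun j => c j x) * x := by
        funext j
        simp [hc j]
      rw [this]
      exact Ideal.sum_mem _ fun x hx => Ideal.mul_mem_left _ _ (Ideal.subset_span hx)
  change Module.Flat _ (Ideal.span (s : Set (∀ j, A j)) : Ideal _)
  rw [hspan]
  let e : ∀ j, A j := fun j => if g j = 0 then 0 else 1
  have he : e * g = g := by
    funext j
    by_cases h : g j = 0 <;> simp [e, h]
  have huniq : ∀ r r' : ∀ j, A j, r * g = r' * g → e * r = e * r' := by
    intro r r' h
    funext j
    by_cases hj : g j = 0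
    · simp [e, hj]
    · have := mul_right_cancel₀ hj (congrFun h j)
      simp [this]
  choose r hr using fun y : (Ideal.span {g} : Ideal (∀ j, A j)) =>
    Ideal.mem_span_singleton'.mp y.2
  let i : (Ideal.span {g} : Ideal (∀ j, A j)) →ₗ[∀ j, A j] (∀ j, A j) :=
    { toFun := fun y => e * r y
      map_add' := fun y y' => by
        rw [← mul_add]
        refine huniq _ _ ?_
        rw [hr, add_mul, hr, hr]
        rfl
      map_smul' := fun a y => by
        rw [RingHom.id_apply, smul_eq_mul, mul_left_comm]
        refine huniq _ _ ?_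
        rw [hr, mul_assoc, hr]
        rfl }
  let π : (∀ j, A j) →ₗ[∀ j, A j] (Ideal.span {g} : Ideal (∀ j, A j)) :=
    LinearMap.toSpanSingleton _ _ ⟨g, Ideal.mem_span_singleton_self g⟩
  refine Module.Flat.of_retract i π (LinearMap.ext fun y => Subtype.ext ?_)
  change (e * r y) • g = (y : ∀ j, A j)
  rw [smul_eq_mul, mul_right_comm, he, mul_comm, hr]

variable (K : J → Type u) [∀ j, Field (K j)] [∀ j, Algebra (A j) (K j)]
    [∀ j, IsFractionRing (A j) (K j)]

theorem pi_isLocalization : IsLocalization (nonZeroDivisors (∀ j, A j)) (∀ j, K j) := by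
  classical
  have hne : ∀ s : ∀ j, A j, s ∈ nonZeroDivisors (∀ j, A j) → ∀ j, s j ≠ 0 := by
    intro s hs j hj
    have h0 : Pi.single j (1 : A j) * s = 0 := by
      funext k
      by_cases hk : k = j
      · subst hk; simp [hj]
      · simp [hk]
    have := congrFun ((mem_nonZeroDivisors_iff_right.mp hs) _ h0) j
    simp at this
  constructor
  refine ⟨fun s => ?_, fun z => ?_, fun {x y} h => ?_⟩
  · exact Pi.isUnit_iff.mpr fun j => isUnit_iff_ne_zero.mpr
      ((map_ne_zero_iff _ (IsFractionRing.injective (A j) (K j))).mpr (hne s.1 s.2 j))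
  · choose a b hb hab using fun j => IsFractionRing.div_surjective (A j) (z j)
    have hb' : (b : ∀ j, A j) ∈ nonZeroDivisors (∀ j, A j) :=
      mem_nonZeroDivisors_iff_right.mpr fun x hx => funext fun j =>
        (mul_eq_zero.mp (congrFun hx j)).resolve_right (nonZeroDivisors.ne_zero (hb j))
    refine ⟨⟨a, ⟨b, hb'⟩⟩, funext fun j => ?_⟩
    change z j * algebraMap (A j) (K j) (b j) = algebraMap (A j) (K j) (a j)
    rw [← hab j, div_mul_cancel₀]
    exact (map_ne_zero_iff _ (IsFractionRing.injective (A j) (K j))).mpr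
      (nonZeroDivisors.ne_zero (hb j))
  · exact ⟨1, by rw [show x = y from funext fun j => IsFractionRing.injective (A j) (K j) (congrFun h j)]⟩

end Pi

section Epi

theorem isEpi_of_isLocalization {R S : Type u} [CommRing R] [CommRing S] [Algebra R S]
    (M : Submonoid R) [IsLocalization M S] : Algebra.IsEpi R S := by
  rw [Algebra.isEpi_iff_forall_one_tmul_eq]
  intro x
  obtain ⟨a, s, rfl⟩ := IsLocalization.exists_mk'_eq M x
  have hu : IsUnit ((algebraMap R S s : S) ⊗ₜ[R] (1 : S)) :=
    (IsLocalization.map_units S s).map (Algebra.TensorProduct.includeLeft : S →ₐ[R] S ⊗[R] S)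
  refine hu.mul_right_cancel ?_
  rw [Algebra.TensorProduct.tmul_mul_tmul, Algebra.TensorProduct.tmul_mul_tmul, mul_one, mul_one,
    one_mul, IsLocalization.mk'_spec, Algebra.algebraMap_eq_smul_one, smul_tmul, Algebra.smul_def,
    mul_comm, IsLocalization.mk'_spec, Algebra.algebraMap_eq_smul_one, smul_tmul]

variable {A B : Type u} [CommRing A] [CommRing B] [Algebra A B]

theorem exists_of_isIntegral (hA : ∀ I : Ideal A, Module.Flat A I) [Module.Flat A B]
    [Algebra.IsEpi A B] {x : B} (hx : IsIntegral A x) : ∃ a, algebraMap A B a = x := by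
  set C := Algebra.adjoin A ({x} : Set B)
  haveI : Module.Finite A C := Module.Finite.iff_fg.mpr hx.fg_adjoin_singleton
  haveI : Module.Flat A C := flat_submodule hA B (Subalgebra.toSubmodule C)
  have hinj : Injective (TensorProduct.map C.val.toLinearMap C.val.toLinearMap) :=
    TensorProduct.map_injective_of_flat_flat _ _ Subtype.val_injective Subtype.val_injective
  haveI : Algebra.IsEpi A C := (Algebra.isEpi_iff_forall_one_tmul_eq A C).mpr fun c => by
    refine hinj ?_
    simp only [TensorProduct.map_tmul, AlgHom.toLinearMap_apply, Subalgebra.coe_val,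
      OneMemClass.coe_one]
    exact (Algebra.isEpi_iff_forall_one_tmul_eq A B).mp inferInstance _
  obtain ⟨a, ha⟩ := (Algebra.isEpi_iff_surjective_algebraMap_of_finite.mp
    (inferInstance : Algebra.IsEpi A C)) ⟨x, Algebra.self_mem_adjoin_singleton A x⟩
  exact ⟨a, congrArg Subtype.val ha⟩

theorem isIntegrallyClosedIn (hA : ∀ I : Ideal A, Module.Flat A I) [Module.Flat A B]
    [Algebra.IsEpi A B] (hinj : Injective (algebraMap A B)) : IsIntegrallyClosedIn A B :=
  isIntegrallyClosedIn_iff.mpr ⟨hinj, fun hx => exists_of_isIntegral hA hx⟩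

end Epi

section Normal

theorem exists_cartesian (A K : Type u) [CommRing A] [IsDomain A] [Field K] [Algebra A K]
    [IsFractionRing A K] [IsIntegrallyClosed A] :
    ∃ (V L : Type u) (_ : CommRing V) (_ : CommRing L) (f : A →+* V) (g : V →+* L) (h : K →+* L),
      g.comp f = h.comp (algebraMap A K) ∧
      (∀ I : Ideal V, Module.Flat V I) ∧ g.Flat ∧ Injective g ∧
      (letI := g.toAlgebra; Algebra.IsEpi V L) ∧
      ∀ (v : V) (k : K), g v = h k → ∃! a : A, f a = v ∧ algebraMap A K a = k := by
  let ι := {W : ValuationSubring K // (algebraMap A K).range ≤ W.toSubring}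
  let V := ∀ W : ι, W.1
  let f : A →+* V := RingHom.pi fun W => (algebraMap A K).codRestrict W.1.toSubring
    fun a => W.2 ⟨a, rfl⟩
  let g : V →+* (ι → K) := algebraMap V (ι → K)
  haveI hloc : IsLocalization (nonZeroDivisors V) (ι → K) :=
    pi_isLocalization (fun W : ι => W.1) (fun _ => K)
  refine ⟨V, ι → K, inferInstance, inferInstance, f, g, RingHom.pi fun _ => RingHom.id K,
    RingHom.ext fun a => funext fun W => rfl, pi_ideals_flat _, ?_, ?_, ?_, ?_⟩
  · haveI : Module.Flat V (ι → K) := IsLocalization.flat _ (nonZeroDivisors V)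
    exact (RingHom.flat_algebraMap_iff (R := V) (S := ι → K)).mpr ‹_›
  · exact IsLocalization.injective (ι → K) le_rfl
  · change @Algebra.IsEpi V (ι → K) _ _ (algebraMap V (ι → K)).toAlgebra
    rw [toAlgebra_algebraMap]
    exact isEpi_of_isLocalization (nonZeroDivisors V)
  · intro v k hvk
    have hk : ∀ W : ι, k ∈ W.1.toSubring := fun W => by
      have := congrFun hvk W
      change ((v W : K)) = k at this
      rw [← this]
      exact (v W).2
    have hint : IsIntegral (Subring.closure (Set.range (algebraMap A K))) k := by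
      have hmem : k ∈ (⨅ W : {W : ValuationSubring K // Set.range (algebraMap A K) ⊆ W.toSubring},
          W.1.toSubring) := by
        rw [Subring.mem_iInf]
        exact fun W => hk ⟨W.1, fun x ⟨a, ha⟩ => W.2 ⟨a, ha⟩⟩
      rw [iInf_valuationSubring_superset] at hmem
      exact hmem
    let eR : (Subring.closure (Set.range (algebraMap A K))) ≃+* (algebraMap A K).range :=
      RingEquiv.subringCongr (by rw [← RingHom.coe_range, Subring.closure_eq])
    have hintA : IsIntegral A k := by
      obtain ⟨q, hq, hq'⟩ := hint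
      have hl : q.map (Subring.closure (Set.range (algebraMap A K))).subtype ∈
          Polynomial.lifts (algebraMap A K) := by
        rw [Polynomial.lifts_iff_coeff_lifts]
        intro n
        rw [Polynomial.coeff_map]
        exact (eR (q.coeff n)).2
      obtain ⟨q', hq'1, -, hq'2⟩ := Polynomial.lifts_and_degree_eq_and_monic hl (hq.map _)
      exact ⟨q', hq'2, by
        rw [← Polynomial.eval_map, hq'1, Polynomial.eval_map]; exact hq'⟩
    obtain ⟨a, ha⟩ := IsIntegrallyClosed.isIntegral_iff.mp hintA
    refine ⟨a, ⟨funext fun W => Subtype.ext ?_, ha⟩, fun b hb =>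
      IsFractionRing.injective A K (hb.2.trans ha.symm)⟩
    have := congrFun hvk W
    exact ha.trans this.symm

theorem integrallyClosed_weaklyEtale (A : Type u) [CommRing A] [IsDomain A] [IsIntegrallyClosed A]
    (K : Type u) [Field K] [Algebra A K] [IsFractionRing A K] (B : Type u) [CommRing B] [Algebra A B]
    [Algebra.WeaklyEtale A B] :
    IsIntegrallyClosedIn B (B ⊗[A] K) := by
  obtain ⟨V, L, _, _, f, g, h, hsq, hV, hgflat, hginj, hepi, hpull⟩ := exists_cartesian A K
  letI : Algebra A V := f.toAlgebra
  letI algVL : Algebra V L := g.toAlgebra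
  letI : Algebra A L := (g.comp f).toAlgebra
  haveI : IsScalarTower A V L := IsScalarTower.of_algebraMap_eq fun _ => rfl
  let hK : K →ₐ[A] L := { h with commutes' := fun a => (RingHom.congr_fun hsq a).symm }
  let gA : V →ₐ[A] L := IsScalarTower.toAlgHom A V L
  haveI : Module.Flat V L := RingHom.flat_algebraMap_iff.mp hgflat
  haveI : Algebra.IsEpi V L := hepi
  -- the weakly etale `V`-algebra and its generic fibre
  let m : V ⊗[A] B →ₐ[V] L ⊗[A] B :=
    Algebra.TensorProduct.map (Algebra.ofId V L) (AlgHom.id A B)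
  letI : Algebra (V ⊗[A] B) (L ⊗[A] B) := m.toRingHom.toAlgebra
  haveI : IsScalarTower V (V ⊗[A] B) (L ⊗[A] B) := IsScalarTower.of_algebraMap_eq fun v =>
    (m.commutes v).symm
  have hlm : (Algebra.TensorProduct.lmul' V (S := V ⊗[A] B)).Flat :=
    Algebra.WeaklyEtale.flat_lmul' V (V ⊗[A] B)
  haveI : Module.Flat V (L ⊗[A] B) := Module.Flat.trans V L _
  haveI : Module.Flat (V ⊗[A] B) (L ⊗[A] B) := WEt.flat_of_flat_lmul hlm _
  haveI : Algebra.IsEpi (V ⊗[A] B) (L ⊗[A] B) := by
    rw [Algebra.isEpi_iff_forall_one_tmul_eq]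
    intro x
    induction x using TensorProduct.induction_on with
    | zero => simp
    | add x y hx hy => simp [tmul_add, add_tmul, hx, hy]
    | tmul l b =>
      let i1 : L →+* (L ⊗[A] B) ⊗[V ⊗[A] B] (L ⊗[A] B) :=
        (Algebra.TensorProduct.includeLeftRingHom).comp
          (Algebra.TensorProduct.includeLeftRingHom : L →+* L ⊗[A] B)
      let i2 : L →+* (L ⊗[A] B) ⊗[V ⊗[A] B] (L ⊗[A] B) :=
        (Algebra.TensorProduct.includeRight (R := V ⊗[A] B) (A := L ⊗[A] B)).toRingHom.comp
          (Algebra.TensorProduct.includeLeftRingHom : L →+* L ⊗[A] B)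
      have e12 : ∀ v : V, i1 (algebraMap V L v) = i2 (algebraMap V L v) := fun v => by
        have : (algebraMap V L v) ⊗ₜ[A] (1 : B) =
            algebraMap (V ⊗[A] B) (L ⊗[A] B) (v ⊗ₜ[A] 1) := by
          change _ = m (v ⊗ₜ[A] 1)
          simp [m]
        change (algebraMap V L v ⊗ₜ[A] (1 : B)) ⊗ₜ[V ⊗[A] B] (1 : L ⊗[A] B) =
          (1 : L ⊗[A] B) ⊗ₜ[V ⊗[A] B] (algebraMap V L v ⊗ₜ[A] (1 : B))
        rw [this, Algebra.algebraMap_eq_smul_one, smul_tmul]
      let φ : L ⊗[V] L →+ (L ⊗[A] B) ⊗[V ⊗[A] B] (L ⊗[A] B) :=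
        TensorProduct.liftAddHom
          (AddMonoidHom.mk' (fun a => (AddMonoidHom.mulLeft (i1 a)).comp i2.toAddMonoidHom)
            fun a a' => AddMonoidHom.ext fun b => by simp [add_mul])
          fun r a a' => by
            simp only [AddMonoidHom.mk'_apply, AddMonoidHom.coe_comp, Function.comp_apply,
              AddMonoidHom.coe_mulLeft, RingHom.toAddMonoidHom_eq_coe, AddMonoidHom.coe_coe,
              Algebra.smul_def, map_mul, e12]
            ring
      have hl := congrArg φ ((Algebra.isEpi_iff_forall_one_tmul_eq V L).mp inferInstance l)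
      simp only [φ, TensorProduct.liftAddHom_tmul, AddMonoidHom.mk'_apply, AddMonoidHom.coe_comp,
        Function.comp_apply, AddMonoidHom.coe_mulLeft, RingHom.toAddMonoidHom_eq_coe,
        AddMonoidHom.coe_coe, map_one, one_mul, mul_one] at hl
      change (1 : L ⊗[A] B) ⊗ₜ[V ⊗[A] B] (l ⊗ₜ[A] (1 : B)) = (l ⊗ₜ[A] (1 : B)) ⊗ₜ[V ⊗[A] B] 1 at hl
      have hb : (1 : L ⊗[A] B) ⊗ₜ[V ⊗[A] B] ((1 : L) ⊗ₜ[A] b) = ((1 : L) ⊗ₜ[A] b) ⊗ₜ[V ⊗[A] B] 1 := by
        have : (1 : L) ⊗ₜ[A] b = algebraMap (V ⊗[A] B) (L ⊗[A] B) (1 ⊗ₜ[A] b) := by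
          change (1 : L) ⊗ₜ[A] b = m (1 ⊗ₜ[A] b)
          simp [m]
        rw [this, Algebra.algebraMap_eq_smul_one, smul_tmul]
      have := congrArg₂ (· * ·) hl hb
      simpa [Algebra.TensorProduct.tmul_mul_tmul] using this
  have hVB : ∀ I : Ideal (V ⊗[A] B), Module.Flat (V ⊗[A] B) I := fun I => by
    haveI : Module.Flat V (I.restrictScalars V : Submodule V (V ⊗[A] B)) :=
      flat_submodule hV _ _
    haveI : Module.Flat V I := this
    exact WEt.flat_of_flat_lmul hlm I
  refine isIntegrallyClosedIn_iff.mpr ⟨?_, fun {x} hx => ?_⟩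
  · have hinj : Injective (LinearMap.lTensor B (Algebra.linearMap A K)) :=
      Module.Flat.lTensor_preserves_injective_linearMap _ (IsFractionRing.injective A K)
    intro b b' hbb
    have : LinearMap.lTensor B (Algebra.linearMap A K) (b ⊗ₜ[A] 1) =
        LinearMap.lTensor B (Algebra.linearMap A K) (b' ⊗ₜ[A] 1) := by
      simpa [LinearMap.lTensor_tmul] using hbb
    have := congrArg (TensorProduct.rid A B) (hinj this)
    simpa using this
  · let c : B ⊗[A] K →ₐ[A] L ⊗[A] B :=
      (Algebra.TensorProduct.map hK (AlgHom.id A B)).comp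
        (Algebra.TensorProduct.comm A B K).toAlgHom
    have hc : (c.toRingHom.comp (algebraMap B (B ⊗[A] K))) =
        (algebraMap (V ⊗[A] B) (L ⊗[A] B)).comp
          (Algebra.TensorProduct.includeRight (R := A) (A := V)).toRingHom := by
      ext b
      change c (b ⊗ₜ[A] 1) = m ((1 : V) ⊗ₜ[A] b)
      simp [c, m]
    have hy : IsIntegral (V ⊗[A] B) (c x) := by
      obtain ⟨q, hq, hq'⟩ := hx
      refine ⟨q.map (Algebra.TensorProduct.includeRight (R := A) (A := V)).toRingHom, hq.map _, ?_⟩
      rw [Polynomial.eval₂_map, ← hc]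
      change Polynomial.eval₂ _ (c.toRingHom x) q = 0
      rw [← Polynomial.hom_eval₂, hq', map_zero]
    obtain ⟨w, hw⟩ := exists_of_isIntegral hVB hy
    -- tensor the cartesian square with `B`
    let φ : A →ₗ[A] V × K := (Algebra.linearMap A V).prod (Algebra.linearMap A K)
    let ψ : V × K →ₗ[A] L :=
      gA.toLinearMap ∘ₗ LinearMap.fst A V K - hK.toLinearMap ∘ₗ LinearMap.snd A V K
    have hex : Function.Exact φ ψ := fun ⟨v, k⟩ => by
      constructor
      · intro hvk
        obtain ⟨a, ⟨h1, h2⟩, -⟩ := hpull v k (sub_eq_zero.mp hvk)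
        exact ⟨a, Prod.ext h1 h2⟩
      · rintro ⟨a, ha⟩
        rw [← ha]
        exact sub_eq_zero.mpr (RingHom.congr_fun hsq a)
    have hexT := Module.Flat.rTensor_exact B hex
    let w' := TensorProduct.map (LinearMap.inl A V K) (LinearMap.id (R := A) (M := B)) w +
      TensorProduct.map (LinearMap.inr A V K) (LinearMap.id (R := A) (M := B))
        (Algebra.TensorProduct.comm A B K x)
    have hψ : ψ.rTensor B w' = 0 := by
      simp only [w', map_add, LinearMap.rTensor_def, ← LinearMap.comp_apply, ← TensorProduct.map_comp]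
      rw [show ψ ∘ₗ LinearMap.inl A V K = gA.toLinearMap by ext v; simp [ψ],
        show ψ ∘ₗ LinearMap.inr A V K = -hK.toLinearMap by ext k; simp [ψ],
        LinearMap.comp_id]
      have h1 : TensorProduct.map gA.toLinearMap LinearMap.id w = m w := rfl
      have h2 : ∀ z : K ⊗[A] B, TensorProduct.map (-hK.toLinearMap) LinearMap.id z =
          -(Algebra.TensorProduct.map hK (AlgHom.id A B) z) := fun z => by
        induction z using TensorProduct.induction_on with
        | zero => simp
        | tmul k b => simp [neg_tmul]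
        | add z z' hz hz' => simp [hz, hz', add_comm]
      rw [h1, h2]
      exact sub_eq_zero.mpr hw |> (by rw [← sub_eq_add_neg]; exact ·)
    obtain ⟨y, hy'⟩ := (hexT w').mp hψ
    refine ⟨TensorProduct.lid A B y, ?_⟩
    have h3 := congrArg (TensorProduct.map (LinearMap.snd A V K) (LinearMap.id (R := A) (M := B))) hy'
    simp only [w', map_add, LinearMap.rTensor_def, ← LinearMap.comp_apply, ← TensorProduct.map_comp,
      LinearMap.comp_id, LinearMap.snd_comp_inl, LinearMap.snd_comp_inr] at h3
    rw [show LinearMap.snd A V K ∘ₗ φ = Algebra.linearMap A K by ext; simp [φ],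
      TensorProduct.map_id, LinearMap.id_apply, TensorProduct.map_zero_left,
      LinearMap.zero_apply, zero_add] at h3
    have h4 := congrArg (Algebra.TensorProduct.comm A B K).symm h3
    rw [AlgEquiv.symm_apply_apply] at h4
    rw [← h4]
    obtain ⟨b, rfl⟩ : ∃ b, (1 : A) ⊗ₜ[A] b = y :=
      ⟨TensorProduct.lid A B y, (TensorProduct.lid A B).symm_apply_apply y⟩
    simp

end Normal

end Groth.Agent.HenselLib.WeakDim
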