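import Groth.Agent.Et18.UnramifiedSplit
import Mathlib.RingTheory.Etale.Basic
import Mathlib.RingTheory.Ideal.IdempotentFG

/-!
# Finite etale morphisms are etale locally split
-/

universe u

open TensorProduct Groth.Agent.Et18

namespace Groth.Agent.HenselLib.EtaleSplit

/-- Finite etale algebras become split after an etale extension of the base. -/
theorem exists_etale_split_bijective {R S : Type u} [CommRing R] [CommRing S] [Algebra R S]
    [Module.Finite R S] [Algebra.Etale R S] (p : Ideal R) [p.IsPrime] :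
    ∃ (R' : Type u) (_ : CommRing R') (_ : Algebra R R') (_ : Algebra.Etale R R') (P : Ideal R')
      (_ : P.IsPrime) (_ : P.comap (algebraMap R R') = p) (n : ℕ) (e : Fin n → R' ⊗[R] S),
      CompleteOrthogonalIdempotents e ∧
        ∀ i, Function.Bijective
          ((Ideal.Quotient.mk (Ideal.span {1 - e i})).comp (algebraMap R' (R' ⊗[R] S))) := by
  classical
  obtain ⟨R', _, _, _, P, hP, hPp, n, e, he, hsur⟩ := exists_etale_split (R := R) (S := S) p
  have hker : ∀ i, ∃ f : R', IsIdempotentElem f ∧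
      RingHom.ker ((Ideal.Quotient.mk (Ideal.span {1 - e i})).comp (algebraMap R' (R' ⊗[R] S))) =
        Ideal.span {f} := fun i => by
    have : IsLocalization.Away (e i) ((R' ⊗[R] S) ⧸ Ideal.span {1 - e i}) :=
      IsLocalization.away_of_isIdempotentElem (he.idem i) Ideal.mk_ker Ideal.Quotient.mk_surjective
    have : Algebra.Etale (R' ⊗[R] S) ((R' ⊗[R] S) ⧸ Ideal.span {1 - e i}) :=
      Algebra.Etale.of_isLocalizationAway (e i)
    have : Algebra.Etale R' ((R' ⊗[R] S) ⧸ Ideal.span {1 - e i}) := Algebra.Etale.comp R' (R' ⊗[R] S) _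
    have hfg : (RingHom.ker (algebraMap R' ((R' ⊗[R] S) ⧸ Ideal.span {1 - e i}))).FG :=
      Algebra.FinitePresentation.ker_fG_of_surjective (Algebra.ofId R' _) (hsur i)
    obtain ⟨f, hf, hf'⟩ := (Ideal.isIdempotentElem_iff_of_fg _ hfg).mp
      ((Algebra.FormallyEtale.iff_of_surjective (hsur i)).mp inferInstance)
    exact ⟨f, hf, hf'⟩
  choose f hf hfk using hker
  let h : Fin n → R' := fun i => if f i ∈ P then 1 - f i else f i
  have hh : ∀ i, h i ∉ P := fun i => by
    by_cases hi : f i ∈ P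
    · simp only [h, if_pos hi]
      exact fun h1 => hP.ne_top ((Ideal.eq_top_iff_one _).mpr (sub_add_cancel 1 (f i) ▸ P.add_mem h1 hi))
    · simpa only [h, if_neg hi] using hi
  let g := ∏ i, h i
  have hg : g ∉ P := fun h' => by
    obtain ⟨i, -, hi⟩ := Ideal.IsPrime.prod_mem_iff.mp h'
    exact hh i hi
  let R'' := Localization.Away g
  have hu : ∀ i, IsUnit (algebraMap R' R'' (h i)) := fun i =>
    isUnit_of_dvd_unit (map_dvd _ (Finset.dvd_prod_of_mem h (Finset.mem_univ i)))
      (IsLocalization.Away.algebraMap_isUnit g)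
  have : Algebra.Etale R' R'' := Algebra.Etale.of_isLocalizationAway g
  have : Algebra.Etale R R'' := Algebra.Etale.comp R R' R''
  let φ : R' ⊗[R] S →ₐ[R] R'' ⊗[R] S :=
    Algebra.TensorProduct.map (IsScalarTower.toAlgHom R R' R'') (AlgHom.id R S)
  have hφa : ∀ r, φ (algebraMap R' _ r) = algebraMap R'' _ (algebraMap R' R'' r) := fun r => by
    simp [φ, Algebra.TensorProduct.algebraMap_apply]
  have hsur'' : ∀ i, Function.Surjective ((Ideal.Quotient.mk (Ideal.span {1 - φ (e i)})).comp
      (algebraMap R'' (R'' ⊗[R] S))) := fun i z => by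
    obtain ⟨z, rfl⟩ := Ideal.Quotient.mk_surjective z
    induction z using TensorProduct.induction_on with
    | zero => exact ⟨0, by rw [map_zero, map_zero]⟩
    | add x y hx hy =>
        obtain ⟨a, ha⟩ := hx
        obtain ⟨b, hb⟩ := hy
        exact ⟨a + b, by rw [RingHom.map_add, RingHom.map_add, ha, hb]⟩
    | tmul r s =>
        obtain ⟨r₀, hr₀⟩ := hsur i (Ideal.Quotient.mk _ ((1 : R') ⊗ₜ[R] s))
        have h1 := Ideal.mem_map_of_mem φ (Ideal.Quotient.eq.mp hr₀)
        rw [Ideal.map_span, Set.image_singleton, map_sub, map_one, map_sub, hφa,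
          show φ ((1 : R') ⊗ₜ[R] s) = (1 : R'') ⊗ₜ[R] s by simp [φ]] at h1
        refine ⟨r * algebraMap R' R'' r₀, ?_⟩
        rw [RingHom.comp_apply, Ideal.Quotient.eq, map_mul,
          show r ⊗ₜ[R] s = algebraMap R'' (R'' ⊗[R] S) r * ((1 : R'') ⊗ₜ[R] s) by
            simp [Algebra.TensorProduct.algebraMap_apply], ← mul_sub]
        exact Ideal.mul_mem_left _ _ h1
  have hbad : ∀ i, f i ∉ P → φ (e i) = 0 := fun i hi => by
    have h0 : algebraMap R' (R' ⊗[R] S) (f i) ∈ Ideal.span {1 - e i} := by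
      rw [← Ideal.Quotient.eq_zero_iff_mem]
      have h2 : f i ∈ Ideal.span {f i} := Ideal.mem_span_singleton_self _
      rw [← hfk i] at h2
      exact h2
    have h1 := Ideal.mem_map_of_mem φ h0
    rw [Ideal.map_span, Set.image_singleton, map_sub, map_one, hφa] at h1
    have hu' : IsUnit (algebraMap R' R'' (f i)) := by simpa only [h, if_neg hi] using hu i
    have hunit : IsUnit (1 - φ (e i)) := by
      obtain ⟨w, hw⟩ := Ideal.mem_span_singleton.mp h1
      exact isUnit_of_mul_isUnit_left (hw ▸ hu'.map (algebraMap R'' (R'' ⊗[R] S)))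
    have hidem : (1 - φ (e i)) * φ (e i) = 0 := by
      rw [sub_mul, one_mul, ← map_mul, (he.idem i).eq, sub_self]
    exact (hunit.mul_right_eq_zero).mp hidem
  have hgood : ∀ i, f i ∈ P → Function.Injective ((Ideal.Quotient.mk (Ideal.span {1 - φ (e i)})).comp
      (algebraMap R'' (R'' ⊗[R] S))) := fun i hi => by
    let q := (Ideal.Quotient.mk (Ideal.span {1 - e i})).comp (algebraMap R' (R' ⊗[R] S))
    have hle : RingHom.ker q ≤ RingHom.ker (algebraMap R' R'') := by
      rw [show RingHom.ker q = _ from hfk i, Ideal.span_le, Set.singleton_subset_iff, SetLike.mem_coe,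
        RingHom.mem_ker]
      have h1 : IsUnit (algebraMap R' R'' (1 - f i)) := by simpa only [h, if_pos hi] using hu i
      refine h1.mul_right_eq_zero.mp ?_
      rw [← map_mul, sub_mul, one_mul, (hf i).eq, sub_self, map_zero]
    let χ : R' ⊗[R] S →+* R'' :=
      (q.liftOfSurjective (hsur i) ⟨algebraMap R' R'', hle⟩).comp (Ideal.Quotient.mk _)
    have hχ : ∀ r, χ (algebraMap R' _ r) = algebraMap R' R'' r := fun r =>
      RingHom.congr_fun (q.liftOfSurjective_comp (hsur i) ⟨algebraMap R' R'', hle⟩) r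
    let s : S →ₐ[R] R'' :=
      { χ.comp (Algebra.TensorProduct.includeRight : S →ₐ[R] R' ⊗[R] S).toRingHom with
        commutes' := fun r => by
          show χ ((Algebra.TensorProduct.includeRight : S →ₐ[R] R' ⊗[R] S) (algebraMap R S r)) = _
          rw [AlgHom.commutes, IsScalarTower.algebraMap_apply R R' (R' ⊗[R] S), hχ,
            ← IsScalarTower.algebraMap_apply] }
    let ψ : R'' ⊗[R] S →ₐ[R''] R'' :=
      Algebra.TensorProduct.lift (AlgHom.id R'' R'') s fun _ _ => Commute.all _ _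
    have hψ : ∀ z, ψ (φ z) = χ z := fun z => by
      induction z using TensorProduct.induction_on with
      | zero => simp
      | add x y hx hy => rw [map_add, map_add, map_add, hx, hy]
      | tmul r w =>
          rw [show χ (r ⊗ₜ[R] w) = χ (algebraMap R' _ r) * χ ((1 : R') ⊗ₜ[R] w) by
            rw [← map_mul]; simp [Algebra.TensorProduct.algebraMap_apply], hχ]
          simp [φ, ψ, s]
    have hkill : ψ (1 - φ (e i)) = 0 := by
      rw [map_sub, map_one, hψ, sub_eq_zero, ← map_one χ]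
      exact congrArg (q.liftOfSurjective (hsur i) ⟨algebraMap R' R'', hle⟩)
        (Ideal.Quotient.eq.mpr (Ideal.mem_span_singleton_self _))
    refine (injective_iff_map_eq_zero _).mpr fun r hr => ?_
    obtain ⟨w, hw⟩ := Ideal.mem_span_singleton.mp (Ideal.Quotient.eq_zero_iff_mem.mp hr)
    have := congrArg ψ hw
    rwa [map_mul, hkill, zero_mul, ψ.commutes] at this
  let J := {i : Fin n // f i ∈ P}
  have heφ : CompleteOrthogonalIdempotents (fun i => φ (e i)) := he.map φ.toRingHom
  have heJ : CompleteOrthogonalIdempotents (fun j : J => φ (e j.1)) :=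
    { idem := fun j => heφ.idem j.1
      ortho := fun j k hjk => heφ.ortho (fun hh' => hjk (Subtype.ext hh'))
      complete := by
        rw [← heφ.complete, ← Finset.sum_subtype (Finset.univ.filter fun i => f i ∈ P) (by simp)
          (fun i => φ (e i))]
        refine Finset.sum_subset (Finset.subset_univ _) fun i _ hi => hbad i ?_
        simpa using hi }
  let σ := (Fintype.equivFin J).symm
  have hdisj : Disjoint (Submonoid.powers g : Set R') P := Set.disjoint_left.mpr (by
    rintro _ ⟨k, rfl⟩ h'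
    exact hg (Ideal.IsPrime.mem_of_pow_mem hP k h'))
  refine ⟨R'', inferInstance, inferInstance, inferInstance, P.map (algebraMap R' R''),
    IsLocalization.isPrime_of_isPrime_disjoint (Submonoid.powers g) _ _ hP hdisj, ?_, Fintype.card J,
    fun k => φ (e (σ k).1), (CompleteOrthogonalIdempotents.equiv σ).mpr heJ,
    fun k => ⟨hgood _ (σ k).2, hsur'' _⟩⟩
  rw [IsScalarTower.algebraMap_eq R R' R'', ← Ideal.comap_comap,
    show (P.map (algebraMap R' R'')).comap (algebraMap R' R'') = P from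
      IsLocalization.under_map_of_isPrime_disjoint (Submonoid.powers g) _ hP hdisj, hPp]

section Scheme

open CategoryTheory CategoryTheory.Limits AlgebraicGeometry

set_option backward.isDefEq.respectTransparency.types false
set_option backward.isDefEq.respectTransparency false

/-- A finite etale morphism is etale locally split. -/
theorem exists_etale_nhd_isos {X S : Scheme.{u}} (f : X ⟶ S) [IsFinite f]
    [Etale f] (s : S) :
    ∃ (U : Scheme.{u}) (g : U ⟶ S) (_ : AlgebraicGeometry.Etale g) (u : U) (_ : g.base u = s)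
      (n : ℕ) (V : Fin n → Scheme.{u}) (c : ∀ j, V j ⟶ U) (_ : ∀ j, IsIso (c j))
      (e : (∐ V) ≅ pullback f g), ∀ j, Sigma.ι V j ≫ e.hom ≫ pullback.snd f g = c j := by
  obtain ⟨U, hU, hsU, -⟩ := exists_isAffineOpen_mem_and_subset (X := S) (x := s) (U := ⊤) trivial
  have hV : IsAffineOpen (f ⁻¹ᵁ U) := hU.preimage f
  have h1 : (f.app U).hom.Finite := IsFinite.finite_app f U hU
  have h2 := HasRingHomProperty.appLE @Etale f inferInstance ⟨U, hU⟩ ⟨_, hV⟩ le_rfl
  rw [← Scheme.Hom.app_eq_appLE] at h2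
  algebraize [(f.app U).hom]
  have : Algebra.Etale Γ(S, U) Γ(X, f ⁻¹ᵁ U) := RingHom.etale_algebraMap.mp h2
  obtain ⟨R', _, _, _, P, hP, hPp, n, e, he, hsur⟩ :=
    exists_etale_split_bijective (R := Γ(S, U)) (S := Γ(X, f ⁻¹ᵁ U)) (hU.primeIdealOf ⟨s, hsU⟩).asIdeal
  let a : Γ(S, U) ⟶ CommRingCat.of R' := CommRingCat.ofHom (algebraMap Γ(S, U) R')
  have : Etale (Spec.map a) := by
    rw [HasRingHomProperty.Spec_iff (P := @Etale)]
    exact RingHom.etale_algebraMap.mpr inferInstance
  let g : Spec (CommRingCat.of R') ⟶ S := Spec.map a ≫ hU.fromSpec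
  have hu : g.base ⟨P, hP⟩ = s := by
    change hU.fromSpec (Spec.map a ⟨P, hP⟩) = s
    rw [show Spec.map a ⟨P, hP⟩ = hU.primeIdealOf ⟨s, hsU⟩ from PrimeSpectrum.ext hPp,
      hU.fromSpec_primeIdealOf]
  have sq₁ := (isPullback_SpecMap_of_isPushout _ _ _ _
    (CommRingCat.isPushout_tensorProduct Γ(S, U) R' Γ(X, f ⁻¹ᵁ U))).flip
  have sq₂ : IsPullback hV.fromSpec (Spec.map (f.app U)) f hU.fromSpec := by
    refine (IsOpenImmersion.isPullback _ _ _ _ ?_ ?_).flip
    · rw [← IsAffineOpen.SpecMap_appLE_fromSpec f hU hV le_rfl, Scheme.Hom.app_eq_appLE]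
    · rw [hU.opensRange_fromSpec, hV.opensRange_fromSpec]
  have sq := sq₁.paste_horiz sq₂
  let E : Fin n → Ideal (R' ⊗[Γ(S, U)] Γ(X, f ⁻¹ᵁ U)) := fun j => Ideal.span {1 - e j}
  let B : Fin n → CommRingCat.{u} := fun j => CommRingCat.of ((R' ⊗[Γ(S, U)] Γ(X, f ⁻¹ᵁ U)) ⧸ E j)
  let B' : ULift.{u} (Fin n) → CommRingCat.{u} := fun j => B j.down
  let π : CommRingCat.of (R' ⊗[Γ(S, U)] Γ(X, f ⁻¹ᵁ U)) ≅ CommRingCat.of (∀ j, B' j) :=
    (RingEquiv.ofBijective (RingHom.pi fun j : ULift.{u} (Fin n) => Ideal.Quotient.mk (E j.down))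
      (CompleteOrthogonalIdempotents.bijective_pi
        ((CompleteOrthogonalIdempotents.equiv (Equiv.ulift.{u} (α := Fin n))).mpr he))).toCommRingCatIso
  let V : Fin n → Scheme.{u} := fun j => Spec (B j)
  let q : (∐ V) ≅ pullback f g :=
    (Sigma.reindex (Equiv.ulift.{u} (α := Fin n)) V).symm ≪≫ asIso (sigmaSpec B') ≪≫
      asIso (Spec.map π.hom) ≪≫ sq.isoPullback
  let c : ∀ j, V j ⟶ Spec (CommRingCat.of R') := fun j => Spec.map
    (CommRingCat.ofHom ((Ideal.Quotient.mk (E j)).comp (algebraMap R' (R' ⊗[Γ(S, U)] Γ(X, f ⁻¹ᵁ U)))))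
  refine ⟨Spec (CommRingCat.of R'), g, inferInstanceAs (Etale (Spec.map a ≫ hU.fromSpec)), ⟨P, hP⟩, hu,
    n, V, c, fun j => by
      have : IsIso (CommRingCat.ofHom ((Ideal.Quotient.mk (E j)).comp
          (algebraMap R' (R' ⊗[Γ(S, U)] Γ(X, f ⁻¹ᵁ U))))) :=
        (RingEquiv.ofBijective _ (hsur j)).toCommRingCatIso.isIso_hom
      infer_instance, q, fun j => ?_⟩
  simp only [q, Iso.trans_hom, Iso.symm_hom, asIso_hom, Category.assoc]
  have hι : Sigma.ι V j ≫ (Sigma.reindex (Equiv.ulift.{u} (α := Fin n)) V).inv =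
      Sigma.ι (fun k : ULift.{u} (Fin n) => Spec (B' k)) ⟨j⟩ := by
    rw [Iso.comp_inv_eq]
    exact (Sigma.ι_reindex_hom (Equiv.ulift.{u} (α := Fin n)) V ⟨j⟩).symm
  rw [reassoc_of% hι, IsPullback.isoPullback_hom_snd, ι_sigmaSpec_assoc, ← Spec.map_comp, ← Spec.map_comp]
  rfl

end Scheme

end Groth.Agent.HenselLib.EtaleSplit
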