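import Groth.Agent.HenselLib.MilnorFlat
import Mathlib.LinearAlgebra.TensorProduct.Tower
import Mathlib.RingTheory.TensorProduct.Finite
import Mathlib.RingTheory.Finiteness.Projective
import Mathlib.LinearAlgebra.TensorProduct.Prod

/-!
# Glueing modules along Milnor squares
-/

set_option autoImplicit false
set_option linter.all false

universe u

open TensorProduct Function

namespace Groth.Agent.HenselLib.Milnor

variable {B' B A' A : Type u} [CommRing B'] [CommRing B] [CommRing A'] [CommRing A]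
  [Algebra B' B] [Algebra B' A'] [Algebra B A] [Algebra A' A] [Algebra B' A]
  [IsScalarTower B' B A] [IsScalarTower B' A' A]
  {N M' : Type u} [AddCommGroup N] [Module B N] [Module B' N] [IsScalarTower B' B N]
  [AddCommGroup M'] [Module A' M'] [Module B' M'] [IsScalarTower B' A' M']

section Weak

variable (w : IsWeakSquare B' B A' A) (φ : A ⊗[B] N ≃ₗ[A] A ⊗[A'] M')

include w

theorem exists_tmul_eq (z : A ⊗[A'] M') : ∃ m : M', (1 : A) ⊗ₜ[A'] m = z := by
  induction z with
  | zero => exact ⟨0, tmul_zero _ _⟩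
  | tmul a m =>
    obtain ⟨r, rfl⟩ := w.surjA a
    exact ⟨r • m, one_tmul_smul r m⟩
  | add x y hx hy =>
    obtain ⟨a, rfl⟩ := hx
    obtain ⟨c, rfl⟩ := hy
    exact ⟨a + c, tmul_add _ _ _⟩

theorem glueFst_surjective : Surjective (EtMil.glueFst B' φ) := fun n => by
  obtain ⟨m, hm⟩ := exists_tmul_eq w (φ (1 ⊗ₜ n))
  exact ⟨⟨(n, m), hm.symm⟩, rfl⟩

omit w in
theorem mk_zero_mem_glue {m : M'} (h : ((1 : A) ⊗ₜ[A'] m : A ⊗[A'] M') = 0) :
    ((0 : N), m) ∈ EtMil.glue B' φ := by
  change φ (1 ⊗ₜ 0) = 1 ⊗ₜ m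
  rw [tmul_zero, map_zero, h]

theorem span_glueSnd : Submodule.span A' (Set.range (EtMil.glueSnd B' φ)) = ⊤ := by
  set S := Submodule.span A' (Set.range (EtMil.glueSnd B' φ))
  rw [Submodule.eq_top_iff']
  intro m
  obtain ⟨m₁, hm₁, hm₁'⟩ : ∃ m₁ ∈ S, φ (φ.symm (1 ⊗ₜ m)) = 1 ⊗ₜ m₁ := by
    generalize φ.symm (1 ⊗ₜ m) = z
    induction z with
    | zero => exact ⟨0, zero_mem _, by simp⟩
    | tmul a n =>
      obtain ⟨g, rfl⟩ := glueFst_surjective w φ n
      obtain ⟨r, rfl⟩ := w.surjA a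
      refine ⟨r • EtMil.glueSnd B' φ g, S.smul_mem r (Submodule.subset_span ⟨g, rfl⟩), ?_⟩
      have h : φ (1 ⊗ₜ g.1.1) = 1 ⊗ₜ g.1.2 := g.2
      calc φ (algebraMap A' A r ⊗ₜ EtMil.glueFst B' φ g)
          = φ (algebraMap A' A r • ((1 : A) ⊗ₜ g.1.1)) := by
            rw [smul_tmul', smul_eq_mul, mul_one]; rfl
        _ = algebraMap A' A r • ((1 : A) ⊗ₜ g.1.2) := by rw [map_smul, h]
        _ = _ := by
            rw [one_tmul_smul, smul_tmul', smul_eq_mul, mul_one]; rfl
    | add x y hx hy =>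
      obtain ⟨a, ha, ha'⟩ := hx
      obtain ⟨c, hc, hc'⟩ := hy
      exact ⟨a + c, add_mem ha hc, by rw [map_add, ha', hc', tmul_add]⟩
  rw [LinearEquiv.apply_symm_apply] at hm₁'
  have h0 : ((1 : A) ⊗ₜ[A'] (m - m₁) : A ⊗[A'] M') = 0 := by rw [tmul_sub, hm₁', sub_self]
  have : m - m₁ ∈ S := Submodule.subset_span ⟨⟨_, mk_zero_mem_glue φ h0⟩, rfl⟩
  simpa using add_mem this hm₁

/-- If the second projection of `H` generates, every element with trivial first projection lies in
`J • H`. -/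
theorem mem_smul_of_fst_eq_zero (H : Submodule B' (EtMil.glue B' φ))
    (hH : Submodule.span A' (EtMil.glueSnd B' φ '' H) = ⊤)
    (g : EtMil.glue B' φ) (hg : g.1.1 = 0) :
    g ∈ RingHom.ker (algebraMap B' B) • H := by
  have h : ((1 : A) ⊗ₜ[A'] g.1.2 : A ⊗[A'] M') = 0 := by
    rw [← show φ (1 ⊗ₜ g.1.1) = 1 ⊗ₜ g.1.2 from g.2, hg, tmul_zero, map_zero]
  rw [tmul_eq_zero_iff_mem w.surjA] at h
  suffices ∃ g' ∈ RingHom.ker (algebraMap B' B) • H, g'.1.1 = 0 ∧ g'.1.2 = g.1.2 by
    obtain ⟨g', hg', h1, h2⟩ := this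
    rwa [show g = g' from Subtype.ext (Prod.ext (hg.trans h1.symm) h2.symm)]
  refine Submodule.smul_induction_on h (fun i hi m hm' => ?_) (fun x y hx hy => ?_)
  · have hm : m ∈ Submodule.span A' (EtMil.glueSnd B' φ '' H) := hH ▸ Submodule.mem_top
    clear g hg h hm'
    induction hm using Submodule.span_induction generalizing i with
    | mem x hx =>
      obtain ⟨g, hg, rfl⟩ := hx
      obtain ⟨j, hj, rfl⟩ := w.lift i (RingHom.mem_ker.mp hi)
      refine ⟨j • g, Submodule.smul_mem_smul hj hg, ?_, ?_⟩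
      · change j • g.1.1 = 0
        rw [← IsScalarTower.algebraMap_smul B j, hj, zero_smul]
      · change j • g.1.2 = _
        rw [IsScalarTower.algebraMap_smul]
        rfl
    | zero => exact ⟨0, zero_mem _, rfl, (smul_zero i).symm⟩
    | add x y _ _ hx hy =>
      obtain ⟨a, ha, ha', ha''⟩ := hx i hi
      obtain ⟨c, hc, hc', hc''⟩ := hy i hi
      exact ⟨a + c, add_mem ha hc, by simp [ha', hc'], by simp [ha'', hc'', smul_add]⟩
    | smul r x _ hx =>
      rw [smul_smul]
      exact hx (i * r) (Ideal.mul_mem_right _ _ hi)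
  · obtain ⟨a, ha, ha', ha''⟩ := hx
    obtain ⟨c, hc, hc', hc''⟩ := hy
    exact ⟨a + c, add_mem ha hc, by simp [ha', hc'], by simp [ha'', hc'']⟩

theorem finite_glue [Module.Finite B N] [Module.Finite A' M'] :
    Module.Finite B' ↥(EtMil.glue B' φ) := by
  classical
  obtain ⟨s, hs⟩ := (Module.Finite.fg_top : (⊤ : Submodule B N).FG)
  choose g hg using glueFst_surjective w φ
  obtain ⟨u, hu⟩ := (Module.Finite.fg_top : (⊤ : Submodule A' M').FG)
  have : ∀ m : M', ∃ t : Finset (EtMil.glue B' φ),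
      m ∈ Submodule.span A' (EtMil.glueSnd B' φ '' (t : Set (EtMil.glue B' φ))) := by
    intro m
    have hm : m ∈ Submodule.span A' (Set.range (EtMil.glueSnd B' φ)) :=
      span_glueSnd w φ ▸ Submodule.mem_top
    obtain ⟨T, hT, hmT⟩ := Submodule.mem_span_finite_of_mem_span hm
    choose k hk using fun x : T => hT x.2
    refine ⟨T.attach.image k, Submodule.span_mono ?_ hmT⟩
    intro x hx
    exact ⟨k ⟨x, hx⟩, Finset.mem_image.mpr ⟨⟨x, hx⟩, Finset.mem_attach _ _, rfl⟩, hk _⟩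
  choose t ht using this
  let gens : Finset (EtMil.glue B' φ) := s.image g ∪ u.biUnion t
  let H : Submodule B' (EtMil.glue B' φ) := Submodule.span B' (gens : Set (EtMil.glue B' φ))
  have hH : Submodule.span A' (EtMil.glueSnd B' φ '' H) = ⊤ := by
    rw [eq_top_iff, ← hu, Submodule.span_le]
    intro m hm
    refine Submodule.span_mono (Set.image_mono (fun x hx => Submodule.subset_span ?_)) (ht m)
    exact Finset.mem_union_right _ (Finset.mem_biUnion.mpr ⟨m, hm, hx⟩)
  have hfst : ∀ n : N, ∃ h ∈ H, EtMil.glueFst B' φ h = n := by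
    intro n
    have hn : n ∈ Submodule.span B (s : Set N) := hs ▸ Submodule.mem_top
    induction hn using Submodule.span_induction with
    | mem x hx =>
      exact ⟨g x, Submodule.subset_span (Finset.mem_union_left _
        (Finset.mem_image_of_mem g hx)), hg x⟩
    | zero => exact ⟨0, zero_mem _, map_zero _⟩
    | add x y _ _ hx hy =>
      obtain ⟨a, ha, rfl⟩ := hx
      obtain ⟨c, hc, rfl⟩ := hy
      exact ⟨a + c, add_mem ha hc, map_add _ _ _⟩
    | smul b x _ hx =>
      obtain ⟨a, ha, rfl⟩ := hx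
      obtain ⟨r, rfl⟩ := w.surjB b
      exact ⟨r • a, H.smul_mem r ha, by rw [map_smul, IsScalarTower.algebraMap_smul]⟩
  refine ⟨⟨gens, (eq_top_iff.mpr fun x _ => ?_)⟩⟩
  obtain ⟨h, hh, hh'⟩ := hfst x.1.1
  have h0 : (x - h).1.1 = 0 := by
    change x.1.1 - h.1.1 = 0
    rw [show h.1.1 = x.1.1 from hh', sub_self]
  have := Submodule.smul_le_right (mem_smul_of_fst_eq_zero w φ H hH (x - h) h0)
  simpa [H] using add_mem this hh

end Weak

section Fixed

variable (hsq : EtMil.IsFibreSquare B' B A' A) (φ : A ⊗[B] N ≃ₗ[A] A ⊗[A'] M')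

include hsq

theorem bijective_liftBaseChange_glueFst :
    Bijective (LinearMap.liftBaseChange B (EtMil.glueFst B' φ)) := by
  have w := isWeakSquare hsq
  refine ⟨(injective_iff_map_eq_zero _).mpr fun z hz => ?_, fun n => ?_⟩
  · obtain ⟨g, rfl⟩ : ∃ g, (1 : B) ⊗ₜ[B'] g = z := by
      clear hz
      induction z with
      | zero => exact ⟨0, tmul_zero _ _⟩
      | tmul b l =>
        obtain ⟨r, rfl⟩ := w.surjB b
        exact ⟨r • l, one_tmul_smul r l⟩
      | add x y hx hy =>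
        obtain ⟨a, rfl⟩ := hx
        obtain ⟨c, rfl⟩ := hy
        exact ⟨a + c, tmul_add _ _ _⟩
    rw [LinearMap.liftBaseChange_tmul, one_smul] at hz
    rw [tmul_eq_zero_iff_mem w.surjB]
    refine mem_smul_of_fst_eq_zero w φ ⊤ ?_ g hz
    rw [Submodule.top_coe, Set.image_univ]
    exact span_glueSnd w φ
  · obtain ⟨g, rfl⟩ := glueFst_surjective w φ n
    exact ⟨1 ⊗ₜ g, by simp⟩

theorem bijective_liftBaseChange_glueSnd :
    Bijective (LinearMap.liftBaseChange A' (EtMil.glueSnd B' φ)) := by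
  have w := isWeakSquare hsq
  refine ⟨(injective_iff_map_eq_zero _).mpr fun z hz => ?_, ?_⟩
  · let eF : B ⊗[B'] ↥(EtMil.glue B' φ) ≃ₗ[B] N :=
      LinearEquiv.ofBijective _ (bijective_liftBaseChange_glueFst hsq φ)
    let Φ : A ⊗[B'] ↥(EtMil.glue B' φ) ≃ₗ[A] A ⊗[A'] M' :=
      (AlgebraTensorModule.cancelBaseChange B' B A A _).symm ≪≫ₗ eF.baseChange B A _ _ ≪≫ₗ φ
    have hΦ : ∀ (a : A) g, Φ (a ⊗ₜ g) = a ⊗ₜ g.1.2 := by
      intro a g
      have h : φ (1 ⊗ₜ g.1.1) = 1 ⊗ₜ g.1.2 := g.2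
      have : Φ (a ⊗ₜ g) = φ (a ⊗ₜ g.1.1) := by
        simp [Φ, eF]; rfl
      rw [this, show (a ⊗ₜ[B] g.1.1 : A ⊗[B] N) = a • ((1 : A) ⊗ₜ g.1.1) by
        rw [smul_tmul', smul_eq_mul, mul_one], map_smul, h, smul_tmul', smul_eq_mul, mul_one]
    have hcomp : ∀ z : A' ⊗[B'] ↥(EtMil.glue B' φ),
        Φ ((IsScalarTower.toAlgHom B' A' A).toLinearMap.rTensor _ z) =
          (1 : A) ⊗ₜ LinearMap.liftBaseChange A' (EtMil.glueSnd B' φ) z := by
      intro z
      induction z with
      | zero => simp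
      | add x y hx hy => simp only [map_add, hx, hy, tmul_add]
      | tmul a g =>
        rw [LinearMap.rTensor_tmul, hΦ, LinearMap.liftBaseChange_tmul, one_tmul_smul]
        rfl
    have h0 : (IsScalarTower.toAlgHom B' A' A).toLinearMap.rTensor _ z = 0 :=
      Φ.injective (by rw [hcomp, hz, tmul_zero, map_zero])
    obtain ⟨g, hg1, rfl⟩ := surjective_to_pairs w _ 0 z (by rw [map_zero, h0])
    have e1 : g.1.1 = 0 := by
      have := congrArg (LinearMap.liftBaseChange B (EtMil.glueFst B' φ)) hg1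
      rw [LinearMap.liftBaseChange_tmul, one_smul, map_zero] at this
      exact this
    have e2 : g.1.2 = 0 := by
      rw [LinearMap.liftBaseChange_tmul, one_smul] at hz
      exact hz
    rw [show g = 0 from Subtype.ext (Prod.ext e1 e2), tmul_zero]
  · rw [← LinearMap.range_eq_top, eq_top_iff, ← span_glueSnd w φ, Submodule.span_le]
    rintro _ ⟨g, rfl⟩
    exact ⟨1 ⊗ₜ g, by simp⟩

theorem flat_glue [Module.Flat B N] [Module.Flat A' M'] :
    Module.Flat B' ↥(EtMil.glue B' φ) := by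
  haveI : Module.Flat B (B ⊗[B'] ↥(EtMil.glue B' φ)) :=
    .of_linearEquiv (LinearEquiv.ofBijective _ (bijective_liftBaseChange_glueFst hsq φ))
  haveI : Module.Flat A' (A' ⊗[B'] ↥(EtMil.glue B' φ)) :=
    .of_linearEquiv (LinearEquiv.ofBijective _ (bijective_liftBaseChange_glueSnd hsq φ))
  exact flat_of_flat hsq _

end Fixed

section FinitePresentation

theorem injective_pairs (hsq : EtMil.IsFibreSquare B' B A' A) (L : Type u) [AddCommGroup L]
    [Module B' L] [Module.Flat B' L] (l : L) (h1 : ((1 : B) ⊗ₜ[B'] l : B ⊗[B'] L) = 0)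
    (h2 : ((1 : A') ⊗ₜ[B'] l : A' ⊗[B'] L) = 0) : l = 0 := by
  let pq : B' →ₗ[B'] B × A' := (Algebra.linearMap B' B).prod (Algebra.linearMap B' A')
  have hpq : Injective pq := fun x y h =>
    ext_of_isFibreSquare hsq (congrArg Prod.fst h) (congrArg Prod.snd h)
  have h := Module.Flat.rTensor_preserves_injective_linearMap (M := L) pq hpq
  have : pq.rTensor L (1 ⊗ₜ l) = 0 := by
    apply (TensorProduct.prodLeft B' B' B A' L).injective
    rw [LinearMap.rTensor_tmul, map_zero]
    simp [pq, h1, h2]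
  have := h (this.trans (map_zero _).symm)
  simpa using congrArg (TensorProduct.lid B' L) this

theorem finitePresentation_of_flat (hsq : EtMil.IsFibreSquare B' B A' A) (L : Type u)
    [AddCommGroup L] [Module B' L]
    [Module.Flat B (B ⊗[B'] L)] [Module.FinitePresentation B (B ⊗[B'] L)]
    [Module.Flat A' (A' ⊗[B'] L)] [Module.FinitePresentation A' (A' ⊗[B'] L)] :
    Module.FinitePresentation B' L := by
  classical
  haveI := finite_of_finite hsq L
  obtain ⟨n, π, hπ⟩ := Module.Finite.exists_fin' B' L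
  have key : ∀ (S : Type u) [CommRing S] [Algebra B' S]
      [Module.FinitePresentation S (S ⊗[B'] L)],
      ∃ K₀ : Submodule B' (Fin n → B'), K₀.FG ∧ K₀ ≤ LinearMap.ker π ∧
        ∀ y, π.baseChange S y = 0 →
          y ∈ Submodule.span S ((fun k => (1 : S) ⊗ₜ[B'] k) '' (K₀ : Set (Fin n → B'))) := by
    intro S _ _ _
    obtain ⟨s, hs⟩ := Module.FinitePresentation.fg_ker (π.baseChange S)
      (LinearMap.lTensor_surjective S hπ)
    have : ∀ z : S ⊗[B'] LinearMap.ker π, ∃ t : Finset (Fin n → B'),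
        ↑t ⊆ (LinearMap.ker π : Set (Fin n → B')) ∧ (LinearMap.ker π).subtype.baseChange S z ∈
          Submodule.span S ((fun k => (1 : S) ⊗ₜ[B'] k) '' (t : Set (Fin n → B'))) := by
      intro z
      induction z with
      | zero => exact ⟨∅, by simp, by simp⟩
      | tmul a l =>
        refine ⟨{l.1}, by simp, ?_⟩
        rw [LinearMap.baseChange_tmul, show (a ⊗ₜ[B'] ((LinearMap.ker π).subtype l) :
          S ⊗[B'] (Fin n → B')) = a • ((1 : S) ⊗ₜ l.1) by rw [smul_tmul', smul_eq_mul, mul_one]; rfl]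
        exact Submodule.smul_mem _ _ (Submodule.subset_span (by simp))
      | add x y hx hy =>
        obtain ⟨t₁, ht₁, h₁⟩ := hx
        obtain ⟨t₂, ht₂, h₂⟩ := hy
        refine ⟨t₁ ∪ t₂, by simp [ht₁, ht₂], ?_⟩
        rw [map_add]
        exact add_mem (Submodule.span_mono (Set.image_mono (by simp)) h₁)
          (Submodule.span_mono (Set.image_mono (by simp)) h₂)
    have hsk : ∀ y : {y // y ∈ s}, ∃ z : S ⊗[B'] LinearMap.ker π,
        (LinearMap.ker π).subtype.baseChange S z = y.1 := by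
      intro y
      have hy : π.baseChange S y.1 = 0 := LinearMap.mem_ker.mp (hs ▸ Submodule.subset_span y.2)
      exact ((_root_.lTensor_exact S (LinearMap.exact_subtype_ker_map π) hπ) y.1).mp hy
    choose z hz using hsk
    choose t ht ht' using this
    refine ⟨Submodule.span B' ↑(s.attach.biUnion fun y => t (z y)), ⟨_, rfl⟩, ?_, fun y hy => ?_⟩
    · rw [Submodule.span_le]
      intro k hk
      obtain ⟨y, -, hy⟩ := Finset.mem_biUnion.mp hk
      exact ht _ hy
    · have : y ∈ Submodule.span S (s : Set (S ⊗[B'] (Fin n → B'))) := hs ▸ LinearMap.mem_ker.mpr hy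
      refine Submodule.span_le.mpr (fun x hx => ?_) this
      have hx' := ht' (z ⟨x, hx⟩)
      rw [hz] at hx'
      exact Submodule.span_mono (Set.image_mono fun k hk => Submodule.subset_span
        (Finset.mem_biUnion.mpr ⟨⟨x, hx⟩, Finset.mem_attach _ _, hk⟩)) hx'
  obtain ⟨K₁, h₁, h₁', h₁''⟩ := key B
  obtain ⟨K₂, h₂, h₂', h₂''⟩ := key A'
  let K₀ := K₁ ⊔ K₂
  let π₀ := K₀.liftQ π (sup_le h₁' h₂')
  have hπ₀ : Surjective π₀ := fun x => by
    obtain ⟨y, rfl⟩ := hπ x
    exact ⟨K₀.mkQ y, rfl⟩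
  have bij : ∀ (S : Type u) [CommRing S] [Algebra B' S] (K : Submodule B' (Fin n → B')), K ≤ K₀ →
      (∀ y, π.baseChange S y = 0 →
        y ∈ Submodule.span S ((fun k => (1 : S) ⊗ₜ[B'] k) '' (K : Set (Fin n → B')))) →
      Bijective (π₀.baseChange S) := by
    intro S _ _ K hK hy
    refine ⟨(injective_iff_map_eq_zero _).mpr fun x hx => ?_, LinearMap.lTensor_surjective S hπ₀⟩
    obtain ⟨y, rfl⟩ := LinearMap.lTensor_surjective S K₀.mkQ_surjective x
    have hy0 : π.baseChange S y = 0 := by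
      rw [← hx]
      change π.lTensor S y = π₀.lTensor S (K₀.mkQ.lTensor S y)
      rw [← LinearMap.lTensor_comp_apply, Submodule.liftQ_mkQ]
    change K₀.mkQ.baseChange S y = 0
    refine LinearMap.mem_ker.mp (Submodule.span_le.mpr ?_ (hy y hy0))
    rintro _ ⟨k, hk, rfl⟩
    have h0 : K₀.mkQ k = 0 := (Submodule.Quotient.mk_eq_zero _).mpr (hK hk)
    rw [SetLike.mem_coe, LinearMap.mem_ker, LinearMap.baseChange_tmul, h0, tmul_zero]
  have b₁ := bij B K₁ le_sup_left h₁''
  have b₂ := bij A' K₂ le_sup_right h₂''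
  haveI : Module.Flat B (B ⊗[B'] ((Fin n → B') ⧸ K₀)) :=
    .of_linearEquiv (LinearEquiv.ofBijective _ b₁)
  haveI : Module.Flat A' (A' ⊗[B'] ((Fin n → B') ⧸ K₀)) :=
    .of_linearEquiv (LinearEquiv.ofBijective _ b₂)
  haveI := flat_of_flat hsq ((Fin n → B') ⧸ K₀)
  have hle : LinearMap.ker π ≤ K₀ := fun x hx => by
    rw [← Submodule.Quotient.mk_eq_zero]
    refine injective_pairs hsq _ _ (b₁.injective ?_) (b₂.injective ?_)
    all_goals
      rw [LinearMap.baseChange_tmul, map_zero, show π₀ (Submodule.Quotient.mk x) = 0 from hx,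
        tmul_zero]
  refine Module.finitePresentation_of_surjective π hπ ?_
  rw [le_antisymm hle (sup_le h₁' h₂')]
  exact h₁.sup h₂

end FinitePresentation

end Groth.Agent.HenselLib.Milnor
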