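import Groth.Prelude.Def_EtGm
import Mathlib.RingTheory.Etale.StandardEtale
import Mathlib.AlgebraicGeometry.Morphisms.Etale
import Mathlib.AlgebraicGeometry.ResidueField
import Mathlib.FieldTheory.IsAlgClosed.AlgebraicClosure
import Mathlib.CategoryTheory.Sites.EpiMono
import Mathlib.CategoryTheory.Sites.ConstantSheaf
import Mathlib.CategoryTheory.Sites.LocallyBijective
import Mathlib.RingTheory.Polynomial.Cyclotomic.Basic
import Mathlib.RingTheory.Polynomial.Cyclotomic.Roots

/-!
# The Kummer sequence and the sheaf of roots of unity on the small étale site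
-/

set_option autoImplicit false
set_option backward.isDefEq.respectTransparency.types false
set_option backward.isDefEq.respectTransparency false
universe u

open CategoryTheory CategoryTheory.Limits AlgebraicGeometry Opposite Polynomial

namespace Groth.Agent.HenselLib.Kummer

variable {S : Scheme.{u}}

/-- The structure morphism, with plain target. -/
abbrev str (U : S.Etale) : U.left ⟶ S := U.hom

theorem mem_of_points (U : S.Etale) (R : Sieve U)
    (h : ∀ x : U.left, ∃ (V : S.Etale) (g : V ⟶ U) (v : V.left), R g ∧ g.left v = x) :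
    R ∈ S.smallEtaleTopology U := by
  have e : S.smallEtaleTopology =
      (S.smallPretopology (P := EtCoh.etaleMP) (Q := EtCoh.etaleMP)).toGrothendieck :=
    Scheme.smallGrothendieckTopology_eq_toGrothendieck_smallPretopology S le_rfl
  rw [e]
  refine (Scheme.mem_toGrothendieck_smallPretopology U R).2 fun x => ?_
  obtain ⟨V, g, v, hg, hv⟩ := h x
  haveI : AlgebraicGeometry.Etale U.hom := U.prop
  haveI : AlgebraicGeometry.Etale (str U) := U.prop
  haveI : AlgebraicGeometry.Etale (g.left ≫ str U) := by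
    rw [show g.left ≫ str U = str V from Over.w g.hom]; exact V.prop
  exact ⟨V, g, v, hg, Etale.of_comp g.left (str U), hv⟩

/-- A unit as a section of `G_m`. -/
noncomputable def sec {U : S.Etale} (v : Γ(U.left, ⊤)ˣ) : EtCoh.sect (EtCoh.Gm S) U :=
  ULift.up (Additive.ofMul v)

lemma sec_surjective {U : S.Etale} (t : EtCoh.sect (EtCoh.Gm S) U) : ∃ v, sec v = t :=
  ⟨Additive.toMul (show ULift.{u+1} (Additive Γ(U.left, ⊤)ˣ) from t).down, rfl⟩

lemma sec_injective {U : S.Etale} : Function.Injective (sec (U := U)) :=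
  fun _ _ h => Additive.ofMul.injective (congrArg ULift.down h)

lemma sec_mul {U : S.Etale} (v w : Γ(U.left, ⊤)ˣ) : sec (v * w) = sec v + sec w := rfl

lemma sec_one {U : S.Etale} : sec (1 : Γ(U.left, ⊤)ˣ) = 0 := rfl

lemma sec_pow {U : S.Etale} (v : Γ(U.left, ⊤)ˣ) (k : ℕ) : sec (v ^ k) = k • sec v := by
  induction k with
  | zero => rw [pow_zero, sec_one, zero_smul]
  | succ k ih => rw [pow_succ, sec_mul, ih, succ_nsmul]

lemma map_sec {U V : S.Etale} (g : V ⟶ U) (v : Γ(U.left, ⊤)ˣ) :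
    (EtCoh.Gm S).obj.map g.op (sec v) = sec (Units.map g.left.appTop.hom.toMonoidHom v) := rfl

lemma powMap_apply (U : S.Etale) (n : ℕ) (t : EtCoh.sect (EtCoh.Gm S) U) :
    (EtCoh.powMap S n).hom.app (op U) t = n • t := by
  induction n with
  | zero =>
    rw [EtCoh.powMap, zero_smul, zero_smul]
    rfl
  | succ n ih =>
    rw [EtCoh.powMap, succ_nsmul, succ_nsmul, ← ih]
    rfl

lemma natCast_residue_ne_zero {U : S.Etale} (x : U.left) {n : ℕ} (hn : IsUnit (n : Γ(S, ⊤))) :
    (n : U.left.residueField x) ≠ 0 := by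
  have := hn.map ((str U).appTop ≫ U.left.Γevaluation x).hom
  rw [map_natCast] at this
  exact this.ne_zero

set_option maxHeartbeats 1000000 in
theorem epi_powMap (n : ℕ) (hn : IsUnit (n : Γ(S, ⊤))) : Epi (EtCoh.powMap S n) := by
  rw [← Sheaf.isLocallySurjective_iff_epi']
  refine ⟨fun {U} t => mem_of_points U _ fun x => ?_⟩
  obtain ⟨v, rfl⟩ := sec_surjective t
  have hnx := natCast_residue_ne_zero x hn
  have hn0 : n ≠ 0 := fun h => hnx (by rw [h, Nat.cast_zero])
  haveI : AlgebraicGeometry.Etale U.hom := U.prop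
  obtain ⟨O, hO, hxO, -⟩ := exists_isAffineOpen_mem_and_subset (X := U.left) (x := x) (U := ⊤) trivial
  haveI : IsAffine (O : Scheme.{u}) := hO
  let W : Scheme.{u} := O
  let k := AlgebraicClosure (W.residueField ⟨x, hxO⟩)
  let q : Spec (CommRingCat.of k) ⟶ W :=
    Spec.map (CommRingCat.ofHom (algebraMap (W.residueField ⟨x, hxO⟩) k)) ≫ W.fromSpecResidueField ⟨x, hxO⟩
  let ev : Γ(W, ⊤) ⟶ CommRingCat.of k := q.appTop ≫ (Scheme.ΓSpecIso (CommRingCat.of k)).hom
  let a : Γ(W, ⊤)ˣ := Units.map O.ι.appTop.hom.toMonoidHom v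
  obtain ⟨r, hr⟩ := IsAlgClosed.exists_pow_nat_eq (ev.hom (a : Γ(W, ⊤))) (Nat.pos_of_ne_zero hn0)
  have hnk : (n : k) ≠ 0 := by
    have := ((hn.map (str U).appTop.hom).map O.ι.appTop.hom).map ev.hom
    rw [map_natCast, map_natCast, map_natCast] at this
    exact this.ne_zero
  have hr0 : r ≠ 0 := by
    intro h
    rw [h, zero_pow hn0] at hr
    exact (a.isUnit.map ev.hom).ne_zero hr.symm
  let P : StandardEtalePair Γ(W, ⊤) :=
    ⟨X ^ n - C (a : Γ(W, ⊤)), monic_X_pow_sub_C _ hn0, derivative (X ^ n - C (a : Γ(W, ⊤))), 1, 0, 1, by simp⟩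
  letI : Algebra Γ(W, ⊤) k := ev.hom.toAlgebra
  have hP : P.HasMap (S := k) r := by
    refine ⟨?_, isUnit_iff_ne_zero.mpr ?_⟩
    · show aeval r (X ^ n - C (a : Γ(W, ⊤))) = 0
      rw [map_sub, aeval_X_pow, aeval_C, hr]
      exact sub_self _
    · show aeval r (derivative (X ^ n - C (a : Γ(W, ⊤)))) ≠ 0
      rw [derivative_sub, derivative_C, sub_zero, derivative_X_pow, map_mul, aeval_C, aeval_X_pow, map_natCast]
      exact mul_ne_zero hnk (pow_ne_zero _ hr0)
  let B := CommRingCat.of P.Ring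
  let α : Γ(W, ⊤) ⟶ B := CommRingCat.ofHom (algebraMap Γ(W, ⊤) P.Ring)
  let χ : B ⟶ CommRingCat.of k := CommRingCat.ofHom (P.lift r hP).toRingHom
  have hχ : α ≫ χ = ev := by ext c; exact (P.lift r hP).commutes c
  haveI : AlgebraicGeometry.Etale (Spec.map α) :=
    (HasRingHomProperty.Spec_iff (P := @AlgebraicGeometry.Etale)).mpr (RingHom.etale_algebraMap.mpr inferInstance)
  let f : Spec B ⟶ W := Spec.map α ≫ W.isoSpec.inv
  haveI : AlgebraicGeometry.Etale f := by
    haveI : AlgebraicGeometry.Etale (Spec.map α ≫ W.isoSpec.inv) := inferInstance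
    assumption
  haveI : AlgebraicGeometry.Etale (O.ι ≫ U.hom) :=
    MorphismProperty.comp_mem @AlgebraicGeometry.Etale O.ι U.hom inferInstance inferInstance
  haveI : AlgebraicGeometry.Etale (f ≫ O.ι ≫ U.hom) :=
    MorphismProperty.comp_mem @AlgebraicGeometry.Etale f _ inferInstance inferInstance
  let V : S.Etale := Scheme.Etale.mk (f ≫ O.ι ≫ U.hom)
  let g : V ⟶ U := MorphismProperty.Over.homMk (f ≫ O.ι) (Category.assoc _ _ _) trivial
  have hinv : W.isoSpec.inv.appTop = (Scheme.ΓSpecIso Γ(W, ⊤)).inv := by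
    have h : W.isoSpec.inv.appTop ≫ W.isoSpec.hom.appTop = 𝟙 _ := by
      rw [← Scheme.Hom.comp_appTop, Iso.hom_inv_id, Scheme.Hom.id_appTop]
    rw [show W.isoSpec.hom = W.toSpecΓ from rfl, Scheme.toSpecΓ_appTop] at h
    exact (Iso.comp_hom_eq_id (Scheme.ΓSpecIso Γ(W, ⊤))).mp h
  have hf : f.appTop = α ≫ (Scheme.ΓSpecIso B).inv := by
    rw [Scheme.Hom.comp_appTop, hinv]
    exact (Scheme.ΓSpecIso_inv_naturality α).symm
  have hq : Spec.map χ ≫ f = q := by
    refine ext_of_isAffine ?_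
    rw [Scheme.Hom.comp_appTop, hf, Category.assoc, ← Scheme.ΓSpecIso_inv_naturality χ,
      ← Category.assoc, hχ]
    simp [ev]
  refine ⟨V, g, Spec.map χ (IsLocalRing.closedPoint k), ?_, ?_⟩
  · let y : Γ(V.left, ⊤) := (Scheme.ΓSpecIso B).inv.hom P.X
    have hy : y ^ n = (g.left.appTop.hom (v : Γ(U.left, ⊤)) : Γ(V.left, ⊤)) := by
      have h1 : P.X ^ n = algebraMap Γ(W, ⊤) P.Ring (a : Γ(W, ⊤)) := by
        have := P.hasMap_X.1
        rw [show P.f = X ^ n - C (a : Γ(W, ⊤)) from rfl, map_sub, aeval_X_pow, aeval_C, sub_eq_zero] at this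
        exact this
      show ((Scheme.ΓSpecIso B).inv.hom P.X) ^ n = (f ≫ O.ι).appTop.hom (v : Γ(U.left, ⊤))
      rw [← map_pow, h1, Scheme.Hom.comp_appTop, hf]
      rfl
    have hyu : IsUnit y := by
      rw [← isUnit_pow_iff hn0, hy]
      exact v.isUnit.map _
    refine ⟨sec hyu.unit, ?_⟩
    rw [powMap_apply, ← sec_pow, map_sec]
    congr 1
    ext
    rw [Units.val_pow_eq_pow_val, IsUnit.unit_spec]
    exact hy
  · show (Spec.map χ ≫ f ≫ O.ι) _ = x
    rw [← Category.assoc, hq]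
    simp only [q, Scheme.Hom.comp_apply]
    erw [Scheme.fromSpecResidueField_apply]
    rfl

variable (n : ℕ) (hn1 : 1 ≤ n) (z : Γ(S, ⊤)ˣ) (hz : z ^ n = 1)

/-- The pullback of `z` to an étale `S`-scheme. -/
noncomputable def zU (U : S.Etale) : Γ(U.left, ⊤)ˣ := Units.map (str U).appTop.hom.toMonoidHom z

lemma map_zU {U V : S.Etale} (g : V ⟶ U) :
    Units.map g.left.appTop.hom.toMonoidHom (zU z U) = zU z V := by
  ext
  show g.left.appTop.hom ((str U).appTop.hom z) = (str V).appTop.hom z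
  rw [← show g.left ≫ str U = str V from Over.w g.hom, Scheme.Hom.comp_appTop]
  rfl

lemma sec_zU_torsion (U : S.Etale) (hz : z ^ n = 1) : (n : ℤ) • sec (zU z U) = 0 := by
  rw [natCast_zsmul, ← sec_pow, zU, ← map_pow, hz, map_one, sec_one]

/-- The homomorphism `ℤ/n → G_m(U)`. -/
noncomputable def genHom (hz : z ^ n = 1) (U : S.Etale) : ZMod n →+ EtCoh.sect (EtCoh.Gm S) U :=
  ZMod.lift n ⟨zmultiplesHom (EtCoh.sect (EtCoh.Gm S) U) (sec (zU z U)), sec_zU_torsion n z U hz⟩

lemma genHom_intCast (hz : z ^ n = 1) (U : S.Etale) (k : ℤ) :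
    genHom n z hz U (k : ZMod n) = k • sec (zU z U) := ZMod.lift_coe _ _ k

lemma genHom_map (hz : z ^ n = 1) {U V : S.Etale} (g : V ⟶ U) (a : ZMod n) :
    (EtCoh.Gm S).obj.map g.op (genHom n z hz U a) = genHom n z hz V a := by
  obtain ⟨k, rfl⟩ := ZMod.intCast_surjective a
  rw [genHom_intCast, genHom_intCast, map_zsmul, map_sec, map_zU]

/-- The presheaf map `ℤ/n → G_m` given by `z`. -/
noncomputable def constHom :
    (Functor.const S.Etaleᵒᵖ).obj (AddCommGrpCat.of (ULift.{u + 1} (ZMod n))) ⟶ (EtCoh.Gm S).obj where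
  app U := AddCommGrpCat.ofHom ((genHom n z hz U.unop).comp AddEquiv.ulift.toAddMonoidHom)
  naturality U V g := by
    ext a
    exact (genHom_map n z hz g.unop a.down).symm

include hn1 in
lemma constHom_apply (U : S.Etale) (a : ULift.{u + 1} (ZMod n)) :
    (constHom n z hz).app (op U) a = sec (zU z U ^ a.down.val) := by
  haveI : NeZero n := ⟨by omega⟩
  show genHom n z hz U a.down = _
  conv_lhs => rw [← ZMod.natCast_zmod_val a.down, ← Int.cast_natCast]
  rw [genHom_intCast, natCast_zsmul, sec_pow]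

variable (hn : IsUnit (n : Γ(S, ⊤))) (hc : aeval (z : Γ(S, ⊤)) (cyclotomic n ℤ) = 0)

include hn1 hn hc in
lemma isPrimitiveRoot_residue {U : S.Etale} (x : U.left) :
    IsPrimitiveRoot (U.left.Γevaluation x (zU z U)) n := by
  haveI : NeZero ((n : ℕ) : U.left.residueField x) := ⟨natCast_residue_ne_zero x hn⟩
  rw [← Polynomial.isRoot_cyclotomic_iff, IsRoot, ← map_cyclotomic_int, eval_map]
  let φ := ((str U).appTop ≫ U.left.Γevaluation x).hom
  have := congrArg φ hc
  rw [map_zero, aeval_def, hom_eval₂] at this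
  rw [Subsingleton.elim (Int.castRingHom (U.left.residueField x)) (φ.comp (algebraMap ℤ Γ(S, ⊤)))]
  exact this

include hn1 hz hn hc in
theorem nonempty_iso :
    Nonempty (EtCoh.mu S n ≅ EtCoh.const S (ZMod n)) := by
  haveI : NeZero n := ⟨by omega⟩
  let J := S.smallEtaleTopology
  let P := (Functor.const S.Etaleᵒᵖ).obj (AddCommGrpCat.of (ULift.{u + 1} (ZMod n)))
  let φ' := constHom n z hz
  let ψ : EtCoh.const S (ZMod n) ⟶ EtCoh.Gm S :=
    ⟨sheafifyLift J φ' (EtCoh.Gm S).property⟩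
  have hψ : toSheafify J P ≫ ψ.hom = φ' := toSheafify_sheafifyLift _ _ _
  have hψ0 : ψ ≫ EtCoh.powMap S n = 0 := by
    apply Sheaf.hom_ext
    refine sheafify_hom_ext J _ _ (EtCoh.Gm S).property ?_
    show toSheafify J P ≫ ψ.hom ≫ (EtCoh.powMap S n).hom = toSheafify J P ≫ 0
    rw [← Category.assoc, hψ, Limits.comp_zero]
    apply NatTrans.ext
    funext U
    ext a
    show (EtCoh.powMap S n).hom.app U ((constHom n z hz).app U a) = (0 : EtCoh.sect (EtCoh.Gm S) U.unop)
    obtain ⟨U⟩ := U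
    rw [constHom_apply n hn1 z hz U a, powMap_apply, ← sec_pow, ← pow_mul, mul_comm, pow_mul, zU,
      ← map_pow, hz, map_one, one_pow]
    rfl
  let e : EtCoh.const S (ZMod n) ⟶ EtCoh.mu S n := kernel.lift _ ψ hψ0
  let φ : P ⟶ (EtCoh.mu S n).obj := toSheafify J P ≫ e.hom
  have hφι : ∀ (U : S.Etale) (a : ULift.{u + 1} (ZMod n)),
      (EtCoh.muι S n).hom.app (op U) (φ.app (op U) a) = sec (zU z U ^ a.down.val) := by
    intro U a
    rw [← constHom_apply n hn1 z hz U a]
    have h : φ ≫ (EtCoh.muι S n).hom = φ' := by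
      show (toSheafify J P ≫ e.hom) ≫ _ = _
      rw [Category.assoc, ← hψ]
      congr 1
      exact congrArg (fun t : EtCoh.const S (ZMod n) ⟶ EtCoh.Gm S => t.hom) (kernel.lift_ι _ ψ hψ0)
    exact congrArg (fun t : P ⟶ (EtCoh.Gm S).obj => t.app (op U) a) h
  have hinjι : ∀ U : S.Etale, Function.Injective ((EtCoh.muι S n).hom.app (op U)) := by
    intro U
    haveI : Mono (EtCoh.muι S n) := inferInstanceAs (Mono (kernel.ι (EtCoh.powMap S n)))
    haveI : Mono ((sheafToPresheaf J AddCommGrpCat.{u + 1}).map (EtCoh.muι S n)) := Functor.map_mono _ _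
    haveI : Mono (((evaluation _ _).obj (op U)).map ((sheafToPresheaf J AddCommGrpCat.{u + 1}).map (EtCoh.muι S n))) :=
      Functor.map_mono _ _
    exact (AddCommGrpCat.mono_iff_injective _).mp this
  haveI hI : Presheaf.IsLocallyInjective J φ := by
    refine ⟨fun {U} a b h => mem_of_points U.unop _ fun x => ⟨U.unop, 𝟙 _, x, ?_, rfl⟩⟩
    obtain ⟨U⟩ := U
    have h' := sec_injective ((hφι U a).symm.trans ((congrArg _ h).trans (hφι U b)))
    have h'' := congrArg (fun w : Γ(U.left, ⊤)ˣ => U.left.Γevaluation x (w : Γ(U.left, ⊤))) h'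
    simp only [Units.val_pow_eq_pow_val, map_pow] at h''
    have hab := (isPrimitiveRoot_residue n hn1 z hn hc x).pow_inj (ZMod.val_lt _) (ZMod.val_lt _) h''
    have hab' : a = b := ULift.ext _ _ (ZMod.val_injective n hab)
    show P.map _ a = P.map _ b
    rw [hab']
  haveI hS : Presheaf.IsLocallySurjective J φ := by
    refine ⟨fun {U} w => mem_of_points U _ fun x => ?_⟩
    obtain ⟨v, hv⟩ := sec_surjective ((EtCoh.muι S n).hom.app (op U) w)
    have hvn : v ^ n = 1 := by
      apply sec_injective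
      rw [sec_pow, hv, sec_one, ← powMap_apply]
      have h0 : (EtCoh.muι S n) ≫ EtCoh.powMap S n = 0 := kernel.condition _
      exact congrArg (fun t : EtCoh.mu S n ⟶ EtCoh.Gm S => t.hom.app (op U) w) h0
    let gm := (U.left.presheaf.germ ⊤ x trivial).hom
    let vb := U.left.Γevaluation x (v : Γ(U.left, ⊤))
    have hvb : vb ^ n = 1 := by
      rw [← map_pow, ← Units.val_pow_eq_pow_val, hvn, Units.val_one, map_one]
    have hprim := isPrimitiveRoot_residue n hn1 z hn hc x
    obtain ⟨i, hi, hiv⟩ := hprim.eq_pow_of_pow_eq_one hvb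
    let c : Γ(U.left, ⊤)ˣ := zU z U ^ i
    have hcn : c ^ n = 1 := by
      rw [← pow_mul, mul_comm, pow_mul, zU, ← map_pow, hz, map_one, one_pow]
    have hgerm : gm v = gm c := by
      have h1 : (∑ j ∈ Finset.range n, gm v ^ j * gm c ^ (n - 1 - j)) * (gm v - gm c) = 0 := by
        rw [geom_sum₂_mul, ← map_pow, ← map_pow, ← Units.val_pow_eq_pow_val, ← Units.val_pow_eq_pow_val,
          hvn, hcn, sub_self]
      have h2 : IsUnit (∑ j ∈ Finset.range n, gm v ^ j * gm c ^ (n - 1 - j)) := by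
        apply (IsLocalRing.residue_ne_zero_iff_isUnit _).mp
        simp only [map_sum, map_mul, map_pow]
        have hv' : IsLocalRing.residue _ (gm v) = U.left.Γevaluation x (zU z U) ^ i := hiv.symm
        have hc' : IsLocalRing.residue _ (gm c) = U.left.Γevaluation x (zU z U) ^ i := by
          show U.left.Γevaluation x (c : Γ(U.left, ⊤)) = _
          simp only [c, Units.val_pow_eq_pow_val, map_pow]
        rw [hv', hc', Finset.sum_congr rfl (g := fun _ => (U.left.Γevaluation x (zU z U) ^ i) ^ (n - 1)) (by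
          intro j hj
          rw [← pow_add]
          congr 1
          simp at hj
          omega), Finset.sum_const, Finset.card_range, nsmul_eq_mul]
        exact mul_ne_zero (natCast_residue_ne_zero x hn)
          (pow_ne_zero _ (pow_ne_zero _ (hprim.ne_zero (by omega))))
      exact sub_eq_zero.mp (h2.mul_right_eq_zero.mp h1)
    obtain ⟨(O : U.left.Opens), hxO, i₁, i₂, hO⟩ :=
      TopCat.Presheaf.germ_eq (X := U.left) U.left.presheaf (U := ⊤) (V := ⊤) x trivial trivial (v : Γ(U.left, ⊤)) (c : Γ(U.left, ⊤)) hgerm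
    haveI : AlgebraicGeometry.Etale U.hom := U.prop
    haveI : AlgebraicGeometry.Etale (O.ι ≫ U.hom) :=
      MorphismProperty.comp_mem @AlgebraicGeometry.Etale O.ι U.hom inferInstance inferInstance
    let V : S.Etale := Scheme.Etale.mk (O.ι ≫ U.hom)
    let g : V ⟶ U := MorphismProperty.Over.homMk O.ι rfl trivial
    refine ⟨V, g, ⟨x, hxO⟩, ⟨ULift.up (i : ZMod n), ?_⟩, rfl⟩
    apply hinjι
    rw [hφι]
    have hnat := congrArg (fun t => t w) ((EtCoh.muι S n).hom.naturality g.op)
    refine Eq.trans ?_ hnat.symm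
    show _ = (EtCoh.Gm S).obj.map g.op ((EtCoh.muι S n).hom.app (op U) w)
    rw [← hv, map_sec]
    congr 1
    rw [ZMod.val_natCast, Nat.mod_eq_of_lt hi]
    ext
    show ((zU z V ^ i : Γ(V.left, ⊤)ˣ) : Γ(V.left, ⊤)) = O.ι.appTop.hom (v : Γ(U.left, ⊤))
    have hOc : O.ι.appTop.hom (v : Γ(U.left, ⊤)) = O.ι.appTop.hom (c : Γ(U.left, ⊤)) := by
      rw [Scheme.Opens.ι_appTop]
      have hle : O.ι ''ᵁ ⊤ ≤ O := by rw [Scheme.Opens.ι_image_top]
      rw [show (homOfLE (le_top : O.ι ''ᵁ ⊤ ≤ ⊤)) = homOfLE hle ≫ i₁ from Subsingleton.elim _ _]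
      conv_rhs => rw [show homOfLE hle ≫ i₁ = homOfLE hle ≫ i₂ from Subsingleton.elim _ _]
      simp only [op_comp, Functor.map_comp, ConcreteCategory.comp_apply]
      exact congrArg _ hO
    rw [hOc, ← map_zU z g]
    simp only [c, Units.val_pow_eq_pow_val, map_pow]
    rfl
  haveI : IsIso e := by
    refine (Sheaf.isLocallyBijective_iff_isIso (A := AddCommGrpCat.{u + 1}) e).mp ?_
    exact ⟨(Presheaf.comp_isLocallyInjective_iff J (toSheafify J P) e.hom).mp hI,
      (Presheaf.comp_isLocallySurjective_iff J (toSheafify J P) e.hom).mp hS⟩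
  exact ⟨(asIso e).symm⟩

end Groth.Agent.HenselLib.Kummer
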