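import Groth.Agent.HenselLib.Idem
import Groth.Agent.HenselLib.Perm
import Mathlib.RingTheory.Unramified.Field
import Mathlib.RingTheory.Etale.StandardEtale
import Mathlib.FieldTheory.IsSepClosed

/-!
# Strictly henselian rings and sections of etale algebras
-/

set_option autoImplicit false
set_option linter.all false

universe u

open IsLocalRing Polynomial

namespace Groth.Agent.HenselLib.StrictSections

variable (R : Type u) [CommRing R]

theorem exists_algHom_of_prime [HenselianLocalRing R] [IsSepClosed (ResidueField R)]
    (E : Type u) [CommRing E] [Algebra R E] [Algebra.Etale R E] (q : Ideal E) [q.IsPrime]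
    (hq : q.comap (algebraMap R E) = maximalIdeal R) :
    ∃ τ : E →ₐ[R] R, (maximalIdeal R).comap τ.toRingHom = q := by
  haveI : HenselianRing R (maximalIdeal R) := henselianRing_maximalIdeal R
  let C := E ⧸ q
  letI : Algebra (ResidueField R) C := (Ideal.Quotient.lift (maximalIdeal R) (algebraMap R C)
    fun a ha => Ideal.Quotient.eq_zero_iff_mem.mpr (hq.ge ha)).toAlgebra
  haveI : IsScalarTower R (ResidueField R) C := IsScalarTower.of_algebraMap_eq fun a => rfl
  haveI : Algebra.FormallyUnramified E C := .quotient _
  haveI : Algebra.FormallyUnramified R C := .comp R E C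
  haveI : Algebra.FormallyUnramified (ResidueField R) C := .of_restrictScalars R _ _
  haveI : Algebra.EssFiniteType R C := .comp R E C
  haveI : Algebra.EssFiniteType (ResidueField R) C := .of_comp R _ _
  haveI : Module.Finite (ResidueField R) C := Algebra.FormallyUnramified.finite_of_free _ _
  haveI : Algebra.IsIntegral (ResidueField R) C := inferInstance
  letI : Field C := (isField_of_isIntegral_of_isField' (R := ResidueField R) (S := C)
    (Field.toIsField _)).toField
  haveI : Algebra.IsSeparable (ResidueField R) C := Algebra.FormallyUnramified.isSeparable _ _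
  let e : ResidueField R ≃ₐ[R] C :=
    AlgEquiv.ofBijective (IsScalarTower.toAlgHom R (ResidueField R) C)
      (IsSepClosed.algebraMap_bijective (ResidueField R) C)
  let σ : E →ₐ[R] R ⧸ maximalIdeal R := e.symm.toAlgHom.comp (Ideal.Quotient.mkₐ R q)
  obtain ⟨τ, hτ⟩ := exists_lift_of_etale (maximalIdeal R) σ
  refine ⟨τ, Ideal.ext fun z => ?_⟩
  rw [Ideal.mem_comap, ← Ideal.Quotient.eq_zero_iff_mem,
    show Ideal.Quotient.mk (maximalIdeal R) (τ.toRingHom z) = σ z from congr($hτ z)]
  show e.symm (Ideal.Quotient.mk q z) = 0 ↔ z ∈ q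
  rw [map_eq_zero_iff _ e.symm.injective, Ideal.Quotient.eq_zero_iff_mem]

variable [IsLocalRing R]

theorem henselian_and_sepClosed_of_sections
    (h : ∀ (E : Type u) [CommRing E] [Algebra R E] [Algebra.Etale R E] (q : Ideal E) [q.IsPrime],
      q.comap (algebraMap R E) = maximalIdeal R →
      ∃ τ : E →ₐ[R] R, (maximalIdeal R).comap τ.toRingHom = q) :
    HenselianLocalRing R ∧ IsSepClosed (ResidueField R) := by
  constructor
  · haveI : HenselianRing R (maximalIdeal R) := henselianRing_of_etale_lift _ fun E _ _ _ σ => by
      letI : Field (R ⧸ maximalIdeal R) := Ideal.Quotient.field _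
      haveI : (RingHom.ker σ.toRingHom).IsPrime := RingHom.ker_isPrime _
      have hc : (RingHom.ker σ.toRingHom).comap (algebraMap R E) = maximalIdeal R := by
        ext r
        show σ (algebraMap R E r) = 0 ↔ _
        rw [AlgHom.commutes, Ideal.Quotient.algebraMap_eq, Ideal.Quotient.eq_zero_iff_mem]
      obtain ⟨τ, hτ⟩ := h E _ hc
      refine ⟨τ, AlgHom.ext fun z => ?_⟩
      obtain ⟨r, hr⟩ := Ideal.Quotient.mk_surjective (σ z)
      have hmem : z - algebraMap R E r ∈ RingHom.ker σ.toRingHom := by
        show σ _ = 0
        rw [map_sub, AlgHom.commutes, Ideal.Quotient.algebraMap_eq, hr, sub_self]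
      rw [← hτ, Ideal.mem_comap] at hmem
      show Ideal.Quotient.mk _ (τ z) = σ z
      rw [← hr, Ideal.Quotient.eq]
      simpa using hmem
    exact henselianLocalRing_of_henselianRing R
  · refine IsSepClosed.of_exists_root _ fun f hf hirr hsep => ?_
    obtain ⟨F, hF, -, hFm⟩ := Polynomial.lifts_and_degree_eq_and_monic
      (Polynomial.map_surjective (residue R) residue_surjective f |>.elim fun g hg =>
        (Polynomial.mem_lifts f).mpr ⟨g, hg⟩) hf
    let P : StandardEtalePair R :=
      { f := F, monic_f := hFm, g := derivative F, cond := ⟨1, 0, 1, by ring⟩ }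
    haveI := Fact.mk hirr
    have hmap : P.HasMap (AdjoinRoot.root f) := by
      have h0 : ∀ G : R[X], aeval (AdjoinRoot.root f) G = aeval (AdjoinRoot.root f) (G.map (residue R)) :=
        fun G => (aeval_map_algebraMap (ResidueField R) _ G).symm
      refine ⟨?_, ?_⟩
      · rw [h0, hF, AdjoinRoot.aeval_eq, AdjoinRoot.mk_self]
      · show IsUnit (aeval _ (derivative F))
        rw [h0, ← derivative_map, hF]
        exact hsep.aeval_derivative_ne_zero (AdjoinRoot.aeval_eq f |>.trans AdjoinRoot.mk_self) |>.isUnit
    let g := P.lift _ hmap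
    haveI : (RingHom.ker g.toRingHom).IsPrime := RingHom.ker_isPrime _
    have hc : (RingHom.ker g.toRingHom).comap (algebraMap R P.Ring) = maximalIdeal R := by
      ext r
      show g (algebraMap R P.Ring r) = 0 ↔ _
      rw [AlgHom.commutes, IsScalarTower.algebraMap_apply R (ResidueField R) (AdjoinRoot f),
        map_eq_zero_iff _ (algebraMap (ResidueField R) (AdjoinRoot f)).injective, ResidueField.algebraMap_eq,
        residue_eq_zero_iff]
    obtain ⟨τ, -⟩ := h P.Ring _ hc
    refine ⟨residue R (τ P.X), ?_⟩
    have := congrArg (residue R) (P.hasMap_X.map τ).1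
    rw [map_zero] at this
    rw [← hF, ← ResidueField.algebraMap_eq, eval_map_algebraMap, aeval_algebraMap_apply_eq_algebraMap_eval]
    simpa [ResidueField.algebraMap_eq, P] using this

end Groth.Agent.HenselLib.StrictSections
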