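import Mathlib
import Groth.Prelude.Def_PBC

/-!
# Ind-etale ring maps

`EtPBC.IsIndEtale` as `MorphismProperty.ind` of etale ring maps; stability properties.
-/

set_option autoImplicit false

open CategoryTheory Limits TensorProduct

universe u

namespace Groth.Agent.HenselLib.IndEt

/-- Etale ring maps as a morphism property. -/
abbrev etaleMP : MorphismProperty CommRingCat.{u} := RingHom.toMorphismProperty RingHom.Etale

instance : (etaleMP.{u}).IsStableUnderCobaseChange :=
  RingHom.isStableUnderCobaseChange_toMorphismProperty_iff.2 RingHom.Etale.isStableUnderBaseChange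

instance : (etaleMP.{u}).RespectsIso :=
  RingHom.toMorphismProperty_respectsIso_iff.1 RingHom.Etale.respectsIso

instance : (etaleMP.{u}).IsStableUnderComposition :=
  ⟨fun _ _ hf hg => RingHom.Etale.stableUnderComposition _ _ hf hg⟩

theorem etale_finitePresentation {R S : Type u} [CommRing R] [CommRing S] {f : R →+* S} (hf : f.Etale) :
    f.FinitePresentation := by
  algebraize [f]
  exact inferInstanceAs (Algebra.FinitePresentation R S)

theorem etaleMP_le_fp : etaleMP.{u} ≤ MorphismProperty.isFinitelyPresentable.{u} CommRingCat.{u} :=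
  fun _ _ f hf => CommRingCat.isFinitelyPresentable_hom f (etale_finitePresentation hf)

/-- The free algebra on one variable. -/
noncomputable abbrev freeObj (R : CommRingCat.{u}) : Under R :=
  Under.mk (CommRingCat.ofHom (Polynomial.C : R →+* Polynomial R))

noncomputable def freeHom (R : CommRingCat.{u}) (X : Under R) (x : X.right) : freeObj R ⟶ X :=
  Under.homMk (CommRingCat.ofHom (Polynomial.eval₂RingHom X.hom.hom x)) (by ext r; simp)

theorem freeHom_X (R : CommRingCat.{u}) (X : Under R) (x : X.right) :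
    (freeHom R X x).right.hom Polynomial.X = x := by
  simp [freeHom]

instance isLocallyFinitelyPresentable_under (R : CommRingCat.{u}) :
    IsLocallyFinitelyPresentable.{u} (Under R) := by
  haveI : Fact (Cardinal.aleph0.{u}).IsRegular := Cardinal.fact_isRegular_aleph0
  refine (IsCardinalLocallyPresentable.iff_exists_isStrongGenerator.{u} (Under R) Cardinal.aleph0.{u}).2 ⟨ObjectProperty.singleton (freeObj R), inferInstance, ?_, ?_⟩
  · rw [ObjectProperty.isStrongGenerator_iff]
    refine ⟨fun X Y f g h => ?_, fun X Y i _ h => ?_⟩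
    · ext x
      have hx := h (freeObj R) ((ObjectProperty.singleton_iff _ _).2 rfl) (freeHom R X x)
      have h1 : f.right.hom ((freeHom R X x).right.hom Polynomial.X) =
          g.right.hom ((freeHom R X x).right.hom Polynomial.X) :=
        congrArg (fun φ : freeObj R ⟶ Y => φ.right.hom Polynomial.X) hx
      rw [freeHom_X] at h1
      exact h1
    · haveI : Mono i.right := inferInstanceAs (Mono ((Under.forget R).map i))
      haveI : IsIso i.right := by
        rw [ConcreteCategory.isIso_iff_bijective]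
        refine ⟨(ConcreteCategory.mono_iff_injective_of_preservesPullback i.right).1 inferInstance, ?_⟩
        intro y
        obtain ⟨f, hf⟩ := h (freeObj R) ((ObjectProperty.singleton_iff _ _).2 rfl) (freeHom R Y y)
        refine ⟨f.right.hom Polynomial.X, ?_⟩
        have h1 : i.right.hom (f.right.hom Polynomial.X) = (freeHom R Y y).right.hom Polynomial.X :=
          congrArg (fun φ : freeObj R ⟶ Y => φ.right.hom Polynomial.X) hf
        rw [freeHom_X] at h1
        exact h1
      haveI : IsIso ((Under.forget R).map i) := this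
      exact isIso_of_reflects_iso i (Under.forget R)
  · intro X hX
    rw [ObjectProperty.singleton_iff] at hX
    subst hX
    have h1 : (algebraMap R (Polynomial R)).FinitePresentation :=
      RingHom.finitePresentation_algebraMap.2 inferInstance
    exact CommRingCat.isFinitelyPresentable_under R _ h1

/-- `IsIndEtale` as `ObjectProperty.ind`. -/
theorem isIndEtale_iff (A B : Type u) [CommRing A] [CommRing B] [Algebra A B] :
    EtPBC.IsIndEtale A B ↔ ObjectProperty.ind.{u} (etaleMP.underObj)
      (Under.mk (CommRingCat.ofHom (algebraMap A B))) := by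
  constructor
  · rintro ⟨J, _, _, D, c, hc, hD, ⟨e⟩⟩
    exact ⟨J, inferInstance, inferInstance,
      ({ diag := D, ι := c.ι, isColimit := hc } : ColimitPresentation J c.pt).ofIso e, hD⟩
  · rintro ⟨J, _, _, p, hp⟩
    exact ⟨J, inferInstance, inferInstance, p.diag, p.cocone, p.isColimit, hp, ⟨Iso.refl _⟩⟩

theorem isIndEtale_iff_ind (A B : Type u) [CommRing A] [CommRing B] [Algebra A B] :
    EtPBC.IsIndEtale A B ↔ MorphismProperty.ind.{u} etaleMP (CommRingCat.ofHom (algebraMap A B)) := by
  rw [isIndEtale_iff, MorphismProperty.ind_iff_ind_underMk]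

theorem baseChange (A B A' : Type u) [CommRing A] [CommRing B] [CommRing A'] [Algebra A B]
    [Algebra A A'] (h : EtPBC.IsIndEtale A B) : EtPBC.IsIndEtale A' (A' ⊗[A] B) := by
  rw [isIndEtale_iff_ind] at h ⊢
  exact MorphismProperty.of_isPushout (CommRingCat.isPushout_tensorProduct A A' B) h

theorem of_isColimit (A B : Type u) [CommRing A] [CommRing B] [Algebra A B]
    {J : Type u} [SmallCategory J] [IsFiltered J] (D : J ⥤ Under (CommRingCat.of A))
    (hD : ∀ j, letI := (D.obj j).hom.hom.toAlgebra; EtPBC.IsIndEtale A ↥(D.obj j).right)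
    (c : Cocone D) (hc : IsColimit c)
    (e : c.pt ≅ Under.mk (CommRingCat.ofHom (algebraMap A B))) :
    EtPBC.IsIndEtale A B := by
  rw [isIndEtale_iff]
  have hle : etaleMP.underObj (X := CommRingCat.of A) ≤
      ObjectProperty.isFinitelyPresentable.{u} (Under (CommRingCat.of A)) :=
    fun f hf => etaleMP_le_fp _ hf
  rw [← ObjectProperty.ind_ind.{u} hle]
  refine ⟨J, inferInstance, inferInstance,
    ({ diag := D, ι := c.ι, isColimit := hc } : ColimitPresentation J c.pt).ofIso e, fun j => ?_⟩
  exact (@isIndEtale_iff A _ _ _ (D.obj j).hom.hom.toAlgebra).1 (hD j)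

/-- elements of a filtered colimit of rings -/
theorem exists_rep_under {R : CommRingCat.{u}} {J : Type u} [SmallCategory J] [IsFiltered J]
    {D : J ⥤ Under R} {c : Cocone D} (hc : IsColimit c) (x : c.pt.right) :
    ∃ (j : J) (y : (D.obj j).right), (c.ι.app j).right.hom y = x :=
  Concrete.isColimit_exists_rep (D ⋙ Under.forget R) (isColimitOfPreserves (Under.forget R) hc) x

theorem flat_of_lifts {A B : Type u} [CommRing A] [CommRing B] [Algebra A B]
    (h : ∀ (l : ℕ) (f : Fin l → A) (x : Fin l → B), ∑ i, f i • x i = 0 →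
      ∃ (C : Type u) (_ : CommRing C) (_ : Algebra A C) (_ : Module.Flat A C) (φ : C →ₐ[A] B)
        (z : Fin l → C), (∀ i, φ (z i) = x i) ∧ ∑ i, f i • z i = 0) : Module.Flat A B := by
  rw [Module.Flat.iff_forall_isTrivialRelation]
  intro l f x hfx
  obtain ⟨C, _, _, _, φ, z, hz, h0⟩ := h l f x hfx
  obtain ⟨n, mat, w, hw, hfm⟩ := Module.Flat.isTrivialRelation_of_sum_smul_eq_zero (R := A) (M := C) (f := f) (x := z) h0
  refine ⟨n, mat, fun m => φ (w m), fun i => ?_, hfm⟩
  rw [← hz i, hw i, map_sum]
  simp only [map_smul]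

/-- Finitely many elements of a filtered colimit of rings come from one stage. -/
theorem exists_rep_fin {J : Type u} [SmallCategory J] [IsFiltered J] {D : J ⥤ CommRingCat.{u}}
    {c : Cocone D} (hc : IsColimit c) {l : ℕ} (x : Fin l → c.pt) :
    ∃ (k : J) (z : Fin l → D.obj k), ∀ i, (c.ι.app k).hom (z i) = x i := by
  classical
  choose j y hy using fun i => Concrete.isColimit_exists_rep D hc (x i)
  obtain ⟨k, hk⟩ := IsFiltered.sup_objs_exists (Finset.univ.image j)
  let g : ∀ i, j i ⟶ k := fun i => (hk (Finset.mem_image_of_mem j (Finset.mem_univ i))).some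
  refine ⟨k, fun i => (D.map (g i)).hom (y i), fun i => ?_⟩
  rw [← hy i]
  exact ConcreteCategory.congr_hom (c.w (g i)) (y i)

theorem flat (A B : Type u) [CommRing A] [CommRing B] [Algebra A B] (h : EtPBC.IsIndEtale A B) :
    Module.Flat A B := by
  obtain ⟨J, _, _, D, t, s, hs, hst⟩ := (isIndEtale_iff_ind A B).1 h
  refine flat_of_lifts fun l f x hfx => ?_
  obtain ⟨k, z, hz⟩ := exists_rep_fin hs x
  let T : ∀ m : J, A →+* D.obj m := fun m => (t.app m).hom
  let S : ∀ m : J, D.obj m →+* B := fun m => (s.app m).hom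
  have hz' : ∀ i, S k (z i) = x i := hz
  have hST : ∀ (m : J) (r : A), S m (T m r) = algebraMap A B r := fun m r =>
    ConcreteCategory.congr_hom (hst m).2 r
  have h0 : S k (∑ i, T k (f i) * z i) = S k 0 := by
    rw [map_zero, map_sum, ← hfx]
    simp only [map_mul, hST, hz', Algebra.smul_def]
  obtain ⟨k', a, b, hab⟩ := Concrete.isColimit_exists_of_rep_eq D hs
    (∑ i, T k (f i) * z i) (0 : D.obj k) h0
  let M : D.obj k →+* D.obj k' := (D.map a).hom
  have hM : ∀ r, M (T k r) = T k' r := fun r =>
    (ConcreteCategory.congr_hom (t.naturality a) r).symm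
  have hS : ∀ y, S k' (M y) = S k y := fun y => ConcreteCategory.congr_hom (s.naturality a) y
  have hb : M (∑ i, T k (f i) * z i) = 0 := hab.trans (map_zero (D.map b).hom)
  algebraize [T k']
  haveI : Algebra.Etale A (D.obj k') := (hst k').1
  refine ⟨D.obj k', inferInstance, inferInstance, inferInstance,
    { S k' with commutes' := fun r => hST k' r }, fun i => M (z i), fun i => ?_, ?_⟩
  · exact (hS (z i)).trans (hz' i)
  · rw [← hb, map_sum]
    simp only [map_mul, hM, Algebra.smul_def]
    rfl

/-- Two ring maps out of `ULift ℤ` agree. -/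
theorem uliftInt_ext {S : Type u} [CommRing S] (φ ψ : ULift.{u} ℤ →+* S) : φ = ψ := by
  have : φ.comp ULift.ringEquiv.symm.toRingHom = ψ.comp ULift.ringEquiv.symm.toRingHom :=
    RingHom.ext_int _ _
  ext ⟨x⟩
  exact RingHom.congr_fun this x

def uliftIntHom (S : Type u) [CommRing S] : ULift.{u} ℤ →+* S :=
  (Int.castRingHom S).comp ULift.ringEquiv.toRingHom

instance : MorphismProperty.PreIndSpreads.{u} etaleMP.{u} where
  exists_isPushout {J _ _ D c} hc T f hf := by
    algebraize [f.hom]
    letI : Algebra (ULift.{u} ℤ) c.pt := (uliftIntHom c.pt).toAlgebra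
    haveI : Algebra.Etale c.pt T := hf
    obtain ⟨A₀, B₀, _, _, hA₀, hB₀, ⟨e⟩⟩ :=
      Algebra.Etale.exists_subalgebra_fg (ULift.{u} ℤ) c.pt T
    haveI : IsNoetherianRing (ULift.{u} ℤ) := isNoetherianRing_of_ringEquiv ℤ ULift.ringEquiv.symm
    haveI : Algebra.FiniteType (ULift.{u} ℤ) A₀ := (Subalgebra.fg_iff_finiteType A₀).mp hA₀
    have hfp : (algebraMap (ULift.{u} ℤ) A₀).FinitePresentation :=
      RingHom.finitePresentation_algebraMap.2
        (Algebra.FinitePresentation.of_finiteType.1 inferInstance)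
    obtain ⟨j, q, -, hq⟩ := RingHom.EssFiniteType.exists_eq_comp_ι_app_of_isColimit
      (CommRingCat.of (ULift.{u} ℤ)) D
      { app := fun i => CommRingCat.ofHom (uliftIntHom (D.obj i))
        naturality := fun i i' g => CommRingCat.hom_ext (uliftInt_ext _ _) }
      (CommRingCat.ofHom (algebraMap (ULift.{u} ℤ) A₀)) c hc hfp
      (CommRingCat.ofHom A₀.val.toRingHom) (fun i => CommRingCat.hom_ext (uliftInt_ext _ _))
    let b : CommRingCat.of A₀ ⟶ CommRingCat.of B₀ := CommRingCat.ofHom (algebraMap A₀ B₀)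
    let ψ : CommRingCat.of B₀ ⟶ T :=
      CommRingCat.ofHom (e.symm.toRingHom.comp Algebra.TensorProduct.includeRight.toRingHom)
    have houter : IsPushout (q ≫ c.ι.app j) b f ψ := by
      rw [← hq]
      exact (CommRingCat.isPushout_tensorProduct A₀ c.pt B₀).of_iso (Iso.refl _) (Iso.refl _)
        (Iso.refl _) e.symm.toRingEquiv.toCommRingCatIso rfl rfl
        (by ext x; exact e.symm.commutes x) rfl
    have hleft : IsPushout q b (pushout.inl q b) (pushout.inr q b) := IsPushout.of_hasPushout q b
    let g : pushout q b ⟶ T := pushout.desc (c.ι.app j ≫ f) ψ (by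
      rw [← Category.assoc]; exact houter.w)
    refine ⟨j, pushout q b, pushout.inl q b, g, ?_, MorphismProperty.of_isPushout hleft ?_⟩
    · refine IsPushout.of_left ?_ (pushout.inl_desc _ _ _).symm hleft
      rw [pushout.inr_desc]
      exact houter
    · exact RingHom.etale_algebraMap.2 hB₀

theorem trans (A B C : Type u) [CommRing A] [CommRing B] [CommRing C] [Algebra A B]
    [Algebra B C] [Algebra A C] [IsScalarTower A B C] (hAB : EtPBC.IsIndEtale A B)
    (hBC : EtPBC.IsIndEtale B C) : EtPBC.IsIndEtale A C := by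
  rw [isIndEtale_iff_ind] at hAB hBC ⊢
  haveI : (MorphismProperty.ind.{u} etaleMP.{u}).IsStableUnderComposition :=
    MorphismProperty.IsStableUnderComposition.ind_of_preIndSpreads etaleMP_le_fp
  rw [IsScalarTower.algebraMap_eq A B C, CommRingCat.ofHom_comp]
  exact MorphismProperty.comp_mem _ _ _ hAB hBC

/-- Idempotents in the kernel of a ring map. -/
structure Idem {A B : Type u} [CommRing A] [CommRing B] (φ : A →+* B) : Type u where
  e : A
  idem : IsIdempotentElem e
  map : φ e = 0

section Surjective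

variable {A B : Type u} [CommRing A] [CommRing B] {φ : A →+* B}

theorem mem_span_idem {x e : A} (he : IsIdempotentElem e) : x ∈ Ideal.span {e} ↔ x * e = x := by
  constructor
  · intro h
    obtain ⟨y, rfl⟩ := Ideal.mem_span_singleton'.1 h
    rw [mul_assoc, he.eq]
  · intro h
    rw [← h]
    exact Ideal.mul_mem_left _ _ (Ideal.subset_span rfl)

theorem idem_join {e f : A} (he : IsIdempotentElem e) (hf : IsIdempotentElem f) :
    IsIdempotentElem (e + f - e * f) := by
  show _ * _ = _
  linear_combination (1 - 2 * f + f * f) * he.eq + (1 - e) * hf.eq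

instance : Preorder (Idem φ) where
  le a b := a.e * b.e = a.e
  le_refl a := a.idem.eq
  le_trans a b c (h : a.e * b.e = a.e) (h' : b.e * c.e = b.e) :=
    show a.e * c.e = a.e by rw [← h, mul_assoc, h']

instance : Nonempty (Idem φ) := ⟨⟨0, IsIdempotentElem.zero, map_zero _⟩⟩

instance : IsDirectedOrder (Idem φ) := ⟨fun a b =>
  ⟨⟨a.e + b.e - a.e * b.e, idem_join a.idem b.idem, by simp [a.map, b.map]⟩,
    show a.e * (a.e + b.e - a.e * b.e) = a.e by linear_combination (1 - b.e) * a.idem.eq,
    show b.e * (a.e + b.e - a.e * b.e) = b.e by linear_combination (1 - a.e) * b.idem.eq⟩⟩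

theorem idem_span_le {a b : Idem φ} (h : a ≤ b) : Ideal.span {a.e} ≤ Ideal.span {b.e} := by
  rw [Ideal.span_le, Set.singleton_subset_iff, SetLike.mem_coe, mem_span_idem b.idem]
  exact h

theorem idem_ker (a : Idem φ) (x : A) (hx : x ∈ Ideal.span {a.e}) : φ x = 0 := by
  obtain ⟨y, rfl⟩ := Ideal.mem_span_singleton'.1 hx
  simp [a.map]

variable (φ)

/-- the diagram of quotients by idempotents of the kernel -/
noncomputable def idemDiag : Idem φ ⥤ Under (CommRingCat.of A) where
  obj a := Under.mk (Y := CommRingCat.of (A ⧸ Ideal.span {a.e}))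
    (CommRingCat.ofHom (Ideal.Quotient.mk (Ideal.span {a.e})))
  map {a b} h := Under.homMk (CommRingCat.ofHom (Ideal.Quotient.factor (idem_span_le (leOfHom h))))
    (CommRingCat.hom_ext (RingHom.ext fun _ => rfl))
  map_id _ := Under.UnderMorphism.ext
    (CommRingCat.hom_ext (Ideal.Quotient.ringHom_ext (RingHom.ext fun _ => rfl)))
  map_comp _ _ := Under.UnderMorphism.ext
    (CommRingCat.hom_ext (Ideal.Quotient.ringHom_ext (RingHom.ext fun _ => rfl)))

/-- the cocone to the target -/
noncomputable def idemCocone : Cocone (idemDiag φ) where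
  pt := Under.mk (Y := CommRingCat.of B) (CommRingCat.ofHom φ)
  ι :=
    { app := fun a => Under.homMk
        (CommRingCat.ofHom (Ideal.Quotient.lift (Ideal.span {a.e}) φ (idem_ker a)))
        (CommRingCat.hom_ext (RingHom.ext fun _ => rfl))
      naturality := fun _ _ _ => Under.UnderMorphism.ext
        (CommRingCat.hom_ext (Ideal.Quotient.ringHom_ext (RingHom.ext fun _ => rfl))) }

variable {φ}

theorem idemCocone_kills (H : ∀ x : A, φ x = 0 → ∃ a : Idem φ, x * a.e = x)
    (s : Cocone (idemDiag φ)) (x : A) (hx : φ x = 0) : s.pt.hom.hom x = 0 := by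
  obtain ⟨a, hxa⟩ := H x hx
  refine (ConcreteCategory.congr_hom (Under.w (s.ι.app a)) x).symm.trans ?_
  have h0 : Ideal.Quotient.mk (Ideal.span {a.e}) x = 0 :=
    Ideal.Quotient.eq_zero_iff_mem.2 ((mem_span_idem a.idem).2 hxa)
  exact (congrArg (s.ι.app a).right.hom h0).trans (map_zero _)

theorem idemCocone_isColimit (hsurj : Function.Surjective φ)
    (H : ∀ x : A, φ x = 0 → ∃ a : Idem φ, x * a.e = x) : Nonempty (IsColimit (idemCocone φ)) := by
  let L : ∀ s : Cocone (idemDiag φ), B →+* s.pt.right := fun s =>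
    RingHom.liftOfSurjective φ hsurj ⟨s.pt.hom.hom, fun x hx => idemCocone_kills H s x hx⟩
  have hL : ∀ (s : Cocone (idemDiag φ)) (x : A), L s (φ x) = s.pt.hom.hom x := fun s x =>
    RingHom.liftOfRightInverse_comp_apply φ _ (Function.rightInverse_surjInv hsurj)
      ⟨s.pt.hom.hom, fun x hx => idemCocone_kills H s x hx⟩ x
  refine ⟨{
    desc := fun s => Under.homMk (CommRingCat.ofHom (L s))
      (CommRingCat.hom_ext (RingHom.ext fun x => hL s x))
    fac := fun s a => ?_
    uniq := fun s m hm => ?_ }⟩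
  · refine Under.UnderMorphism.ext (CommRingCat.hom_ext (Ideal.Quotient.ringHom_ext (RingHom.ext fun x => ?_)))
    exact (hL s x).trans (ConcreteCategory.congr_hom (Under.w (s.ι.app a)) x).symm
  · refine Under.UnderMorphism.ext (CommRingCat.hom_ext (RingHom.ext fun y => ?_))
    obtain ⟨x, rfl⟩ := hsurj y
    exact (ConcreteCategory.congr_hom (Under.w m) x).trans (hL s x).symm

theorem etale_quotient_idem {e : A} (he : IsIdempotentElem e) :
    Algebra.Etale A (A ⧸ Ideal.span {e}) := by
  haveI : IsLocalization.Away (1 - e) (A ⧸ Ideal.span {e}) :=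
    IsLocalization.away_of_isIdempotentElem he.one_sub
      (by rw [Ideal.Quotient.algebraMap_eq, Ideal.mk_ker, sub_sub_cancel]) Ideal.Quotient.mk_surjective
  exact Algebra.Etale.of_isLocalizationAway (A := A ⧸ Ideal.span {e}) (1 - e)

theorem idemDiag_etale (a : Idem φ) : (((idemDiag φ).obj a).hom.hom).Etale :=
  (RingHom.etale_algebraMap (R := A) (S := A ⧸ Ideal.span {a.e})).2 (etale_quotient_idem a.idem)

end Surjective

/-- A surjection whose kernel is a union of ideals generated by idempotents is ind-etale. -/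
theorem of_surjective {A B : Type u} [CommRing A] [CommRing B] [Algebra A B]
    (hsurj : Function.Surjective (algebraMap A B))
    (H : ∀ x : A, algebraMap A B x = 0 →
      ∃ e : A, IsIdempotentElem e ∧ algebraMap A B e = 0 ∧ x * e = x) :
    EtPBC.IsIndEtale A B := by
  obtain ⟨hc⟩ := idemCocone_isColimit hsurj (fun x hx => by
    obtain ⟨e, he, he0, hxe⟩ := H x hx; exact ⟨⟨e, he, he0⟩, hxe⟩)
  exact ⟨_, inferInstance, inferInstance, _, _, hc, fun a => idemDiag_etale a, ⟨Iso.refl _⟩⟩

theorem of_isScalarTower (A B C : Type u) [CommRing A] [CommRing B]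
    [CommRing C] [Algebra A B] [Algebra B C] [Algebra A C] [IsScalarTower A B C]
    (hB : EtPBC.IsIndEtale A B) (hC : EtPBC.IsIndEtale A C) : EtPBC.IsIndEtale B C := by
  have h1 : EtPBC.IsIndEtale B (B ⊗[A] C) := baseChange A C B hC
  let μ : B ⊗[A] C →ₐ[B] C :=
    Algebra.TensorProduct.lift (Algebra.ofId B C) (AlgHom.id A C) (fun _ _ => Commute.all _ _)
  letI : Algebra (B ⊗[A] C) C := μ.toRingHom.toAlgebra
  haveI : IsScalarTower B (B ⊗[A] C) C :=
    IsScalarTower.of_algebraMap_eq fun b => (μ.commutes b).symm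
  refine trans B (B ⊗[A] C) C h1 ?_
  have hμ1 : ∀ x : C, μ ((1 : B) ⊗ₜ[A] x) = x := fun x => by simp [μ]
  have hμ2 : ∀ b : B, μ (b ⊗ₜ[A] (1 : C)) = algebraMap B C b := fun b => by simp [μ, Algebra.ofId_apply]
  let dlt : B → B ⊗[A] C := fun b => b ⊗ₜ[A] (1 : C) - (1 : B) ⊗ₜ[A] algebraMap B C b
  -- each generator of the kernel is absorbed by an idempotent of the kernel
  have hgen : ∀ b : B, ∃ e : B ⊗[A] C, IsIdempotentElem e ∧ μ e = 0 ∧ dlt b * e = dlt b := by
    intro b
    obtain ⟨J, _, _, D, t, s, hs, hst⟩ := (isIndEtale_iff_ind A B).1 hB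
    obtain ⟨j, b', hb'⟩ := Concrete.isColimit_exists_rep D hs b
    letI : Algebra A (D.obj j) := RingHom.toAlgebra (t.app j).hom
    haveI : Algebra.Etale A (D.obj j) := (hst j).1
    let σ : D.obj j →ₐ[A] B :=
      { (s.app j).hom with commutes' := fun r => ConcreteCategory.congr_hom (hst j).2 r }
    have hσ : σ b' = b := hb'
    let ε := Algebra.FormallyUnramified.elem A (D.obj j)
    have hann : ∀ x : D.obj j ⊗[A] D.obj j,
        Algebra.TensorProduct.lmul' A x = 0 → x * ε = 0 := by
      intro x hx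
      have hx' : x ∈ KaehlerDifferential.ideal A (D.obj j) := hx
      rw [← KaehlerDifferential.span_range_eq_ideal] at hx'
      refine Submodule.span_induction ?_ (zero_mul _) (fun y z _ _ hy hz => by rw [add_mul, hy, hz, add_zero])
        (fun r y _ hy => by rw [smul_eq_mul, mul_assoc, hy, mul_zero]) hx'
      rintro _ ⟨r, rfl⟩
      exact Algebra.FormallyUnramified.one_tmul_sub_tmul_one_mul_elem r
    have hε1 : Algebra.TensorProduct.lmul' A ε = 1 := Algebra.FormallyUnramified.lmul_elem
    have hεidem : IsIdempotentElem ε := by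
      have := hann (1 - ε) (by rw [map_sub, map_one, hε1, sub_self])
      show ε * ε = ε
      linear_combination -this
    let Φ : D.obj j ⊗[A] D.obj j →ₐ[A] B ⊗[A] C :=
      Algebra.TensorProduct.map σ ((IsScalarTower.toAlgHom A B C).comp σ)
    have hμΦ : ∀ x, μ (Φ x) = algebraMap B C (σ (Algebra.TensorProduct.lmul' A x)) := by
      intro x
      induction x using TensorProduct.induction_on with
      | zero => simp
      | tmul y z => simp [Φ, μ, Algebra.ofId_apply]
      | add y z hy hz => simp [hy, hz]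
    refine ⟨Φ (1 - ε), (hεidem.one_sub).map Φ, ?_, ?_⟩
    · rw [hμΦ, map_sub, map_one, hε1, sub_self, map_zero, map_zero]
    · have hd : dlt b = Φ (b' ⊗ₜ[A] 1 - 1 ⊗ₜ[A] b') := by simp [dlt, Φ, hσ]
      have h0 : (b' ⊗ₜ[A] 1 - 1 ⊗ₜ[A] b') * ε = 0 :=
        hann _ (by simp)
      rw [hd, ← map_mul, mul_sub, mul_one, h0, sub_zero]
  refine of_surjective (fun x => ⟨(1 : B) ⊗ₜ[A] x, hμ1 x⟩) fun x hx => ?_
  have hmem : ∀ y : B ⊗[A] C, y - (1 : B) ⊗ₜ[A] μ y ∈ Ideal.span (Set.range dlt) := by
    intro y
    induction y using TensorProduct.induction_on with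
    | zero => simp
    | tmul b c =>
      have : b ⊗ₜ[A] c - (1 : B) ⊗ₜ[A] μ (b ⊗ₜ[A] c) = dlt b * ((1 : B) ⊗ₜ[A] c) := by
        simp [dlt, μ, Algebra.ofId_apply, sub_mul, Algebra.TensorProduct.tmul_mul_tmul]
      rw [this]
      exact Ideal.mul_mem_right _ _ (Ideal.subset_span ⟨b, rfl⟩)
    | add y z hy hz =>
      rw [map_add, TensorProduct.tmul_add, add_sub_add_comm]
      exact Ideal.add_mem _ hy hz
  have hx' : x ∈ Ideal.span (Set.range dlt) := by
    have hx0 : μ x = 0 := hx
    simpa [hx0] using hmem x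
  refine Submodule.span_induction ?_ ⟨0, IsIdempotentElem.zero, map_zero _, mul_zero _⟩ ?_ ?_ hx'
  · rintro _ ⟨b, rfl⟩; exact hgen b
  · rintro y z - - ⟨e, he, he0, hye⟩ ⟨f, hf, hf0, hzf⟩
    have hye' := hye
    refine ⟨e + f - e * f, ?_, ?_, ?_⟩
    · show _ * _ = _
      linear_combination (1 - 2 * f + f * f) * he.eq + (1 - e) * hf.eq
    · simp [he0, hf0]
    · linear_combination (1 - f) * hye + (1 - e) * hzf
  · rintro r y - ⟨e, he, he0, hye⟩
    exact ⟨e, he, he0, by rw [smul_eq_mul, mul_assoc, hye]⟩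

theorem refl (A : Type u) [CommRing A] : EtPBC.IsIndEtale A A := by
  rw [isIndEtale_iff_ind]
  refine MorphismProperty.le_ind _ _ ?_
  exact RingHom.Etale.of_bijective Function.bijective_id

theorem weaklyEtale (A B : Type u) [CommRing A] [CommRing B] [Algebra A B]
    (h : EtPBC.IsIndEtale A B) : Algebra.WeaklyEtale A B where
  flat := flat A B h
  flat_lmul' := by
    letI : Algebra (B ⊗[A] B) B := (Algebra.TensorProduct.lmul' A (S := B)).toRingHom.toAlgebra
    haveI : IsScalarTower B (B ⊗[A] B) B := IsScalarTower.of_algebraMap_eq fun b => by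
      change b = Algebra.TensorProduct.lmul' A (b ⊗ₜ[A] (1 : B))
      simp
    exact flat _ _ (of_isScalarTower B (B ⊗[A] B) B (baseChange A B B h) (refl B))

end Groth.Agent.HenselLib.IndEt
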