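import Mathlib
import Groth.Prelude.Def_ProEtW
import Groth.Agent.HenselLib.IndEtale

/-!
# Algebraic residue field extensions
-/

set_option autoImplicit false

open TensorProduct

universe u

namespace Groth.Agent.HenselLib.AlgRes

/-- An etale algebra has algebraic residue extensions. -/
theorem isAlgebraic_of_etale {A B : Type u} [CommRing A] [CommRing B] [Algebra A B] [Algebra.Etale A B]
    (q : Ideal B) [q.IsPrime] :
    Algebra.IsAlgebraic (A ⧸ q.comap (algebraMap A B)) (B ⧸ q) := by
  let p := q.comap (algebraMap A B)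
  haveI : q.LiesOver p := ⟨rfl⟩
  letI : Algebra (Localization.AtPrime p) (Localization.AtPrime q) :=
    Localization.AtPrime.algebraOfLiesOver p q
  haveI : Module.Finite p.ResidueField q.ResidueField := inferInstance
  letI : Algebra (A ⧸ p) q.ResidueField :=
    ((algebraMap p.ResidueField q.ResidueField).comp (algebraMap (A ⧸ p) p.ResidueField)).toAlgebra
  haveI : IsScalarTower (A ⧸ p) p.ResidueField q.ResidueField := IsScalarTower.of_algebraMap_eq' rfl
  refine ⟨fun x => ?_⟩
  obtain ⟨b, rfl⟩ := Ideal.Quotient.mk_surjective x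
  have h1 : IsAlgebraic p.ResidueField (algebraMap B q.ResidueField b) := Algebra.IsAlgebraic.isAlgebraic _
  have h2 : IsAlgebraic (A ⧸ p) (algebraMap B q.ResidueField b) :=
    (IsFractionRing.isAlgebraic_iff (A ⧸ p) p.ResidueField q.ResidueField).2 h1
  refine (isAlgebraic_algHom_iff
    ({ algebraMap (B ⧸ q) q.ResidueField with commutes' := fun r => ?_ } :
      B ⧸ q →ₐ[A ⧸ p] q.ResidueField) (Ideal.injective_algebraMap_quotient_residueField q)).1 ?_
  · obtain ⟨a, rfl⟩ := Ideal.Quotient.mk_surjective r
    show algebraMap (B ⧸ q) q.ResidueField (Ideal.Quotient.mk q (algebraMap A B a)) = _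
    rw [Ideal.algebraMap_quotient_residueField_mk, IsScalarTower.algebraMap_apply (A ⧸ p) p.ResidueField q.ResidueField,
      Ideal.algebraMap_quotient_residueField_mk, ← IsScalarTower.algebraMap_apply,
      ← IsScalarTower.algebraMap_apply]
  · exact h2

/-- An ind-etale algebra has algebraic residue extensions. -/
theorem of_isIndEtale {A B : Type u} [CommRing A] [CommRing B] [Algebra A B]
    (h : EtPBC.IsIndEtale A B) : ProEtW.AlgebraicResidueExtensions A B := by
  intro q hq
  refine ⟨fun x => ?_⟩
  obtain ⟨b, rfl⟩ := Ideal.Quotient.mk_surjective x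
  obtain ⟨J, _, _, D, t, s, hs, hst⟩ := (IndEt.isIndEtale_iff_ind A B).1 h
  obtain ⟨j, b', hb'⟩ := CategoryTheory.Limits.Concrete.isColimit_exists_rep D hs b
  letI : Algebra A (D.obj j) := (t.app j).hom.toAlgebra
  haveI : Algebra.Etale A (D.obj j) := (hst j).1
  let σ : D.obj j →ₐ[A] B :=
    { (s.app j).hom with commutes' := fun r => CategoryTheory.ConcreteCategory.congr_hom (hst j).2 r }
  have hσ : σ b' = b := hb'
  have halg := isAlgebraic_of_etale (A := A) (q.comap σ.toRingHom)
  have hp : (q.comap σ.toRingHom).comap (algebraMap A (D.obj j)) = q.comap (algebraMap A B) := by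
    rw [Ideal.comap_comap, AlgHom.toRingHom_eq_coe, AlgHom.comp_algebraMap]
  obtain ⟨P, hP0, hP⟩ := halg.isAlgebraic (Ideal.Quotient.mk _ b')
  refine ⟨P.map (Ideal.quotEquivOfEq hp).toRingHom,
    (Polynomial.map_ne_zero_iff (Ideal.quotEquivOfEq hp).injective).2 hP0, ?_⟩
  rw [← hσ]
  have := congrArg (Ideal.quotientMap q σ.toRingHom le_rfl) hP
  rw [map_zero, Polynomial.aeval_def, Polynomial.hom_eval₂] at this
  rw [Polynomial.aeval_def, Polynomial.eval₂_map]
  refine Eq.trans ?_ this
  refine congrArg₂ (fun f x => Polynomial.eval₂ f x P) (Ideal.Quotient.ringHom_ext (RingHom.ext fun a => ?_)) rfl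
  show Ideal.Quotient.mk q (algebraMap A B a) = Ideal.Quotient.mk q (σ (algebraMap A (D.obj j) a))
  rw [σ.commutes]

/-- Algebraic residue extensions are stable under base change. -/
theorem baseChange {A B C : Type u} [CommRing A] [CommRing B] [CommRing C] [Algebra A B] [Algebra A C]
    (h : ProEtW.AlgebraicResidueExtensions A B) : ProEtW.AlgebraicResidueExtensions C (C ⊗[A] B) := by
  intro q hq
  let c := q.comap (algebraMap C (C ⊗[A] B))
  refine ⟨fun x => ?_⟩
  suffices H : ∀ y : C ⊗[A] B,
      Ideal.Quotient.mk q y ∈ Subalgebra.algebraicClosure (C ⧸ c) ((C ⊗[A] B) ⧸ q) by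
    obtain ⟨y, rfl⟩ := Ideal.Quotient.mk_surjective x
    exact H y
  intro y
  induction y using TensorProduct.induction_on with
  | zero => rw [map_zero]; exact Subalgebra.zero_mem _
  | add y z hy hz => rw [map_add]; exact Subalgebra.add_mem _ hy hz
  | tmul r b =>
    have hrb : r ⊗ₜ[A] b = algebraMap C (C ⊗[A] B) r * (1 ⊗ₜ[A] b) := by
      simp [Algebra.TensorProduct.algebraMap_apply]
    rw [hrb, map_mul]
    refine Subalgebra.mul_mem _ ?_ ?_
    · exact Subalgebra.algebraMap_mem _ (Ideal.Quotient.mk c r)
    · let ι : B →+* C ⊗[A] B := Algebra.TensorProduct.includeRight.toRingHom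
      let qb := q.comap ι
      have hp : qb.comap (algebraMap A B) = c.comap (algebraMap A C) := by
        simp only [qb, c, Ideal.comap_comap]
        exact congrArg (fun f => Ideal.comap f q)
          (RingHom.ext fun a => ((Algebra.TensorProduct.includeRight (R := A) (A := C)).commutes a).trans
            (IsScalarTower.algebraMap_apply A C (C ⊗[A] B) a))
      obtain ⟨P, hP0, hP⟩ := (h qb).isAlgebraic (Ideal.Quotient.mk _ b)
      let κ : A ⧸ qb.comap (algebraMap A B) →+* C ⧸ c :=
        Ideal.quotientMap c (algebraMap A C) hp.le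
      have hκ : Function.Injective κ := Ideal.quotientMap_injective' hp.ge
      refine ⟨P.map κ, (Polynomial.map_ne_zero_iff hκ).2 hP0, ?_⟩
      have := congrArg (Ideal.quotientMap q ι le_rfl) hP
      rw [map_zero, Polynomial.aeval_def, Polynomial.hom_eval₂] at this
      rw [Polynomial.aeval_def, Polynomial.eval₂_map]
      refine Eq.trans ?_ this
      refine congrArg₂ (fun f x => Polynomial.eval₂ f x P) (Ideal.Quotient.ringHom_ext (RingHom.ext fun a => ?_)) rfl
      show Ideal.Quotient.mk q (algebraMap C (C ⊗[A] B) (algebraMap A C a)) = Ideal.Quotient.mk q (ι (algebraMap A B a))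
      exact congrArg _ (((Algebra.TensorProduct.includeRight (R := A) (A := C)).commutes a).trans
            (IsScalarTower.algebraMap_apply A C (C ⊗[A] B) a)).symm

/-- Two primes over the same prime come from a prime of the tensor product. -/
theorem exists_prime_tensor {A B C : Type u} [CommRing A] [CommRing B] [CommRing C] [Algebra A B]
    [Algebra A C] (c : PrimeSpectrum C) (b : PrimeSpectrum B)
    (h : PrimeSpectrum.comap (algebraMap A C) c = PrimeSpectrum.comap (algebraMap A B) b) :
    ∃ r : PrimeSpectrum (C ⊗[A] B), PrimeSpectrum.comap (algebraMap C (C ⊗[A] B)) r = c ∧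
      PrimeSpectrum.comap Algebra.TensorProduct.includeRight.toRingHom r = b := by
  let p := c.asIdeal.comap (algebraMap A C)
  haveI : c.asIdeal.LiesOver p := ⟨rfl⟩
  haveI : b.asIdeal.LiesOver p := ⟨congrArg PrimeSpectrum.asIdeal h⟩
  letI := Localization.AtPrime.algebraOfLiesOver p c.asIdeal
  letI := Localization.AtPrime.algebraOfLiesOver p b.asIdeal
  obtain ⟨M, hM⟩ := Ideal.exists_maximal (c.asIdeal.ResidueField ⊗[p.ResidueField] b.asIdeal.ResidueField)
  let jc : C →ₐ[A] c.asIdeal.ResidueField ⊗[p.ResidueField] b.asIdeal.ResidueField :=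
    ((Algebra.TensorProduct.includeLeft (R := p.ResidueField) (S := p.ResidueField)
      (A := c.asIdeal.ResidueField) (B := b.asIdeal.ResidueField)).restrictScalars A).comp (IsScalarTower.toAlgHom A C c.asIdeal.ResidueField)
  let jb : B →ₐ[A] c.asIdeal.ResidueField ⊗[p.ResidueField] b.asIdeal.ResidueField :=
    ((Algebra.TensorProduct.includeRight (R := p.ResidueField)).restrictScalars A).comp
      (IsScalarTower.toAlgHom A B b.asIdeal.ResidueField)
  let j : C ⊗[A] B →ₐ[A] c.asIdeal.ResidueField ⊗[p.ResidueField] b.asIdeal.ResidueField :=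
    Algebra.TensorProduct.lift jc jb fun _ _ => Commute.all _ _
  refine ⟨⟨M.comap j.toRingHom, inferInstance⟩, PrimeSpectrum.ext ?_, PrimeSpectrum.ext ?_⟩
  · rw [PrimeSpectrum.comap_asIdeal, Ideal.comap_comap]
    have : j.toRingHom.comp (algebraMap C (C ⊗[A] B)) =
        (Algebra.TensorProduct.includeLeftRingHom).comp (algebraMap C c.asIdeal.ResidueField) :=
      RingHom.ext fun x => by simp [j, jc, jb, Algebra.TensorProduct.algebraMap_apply]
    rw [this, ← Ideal.comap_comap, (Ideal.eq_bot_or_top _).resolve_right (Ideal.comap_ne_top _ hM.ne_top),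
      ← RingHom.ker_eq_comap_bot, Ideal.ker_algebraMap_residueField]
  · rw [PrimeSpectrum.comap_asIdeal, Ideal.comap_comap]
    have : j.toRingHom.comp Algebra.TensorProduct.includeRight.toRingHom =
        (Algebra.TensorProduct.includeRight (R := p.ResidueField)
          (A := c.asIdeal.ResidueField)).toRingHom.comp (algebraMap B b.asIdeal.ResidueField) :=
      RingHom.ext fun x => by simp [j, jc, jb]
    rw [this, ← Ideal.comap_comap, (Ideal.eq_bot_or_top _).resolve_right (Ideal.comap_ne_top _ hM.ne_top),
      ← RingHom.ker_eq_comap_bot, Ideal.ker_algebraMap_residueField]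

/-- Primes over an ideal lift along a map which is bijective modulo that ideal. -/
theorem exists_lift_of_quotientMap_bijective {R S : Type u} [CommRing R] [CommRing S] [Algebra R S]
    {I : Ideal R} (hq : Function.Bijective
      (Ideal.quotientMap (I.map (algebraMap R S)) (algebraMap R S) Ideal.le_comap_map))
    (r : PrimeSpectrum R) (hr : r ∈ PrimeSpectrum.zeroLocus (R := R) I) :
    ∃ d ∈ PrimeSpectrum.zeroLocus (R := S) (I.map (algebraMap R S)),
      PrimeSpectrum.comap (algebraMap R S) d = r := by
  obtain ⟨r', hr'⟩ : r ∈ Set.range (PrimeSpectrum.comap (Ideal.Quotient.mk I)) := by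
    rw [range_comap_of_surjective _ _ Ideal.Quotient.mk_surjective, Ideal.mk_ker]
    exact hr
  let e := RingEquiv.ofBijective _ hq
  refine ⟨PrimeSpectrum.comap (e.symm.toRingHom.comp (Ideal.Quotient.mk (I.map (algebraMap R S)))) r',
    fun x hx => ?_, ?_⟩
  · show e.symm (Ideal.Quotient.mk _ x) ∈ r'.asIdeal
    rw [Ideal.Quotient.eq_zero_iff_mem.2 hx, map_zero]
    exact zero_mem _
  · rw [← hr', ← PrimeSpectrum.comap_comp_apply]
    refine congrArg (fun f => PrimeSpectrum.comap f r') (RingHom.ext fun x => e.injective ?_)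
    show e (e.symm _) = _
    rw [e.apply_symm_apply]
    rfl

end Groth.Agent.HenselLib.AlgRes
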