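import Mathlib

/-!
# Extremally disconnected spaces and open embeddings
-/

set_option autoImplicit false

universe u

namespace Groth.Agent.HenselLib.ExtrDisc

/-- An open subspace of an extremally disconnected space is extremally disconnected. -/
theorem of_isOpenEmbedding {X Y : Type u} [TopologicalSpace X] [TopologicalSpace Y]
    [ExtremallyDisconnected Y] {f : X → Y} (hf : Topology.IsOpenEmbedding f) : ExtremallyDisconnected X := by
  refine ⟨fun U hU => ?_⟩
  rw [hf.toIsEmbedding.toIsInducing.closure_eq_preimage_closure_image]
  exact (ExtremallyDisconnected.open_closure _ (hf.isOpenMap U hU)).preimage hf.continuous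

/-- A space covered by open extremally disconnected subspaces is extremally disconnected. -/
theorem of_forall_nhd {X : Type u} [TopologicalSpace X]
    (h : ∀ x : X, ∃ W : Set X, IsOpen W ∧ x ∈ W ∧ ExtremallyDisconnected W) : ExtremallyDisconnected X := by
  refine ⟨fun U hU => isOpen_iff_forall_mem_open.2 fun x hx => ?_⟩
  obtain ⟨W, hW, hxW, hWe⟩ := h x
  let i : W → X := Subtype.val
  refine ⟨i '' closure (i ⁻¹' U), ?_, hW.isOpenEmbedding_subtypeVal.isOpenMap _
    (hWe.open_closure _ (hU.preimage continuous_subtype_val)), ⟨⟨x, hxW⟩, ?_, rfl⟩⟩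
  · rw [← hW.isOpenEmbedding_subtypeVal.isOpenMap.preimage_closure_eq_closure_preimage continuous_subtype_val]
    exact Set.image_preimage_subset _ _
  · rw [← hW.isOpenEmbedding_subtypeVal.isOpenMap.preimage_closure_eq_closure_preimage continuous_subtype_val]
    exact hx

end Groth.Agent.HenselLib.ExtrDisc
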