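import Mathlib
import Groth.Agent.S0701
import Groth.Agent.HenselLib.AlgResidue
import Groth.Agent.HenselLib.ExtrDisc

/-!
# Quasi-finite algebras over absolutely flat rings with separably closed residue fields
-/

set_option autoImplicit false

open TensorProduct Topology

universe u

namespace Groth.Agent.HenselLib.QFProf

variable {A B : Type u} [CommRing A] [CommRing B] [Algebra A B]

/-- Constructible sets of a profinite spectrum are clopen. -/
theorem isClopen_of_isConstructible [T2Space (PrimeSpectrum A)] {s : Set (PrimeSpectrum A)}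
    (hs : Topology.IsConstructible s) : IsClopen s := by
  induction hs using Topology.IsConstructible.empty_union_induction with
  | open_retrocompact U hU hUc =>
    refine ⟨?_, hU⟩
    have := hUc isCompact_univ isOpen_univ
    rw [Set.inter_univ] at this
    exact this.isClosed
  | union s _ t _ hs ht => exact hs.union ht
  | compl s _ hs => exact hs.compl

theorem isClopen_zeroLocus_of_fg [T2Space (PrimeSpectrum A)] {I : Ideal A} (hI : I.FG) :
    IsClopen (PrimeSpectrum.zeroLocus (I : Set A)) := by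
  refine ⟨PrimeSpectrum.isClosed_zeroLocus _, ?_⟩
  obtain ⟨s, rfl⟩ := hI
  rw [PrimeSpectrum.zeroLocus_span]
  have : PrimeSpectrum.zeroLocus (s : Set A) = ⋂ f ∈ s, (PrimeSpectrum.basicOpen f : Set (PrimeSpectrum A))ᶜ := by
    ext x
    simp [PrimeSpectrum.mem_zeroLocus, Set.subset_def]
  rw [this]
  exact isOpen_biInter_finset fun f _ => (PrimeSpectrum.isCompact_basicOpen f).isClosed.isOpen_compl

variable [T2Space (PrimeSpectrum A)] [Algebra.QuasiFinite A B]

theorem t2Space (A B : Type u) [CommRing A] [CommRing B] [Algebra A B] [T2Space (PrimeSpectrum A)]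
    [Algebra.QuasiFinite A B] : T2Space (PrimeSpectrum B) := by
  haveI : TotallyDisconnectedSpace (PrimeSpectrum A) := by
    refine @TotallySeparatedSpace.totallyDisconnectedSpace _ _ (totallySeparatedSpace_iff_exists_isClopen.2 ?_)
    intro x y hxy
    obtain ⟨U, V, hU, hV, hxU, hyV, hd⟩ := t2_separation hxy
    obtain ⟨_, ⟨f, rfl⟩, hxf, hfU⟩ := PrimeSpectrum.isTopologicalBasis_basic_opens.exists_subset_of_mem_open hxU hU
    exact ⟨_, ⟨(PrimeSpectrum.isCompact_basicOpen f).isClosed, (PrimeSpectrum.basicOpen f).isOpen⟩, hxf,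
      fun h => Set.disjoint_left.1 hd (hfU h) hyV⟩
  exact (S0701.result A B fun q q' h hle => PrimeSpectrum.ext
    (Algebra.QuasiFinite.eq_of_le_of_under_eq (R := A) q.asIdeal q'.asIdeal hle h)).2.1

theorem exists_clopen_injOn [Algebra.EssFiniteType A B]
    (hres : ∀ p : PrimeSpectrum A, IsSepClosed p.asIdeal.ResidueField) (b : PrimeSpectrum B) :
    ∃ W : Set (PrimeSpectrum B), IsClopen W ∧ b ∈ W ∧
      Set.InjOn (PrimeSpectrum.comap (algebraMap A B)) W := by
  haveI : Algebra.QuasiFinite A (B ⊗[A] B) := Algebra.QuasiFinite.trans A B (B ⊗[A] B)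
  haveI := t2Space A B
  haveI := t2Space A (B ⊗[A] B)
  let I := KaehlerDifferential.ideal A B
  have hΔ : IsClopen (PrimeSpectrum.zeroLocus (I : Set (B ⊗[A] B))) :=
    isClopen_zeroLocus_of_fg (KaehlerDifferential.ideal_fg A B)
  let inl : B →+* B ⊗[A] B := Algebra.TensorProduct.includeLeftRingHom
  let inr : B →+* B ⊗[A] B := (Algebra.TensorProduct.includeRight (R := A) (A := B)).toRingHom
  let π : PrimeSpectrum (B ⊗[A] B) → PrimeSpectrum B × PrimeSpectrum B :=
    fun r => (PrimeSpectrum.comap inl r, PrimeSpectrum.comap inr r)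
  have hπ : Continuous π := (PrimeSpectrum.continuous_comap _).prodMk (PrimeSpectrum.continuous_comap _)
  -- the only prime over `(b, b)` lies on the diagonal
  have hdiag : ∀ r, π r = (b, b) → r ∈ PrimeSpectrum.zeroLocus (I : Set (B ⊗[A] B)) := by
    intro r hr
    let p := b.asIdeal.comap (algebraMap A B)
    haveI : b.asIdeal.LiesOver p := ⟨rfl⟩
    letI := Localization.AtPrime.algebraOfLiesOver p b.asIdeal
    haveI : IsSepClosed p.ResidueField := hres ⟨p, inferInstance⟩
    let L := r.asIdeal.ResidueField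
    have hl : r.asIdeal.comap inl = b.asIdeal := congrArg PrimeSpectrum.asIdeal (congrArg Prod.fst hr)
    have hrr : r.asIdeal.comap inr = b.asIdeal := congrArg PrimeSpectrum.asIdeal (congrArg Prod.snd hr)
    let g₁ : b.asIdeal.ResidueField →+* L := Ideal.ResidueField.map b.asIdeal r.asIdeal inl hl.symm
    let g₂ : b.asIdeal.ResidueField →+* L := Ideal.ResidueField.map b.asIdeal r.asIdeal inr hrr.symm
    letI : Algebra p.ResidueField L := (g₁.comp (algebraMap p.ResidueField b.asIdeal.ResidueField)).toAlgebra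
    have hA : ∀ a : A, inl (algebraMap A B a) = inr (algebraMap A B a) := fun a => by
      show algebraMap A B a ⊗ₜ[A] (1 : B) = (1 : B) ⊗ₜ[A] algebraMap A B a
      rw [Algebra.algebraMap_eq_smul_one, TensorProduct.smul_tmul]
    have hcomp : g₂.comp (algebraMap p.ResidueField b.asIdeal.ResidueField) =
        g₁.comp (algebraMap p.ResidueField b.asIdeal.ResidueField) := by
      refine Ideal.ResidueField.ringHom_ext (RingHom.ext fun a => ?_)
      simp only [RingHom.comp_apply, ← IsScalarTower.algebraMap_apply]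
      rw [IsScalarTower.algebraMap_apply A B b.asIdeal.ResidueField]
      exact (Ideal.ResidueField.map_algebraMap _ _ inr hrr.symm _).trans
        ((congrArg (algebraMap (B ⊗[A] B) L) (hA a).symm).trans
          (Ideal.ResidueField.map_algebraMap _ _ inl hl.symm _).symm)
    let G₁ : b.asIdeal.ResidueField →ₐ[p.ResidueField] L := { g₁ with commutes' := fun x => rfl }
    let G₂ : b.asIdeal.ResidueField →ₐ[p.ResidueField] L :=
      { g₂ with commutes' := fun x => RingHom.congr_fun hcomp x }
    have hG : g₁ = g₂ := congrArg AlgHom.toRingHom (Subsingleton.elim G₁ G₂)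
    have hincl : ∀ x : B, algebraMap (B ⊗[A] B) L (inl x) = algebraMap (B ⊗[A] B) L (inr x) := fun x => by
      have h1 : g₁ (algebraMap B _ x) = algebraMap (B ⊗[A] B) L (inl x) :=
        Ideal.ResidueField.map_algebraMap _ _ inl hl.symm x
      have h2 : g₂ (algebraMap B _ x) = algebraMap (B ⊗[A] B) L (inr x) :=
        Ideal.ResidueField.map_algebraMap _ _ inr hrr.symm x
      rw [← h1, ← h2, hG]
    have hle : I ≤ r.asIdeal := by
      show KaehlerDifferential.ideal A B ≤ r.asIdeal
      rw [← KaehlerDifferential.span_range_eq_ideal, Ideal.span_le]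
      rintro _ ⟨x, rfl⟩
      refine Ideal.algebraMap_residueField_eq_zero.1 ?_
      rw [map_sub, sub_eq_zero]
      exact (hincl x).symm
    exact hle
  -- a clopen neighbourhood whose square avoids the complement of the diagonal
  let Bad : Set (PrimeSpectrum B × PrimeSpectrum B) :=
    π '' (PrimeSpectrum.zeroLocus (I : Set (B ⊗[A] B)))ᶜ
  have hBad : IsClosed Bad := (hΔ.compl.1.isCompact.image hπ).isClosed
  have hb : (b, b) ∈ Badᶜ := fun ⟨r, hr, hrb⟩ => hr (hdiag r hrb)
  obtain ⟨U, V, hU, hV, hbU, hbV, hUV⟩ := isOpen_prod_iff.1 hBad.isOpen_compl b b hb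
  obtain ⟨_, ⟨f, rfl⟩, hbf, hfUV⟩ := PrimeSpectrum.isTopologicalBasis_basic_opens.exists_subset_of_mem_open
    (show b ∈ U ∩ V from ⟨hbU, hbV⟩) (hU.inter hV)
  refine ⟨_, ⟨(PrimeSpectrum.isCompact_basicOpen f).isClosed, (PrimeSpectrum.basicOpen f).isOpen⟩, hbf,
    fun y hy y' hy' h => ?_⟩
  obtain ⟨r, hry, hry'⟩ := AlgRes.exists_prime_tensor y y' h
  have hnot : (y, y') ∈ Badᶜ := hUV ⟨(hfUV hy).1, (hfUV hy').2⟩
  have hrd : r ∈ PrimeSpectrum.zeroLocus (I : Set (B ⊗[A] B)) := by
    by_contra hr
    exact hnot ⟨r, hr, Prod.ext hry hry'⟩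
  rw [← hry, ← hry']
  refine PrimeSpectrum.ext (SetLike.ext fun x => ?_)
  show x ⊗ₜ[A] (1 : B) ∈ r.asIdeal ↔ (1 : B) ⊗ₜ[A] x ∈ r.asIdeal
  have hd : (1 : B) ⊗ₜ[A] x - x ⊗ₜ[A] (1 : B) ∈ r.asIdeal :=
    hrd (KaehlerDifferential.one_smul_sub_smul_one_mem_ideal A x)
  constructor
  · intro hx; simpa using r.asIdeal.add_mem hd hx
  · intro hx; simpa using r.asIdeal.sub_mem hx hd

theorem extremallyDisconnected [Algebra.FinitePresentation A B]
    [ExtremallyDisconnected (PrimeSpectrum A)]
    (hres : ∀ p : PrimeSpectrum A, IsSepClosed p.asIdeal.ResidueField) :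
    ExtremallyDisconnected (PrimeSpectrum B) := by
  haveI := t2Space A B
  refine ExtrDisc.of_forall_nhd fun b => ?_
  obtain ⟨W, hW, hbW, hinj⟩ := exists_clopen_injOn hres b
  obtain ⟨e, he, rfl⟩ := PrimeSpectrum.isClopen_iff.1 hW
  let f := PrimeSpectrum.comap (algebraMap A B)
  have himg : IsOpen (f '' PrimeSpectrum.basicOpen e) :=
    (isClopen_of_isConstructible (PrimeSpectrum.isConstructible_comap_image
      (RingHom.finitePresentation_algebraMap.2 ‹_›) PrimeSpectrum.isConstructible_basicOpen)).2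
  haveI : CompactSpace (PrimeSpectrum.basicOpen e : Set (PrimeSpectrum B)) :=
    isCompact_iff_compactSpace.1 (PrimeSpectrum.isCompact_basicOpen e)
  refine ⟨_, hW.2, hbW, ExtrDisc.of_isOpenEmbedding (f := Set.domRestrict (PrimeSpectrum.basicOpen e : Set (PrimeSpectrum B)) f)
    ⟨(Continuous.isClosedEmbedding ((PrimeSpectrum.continuous_comap _).comp continuous_subtype_val)
      (fun x y h => Subtype.ext (hinj x.2 y.2 h))).isEmbedding, ?_⟩⟩
  rw [Set.range_domRestrict]
  exact himg

end Groth.Agent.HenselLib.QFProf
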