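import Groth.Agent.HenselLib.Perm
import Mathlib.RingTheory.TensorProduct.Quotient
import Mathlib.RingTheory.Unramified.Field
import Mathlib.FieldTheory.IsSepClosed

/-!
# Henselian pairs: unique lifting of maps out of etale algebras
-/

set_option autoImplicit false

namespace Groth.Agent.HenselLib

open scoped TensorProduct

universe u

variable {R A : Type u} [CommRing R] [CommRing A] [Algebra R A]

theorem existsUnique_lift (J : Ideal A) [hJ : HenselianRing A J] {B : Type u} [CommRing B]
    [Algebra R B] [Algebra.Etale R B] (σ : B →ₐ[R] A ⧸ J) :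
    ∃! τ : B →ₐ[R] A, (Ideal.Quotient.mkₐ R J).comp τ = σ := by
  let σ' : A ⊗[R] B →ₐ[A] A ⧸ J := Algebra.TensorProduct.lift (Algebra.ofId A (A ⧸ J)) σ
    fun _ _ => Commute.all _ _
  obtain ⟨τ', hτ'⟩ := exists_lift_of_etale J σ'
  refine ⟨(τ'.restrictScalars R).comp Algebra.TensorProduct.includeRight,
    AlgHom.ext fun b => ?_, fun g hg => ?_⟩
  · simpa [σ'] using congr($hτ' ((1 : A) ⊗ₜ[R] b))
  · refine algHom_ext_of_le_jacobson hJ.jac fun b => ?_
    refine (Ideal.Quotient.mk_eq_mk_iff_sub_mem _ _).mp ?_
    have h1 : Ideal.Quotient.mk J (g b) = σ b := congr($hg b)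
    rw [h1]
    simpa [σ'] using (congr($hτ' ((1 : A) ⊗ₜ[R] b))).symm

/-- Into an integral algebra over a henselian pair, maps out of an etale algebra lift uniquely. -/
theorem bijective_comp_mk (I : Ideal R) [HenselianRing R I] (B C : Type u) [CommRing B]
    [CommRing C] [Algebra R B] [Algebra R C] [Algebra.Etale R B] [Algebra.IsIntegral R C] :
    Function.Bijective fun φ : B →ₐ[R] C =>
      (Ideal.Quotient.mkₐ R (I.map (algebraMap R C))).comp φ := by
  have := henselianRing_of_isIntegral I C
  refine ⟨fun f g h => (existsUnique_lift (I.map (algebraMap R C))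
    ((Ideal.Quotient.mkₐ R (I.map (algebraMap R C))).comp f)).unique rfl h.symm, fun σ => ?_⟩
  exact (existsUnique_lift (I.map (algebraMap R C)) σ).exists

/-- Base change to `R ⧸ I` is bijective on maps from etale to integral algebras. -/
theorem bijective_baseChange_quotient (I : Ideal R) [HenselianRing R I] (B C : Type u)
    [CommRing B] [CommRing C] [Algebra R B] [Algebra R C] [Algebra.Etale R B]
    [Algebra.IsIntegral R C] :
    Function.Bijective (fun φ : B →ₐ[R] C =>
      Algebra.TensorProduct.map (AlgHom.id (R ⧸ I) (R ⧸ I)) φ) := by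
  let e := Algebra.TensorProduct.quotIdealMapEquivQuotTensor C I
  have he : ∀ c : C, e.symm ((1 : R ⧸ I) ⊗ₜ[R] c) = Ideal.Quotient.mk _ c := fun c => by
    rw [AlgEquiv.symm_apply_eq]; rfl
  have hr : ∀ (ψ : (R ⧸ I) ⊗[R] B →ₐ[R ⧸ I] (R ⧸ I) ⊗[R] C) (b : B),
      ((e.symm.toAlgHom.restrictScalars R).comp ((ψ.restrictScalars R).comp
        Algebra.TensorProduct.includeRight)) b = e.symm (ψ (1 ⊗ₜ b)) := fun ψ b => rfl
  have hinj : Function.Injective fun ψ : (R ⧸ I) ⊗[R] B →ₐ[R ⧸ I] (R ⧸ I) ⊗[R] C =>
      (e.symm.toAlgHom.restrictScalars R).comp ((ψ.restrictScalars R).comp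
        Algebra.TensorProduct.includeRight) := by
    intro ψ ψ' h
    refine Algebra.TensorProduct.ext (Subsingleton.elim _ _) (AlgHom.ext fun b => ?_)
    exact e.symm.injective ((hr ψ b).symm.trans ((congr($h b)).trans (hr ψ' b)))
  have hcomp : ∀ φ : B →ₐ[R] C,
      (e.symm.toAlgHom.restrictScalars R).comp
        (((Algebra.TensorProduct.map (AlgHom.id (R ⧸ I) (R ⧸ I)) φ).restrictScalars R).comp
        Algebra.TensorProduct.includeRight) =
        (Ideal.Quotient.mkₐ R (I.map (algebraMap R C))).comp φ :=
    fun φ => AlgHom.ext fun b => he (φ b)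
  refine ⟨fun f g h => (bijective_comp_mk I B C).injective ?_, fun ψ => ?_⟩
  · show (Ideal.Quotient.mkₐ R _).comp f = (Ideal.Quotient.mkₐ R _).comp g
    rw [← hcomp, ← hcomp]
    exact congrArg (fun ψ => (e.symm.toAlgHom.restrictScalars R).comp
      ((AlgHom.restrictScalars R ψ).comp Algebra.TensorProduct.includeRight)) h
  · obtain ⟨φ, hφ⟩ := (bijective_comp_mk I B C).surjective
      ((e.symm.toAlgHom.restrictScalars R).comp ((ψ.restrictScalars R).comp
        Algebra.TensorProduct.includeRight))
    exact ⟨φ, hinj ((hcomp φ).trans hφ)⟩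

/-- Maps from an etale algebra to a henselian local ring are determined by their reductions. -/
theorem existsUnique_to_residueField {R : Type u} [CommRing R] (S : Type u) [CommRing S]
    [HenselianLocalRing S] [Algebra R S] {A : Type u} [CommRing A] [Algebra R A]
    [Algebra.Etale R A] (σ : A →ₐ[R] IsLocalRing.ResidueField S) :
    ∃! f : A →ₐ[R] S, ∀ a, IsLocalRing.residue S (f a) = σ a := by
  have h := existsUnique_lift (IsLocalRing.maximalIdeal S)
    (σ : A →ₐ[R] S ⧸ IsLocalRing.maximalIdeal S)
  obtain ⟨f, hf, huniq⟩ := h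
  exact ⟨f, fun a => congr($hf a), fun g hg => huniq g (AlgHom.ext hg)⟩

/-- Points of an unramified algebra over a separably closed field are rational. -/
theorem mem_range_of_unramified {k : Type u} [Field k] [IsSepClosed k] {E : Type u} [CommRing E]
    [Algebra k E] [Algebra.EssFiniteType k E] [Algebra.FormallyUnramified k E] {K : Type u}
    [Field K] [Algebra k K] (g : E →ₐ[k] K) (e : E) : g e ∈ Set.range (algebraMap k K) := by
  have : Module.Finite k E := Algebra.FormallyUnramified.finite_of_free k E
  let S := g.range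
  have : Module.Finite k S :=
    Module.Finite.of_surjective g.rangeRestrict.toLinearMap g.rangeRestrict_surjective
  have : Algebra.FormallyUnramified k S :=
    Algebra.FormallyUnramified.of_surjective g.rangeRestrict g.rangeRestrict_surjective
  letI : Field S := (isField_of_isIntegral_of_isField'
    (Field.toIsField k) : IsField S).toField
  have : Algebra.IsSeparable k S := Algebra.FormallyUnramified.isSeparable k S
  obtain ⟨c, hc⟩ := IsSepClosed.algebraMap_surjective k S ⟨g e, e, rfl⟩
  exact ⟨c, congrArg Subtype.val hc⟩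

/-- Maps from a finite type unramified algebra to a field extension of a separably closed residue
field come from the residue field. -/
theorem exists_factor_residueField {R : Type u} [CommRing R] [IsLocalRing R]
    [IsSepClosed (IsLocalRing.ResidueField R)] {E : Type u} [CommRing E] [Algebra R E]
    [Algebra.EssFiniteType R E] [Algebra.FormallyUnramified R E] {K : Type u} [Field K] [Algebra R K]
    (ι : IsLocalRing.ResidueField R →ₐ[R] K) (g : E →ₐ[R] K) :
    ∃ g₀ : E →ₐ[R] IsLocalRing.ResidueField R, ι.comp g₀ = g := by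
  algebraize [ι.toRingHom]
  have : IsScalarTower R (IsLocalRing.ResidueField R) K :=
    .of_algebraMap_eq fun r => (ι.commutes r).symm
  let k := IsLocalRing.ResidueField R
  let gk : k ⊗[R] E →ₐ[k] K := Algebra.TensorProduct.lift (Algebra.ofId k K) g
    fun _ _ => Commute.all _ _
  have hmem : ∀ e, g e ∈ Set.range ι := by
    intro e
    obtain ⟨c, hc⟩ := mem_range_of_unramified gk ((1 : k) ⊗ₜ[R] e)
    exact ⟨c, hc.trans (by simp [gk])⟩
  choose g₀ hg₀ using hmem
  have hι : Function.Injective ι := ι.toRingHom.injective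
  refine ⟨{ toFun := g₀
            map_one' := hι (by rw [hg₀, map_one, map_one])
            map_mul' := fun x y => hι (by rw [map_mul ι, hg₀, hg₀, hg₀, map_mul])
            map_zero' := hι (by rw [hg₀, map_zero, map_zero])
            map_add' := fun x y => hι (by rw [map_add ι, hg₀, hg₀, hg₀, map_add])
            commutes' := fun r => hι (by rw [hg₀, ι.commutes, g.commutes]) },
    AlgHom.ext hg₀⟩

end Groth.Agent.HenselLib
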