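import Groth.Agent.EssEt6.Basic
import Groth.Agent.HenselLib.Unique
import Mathlib.RingTheory.Etale.Basic

/-!
# Maps out of essentially etale local algebras
-/

set_option autoImplicit false
set_option linter.all false

universe u

open TensorProduct

namespace Groth.Agent.HenselLib.EssEtMaps

variable {A A' : Type u} [CommRing A] [IsLocalRing A] [CommRing A'] [IsLocalRing A'] [Algebra A A']
  [IsLocalHom (algebraMap A A')]

theorem existsUnique_lift (hA' : EGA4loc.IsEssentiallyEtale A A')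
    (B : Type u) [CommRing B] [HenselianLocalRing B] (ψ : A →+* B) [IsLocalHom ψ]
    (α : IsLocalRing.ResidueField A' →+* IsLocalRing.ResidueField B)
    (hα : α.comp (IsLocalRing.ResidueField.map (algebraMap A A')) = IsLocalRing.ResidueField.map ψ) :
    ∃! ψ' : A' →+* B, IsLocalHom ψ' ∧ ψ'.comp (algebraMap A A') = ψ ∧
      ∀ x : A', IsLocalRing.residue B (ψ' x) = α (IsLocalRing.residue A' x) := by
  letI : Algebra A B := ψ.toAlgebra
  have hα' : ∀ a : A, α (IsLocalRing.residue A' (algebraMap A A' a)) =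
      IsLocalRing.residue B (algebraMap A B a) :=
    fun a => RingHom.congr_fun hα (IsLocalRing.residue A a)
  obtain ⟨C, _, _, q, _, hC, hq, ⟨e⟩⟩ := hA'
  haveI := hC
  let π : C →ₐ[A] A' := e.symm.toAlgHom.comp (IsScalarTower.toAlgHom A C (Localization.AtPrime q))
  let σ : C →ₐ[A] IsLocalRing.ResidueField B :=
    { (α.comp (IsLocalRing.residue A')).comp π.toRingHom with
      commutes' := fun a => by
        change α (IsLocalRing.residue A' (π (algebraMap A C a))) = _
        rw [π.commutes, hα']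
        rfl }
  obtain ⟨f, hf, -⟩ := existsUnique_to_residueField B σ
  have hu : ∀ y : q.primeCompl, IsUnit (f y) := fun y => by
    rw [← IsLocalRing.residue_ne_zero_iff_isUnit, hf]
    change α (IsLocalRing.residue A' (π y)) ≠ 0
    rw [map_ne_zero, IsLocalRing.residue_ne_zero_iff_isUnit]
    exact (IsLocalization.map_units (Localization.AtPrime q) y).map e.symm
  let g : Localization.AtPrime q →ₐ[A] B := IsLocalization.liftAlgHom (M := q.primeCompl) (f := f) hu
  let g' : A' →ₐ[A] B := g.comp e.toAlgHom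
  have hres : ∀ x : A', IsLocalRing.residue B (g' x) = α (IsLocalRing.residue A' x) := by
    have h : ((IsLocalRing.residue B).comp g.toRingHom) =
        ((α.comp (IsLocalRing.residue A')).comp e.symm.toAlgHom.toRingHom) := by
      refine IsLocalization.ringHom_ext q.primeCompl (RingHom.ext fun c => ?_)
      change IsLocalRing.residue B (g (algebraMap C _ c)) = α (IsLocalRing.residue A' (π c))
      simp only [g, IsLocalization.liftAlgHom_apply, IsLocalization.lift_eq]
      exact hf c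
    intro x
    have := RingHom.congr_fun h (e x)
    simpa [g'] using this
  refine ⟨g'.toRingHom, ⟨⟨fun x hx => ?_⟩, g'.comp_algebraMap, hres⟩, ?_⟩
  · rw [← IsLocalRing.residue_ne_zero_iff_isUnit] at hx ⊢
    intro h0
    apply hx
    change IsLocalRing.residue B (g' x) = 0
    rw [hres, h0, map_zero]
  · rintro φ ⟨-, hφ, hφ'⟩
    let φ' : A' →ₐ[A] B := { φ with commutes' := fun a => RingHom.congr_fun hφ a }
    have : φ' = g' := EssEt6.eq_of_residue_eq ⟨C, _, _, q, _, hC, hq, ⟨e⟩⟩ φ' g'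
      fun x => (hφ' x).trans (hres x).symm
    exact congrArg AlgHom.toRingHom this

theorem existsUnique_lift_strict (hA' : EGA4loc.IsStrictlyEssentiallyEtale A A')
    (B : Type u) [CommRing B] [HenselianLocalRing B] (ψ : A →+* B) [IsLocalHom ψ] :
    ∃! ψ' : A' →+* B, IsLocalHom ψ' ∧ ψ'.comp (algebraMap A A') = ψ := by
  let e := RingEquiv.ofBijective _ hA'.2
  let α := (IsLocalRing.ResidueField.map ψ).comp e.symm.toRingHom
  have hα : α.comp (IsLocalRing.ResidueField.map (algebraMap A A')) = IsLocalRing.ResidueField.map ψ :=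
    RingHom.ext fun x => congrArg (IsLocalRing.ResidueField.map ψ) (e.symm_apply_apply x)
  obtain ⟨g, ⟨hg1, hg2, -⟩, huniq⟩ := existsUnique_lift hA'.1 B ψ α hα
  refine ⟨g, ⟨hg1, hg2⟩, ?_⟩
  rintro φ ⟨hφ1, hφ⟩
  refine huniq φ ⟨hφ1, hφ, fun x => ?_⟩
  obtain ⟨a', ha'⟩ := hA'.2.2 (IsLocalRing.residue A' x)
  obtain ⟨a, rfl⟩ := IsLocalRing.residue_surjective a'
  have hmem : x - algebraMap A A' a ∈ IsLocalRing.maximalIdeal A' := by
    rw [← IsLocalRing.residue_eq_zero_iff, map_sub, ← ha']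
    exact sub_self _
  have h1 : IsLocalRing.residue B (φ (x - algebraMap A A' a)) = 0 := by
    rw [IsLocalRing.residue_eq_zero_iff]
    exact map_nonunit φ _ hmem
  rw [map_sub, map_sub, sub_eq_zero, ← RingHom.comp_apply φ, hφ] at h1
  rw [h1, ← ha']
  exact (congrArg (IsLocalRing.ResidueField.map ψ) (e.symm_apply_apply (IsLocalRing.residue A a))).symm

theorem subsingleton_algHom {A₂ : Type u} [CommRing A₂] [IsLocalRing A₂] [Algebra A A₂]
    [IsLocalHom (algebraMap A A₂)] (hA' : EGA4loc.IsStrictlyEssentiallyEtale A A') :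
    Subsingleton (A' →ₐ[A] A₂) := by
  refine ⟨fun u v => EssEt6.eq_of_residue_eq hA'.1 u v fun x => ?_⟩
  obtain ⟨a', ha'⟩ := hA'.2.2 (IsLocalRing.residue A' x)
  obtain ⟨a, rfl⟩ := IsLocalRing.residue_surjective a'
  have hmem : x - algebraMap A A' a ∈ IsLocalRing.maximalIdeal A' := by
    rw [← IsLocalRing.residue_eq_zero_iff, map_sub, ← ha']
    exact sub_self _
  rw [← EssEt6.map_maximalIdeal hA'.1] at hmem
  have key : ∀ w : A' →ₐ[A] A₂, IsLocalRing.residue A₂ (w x) =
      IsLocalRing.residue A₂ (algebraMap A A₂ a) := fun w => by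
    have h1 : w (x - algebraMap A A' a) ∈ IsLocalRing.maximalIdeal A₂ := by
      have h2 : w (x - algebraMap A A' a) ∈
          ((IsLocalRing.maximalIdeal A).map (algebraMap A A')).map w.toRingHom :=
        Ideal.mem_map_of_mem _ hmem
      rw [Ideal.map_map, show w.toRingHom.comp (algebraMap A A') = algebraMap A A₂ from
        w.comp_algebraMap] at h2
      have hle : (IsLocalRing.maximalIdeal A).map (algebraMap A A₂) ≤ IsLocalRing.maximalIdeal A₂ :=
        Ideal.map_le_iff_le_comap.mpr fun r hr => map_nonunit (algebraMap A A₂) r hr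
      exact hle h2
    rwa [← IsLocalRing.residue_eq_zero_iff, map_sub, map_sub, w.commutes, sub_eq_zero] at h1
  rw [key u, key v]

omit [IsLocalHom (algebraMap A A')] in
theorem exists_point (hA' : EGA4loc.IsEssentiallyEtale A A')
    (hbij : ∀ x : A', ∃ a : A, IsLocalRing.residue A' x = IsLocalRing.residue A' (algebraMap A A' a))
    [IsLocalHom (algebraMap A A')] :
    ∃ (C : Type u) (_ : CommRing C) (_ : Algebra A C) (_ : Algebra.Etale A C)
      (σ : C →ₐ[A] IsLocalRing.ResidueField A), ∀ (T : Type u) [CommRing T] [IsLocalRing T] [Algebra A T]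
        (f : C →ₐ[A] T), (∀ c, σ c ≠ 0 → IsUnit (f c)) → Nonempty (A' →ₐ[A] T) := by
  obtain ⟨C, _, _, q, _, hC, hq, ⟨e⟩⟩ := hA'
  let π : C →ₐ[A] A' := e.symm.toAlgHom.comp (IsScalarTower.toAlgHom A C (Localization.AtPrime q))
  have hinj := (IsLocalRing.ResidueField.map (algebraMap A A')).injective
  let E := RingEquiv.ofBijective (IsLocalRing.ResidueField.map (algebraMap A A')) ⟨hinj, fun y => by
    obtain ⟨x, rfl⟩ := IsLocalRing.residue_surjective y
    obtain ⟨a, ha⟩ := hbij x
    exact ⟨IsLocalRing.residue A a, ha.symm⟩⟩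
  let σ : C →ₐ[A] IsLocalRing.ResidueField A :=
    { (E.symm.toRingHom.comp (IsLocalRing.residue A')).comp π.toRingHom with
      commutes' := fun a => by
        change E.symm (IsLocalRing.residue A' (π (algebraMap A C a))) = _
        rw [π.commutes, RingEquiv.symm_apply_eq]
        rfl }
  refine ⟨C, _, _, hC, σ, fun T _ _ _ f hf => ⟨(IsLocalization.liftAlgHom (M := q.primeCompl)
    (f := f) (fun y => hf _ ?_)).comp e.toAlgHom⟩⟩
  change E.symm (IsLocalRing.residue A' (π y)) ≠ 0
  rw [map_ne_zero, IsLocalRing.residue_ne_zero_iff_isUnit]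
  exact (IsLocalization.map_units (Localization.AtPrime q) y).map e.symm

theorem exists_dominating {A₁ A₂ : Type u} [CommRing A₁] [IsLocalRing A₁] [Algebra A A₁]
    [IsLocalHom (algebraMap A A₁)] [CommRing A₂] [IsLocalRing A₂] [Algebra A A₂]
    [IsLocalHom (algebraMap A A₂)] (h₁ : EGA4loc.IsStrictlyEssentiallyEtale A A₁)
    (h₂ : EGA4loc.IsStrictlyEssentiallyEtale A A₂) :
    ∃ (A₃ : Type u) (_ : CommRing A₃) (_ : IsLocalRing A₃) (_ : Algebra A A₃)
      (_ : IsLocalHom (algebraMap A A₃)),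
      EGA4loc.IsStrictlyEssentiallyEtale A A₃ ∧ Nonempty (A₁ →ₐ[A] A₃) ∧ Nonempty (A₂ →ₐ[A] A₃) := by
  have res : ∀ (T : Type u) [CommRing T] [IsLocalRing T] [Algebra A T] [IsLocalHom (algebraMap A T)],
      Function.Surjective (IsLocalRing.ResidueField.map (algebraMap A T)) →
      ∀ x : T, ∃ a : A, IsLocalRing.residue T x = IsLocalRing.residue T (algebraMap A T a) := by
    intro T _ _ _ _ hs x
    obtain ⟨a', ha'⟩ := hs (IsLocalRing.residue T x)
    obtain ⟨a, rfl⟩ := IsLocalRing.residue_surjective a'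
    exact ⟨a, ha'.symm⟩
  obtain ⟨C₁, _, _, _, σ₁, hC₁⟩ := exists_point h₁.1 (res A₁ h₁.2.2)
  obtain ⟨C₂, _, _, _, σ₂, hC₂⟩ := exists_point h₂.1 (res A₂ h₂.2.2)
  let σ : C₁ ⊗[A] C₂ →ₐ[A] IsLocalRing.ResidueField A :=
    Algebra.TensorProduct.lift σ₁ σ₂ fun _ _ => Commute.all _ _
  haveI : Algebra.Etale A (C₁ ⊗[A] C₂) := Algebra.Etale.comp A C₁ _
  let q := RingHom.ker σ
  haveI : q.IsPrime := RingHom.ker_isPrime σ.toRingHom
  let A₃ := Localization.AtPrime q
  have hq : q.comap (algebraMap A (C₁ ⊗[A] C₂)) = IsLocalRing.maximalIdeal A := by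
    ext a
    rw [Ideal.mem_comap, RingHom.mem_ker, AlgHom.commutes]
    exact IsLocalRing.residue_eq_zero_iff a
  have hess : EGA4loc.IsEssentiallyEtale A A₃ :=
    ⟨_, _, _, q, inferInstance, inferInstance, hq, ⟨AlgEquiv.refl⟩⟩
  haveI : IsLocalHom (algebraMap A A₃) := EssEt6.isLocalHom hess
  have hunit : ∀ c, σ c ≠ 0 → IsUnit (algebraMap (C₁ ⊗[A] C₂) A₃ c) := fun c hc =>
    IsLocalization.map_units A₃ (⟨c, hc⟩ : q.primeCompl)
  refine ⟨A₃, inferInstance, inferInstance, inferInstance, ‹_›, ⟨hess, RingHom.injective _, ?_⟩, ?_, ?_⟩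
  · intro y
    obtain ⟨x, rfl⟩ := IsLocalRing.residue_surjective y
    obtain ⟨c, s, rfl⟩ := IsLocalization.exists_mk'_eq q.primeCompl x
    obtain ⟨a, ha⟩ := IsLocalRing.residue_surjective (σ c / σ s)
    refine ⟨IsLocalRing.residue A a, ?_⟩
    change IsLocalRing.residue A₃ (algebraMap A A₃ a) = _
    have hd : algebraMap A (C₁ ⊗[A] C₂) a * (s : C₁ ⊗[A] C₂) - c ∈ q := by
      rw [RingHom.mem_ker, map_sub, map_mul, AlgHom.commutes]
      change IsLocalRing.residue A a * σ s - σ c = 0
      rw [ha, div_mul_cancel₀ _ (show σ (s : C₁ ⊗[A] C₂) ≠ 0 from s.2), sub_self]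
    rw [← sub_eq_zero, ← map_sub, IsLocalRing.residue_eq_zero_iff,
      ← Ideal.mul_unit_mem_iff_mem _ (IsLocalization.map_units A₃ s), sub_mul, IsLocalization.mk'_spec,
      IsScalarTower.algebraMap_apply A (C₁ ⊗[A] C₂) A₃, ← map_mul, ← map_sub]
    exact (IsLocalization.AtPrime.to_map_mem_maximal_iff A₃ q _).mpr hd
  · exact hC₁ A₃ ((IsScalarTower.toAlgHom A _ A₃).comp Algebra.TensorProduct.includeLeft)
      fun c hc => hunit _ (by simpa [σ] using hc)
  · exact hC₂ A₃ ((IsScalarTower.toAlgHom A _ A₃).comp Algebra.TensorProduct.includeRight)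
      fun c hc => hunit _ (by simpa [σ] using hc)

end Groth.Agent.HenselLib.EssEtMaps
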