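import Groth.Agent.HenselLib.Lift
import Groth.Agent.HenselLib.Perm
import Mathlib.AlgebraicGeometry.Morphisms.Etale
import Mathlib.AlgebraicGeometry.Morphisms.Smooth
import Mathlib.AlgebraicGeometry.AffineScheme

/-!
# Sections of smooth and etale schemes over henselian local rings
-/

set_option autoImplicit false
set_option linter.all false
set_option backward.isDefEq.respectTransparency.types false

universe u

open CategoryTheory AlgebraicGeometry

namespace Groth.Agent.HenselLib.SectionsLift

variable {R : Type u} [CommRing R] [HenselianLocalRing R] {X : Scheme.{u}}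
  (f : X ⟶ Spec (CommRingCat.of R))

/-- The image of a section lies in every open containing the image of the closed point. -/
theorem range_subset_of_mem {U : X.Opens} (s : Spec (CommRingCat.of R) ⟶ X)
    (h : s (IsLocalRing.closedPoint R) ∈ U) : Set.range s ⊆ U := by
  rintro _ ⟨y, rfl⟩
  exact ((IsLocalRing.specializes_closedPoint y).map s.continuous).mem_open U.isOpen h

theorem residue_default :
    Spec.map (CommRingCat.ofHom (IsLocalRing.residue R)) default = IsLocalRing.closedPoint R := by
  rw [Subsingleton.elim (default : Spec (CommRingCat.of (IsLocalRing.ResidueField R)))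
    (IsLocalRing.closedPoint (IsLocalRing.ResidueField R))]
  exact IsLocalRing.comap_closedPoint (IsLocalRing.residue R)

theorem exists_section [Smooth f]
    (t : Spec (CommRingCat.of (IsLocalRing.ResidueField R)) ⟶ X)
    (ht : t ≫ f = Spec.map (CommRingCat.ofHom (IsLocalRing.residue R))) :
    ∃ s : Spec (CommRingCat.of R) ⟶ X,
      s ≫ f = 𝟙 _ ∧ Spec.map (CommRingCat.ofHom (IsLocalRing.residue R)) ≫ s = t := by
  haveI : HenselianRing R (IsLocalRing.maximalIdeal R) := henselianRing_maximalIdeal R
  obtain ⟨U, hU, hxU, -⟩ := exists_isAffineOpen_mem_and_subset (x := t default) (U := ⊤) trivial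
  have hr : Set.range t ⊆ Set.range hU.fromSpec := by
    rintro _ ⟨y, rfl⟩
    rw [hU.range_fromSpec, Subsingleton.elim y default]
    exact hxU
  obtain ⟨σ, hσ⟩ := Spec.map_surjective (IsOpenImmersion.lift hU.fromSpec t hr)
  obtain ⟨φ, hφ⟩ := Spec.map_surjective (hU.fromSpec ≫ f)
  have hsm : φ.hom.Smooth := (HasRingHomProperty.Spec_iff (P := @Smooth)).mp (hφ ▸ inferInstance)
  algebraize [φ.hom]
  have hcomp : φ ≫ σ = CommRingCat.ofHom (IsLocalRing.residue R) := by
    apply Spec.map_injective
    rw [Spec.map_comp, hσ, hφ, ← Category.assoc, IsOpenImmersion.lift_fac, ht]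
  let σA : Γ(X, U) →ₐ[R] R ⧸ IsLocalRing.maximalIdeal R :=
    { σ.hom with commutes' := fun r => congr($(congrArg CommRingCat.Hom.hom hcomp) r) }
  obtain ⟨τ, hτ⟩ := exists_lift_of_smooth (IsLocalRing.maximalIdeal R) σA
  refine ⟨Spec.map (CommRingCat.ofHom τ.toRingHom) ≫ hU.fromSpec, ?_, ?_⟩
  · rw [Category.assoc, ← hφ, ← Spec.map_comp,
      show φ ≫ CommRingCat.ofHom τ.toRingHom = 𝟙 (CommRingCat.of R) from
        CommRingCat.hom_ext (RingHom.ext τ.commutes), Spec.map_id]
  · rw [← Category.assoc, ← Spec.map_comp,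
      show CommRingCat.ofHom τ.toRingHom ≫ CommRingCat.ofHom (IsLocalRing.residue R) = σ from
        CommRingCat.hom_ext (RingHom.ext fun z => congr($hτ z)),
      hσ, IsOpenImmersion.lift_fac]

theorem section_unique [Etale f] (s s' : Spec (CommRingCat.of R) ⟶ X) (hs : s ≫ f = 𝟙 _)
    (hs' : s' ≫ f = 𝟙 _)
    (h : Spec.map (CommRingCat.ofHom (IsLocalRing.residue R)) ≫ s =
      Spec.map (CommRingCat.ofHom (IsLocalRing.residue R)) ≫ s') : s = s' := by
  obtain ⟨U, hU, hxU, -⟩ := exists_isAffineOpen_mem_and_subset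
    (x := s (IsLocalRing.closedPoint R)) (U := ⊤) trivial
  have hx' : s' (IsLocalRing.closedPoint R) ∈ U := by
    have := congrArg (fun g => g default) h
    simp only [Scheme.Hom.comp_apply, residue_default] at this
    rw [← this]; exact hxU
  have hr := (range_subset_of_mem s hxU).trans hU.range_fromSpec.ge
  have hr' := (range_subset_of_mem s' hx').trans hU.range_fromSpec.ge
  obtain ⟨τ, hτ⟩ := Spec.map_surjective (IsOpenImmersion.lift hU.fromSpec s hr)
  obtain ⟨τ', hτ'⟩ := Spec.map_surjective (IsOpenImmersion.lift hU.fromSpec s' hr')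
  obtain ⟨φ, hφ⟩ := Spec.map_surjective (hU.fromSpec ≫ f)
  have het : φ.hom.Etale := (HasRingHomProperty.Spec_iff (P := @Etale)).mp (hφ ▸ inferInstance)
  algebraize [φ.hom]
  have hc : φ ≫ τ = 𝟙 _ := Spec.map_injective (by
    rw [Spec.map_comp, hτ, hφ, ← Category.assoc, IsOpenImmersion.lift_fac, hs, Spec.map_id])
  have hc' : φ ≫ τ' = 𝟙 _ := Spec.map_injective (by
    rw [Spec.map_comp, hτ', hφ, ← Category.assoc, IsOpenImmersion.lift_fac, hs', Spec.map_id])
  have hres : τ ≫ CommRingCat.ofHom (IsLocalRing.residue R) =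
      τ' ≫ CommRingCat.ofHom (IsLocalRing.residue R) := by
    apply Spec.map_injective
    rw [Spec.map_comp, Spec.map_comp, hτ, hτ', ← cancel_mono hU.fromSpec, Category.assoc,
      Category.assoc, IsOpenImmersion.lift_fac, IsOpenImmersion.lift_fac, h]
  let g : Γ(X, U) →ₐ[R] R := { τ.hom with commutes' := fun r => congr($(congrArg CommRingCat.Hom.hom hc) r) }
  let g' : Γ(X, U) →ₐ[R] R := { τ'.hom with commutes' := fun r => congr($(congrArg CommRingCat.Hom.hom hc') r) }
  have hg : g = g' := algHom_ext_of_le_jacobson (J := IsLocalRing.maximalIdeal R)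
    (IsLocalRing.jacobson_eq_maximalIdeal ⊥ bot_ne_top).ge fun z =>
      Ideal.Quotient.eq.mp congr($(congrArg CommRingCat.Hom.hom hres) z)
  have : τ = τ' := CommRingCat.hom_ext (RingHom.ext fun z => congr($hg z))
  rw [← IsOpenImmersion.lift_fac hU.fromSpec s hr, ← IsOpenImmersion.lift_fac hU.fromSpec s' hr',
    ← hτ, ← hτ', this]

end Groth.Agent.HenselLib.SectionsLift
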