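import Groth.Agent.HenselLib.BLAlg

/-!
# Glueing pairs: properties of ring homomorphisms
-/

set_option autoImplicit false
set_option linter.all false

universe u

open TensorProduct Function

namespace Groth.Agent.HenselLib.BL

attribute [local instance] Algebra.TensorProduct.rightAlgebra

theorem ringHom_iffs {R R' : Type u} [CommRing R] [CommRing R'] [Algebra R R'] {f : R}
    (hRR' : EtGlue.IsGlueingPair R R' f) (A B : Type u) [CommRing A] [Algebra R A] [CommRing B]
    [Algebra R B] (hA : EtGlue.IsGlueable R R' f A) (φ : A →ₐ[R] B) :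
    (Surjective φ ↔ Surjective (Localization.awayMap φ.toRingHom (algebraMap R A f)) ∧
      Surjective (Algebra.TensorProduct.map (AlgHom.id R R') φ).toRingHom) ∧
    (φ.toRingHom.Finite ↔ (Localization.awayMap φ.toRingHom (algebraMap R A f)).Finite ∧
      (Algebra.TensorProduct.map (AlgHom.id R R') φ).toRingHom.Finite) ∧
    (φ.toRingHom.FiniteType ↔ (Localization.awayMap φ.toRingHom (algebraMap R A f)).FiniteType ∧
      (Algebra.TensorProduct.map (AlgHom.id R R') φ).toRingHom.FiniteType) ∧
    (φ.toRingHom.Flat ↔ (Localization.awayMap φ.toRingHom (algebraMap R A f)).Flat ∧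
      (Algebra.TensorProduct.map (AlgHom.id R R') φ).toRingHom.Flat) ∧
    ((φ.toRingHom.Flat ∧ φ.toRingHom.FinitePresentation) ↔
      ((Localization.awayMap φ.toRingHom (algebraMap R A f)).Flat ∧
        (Localization.awayMap φ.toRingHom (algebraMap R A f)).FinitePresentation) ∧
      ((Algebra.TensorProduct.map (AlgHom.id R R') φ).toRingHom.Flat ∧
        (Algebra.TensorProduct.map (AlgHom.id R R') φ).toRingHom.FinitePresentation)) ∧
    (φ.toRingHom.Etale ↔ (Localization.awayMap φ.toRingHom (algebraMap R A f)).Etale ∧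
      (Algebra.TensorProduct.map (AlgHom.id R R') φ).toRingHom.Etale) := by
  have h := isGlueingPair_baseChange hRR' A hA
  set g := algebraMap R A f with hg
  algebraize [φ.toRingHom]
  haveI : IsScalarTower R A B := .of_algebraMap_eq fun r => (φ.commutes r).symm
  let φ' := (Algebra.TensorProduct.map (AlgHom.id R R') φ).toRingHom
  letI aAB' : Algebra A (R' ⊗[R] B) := ((algebraMap B (R' ⊗[R] B)).comp (algebraMap A B)).toAlgebra
  haveI : IsScalarTower A B (R' ⊗[R] B) := .of_algebraMap_eq fun a => rfl
  letI aA'B' : Algebra (R' ⊗[R] A) (R' ⊗[R] B) := φ'.toAlgebra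
  haveI : IsScalarTower A (R' ⊗[R] A) (R' ⊗[R] B) := .of_algebraMap_eq fun a => by
    change (1 : R') ⊗ₜ[R] φ a = φ' ((1 : R') ⊗ₜ[R] a)
    simp [φ']
  haveI : IsScalarTower R' (R' ⊗[R] A) (R' ⊗[R] B) := .of_algebraMap_eq fun r => by
    change r ⊗ₜ[R] (1 : B) = φ' (r ⊗ₜ[R] (1 : A))
    simp [φ']
  haveI : IsScalarTower R A (R' ⊗[R] B) := .of_algebraMap_eq fun r => by
    rw [IsScalarTower.algebraMap_apply A B (R' ⊗[R] B), ← IsScalarTower.algebraMap_apply R A B,
      ← IsScalarTower.algebraMap_apply R B (R' ⊗[R] B)]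
  haveI : IsScalarTower R (R' ⊗[R] A) (R' ⊗[R] B) := .of_algebraMap_eq fun r => by
    rw [IsScalarTower.algebraMap_apply R A (R' ⊗[R] B), IsScalarTower.algebraMap_apply A (R' ⊗[R] A) (R' ⊗[R] B),
      ← IsScalarTower.algebraMap_apply R A (R' ⊗[R] A)]
  haveI : Algebra.IsPushout R A R' (R' ⊗[R] A) := TensorProduct.isPushout'
  haveI : Algebra.IsPushout R B R' (R' ⊗[R] B) := TensorProduct.isPushout'
  haveI hp₁ : Algebra.IsPushout A (R' ⊗[R] A) B (R' ⊗[R] B) :=
    ((Algebra.IsPushout.comp_iff (R := R) (S := A) (T := B) (R' := R') (S' := R' ⊗[R] A)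
      (T' := R' ⊗[R] B)).mp inferInstance).symm
  let ψ := Localization.awayMap φ.toRingHom g
  letI : Algebra (Localization.Away g) (Localization.Away (φ.toRingHom g)) := ψ.toAlgebra
  haveI : IsScalarTower A (Localization.Away g) (Localization.Away (φ.toRingHom g)) :=
    .of_algebraMap_eq fun a => by
      rw [IsScalarTower.algebraMap_apply A B (Localization.Away (φ.toRingHom g))]
      simp [ψ, RingHom.algebraMap_toAlgebra, Localization.awayMap, IsLocalization.Away.map]
  haveI : IsLocalization (Algebra.algebraMapSubmonoid B (Submonoid.powers g))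
      (Localization.Away (φ.toRingHom g)) := by
    rw [show Algebra.algebraMapSubmonoid B (Submonoid.powers g) = Submonoid.powers (φ.toRingHom g) from
      Submonoid.map_powers _ g]
    infer_instance
  haveI hp₂ : Algebra.IsPushout A (Localization.Away g) B (Localization.Away (φ.toRingHom g)) :=
    (Algebra.isPushout_of_isLocalization (Submonoid.powers g) (Localization.Away g) B
      (Localization.Away (φ.toRingHom g))).symm
  let A' := R' ⊗[R] A
  let B' := R' ⊗[R] B
  let Bg := Localization.Away (φ.toRingHom g)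
  let e₁ := Algebra.IsPushout.equiv A A' B B'
  let e₂ := Algebra.IsPushout.equiv A (Localization.Away g) B Bg
  refine ⟨?_, ?_, ?_, ?_, ?_, ?_⟩
  · refine ⟨fun hs => ⟨surjective_baseChange A (Localization.Away g) Bg (B := B) hs,
      surjective_baseChange A A' B' (B := B) hs⟩, fun ⟨h2, h1⟩ => ?_⟩
    exact surjective_descent (A' := A') (g := g) B' Bg h.1 h1 h2
  · refine ⟨fun hs => ?_, fun ⟨h2, h1⟩ => ?_⟩
    · haveI : Module.Finite A B := hs
      exact ⟨(Module.Finite.equiv e₂.toLinearEquiv : Module.Finite (Localization.Away g) Bg),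
        (Module.Finite.equiv e₁.toLinearEquiv : Module.Finite A' B')⟩
    · haveI : Module.Finite A' B' := h1
      haveI : Module.Finite (Localization.Away g) Bg := h2
      exact finite_descent (A' := A') (g := g) B' Bg h.1
  · refine ⟨fun hs => ?_, fun ⟨h2, h1⟩ => ?_⟩
    · haveI : Algebra.FiniteType A B := hs
      exact ⟨((inferInstance : Algebra.FiniteType (Localization.Away g) (Localization.Away g ⊗[A] B)).equiv e₂),
        ((inferInstance : Algebra.FiniteType A' (A' ⊗[A] B)).equiv e₁)⟩
    · haveI : Algebra.FiniteType A' B' := h1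
      haveI : Algebra.FiniteType (Localization.Away g) Bg := h2
      exact finiteType_descent (A' := A') (g := g) B' Bg h.1
  · refine ⟨fun hs => ?_, fun ⟨h2, h1⟩ => ?_⟩
    · haveI : Module.Flat A B := hs
      exact ⟨(Module.Flat.of_linearEquiv e₂.symm.toLinearEquiv : Module.Flat (Localization.Away g) Bg),
        (Module.Flat.of_linearEquiv e₁.symm.toLinearEquiv : Module.Flat A' B')⟩
    · haveI : Module.Flat A' B' := h1
      haveI : Module.Flat (Localization.Away g) Bg := h2
      exact flat_descent (A' := A') (g := g) B' Bg h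
  · refine ⟨fun ⟨hs, hs'⟩ => ?_, fun ⟨⟨h2, h2'⟩, h1, h1'⟩ => ?_⟩
    · haveI : Module.Flat A B := hs
      haveI : Algebra.FinitePresentation A B := hs'
      exact ⟨⟨(Module.Flat.of_linearEquiv e₂.symm.toLinearEquiv : Module.Flat (Localization.Away g) Bg),
        (Algebra.FinitePresentation.equiv e₂ : Algebra.FinitePresentation (Localization.Away g) Bg)⟩,
        (Module.Flat.of_linearEquiv e₁.symm.toLinearEquiv : Module.Flat A' B'),
        (Algebra.FinitePresentation.equiv e₁ : Algebra.FinitePresentation A' B')⟩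
    · haveI : Module.Flat A' B' := h1
      haveI : Module.Flat (Localization.Away g) Bg := h2
      haveI : Algebra.FinitePresentation A' B' := h1'
      haveI : Algebra.FinitePresentation (Localization.Away g) Bg := h2'
      exact ⟨flat_descent (A' := A') (g := g) B' Bg h, finitePresentation_descent (A' := A') (g := g) B' Bg h⟩
  · refine ⟨fun hs => ?_, fun ⟨h2, h1⟩ => ?_⟩
    · haveI : Algebra.Etale A B := hs
      exact ⟨(Algebra.Etale.of_equiv e₂ : Algebra.Etale (Localization.Away g) Bg),
        (Algebra.Etale.of_equiv e₁ : Algebra.Etale A' B')⟩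
    · haveI : Algebra.Etale A' B' := h1
      haveI : Algebra.Etale (Localization.Away g) Bg := h2
      exact etale_descent (A' := A') (g := g) B' Bg h

end Groth.Agent.HenselLib.BL
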