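import Groth.Agent.HenselLib.BLFlat
import Mathlib.Algebra.Module.FinitePresentation
import Mathlib.RingTheory.FinitePresentation
import Mathlib.RingTheory.TensorProduct.Finite

/-!
# Glueing pairs: finiteness, glueing of modules
-/

set_option autoImplicit false
set_option linter.all false

universe u

open TensorProduct Function

namespace Groth.Agent.HenselLib.BL

variable {R R' : Type u} [CommRing R] [CommRing R'] [Algebra R R'] {f : R}

theorem isGlueingPair_of (hq : EtGlue.QuotPowBijective R R' f)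
    (h1 : ∀ r : R, IsTors f r → algebraMap R R' r = 0 → r = 0)
    (h2 : ∀ x : R', IsTors f x → ∃ t : R, IsTors f t ∧ algebraMap R R' t = x) :
    EtGlue.IsGlueingPair R R' f := by
  have hu : IsUnit (algebraMap R (Localization.Away f) f) := IsLocalization.Away.algebraMap_isUnit f
  have hz : ∀ r : R, algebraMap R (Localization.Away f) r = 0 ↔ IsTors f r := fun r => by
    rw [IsLocalization.map_eq_zero_iff (Submonoid.powers f)]
    exact ⟨by rintro ⟨⟨_, n, rfl⟩, h⟩; exact ⟨n, h⟩, fun ⟨n, h⟩ => ⟨⟨_, n, rfl⟩, h⟩⟩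
  have hg : ∀ r, Localization.awayMap (algebraMap R R') f (algebraMap R (Localization.Away f) r) =
      algebraMap R' (Localization.Away (algebraMap R R' f)) (algebraMap R R' r) := fun r =>
    IsLocalization.map_eq (S := Localization.Away f) _ r
  refine ⟨hq, fun a b hab => ?_, fun x y hxy => ?_, fun z => ?_⟩
  · simp only [Prod.mk.injEq] at hab
    exact sub_eq_zero.mp (h1 _ ((hz _).mp (by rw [map_sub, hab.2, sub_self]))
      (by rw [map_sub, hab.1, sub_self]))
  · obtain ⟨n, r, hr⟩ := IsLocalization.Away.surj f y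
    have e : algebraMap R' (Localization.Away (algebraMap R R' f)) (f ^ n • x) =
        algebraMap R' _ (algebraMap R R' r) := by
      rw [← hg, ← hr, map_mul, ← hxy, map_pow, hg, Algebra.smul_def, map_mul, map_pow, map_pow,
        mul_comm]
    obtain ⟨⟨_, a, rfl⟩, ha⟩ :=
      (IsLocalization.eq_iff_exists (Submonoid.powers (algebraMap R R' f)) _).mp e
    have e' : f ^ (a + n) • x = algebraMap R R' (f ^ a * r) := by
      rw [pow_add, mul_smul, Algebra.smul_def, map_mul, map_pow]; exact ha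
    obtain ⟨s, hs⟩ := exists_eq_pow_mul hq (a + n) (f ^ a * r) x e'.symm
    obtain ⟨t, ⟨k, hk⟩, ht⟩ := h2 (x - algebraMap R R' s) ⟨a + n, by
      rw [smul_sub, e', hs, Algebra.smul_def, ← map_mul, sub_self]⟩
    refine ⟨s + t, by rw [map_add, ht]; ring, ?_⟩
    rw [map_add, (hz t).mpr ⟨k, hk⟩, add_zero, ← (hu.pow n).mul_left_inj, hr, ← map_pow,
      ← map_mul, IsLocalization.eq_iff_exists (Submonoid.powers f)]
    exact ⟨⟨_, a, rfl⟩, by
      change f ^ a * (s * f ^ n) = f ^ a * r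
      rw [hs, pow_add]; ring⟩
  · obtain ⟨n, w, hw⟩ := IsLocalization.Away.surj (algebraMap R R' f) z
    obtain ⟨r, x', hx'⟩ := exists_eq_add_pow hq n w
    refine ⟨x', -(↑(hu.pow n).unit⁻¹ * algebraMap R (Localization.Away f) r), ?_⟩
    have hu' := (IsLocalization.Away.algebraMap_isUnit
      (S := Localization.Away (algebraMap R R' f)) (algebraMap R R' f)).pow n
    rw [← hu'.mul_left_inj, hw, hx', Algebra.smul_def, map_pow, sub_mul, map_add, map_mul, map_pow,
      map_neg, neg_mul, sub_neg_eq_add, add_comm, mul_comm]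
    congr 1
    rw [map_mul, hg, ← hg f, ← map_pow, ← mul_assoc, ← map_mul, IsUnit.mul_val_inv, map_one,
      one_mul]
    exact mul_comm _ _

theorem quotPowBijective_of {S : Type u} [CommRing S] [Algebra R S] (g : R)
    (h1 : ∀ (n : ℕ) (x : S), ∃ (r : R) (x' : S), x = algebraMap R S r + g ^ n • x')
    (h2 : ∀ (n : ℕ) (r : R) (x : S), algebraMap R S r = g ^ n • x → ∃ s, r = g ^ n * s) :
    EtGlue.QuotPowBijective R S g := by
  intro n _
  constructor
  · rw [injective_iff_map_eq_zero]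
    intro a ha
    obtain ⟨a, rfl⟩ := Ideal.Quotient.mk_surjective a
    rw [Ideal.quotientMap_mk, Ideal.Quotient.eq_zero_iff_mem, Ideal.map_span, Set.image_singleton,
      Ideal.mem_span_singleton'] at ha
    obtain ⟨x, hx⟩ := ha
    obtain ⟨s, hs⟩ := h2 n a x (by rw [← hx, Algebra.smul_def, mul_comm])
    rw [Ideal.Quotient.eq_zero_iff_mem, Ideal.mem_span_singleton']
    exact ⟨s, by rw [hs, mul_comm]⟩
  · intro z
    obtain ⟨z, rfl⟩ := Ideal.Quotient.mk_surjective z
    obtain ⟨r, x', hx⟩ := h1 n z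
    refine ⟨Ideal.Quotient.mk _ r, ?_⟩
    rw [Ideal.quotientMap_mk, Ideal.Quotient.mk_eq_mk_iff_sub_mem, Ideal.map_span,
      Set.image_singleton, Ideal.mem_span_singleton']
    exact ⟨-x', by rw [hx, Algebra.smul_def]; ring⟩

theorem tors_iff_tmul_eq_zero {M : Type u} [AddCommGroup M] [Module R M] (m : M) :
    ((1 : Localization.Away f) ⊗ₜ[R] m : Localization.Away f ⊗[R] M) = 0 ↔ IsTors f m := by
  rw [show ((1 : Localization.Away f) ⊗ₜ[R] m : Localization.Away f ⊗[R] M) =
      TensorProduct.mk R (Localization (Submonoid.powers f)) M 1 m from rfl,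
    IsLocalizedModule.eq_zero_iff (Submonoid.powers f)]
  exact ⟨by rintro ⟨⟨_, n, rfl⟩, h⟩; exact ⟨n, h⟩, fun ⟨n, h⟩ => ⟨⟨_, n, rfl⟩, h⟩⟩

theorem subsingleton_of_subsingleton (hq : EtGlue.QuotPowBijective R R' f) (M : Type u)
    [AddCommGroup M] [Module R M] (h1 : Subsingleton (R' ⊗[R] M))
    (h2 : Subsingleton (Localization.Away f ⊗[R] M)) : Subsingleton M :=
  subsingleton_of_torsion hq (fun m => (tors_iff_tmul_eq_zero m).mp (Subsingleton.elim _ _)) h1

theorem subsingleton_baseChange_quotient {S : Type u} [CommRing S] [Algebra R S] {M : Type u}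
    [AddCommGroup M] [Module R M] (N : Submodule R M)
    (hN : Submodule.span S ((fun m => (1 : S) ⊗ₜ[R] m) '' (N : Set M)) = ⊤) :
    Subsingleton (S ⊗[R] (M ⧸ N)) := by
  refine subsingleton_of_forall_eq 0 fun z => ?_
  obtain ⟨y, rfl⟩ := LinearMap.lTensor_surjective S N.mkQ_surjective z
  change N.mkQ.baseChange S y = 0
  have hy : y ∈ Submodule.span S ((fun m => (1 : S) ⊗ₜ[R] m) '' (N : Set M)) := hN ▸ Submodule.mem_top
  refine LinearMap.mem_ker.mp (Submodule.span_le.mpr ?_ hy)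
  rintro _ ⟨k, hk, rfl⟩
  have h0 : N.mkQ k = 0 := (Submodule.Quotient.mk_eq_zero _).mpr hk
  rw [SetLike.mem_coe, LinearMap.mem_ker, LinearMap.baseChange_tmul, h0, tmul_zero]

theorem eq_top_of_span (hq : EtGlue.QuotPowBijective R R' f) {M : Type u} [AddCommGroup M]
    [Module R M] (N : Submodule R M)
    (h1 : Submodule.span R' ((fun m => (1 : R') ⊗ₜ[R] m) '' (N : Set M)) = ⊤)
    (h2 : Submodule.span (Localization.Away f)
      ((fun m => (1 : Localization.Away f) ⊗ₜ[R] m) '' (N : Set M)) = ⊤) : N = ⊤ :=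
  haveI := subsingleton_of_subsingleton hq (M ⧸ N) (subsingleton_baseChange_quotient N h1)
    (subsingleton_baseChange_quotient N h2)
  Submodule.Quotient.subsingleton_iff.mp inferInstance

theorem exists_fg_span_eq_top (S : Type u) [CommRing S] [Algebra R S] (M : Type u) [AddCommGroup M]
    [Module R M] [Module.Finite S (S ⊗[R] M)] :
    ∃ N : Submodule R M, N.FG ∧
      Submodule.span S ((fun m => (1 : S) ⊗ₜ[R] m) '' (N : Set M)) = ⊤ := by
  classical
  obtain ⟨s, hs⟩ := (Module.Finite.fg_top : (⊤ : Submodule S (S ⊗[R] M)).FG)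
  have : ∀ z : S ⊗[R] M, ∃ t : Finset M,
      z ∈ Submodule.span S ((fun l => (1 : S) ⊗ₜ[R] l) '' (t : Set M)) := by
    intro z
    induction z with
    | zero => exact ⟨∅, zero_mem _⟩
    | tmul a l =>
      refine ⟨{l}, ?_⟩
      rw [show (a ⊗ₜ[R] l : S ⊗[R] M) = a • ((1 : S) ⊗ₜ l) by rw [smul_tmul', smul_eq_mul, mul_one]]
      exact Submodule.smul_mem _ _ (Submodule.subset_span (by simp))
    | add x y hx hy =>
      obtain ⟨t₁, h₁⟩ := hx
      obtain ⟨t₂, h₂⟩ := hy
      exact ⟨t₁ ∪ t₂, add_mem (Submodule.span_mono (Set.image_mono (by simp)) h₁)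
        (Submodule.span_mono (Set.image_mono (by simp)) h₂)⟩
  choose t ht using this
  refine ⟨Submodule.span R (s.biUnion t : Set M), ⟨_, rfl⟩, ?_⟩
  rw [eq_top_iff, ← hs, Submodule.span_le]
  intro z hz
  exact Submodule.span_mono (Set.image_mono fun l hl =>
    Submodule.subset_span (Finset.mem_biUnion.mpr ⟨z, hz, hl⟩)) (ht z)

theorem finite_of_finite (hq : EtGlue.QuotPowBijective R R' f) (M : Type u) [AddCommGroup M]
    [Module R M] [Module.Finite R' (R' ⊗[R] M)]
    [Module.Finite (Localization.Away f) (Localization.Away f ⊗[R] M)] : Module.Finite R M := by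
  obtain ⟨N₁, hN₁, h₁⟩ := exists_fg_span_eq_top (R := R) R' M
  obtain ⟨N₂, hN₂, h₂⟩ := exists_fg_span_eq_top (R := R) (Localization.Away f) M
  have := eq_top_of_span hq (N₁ ⊔ N₂)
    (eq_top_iff.mpr (h₁ ▸ Submodule.span_mono (Set.image_mono (SetLike.coe_subset_coe.mpr le_sup_left))))
    (eq_top_iff.mpr (h₂ ▸ Submodule.span_mono (Set.image_mono (SetLike.coe_subset_coe.mpr le_sup_right))))
  exact ⟨this ▸ hN₁.sup hN₂⟩

theorem bijective_baseChange_liftQ {S : Type u} [CommRing S] [Algebra R S] {F M : Type u}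
    [AddCommGroup F] [Module R F] [AddCommGroup M] [Module R M] (π : F →ₗ[R] M)
    (hπ : Surjective π) (K₀ : Submodule R F) (hK : K₀ ≤ LinearMap.ker π)
    (hy : ∀ y, π.baseChange S y = 0 →
      y ∈ Submodule.span S ((fun k => (1 : S) ⊗ₜ[R] k) '' (K₀ : Set F))) :
    Bijective ((K₀.liftQ π hK).baseChange S) := by
  refine ⟨(injective_iff_map_eq_zero _).mpr fun x hx => ?_, LinearMap.lTensor_surjective S fun x => ?_⟩
  · obtain ⟨y, rfl⟩ := LinearMap.lTensor_surjective S K₀.mkQ_surjective x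
    have hy0 : π.baseChange S y = 0 := by
      rw [← hx]
      change π.lTensor S y = (K₀.liftQ π hK).lTensor S (K₀.mkQ.lTensor S y)
      rw [← LinearMap.lTensor_comp_apply, Submodule.liftQ_mkQ]
    change K₀.mkQ.baseChange S y = 0
    refine LinearMap.mem_ker.mp (Submodule.span_le.mpr ?_ (hy y hy0))
    rintro _ ⟨k, hk, rfl⟩
    have h0 : K₀.mkQ k = 0 := (Submodule.Quotient.mk_eq_zero _).mpr hk
    rw [SetLike.mem_coe, LinearMap.mem_ker, LinearMap.baseChange_tmul, h0, tmul_zero]
  · obtain ⟨y, rfl⟩ := hπ x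
    exact ⟨K₀.mkQ y, rfl⟩

theorem ker_le_of_bijective (h : EtGlue.IsGlueingPair R R' f) {F M : Type u}
    [AddCommGroup F] [Module R F] [AddCommGroup M] [Module R M] (π : F →ₗ[R] M)
    (K₀ : Submodule R F) (hK : K₀ ≤ LinearMap.ker π)
    [Module.Flat R' (R' ⊗[R] M)] [Module.Flat (Localization.Away f) (Localization.Away f ⊗[R] M)]
    (b₁ : Bijective ((K₀.liftQ π hK).baseChange R'))
    (b₂ : Bijective ((K₀.liftQ π hK).baseChange (Localization.Away f))) :
    K₀ = LinearMap.ker π := by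
  haveI : Module.Flat R' (R' ⊗[R] (F ⧸ K₀)) := .of_linearEquiv (LinearEquiv.ofBijective _ b₁)
  haveI : Module.Flat (Localization.Away f) (Localization.Away f ⊗[R] (F ⧸ K₀)) :=
    .of_linearEquiv (LinearEquiv.ofBijective _ b₂)
  haveI := flat_of_flat h (M := F ⧸ K₀)
  refine le_antisymm hK fun x hx => ?_
  rw [← Submodule.Quotient.mk_eq_zero]
  have h0 : K₀.liftQ π hK (Submodule.Quotient.mk x) = 0 := hx
  refine injective_of_flat h (F ⧸ K₀) _ (b₁.injective ?_) ((tors_iff_tmul_eq_zero _).mp (b₂.injective ?_))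
  all_goals rw [LinearMap.baseChange_tmul, map_zero, h0, tmul_zero]

theorem exists_fg_le_ker (S : Type u) [CommRing S] [Algebra R S] {F M : Type u}
    [AddCommGroup F] [Module R F] [AddCommGroup M] [Module R M] (π : F →ₗ[R] M)
    (hπ : Surjective π) (hker : (LinearMap.ker (π.baseChange S)).FG) :
    ∃ K₀ : Submodule R F, K₀.FG ∧ K₀ ≤ LinearMap.ker π ∧
      ∀ y, π.baseChange S y = 0 →
        y ∈ Submodule.span S ((fun k => (1 : S) ⊗ₜ[R] k) '' (K₀ : Set F)) := by
  classical
  obtain ⟨s, hs⟩ := hker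
  have : ∀ z : S ⊗[R] LinearMap.ker π, ∃ t : Finset F,
      ↑t ⊆ (LinearMap.ker π : Set F) ∧ (LinearMap.ker π).subtype.baseChange S z ∈
        Submodule.span S ((fun k => (1 : S) ⊗ₜ[R] k) '' (t : Set F)) := by
    intro z
    induction z with
    | zero => exact ⟨∅, by simp, by simp⟩
    | tmul a l =>
      refine ⟨{l.1}, by simp, ?_⟩
      rw [LinearMap.baseChange_tmul, show (a ⊗ₜ[R] ((LinearMap.ker π).subtype l) : S ⊗[R] F) =
        a • ((1 : S) ⊗ₜ l.1) by rw [smul_tmul', smul_eq_mul, mul_one]; rfl]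
      exact Submodule.smul_mem _ _ (Submodule.subset_span (by simp))
    | add x y hx hy =>
      obtain ⟨t₁, ht₁, h₁⟩ := hx
      obtain ⟨t₂, ht₂, h₂⟩ := hy
      refine ⟨t₁ ∪ t₂, by simp [ht₁, ht₂], ?_⟩
      rw [map_add]
      exact add_mem (Submodule.span_mono (Set.image_mono (by simp)) h₁)
        (Submodule.span_mono (Set.image_mono (by simp)) h₂)
  have hsk : ∀ y : {y // y ∈ s}, ∃ z : S ⊗[R] LinearMap.ker π,
      (LinearMap.ker π).subtype.baseChange S z = y.1 := by
    intro y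
    have hy : π.baseChange S y.1 = 0 := LinearMap.mem_ker.mp (hs ▸ Submodule.subset_span y.2)
    exact ((_root_.lTensor_exact S (LinearMap.exact_subtype_ker_map π) hπ) y.1).mp hy
  choose z hz using hsk
  choose t ht ht' using this
  refine ⟨Submodule.span R ↑(s.attach.biUnion fun y => t (z y)), ⟨_, rfl⟩, ?_, fun y hy => ?_⟩
  · rw [Submodule.span_le]
    intro k hk
    obtain ⟨y, -, hy⟩ := Finset.mem_biUnion.mp hk
    exact ht _ hy
  · have : y ∈ Submodule.span S (s : Set (S ⊗[R] F)) := hs ▸ LinearMap.mem_ker.mpr hy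
    refine Submodule.span_le.mpr (fun x hx => ?_) this
    have hx' := ht' (z ⟨x, hx⟩)
    rw [hz] at hx'
    exact Submodule.span_mono (Set.image_mono fun k hk => Submodule.subset_span
      (Finset.mem_biUnion.mpr ⟨⟨x, hx⟩, Finset.mem_attach _ _, hk⟩)) hx'

theorem finitePresentation_of_flat (h : EtGlue.IsGlueingPair R R' f) (M : Type u) [AddCommGroup M]
    [Module R M] [Module.Flat R' (R' ⊗[R] M)] [Module.FinitePresentation R' (R' ⊗[R] M)]
    [Module.Flat (Localization.Away f) (Localization.Away f ⊗[R] M)]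
    [Module.FinitePresentation (Localization.Away f) (Localization.Away f ⊗[R] M)] :
    Module.FinitePresentation R M := by
  haveI := finite_of_finite h.1 M
  obtain ⟨n, π, hπ⟩ := Module.Finite.exists_fin' R M
  obtain ⟨K₁, h₁, h₁', h₁''⟩ := exists_fg_le_ker R' π hπ
    (Module.FinitePresentation.fg_ker _ (LinearMap.lTensor_surjective R' hπ))
  obtain ⟨K₂, h₂, h₂', h₂''⟩ := exists_fg_le_ker (Localization.Away f) π hπ
    (Module.FinitePresentation.fg_ker _ (LinearMap.lTensor_surjective _ hπ))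
  have hK := ker_le_of_bijective h π (K₁ ⊔ K₂) (sup_le h₁' h₂')
    (bijective_baseChange_liftQ π hπ _ _ fun y hy =>
      Submodule.span_mono (Set.image_mono (SetLike.coe_subset_coe.mpr le_sup_left)) (h₁'' y hy))
    (bijective_baseChange_liftQ π hπ _ _ fun y hy =>
      Submodule.span_mono (Set.image_mono (SetLike.coe_subset_coe.mpr le_sup_right)) (h₂'' y hy))
  exact Module.finitePresentation_of_surjective π hπ (hK ▸ h₁.sup h₂)

section Glue

variable (h : EtGlue.IsGlueingPair R R' f) {M' M₁ : Type u} [AddCommGroup M'] [Module R M']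
  [Module R' M'] [IsScalarTower R R' M'] [AddCommGroup M₁] [Module R M₁]
  (η : M' →ₗ[R'] R' ⊗[R] M₁)

/-- The glued module. -/
def glued : Submodule R (M' × M₁) :=
  LinearMap.ker ((η.restrictScalars R).coprod (-(TensorProduct.mk R R' M₁ 1)))

theorem mem_glued {z : M' × M₁} : z ∈ glued η ↔ η z.1 = (1 : R') ⊗ₜ[R] z.2 := by
  simp [glued, LinearMap.mem_ker, ← sub_eq_add_neg, sub_eq_zero]

/-- First projection. -/
def gluedFst : glued η →ₗ[R] M' := (LinearMap.fst R M' M₁) ∘ₗ (glued η).subtype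

/-- Second projection. -/
def gluedSnd : glued η →ₗ[R] M₁ := (LinearMap.snd R M' M₁) ∘ₗ (glued η).subtype

variable (hM₁ : Bijective fun x : M₁ => f • x) (hker : ∀ x : M', η x = 0 → IsTors f x)
  (hsurj : ∀ z : R' ⊗[R] M₁, ∃ (n : ℕ) (x : M'), η x = f ^ n • z)

include hM₁ hker hsurj in
theorem isLocalizedModule_gluedSnd :
    IsLocalizedModule (Submonoid.powers f) (gluedSnd η) where
  map_units := (isLocalizedModule_id hM₁).map_units
  surj y := by
    obtain ⟨n, x, hx⟩ := hsurj ((1 : R') ⊗ₜ[R] y)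
    refine ⟨(⟨(x, f ^ n • y), (mem_glued η).mpr ?_⟩, ⟨_, n, rfl⟩), rfl⟩
    rw [hx]; exact (tmul_smul _ _ _).symm
  exists_of_eq {a b} hab := by
    have h0 : η (a.1.1 - b.1.1) = 0 := by
      rw [map_sub, (mem_glued η).mp a.2, (mem_glued η).mp b.2, show a.1.2 = b.1.2 from hab, sub_self]
    obtain ⟨n, hn⟩ := hker _ h0
    refine ⟨⟨_, n, rfl⟩, Subtype.ext (Prod.ext ?_ ?_)⟩
    · rw [smul_sub, sub_eq_zero] at hn; exact hn
    · exact congrArg (f ^ n • ·) hab

include hM₁ hsurj in
theorem surjective_liftBaseChange_gluedFst (h : EtGlue.IsGlueingPair R R' f) :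
    Surjective ((gluedFst η).liftBaseChange R') := by
  intro x
  set Φ := (gluedFst η).liftBaseChange R'
  suffices ∀ z : R' ⊗[R] M₁, ∃ (y : M₁) (x₀ : R' ⊗[R] glued η), z = 1 ⊗ₜ y + η (Φ x₀) by
    obtain ⟨y, x₀, hx₀⟩ := this (η x)
    have hmem : η (x - Φ x₀) = 1 ⊗ₜ y := by rw [map_sub, hx₀, add_sub_cancel_right]
    refine ⟨x₀ + 1 ⊗ₜ ⟨(x - Φ x₀, y), (mem_glued η).mpr hmem⟩, ?_⟩
    rw [map_add]
    simp [Φ, gluedFst]
  intro z
  induction z with
  | zero => exact ⟨0, 0, by simp⟩
  | tmul s y =>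
    obtain ⟨n, x₁, hx₁⟩ := hsurj ((1 : R') ⊗ₜ[R] y)
    obtain ⟨r, u, hru⟩ := exists_eq_add_pow h.1 n s
    refine ⟨r • y, u ⊗ₜ ⟨(x₁, f ^ n • y), (mem_glued η).mpr (by rw [hx₁]; exact (tmul_smul _ _ _).symm)⟩, ?_⟩
    rw [tmul_eq_add hru y]
    congr 1
    have : Φ (u ⊗ₜ ⟨(x₁, f ^ n • y), (mem_glued η).mpr (by rw [hx₁]; exact (tmul_smul _ _ _).symm)⟩) =
        u • x₁ := by simp [Φ, gluedFst]
    rw [this, map_smul, hx₁, smul_comm u, smul_tmul' u (1 : R') y, smul_eq_mul, mul_one]
  | add a b ha hb =>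
    obtain ⟨y, x₀, rfl⟩ := ha
    obtain ⟨y', x₀', rfl⟩ := hb
    exact ⟨y + y', x₀ + x₀', by rw [tmul_add, map_add, map_add]; abel⟩

include hM₁ hker hsurj in
theorem injective_liftBaseChange_gluedFst (h : EtGlue.IsGlueingPair R R' f) :
    Injective ((gluedFst η).liftBaseChange R') := by
  rw [injective_iff_map_eq_zero]
  intro ξ hξ
  have hcomp : ∀ ξ, (gluedSnd η).baseChange R' ξ = η ((gluedFst η).liftBaseChange R' ξ) := by
    intro ξ
    induction ξ with
    | zero => simp
    | add a b ha hb => simp only [map_add, ha, hb]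
    | tmul s m =>
      simp only [LinearMap.baseChange_tmul, LinearMap.liftBaseChange_tmul, map_smul]
      rw [show (gluedFst η m) = m.1.1 from rfl, (mem_glued η).mp m.2, smul_tmul', smul_eq_mul, mul_one]
      rfl
  haveI := isLocalizedModule_gluedSnd η hM₁ hker hsurj
  have h0 : AlgebraTensorModule.lTensor R' R' (gluedSnd η) ξ = 0 := by
    have := hcomp ξ
    rw [hξ, map_zero] at this
    exact this
  have htors : IsTors f ξ := by
    have h0' : (TensorProduct.comm R R' M₁) ((gluedSnd η).lTensor R' ξ) = 0 := by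
      rw [show (gluedSnd η).lTensor R' ξ = 0 from h0, map_zero]
    have h1 : AlgebraTensorModule.rTensor R R' (gluedSnd η) (TensorProduct.comm R R' _ ξ) = 0 := by
      rw [← h0']
      clear h0' h0 hξ
      induction ξ with
      | zero => simp
      | add a b ha hb => simp only [map_add, ha, hb]
      | tmul s m => simp
    obtain ⟨⟨_, n, rfl⟩, hn⟩ := (IsLocalizedModule.eq_zero_iff (Submonoid.powers f) _).mp h1
    refine ⟨n, (TensorProduct.comm R R' _).injective ?_⟩
    rw [map_smul, map_zero]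
    exact hn
  obtain ⟨t, ⟨k, hk⟩, rfl⟩ := torsSurj_of_pair (glued η) h ξ htors
  have h1 : t.1.1 = 0 := by simpa [gluedFst] using hξ
  have h2 : t.1.2 = 0 := by
    have h3 : f ^ k • t.1.2 = 0 := congrArg (fun z : glued η => z.1.2) hk
    have := (IsLocalizedModule.map_units (LinearMap.id : M₁ →ₗ[R] M₁) (S := Submonoid.powers f)
      (self := isLocalizedModule_id hM₁) ⟨_, k, rfl⟩)
    exact ((Module.End.isUnit_iff _).mp this).1 (h3.trans (smul_zero _).symm)
  rw [show t = 0 from Subtype.ext (Prod.ext h1 h2), tmul_zero]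

include hM₁ hker hsurj in
theorem isGlueable_glued (h : EtGlue.IsGlueingPair R R' f) :
    EtGlue.IsGlueable R R' f (glued η) := by
  refine (isGlueable_iff h.1).mpr ⟨fun t ⟨k, hk⟩ h0 => ?_, torsSurj_of_pair _ h⟩
  have h1 : t.1.1 = 0 := by simpa [gluedFst] using congrArg ((gluedFst η).liftBaseChange R') h0
  have h3 : f ^ k • t.1.2 = 0 := congrArg (fun z : glued η => z.1.2) hk
  have := (IsLocalizedModule.map_units (LinearMap.id : M₁ →ₗ[R] M₁) (S := Submonoid.powers f)
    (self := isLocalizedModule_id hM₁) ⟨_, k, rfl⟩)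
  exact Subtype.ext (Prod.ext h1 (((Module.End.isUnit_iff _).mp this).1 (h3.trans (smul_zero _).symm)))

end Glue

end Groth.Agent.HenselLib.BL
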