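import Groth.Prelude.Def_EtGlue
import Mathlib.Algebra.Module.LocalizedModule.Basic
import Mathlib.LinearAlgebra.TensorProduct.RightExactness
import Mathlib.RingTheory.Localization.Away.Basic
import Mathlib.Tactic.LinearCombination
import Mathlib.Tactic.Ring

/-!
# Beauville–Laszlo glueing pairs: torsion, glueability
-/

set_option autoImplicit false
set_option linter.all false

universe u

open TensorProduct Function

namespace Groth.Agent.HenselLib.BL

variable {R R' : Type u} [CommRing R] [CommRing R'] [Algebra R R'] {f : R}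

theorem exists_eq_add_pow (hq : EtGlue.QuotPowBijective R R' f) (n : ℕ) (x : R') :
    ∃ (r : R) (x' : R'), x = algebraMap R R' r + f ^ n • x' := by
  rcases Nat.eq_zero_or_pos n with rfl | hn
  · exact ⟨0, x, by simp⟩
  obtain ⟨rb, hrb⟩ := (hq n hn).2 (Ideal.Quotient.mk _ x)
  obtain ⟨r, rfl⟩ := Ideal.Quotient.mk_surjective rb
  rw [Ideal.quotientMap_mk, Ideal.Quotient.mk_eq_mk_iff_sub_mem, Ideal.map_span, Set.image_singleton,
    Ideal.mem_span_singleton'] at hrb
  obtain ⟨y, hy⟩ := hrb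
  exact ⟨r, -y, by rw [Algebra.smul_def]; linear_combination hy⟩

theorem exists_eq_pow_mul (hq : EtGlue.QuotPowBijective R R' f) (n : ℕ) (r : R) (x : R')
    (h : algebraMap R R' r = f ^ n • x) : ∃ s, r = f ^ n * s := by
  rcases Nat.eq_zero_or_pos n with rfl | hn
  · exact ⟨r, by simp⟩
  have h0 : Ideal.Quotient.mk (Ideal.span {f ^ n}) r = 0 := by
    apply (hq n hn).1
    rw [Ideal.quotientMap_mk, map_zero, Ideal.Quotient.eq_zero_iff_mem, Ideal.map_span,
      Set.image_singleton, Ideal.mem_span_singleton']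
    exact ⟨x, by rw [h, Algebra.smul_def, mul_comm]⟩
  obtain ⟨s, hs⟩ := Ideal.mem_span_singleton'.mp (Ideal.Quotient.eq_zero_iff_mem.mp h0)
  exact ⟨s, by rw [← hs, mul_comm]⟩

variable {M : Type u} [AddCommGroup M] [Module R M]

theorem tmul_eq_add {x x' : R'} {r : R} {n : ℕ} (h : x = algebraMap R R' r + f ^ n • x') (m : M) :
    (x ⊗ₜ[R] m : R' ⊗[R] M) = 1 ⊗ₜ (r • m) + f ^ n • (x' ⊗ₜ m) := by
  rw [h, add_tmul, smul_tmul', Algebra.algebraMap_eq_smul_one, smul_tmul]

theorem exists_tensor_eq_add (hq : EtGlue.QuotPowBijective R R' f) (n : ℕ) (x : R' ⊗[R] M) :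
    ∃ (m : M) (x' : R' ⊗[R] M), x = 1 ⊗ₜ m + f ^ n • x' := by
  induction x with
  | zero => exact ⟨0, 0, by simp⟩
  | tmul s m =>
    obtain ⟨r, s', hs⟩ := exists_eq_add_pow hq n s
    exact ⟨r • m, s' ⊗ₜ m, tmul_eq_add hs m⟩
  | add x y hx hy =>
    obtain ⟨a, b, rfl⟩ := hx
    obtain ⟨c, d, rfl⟩ := hy
    exact ⟨a + c, b + d, by rw [tmul_add, smul_add]; abel⟩

theorem exists_eq_smul_of_tmul_eq (hq : EtGlue.QuotPowBijective R R' f) (n : ℕ) (m : M)
    (x : R' ⊗[R] M) (h : (1 : R') ⊗ₜ[R] m = f ^ n • x) : ∃ m', m = f ^ n • m' := by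
  let D : Submodule R M := LinearMap.range (f ^ n • LinearMap.id : M →ₗ[R] M)
  choose r s hrs using fun y : R' => exists_eq_add_pow hq n y
  have key : ∀ (y : R') (a : R) (z : R'), y = algebraMap R R' a + f ^ n • z → ∀ m : M,
      r y • D.mkQ m = a • D.mkQ m := by
    intro y a z hy m
    obtain ⟨c, hc⟩ := exists_eq_pow_mul hq n (r y - a) (z - s y) (by
      rw [map_sub, smul_sub]
      linear_combination hy - hrs y)
    rw [← sub_eq_zero, ← sub_smul, hc, ← map_smul, Submodule.mkQ_apply,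
      Submodule.Quotient.mk_eq_zero]
    exact ⟨c • m, by rw [LinearMap.smul_apply, LinearMap.id_apply, mul_smul]⟩
  let ρ : R' →ₗ[R] M →ₗ[R] (M ⧸ D) :=
    LinearMap.mk₂ R (fun y m => r y • D.mkQ m)
      (fun y z m => by
        rw [key (y + z) (r y + r z) (s y + s z) (by
          rw [map_add, smul_add]; linear_combination hrs y + hrs z), add_smul])
      (fun c y m => by
        rw [key (c • y) (c * r y) (c • s y) (by
          simp only [Algebra.smul_def, map_mul]; linear_combination (algebraMap R R' c) * hrs y +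
            (algebraMap R R' c) * (Algebra.smul_def (f ^ n) (s y))), mul_smul])
      (fun y m m' => by rw [map_add, smul_add])
      (fun c y m => by rw [map_smul, smul_comm])
  have h1 := congrArg (TensorProduct.lift ρ) h
  rw [lift.tmul, map_smul] at h1
  have h2 : ρ 1 m = D.mkQ m := by
    change r 1 • D.mkQ m = _
    rw [key 1 1 0 (by simp), one_smul]
  obtain ⟨z, hz⟩ := Submodule.mkQ_surjective D (TensorProduct.lift ρ x)
  rw [h2, ← hz, ← map_smul, ← sub_eq_zero, ← map_sub, Submodule.mkQ_apply,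
    Submodule.Quotient.mk_eq_zero] at h1
  obtain ⟨w, hw⟩ := h1
  rw [LinearMap.smul_apply, LinearMap.id_apply] at hw
  exact ⟨w + z, by rw [smul_add, hw, sub_add_cancel]⟩

/-- `m` is `f`-power torsion. -/
def IsTors (f : R) {X : Type*} [AddCommGroup X] [Module R X] (m : X) : Prop := ∃ n : ℕ, f ^ n • m = 0

theorem mk_eq_zero_iff (m : M) :
    LocalizedModule.mkLinearMap (Submonoid.powers f) M m = 0 ↔ IsTors f m := by
  rw [IsLocalizedModule.eq_zero_iff (Submonoid.powers f) (LocalizedModule.mkLinearMap (Submonoid.powers f) M)]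
  constructor
  · rintro ⟨⟨_, n, rfl⟩, h⟩; exact ⟨n, h⟩
  · rintro ⟨n, h⟩; exact ⟨⟨_, n, rfl⟩, h⟩

variable (R' f M) in
/-- `m ↦ 1 ⊗ m` is injective on torsion. -/
def TorsInj : Prop := ∀ m : M, IsTors f m → (1 : R') ⊗ₜ[R] m = 0 → m = 0

variable (R' f M) in
/-- Torsion of the base change comes from torsion. -/
def TorsSurj : Prop := ∀ x : R' ⊗[R] M, IsTors f x → ∃ m : M, IsTors f m ∧ (1 : R') ⊗ₜ[R] m = x

theorem exists_glue (hq : EtGlue.QuotPowBijective R R' f) (ht : TorsSurj R' f M) (x : R' ⊗[R] M)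
    (m : M) (n : ℕ) (h : f ^ n • x = 1 ⊗ₜ m) :
    ∃ μ : M, (1 : R') ⊗ₜ[R] μ = x ∧ ∃ a : ℕ, f ^ a • (f ^ n • μ) = f ^ a • m := by
  obtain ⟨m₁, hm₁⟩ := exists_eq_smul_of_tmul_eq hq n m x h.symm
  obtain ⟨t, ⟨k, hk⟩, ht'⟩ := ht (x - 1 ⊗ₜ m₁) ⟨n, by
    rw [smul_sub, h, hm₁, tmul_smul, sub_self]⟩
  refine ⟨m₁ + t, by rw [tmul_add, ht']; abel, k, ?_⟩
  rw [smul_add, smul_add, ← hm₁, smul_comm (f ^ k) (f ^ n) t, hk, smul_zero, add_zero]

theorem tensorOfLoc_mk (m : M) (n : ℕ) :
    EtGlue.tensorOfLoc R R' f M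
      (IsLocalizedModule.mk' (LocalizedModule.mkLinearMap (Submonoid.powers f) M) m
        (⟨f ^ n, n, rfl⟩ : Submonoid.powers f)) =
    IsLocalizedModule.mk' (LocalizedModule.mkLinearMap (Submonoid.powers f) (R' ⊗[R] M))
      ((1 : R') ⊗ₜ[R] m) (⟨f ^ n, n, rfl⟩ : Submonoid.powers f) := by
  simp [EtGlue.tensorOfLoc, IsLocalizedModule.map_mk']

theorem exists_mk' (y : LocalizedModule (Submonoid.powers f) M) :
    ∃ (m : M) (n : ℕ), IsLocalizedModule.mk' (LocalizedModule.mkLinearMap (Submonoid.powers f) M) m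
      (⟨f ^ n, n, rfl⟩ : Submonoid.powers f) = y := by
  obtain ⟨⟨m, ⟨s, n, rfl⟩⟩, h⟩ :=
    IsLocalizedModule.mk'_surjective (Submonoid.powers f)
      (LocalizedModule.mkLinearMap (Submonoid.powers f) M) y
  exact ⟨m, n, h⟩

theorem isGlueable_iff (hq : EtGlue.QuotPowBijective R R' f) :
    EtGlue.IsGlueable R R' f M ↔ TorsInj R' f M ∧ TorsSurj R' f M := by
  constructor
  · rintro ⟨hinj, hmid⟩
    refine ⟨fun m hm h0 => @hinj m 0 ?_, fun x hx => ?_⟩
    · simp only [Prod.mk.injEq, tmul_zero, map_zero]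
      exact ⟨h0, (mk_eq_zero_iff m).mpr hm⟩
    · obtain ⟨m, h1, h2⟩ := hmid x 0 (by rw [map_zero]; exact (mk_eq_zero_iff x).mpr hx)
      exact ⟨m, (mk_eq_zero_iff m).mp h2, h1⟩
  · rintro ⟨hi, hs⟩
    refine ⟨fun a b hab => ?_, fun x y hxy => ?_⟩
    · simp only [Prod.mk.injEq] at hab
      refine sub_eq_zero.mp (hi _ ((mk_eq_zero_iff _).mp ?_) ?_)
      · rw [map_sub, hab.2, sub_self]
      · rw [tmul_sub, hab.1, sub_self]
    · obtain ⟨m, n, rfl⟩ := exists_mk' y
      rw [tensorOfLoc_mk, EtGlue.locOfTensor, eq_comm, IsLocalizedModule.mk'_eq_iff,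
        Submonoid.smul_def, ← map_smul] at hxy
      obtain ⟨⟨_, a, rfl⟩, ha⟩ := IsLocalizedModule.exists_of_eq (S := Submonoid.powers f) hxy
      obtain ⟨μ, hμ, b, hb⟩ := exists_glue hq hs x (f ^ a • m) (a + n) (by
        rw [tmul_smul, pow_add, mul_smul]; exact ha.symm)
      refine ⟨μ, hμ, ?_⟩
      rw [eq_comm, IsLocalizedModule.mk'_eq_iff, Submonoid.smul_def, ← map_smul]
      refine (IsLocalizedModule.eq_iff_exists (Submonoid.powers f)
        (LocalizedModule.mkLinearMap (Submonoid.powers f) M)).mpr ⟨⟨_, b + a, rfl⟩, ?_⟩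
      change f ^ (b + a) • m = f ^ (b + a) • f ^ n • μ
      rw [smul_smul, smul_smul] at hb
      rw [smul_smul, ← pow_add, pow_add] at *
      rw [← hb]
      ring_nf

/-- Ring-level conditions in a glueing pair. -/
theorem eq_zero_of_pair (h : EtGlue.IsGlueingPair R R' f) (r : R) (hr : IsTors f r)
    (h0 : algebraMap R R' r = 0) : r = 0 := by
  obtain ⟨n, hn⟩ := hr
  refine @h.2.1 r 0 ?_
  simp only [map_zero, Prod.mk.injEq]
  exact ⟨h0, (IsLocalization.map_eq_zero_iff (Submonoid.powers f) (Localization.Away f) r).mpr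
    ⟨⟨_, n, rfl⟩, hn⟩⟩

theorem exists_tors_of_pair (h : EtGlue.IsGlueingPair R R' f) (x : R') (hx : IsTors f x) :
    ∃ t : R, IsTors f t ∧ algebraMap R R' t = x := by
  obtain ⟨n, hn⟩ := hx
  rw [Algebra.smul_def, map_pow] at hn
  obtain ⟨t, ht, ht'⟩ := h.2.2.1 x 0 (by
    rw [map_zero]
    exact (IsLocalization.map_eq_zero_iff (Submonoid.powers (algebraMap R R' f)) _ x).mpr
      ⟨⟨_, n, rfl⟩, hn⟩)
  obtain ⟨⟨_, k, rfl⟩, hk⟩ :=
    (IsLocalization.map_eq_zero_iff (Submonoid.powers f) (Localization.Away f) t).mp ht'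
  exact ⟨t, ⟨k, hk⟩, ht⟩

variable (M) in
theorem torsSurj_of_pair (h : EtGlue.IsGlueingPair R R' f) : TorsSurj R' f M := by
  rintro x ⟨n, hn⟩
  let ι : R →ₗ[R] R × R' := (f ^ n • LinearMap.id).prod (-Algebra.linearMap R R')
  let π : R × R' →ₗ[R] R' := (Algebra.linearMap R R').coprod (f ^ n • LinearMap.id)
  have hπ : Surjective π := fun y => by
    obtain ⟨r, y', hy⟩ := exists_eq_add_pow h.1 n y
    exact ⟨(r, y'), by simp [π, hy]⟩
  have hex : Exact ι π := by
    rintro ⟨r, y⟩
    constructor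
    · intro h0
      have h0' : algebraMap R R' r + f ^ n • y = 0 := by simpa [π] using h0
      obtain ⟨s, rfl⟩ := exists_eq_pow_mul h.1 n r (-y) (by rw [smul_neg]; exact eq_neg_of_add_eq_zero_left h0')
      have hs : f ^ n • (algebraMap R R' s + y) = 0 := by
        rw [smul_add, Algebra.smul_def, ← map_mul]; exact h0'
      obtain ⟨t, htt, ht⟩ := exists_tors_of_pair h _ ⟨n, hs⟩
      have h1 : f ^ n * t = 0 := eq_zero_of_pair h _ (by
        obtain ⟨k, hk⟩ := htt
        exact ⟨k, by rw [smul_eq_mul] at hk ⊢; linear_combination (f ^ n) * hk⟩) (by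
        rw [map_mul, ht, ← Algebra.smul_def, hs])
      refine ⟨s - t, Prod.ext ?_ ?_⟩
      · simp [ι, mul_sub, h1]
      · simp [ι, ht]
    · rintro ⟨s, hs⟩
      rw [← hs]
      change algebraMap R R' (f ^ n • s) + f ^ n • -(algebraMap R R' s) = 0
      simp [Algebra.smul_def, smul_eq_mul]
  have hz : π.rTensor M ((LinearMap.inr R R R').rTensor M x) = 0 := by
    rw [← LinearMap.rTensor_comp_apply]
    have : π ∘ₗ LinearMap.inr R R R' = f ^ n • LinearMap.id := by ext y; simp [π]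
    rw [this, LinearMap.rTensor_smul, LinearMap.smul_apply, LinearMap.rTensor_id, LinearMap.id_apply, hn]
  obtain ⟨η, hη⟩ := ((_root_.rTensor_exact M hex hπ) _).mp hz
  have h1 := congrArg ((LinearMap.fst R R R').rTensor M) hη
  have h2 := congrArg ((LinearMap.snd R R R').rTensor M) hη
  rw [← LinearMap.rTensor_comp_apply, ← LinearMap.rTensor_comp_apply] at h1 h2
  obtain ⟨χ, rfl⟩ := (TensorProduct.lid R M).symm.surjective η
  simp [ι, LinearMap.comp_assoc, LinearMap.fst_prod, LinearMap.snd_prod] at h1 h2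
  refine ⟨-χ, ⟨n, ?_⟩, by rw [tmul_neg]; exact h2⟩
  have := congrArg (TensorProduct.lid R M) h1
  simp at this
  simp [this]

theorem bijective_mk_of_torsion (hq : EtGlue.QuotPowBijective R R' f) (hM : ∀ m : M, IsTors f m) :
    Bijective (TensorProduct.mk R R' M 1) := by
  choose N hN using hM
  choose r s hrs using fun (y : R') (n : ℕ) => exists_eq_add_pow hq n y
  have key : ∀ (y : R') (m : M) (n : ℕ) (a : R) (z : R'), f ^ n • m = 0 →
      y = algebraMap R R' a + f ^ n • z → r y (N m) • m = a • m := by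
    intro y m n a z hn hy
    have hy' := hrs y (N m)
    rcases le_total n (N m) with hle | hle
    all_goals obtain ⟨d, hd⟩ := Nat.exists_eq_add_of_le hle
    · obtain ⟨c, hc⟩ := exists_eq_pow_mul hq n (r y (N m) - a) (z - f ^ d • s y (N m)) (by
        rw [hd, pow_add, mul_smul] at hy'
        rw [hd, map_sub, smul_sub]
        linear_combination hy - hy')
      rw [← sub_eq_zero, ← sub_smul, hc, mul_comm, mul_smul, hn, smul_zero]
    · obtain ⟨c, hc⟩ := exists_eq_pow_mul hq (N m) (r y (N m) - a) (f ^ d • z - s y (N m)) (by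
        rw [hd, pow_add, mul_smul] at hy
        rw [map_sub, smul_sub]
        linear_combination hy - hy')
      rw [← sub_eq_zero, ← sub_smul, hc, mul_comm, mul_smul, hN, smul_zero]
  let θ : R' →ₗ[R] M →ₗ[R] M :=
    LinearMap.mk₂ R (fun y m => r y (N m) • m)
      (fun y z m => by
        rw [key (y + z) m (N m) (r y (N m) + r z (N m)) (s y (N m) + s z (N m)) (hN m) (by
          rw [map_add, smul_add]; linear_combination hrs y (N m) + hrs z (N m)), add_smul])
      (fun c y m => by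
        rw [key (c • y) m (N m) (c * r y (N m)) (c • s y (N m)) (hN m) (by
          simp only [Algebra.smul_def, map_mul]
          linear_combination (algebraMap R R' c) * hrs y (N m) +
            (algebraMap R R' c) * (Algebra.smul_def (f ^ N m) (s y (N m)))), mul_smul])
      (fun y m m' => by
        obtain ⟨a, z, hy⟩ := exists_eq_add_pow hq (N m + N m' + N (m + m')) y
        have h1 : ∀ (x : M) (k : ℕ), f ^ k • x = 0 → ∀ l, k ≤ l → f ^ l • x = 0 := fun x k hk l hkl => by
          obtain ⟨d, rfl⟩ := Nat.exists_eq_add_of_le hkl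
          rw [pow_add, mul_comm, mul_smul, hk, smul_zero]
        rw [key y m _ a z (h1 m _ (hN m) _ (by omega)) hy,
          key y m' _ a z (h1 m' _ (hN m') _ (by omega)) hy,
          key y (m + m') _ a z (h1 _ _ (hN _) _ (by omega)) hy, smul_add])
      (fun c y m => by
        rw [key y (c • m) (N m) (r y (N m)) (s y (N m)) (by rw [smul_comm, hN, smul_zero]) (hrs y _),
          smul_comm])
  refine ⟨fun a b hab => ?_, fun x => ?_⟩
  · have := congrArg (TensorProduct.lift θ) hab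
    simp only [TensorProduct.mk_apply, lift.tmul] at this
    have h1 : ∀ m : M, θ 1 m = m := fun m => by
      change r 1 (N m) • m = m
      rw [key 1 m (N m) 1 0 (hN m) (by simp), one_smul]
    rwa [h1, h1] at this
  · induction x with
    | zero => exact ⟨0, map_zero _⟩
    | tmul y m =>
      refine ⟨r y (N m) • m, ?_⟩
      rw [TensorProduct.mk_apply, tmul_eq_add (hrs y (N m)) m, smul_tmul', smul_tmul, hN,
        tmul_zero, add_zero]
    | add x y hx hy =>
      obtain ⟨a, rfl⟩ := hx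
      obtain ⟨b, rfl⟩ := hy
      exact ⟨a + b, map_add _ _ _⟩

theorem subsingleton_of_torsion (hq : EtGlue.QuotPowBijective R R' f) (hM : ∀ m : M, IsTors f m)
    (h : Subsingleton (R' ⊗[R] M)) : Subsingleton M :=
  (bijective_mk_of_torsion hq hM).1.subsingleton

end Groth.Agent.HenselLib.BL
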