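import Groth.Agent.HenselLib.BL
import Groth.Agent.HenselLib.MilnorGlue
import Mathlib.RingTheory.Localization.BaseChange
import Mathlib.RingTheory.Flat.Localization
import Mathlib.LinearAlgebra.FreeModule.Basic
import Mathlib.LinearAlgebra.Finsupp.LinearCombination

/-!
# Flatness descends along glueing pairs
-/

set_option autoImplicit false
set_option linter.all false

universe u

open TensorProduct Function

namespace Groth.Agent.HenselLib.BL

section Diagram

variable {R : Type u} [CommRing R] {N F M C D Q : Type u} [AddCommGroup N] [Module R N]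
  [AddCommGroup F] [Module R F] [AddCommGroup M] [Module R M] [AddCommGroup C] [Module R C]
  [AddCommGroup D] [Module R D] [AddCommGroup Q] [Module R Q]
  {i : N →ₗ[R] F} {p : F →ₗ[R] M} {j : C →ₗ[R] D} {k : D →ₗ[R] Q}

omit [AddCommGroup M] [Module R M] [AddCommGroup Q] [Module R Q] in
theorem rTensor_lTensor_comm (f : N →ₗ[R] F) (g : C →ₗ[R] D) (x : N ⊗[R] C) :
    g.lTensor F (f.rTensor C x) = f.rTensor D (g.lTensor N x) := by
  rw [← LinearMap.comp_apply, ← LinearMap.comp_apply, LinearMap.lTensor_comp_rTensor,
    LinearMap.rTensor_comp_lTensor]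

variable (hip : Exact i p) (hp : Surjective p) (hjk : Exact j k) (hk : Surjective k)

include hip hp hjk hk in
theorem rTensor_injective_of_right (hM : Injective (j.lTensor M)) (hD : Injective (i.rTensor D)) :
    Injective (i.rTensor Q) := by
  rw [injective_iff_map_eq_zero]
  intro ξ hξ
  obtain ⟨η, rfl⟩ := LinearMap.lTensor_surjective N hk ξ
  rw [← rTensor_lTensor_comm] at hξ
  obtain ⟨φ, hφ⟩ := ((_root_.lTensor_exact F hjk hk) _).mp hξ
  have hpe : ∀ y, p.rTensor D (i.rTensor D y) = 0 := fun y =>
    ((_root_.rTensor_exact D hip hp) _).mpr ⟨y, rfl⟩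
  have h0 : p.rTensor C φ = 0 := hM (by rw [rTensor_lTensor_comm, hφ, hpe, map_zero])
  obtain ⟨ψ, hψ⟩ := ((_root_.rTensor_exact C hip hp) _).mp h0
  have : η = j.lTensor N ψ := hD (by rw [← rTensor_lTensor_comm, hψ, hφ])
  rw [this]
  exact ((_root_.lTensor_exact N hjk hk) _).mpr ⟨ψ, rfl⟩

include hip hp hjk hk in
theorem lTensor_injective_of_right (hQ : Injective (i.rTensor Q))
    (hF : Injective (j.lTensor F)) : Injective (j.lTensor M) := by
  rw [injective_iff_map_eq_zero]
  intro ξ hξ
  obtain ⟨φ, rfl⟩ := LinearMap.rTensor_surjective C hp ξ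
  rw [rTensor_lTensor_comm] at hξ
  obtain ⟨η, hη⟩ := ((_root_.rTensor_exact D hip hp) _).mp hξ
  have h0 : k.lTensor N η = 0 := hQ (by
    rw [← rTensor_lTensor_comm, hη, map_zero]
    exact ((_root_.lTensor_exact F hjk hk) _).mpr ⟨φ, rfl⟩)
  obtain ⟨ψ, hψ⟩ := ((_root_.lTensor_exact N hjk hk) _).mp h0
  have : φ = i.rTensor C ψ := hF (by rw [rTensor_lTensor_comm, hψ, hη])
  rw [this]
  exact ((_root_.rTensor_exact C hip hp) _).mpr ⟨ψ, rfl⟩

omit [AddCommGroup M] [Module R M] in
include hjk hk in
theorem rTensor_injective_middle (hC : Injective (i.rTensor C)) (hQ : Injective (i.rTensor Q))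
    (hF : Injective (j.lTensor F)) : Injective (i.rTensor D) := by
  rw [injective_iff_map_eq_zero]
  intro ξ hξ
  have h0 : k.lTensor N ξ = 0 := hQ (by rw [← rTensor_lTensor_comm, hξ, map_zero, map_zero])
  obtain ⟨ψ, rfl⟩ := ((_root_.lTensor_exact N hjk hk) _).mp h0
  rw [← rTensor_lTensor_comm] at hξ
  have : ψ = 0 := hC ((hF (hξ.trans (map_zero _).symm)).trans (map_zero _).symm)
  rw [this, map_zero]

omit [AddCommGroup M] [Module R M] [AddCommGroup Q] [Module R Q] in
theorem rTensor_injective_of_retract (s : C →ₗ[R] D) (r : D →ₗ[R] C) (h : r ∘ₗ s = LinearMap.id)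
    (hD : Injective (i.rTensor D)) : Injective (i.rTensor C) := by
  intro x y hxy
  have := congrArg (r.lTensor N) (hD (a₁ := s.lTensor N x) (a₂ := s.lTensor N y) (by
    rw [← rTensor_lTensor_comm, ← rTensor_lTensor_comm, hxy]))
  simpa [← LinearMap.lTensor_comp_apply, h] using this

end Diagram

section Purity

variable {R S : Type u} [CommRing R] [CommRing S] [Algebra R S]

theorem rTensor_injective_of_baseChange {N F M : Type u} [AddCommGroup N] [Module R N]
    [AddCommGroup F] [Module R F] [AddCommGroup M] [Module R M] [Module.Flat R F]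
    {i : N →ₗ[R] F} {p : F →ₗ[R] M} (hip : Exact i p) (hp : Surjective p)
    (hi : Injective (i.baseChange S)) [Module.Flat S (S ⊗[R] M)]
    (Q : Type u) [AddCommGroup Q] [Module R Q] [Module S Q] [IsScalarTower R S Q] :
    Injective (i.rTensor Q) := by
  classical
  let π : (Q →₀ S) →ₗ[S] Q := Finsupp.linearCombination S _root_.id
  have hπ : Surjective π := Finsupp.linearCombination_id_surjective S Q
  have hjk := LinearMap.exact_subtype_ker_map π
  have hM : Injective ((LinearMap.ker π).subtype.lTensor (S ⊗[R] M)) :=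
    Module.Flat.lTensor_preserves_injective_linearMap _ (Submodule.injective_subtype _)
  have hG : Injective ((i.baseChange S).rTensor (Q →₀ S)) :=
    Module.Flat.rTensor_preserves_injective_linearMap _ hi
  have hip' : Exact (i.baseChange S) (p.baseChange S) := _root_.lTensor_exact S hip hp
  have hp' : Surjective (p.baseChange S) := LinearMap.lTensor_surjective S hp
  have key := rTensor_injective_of_right (C := LinearMap.ker π) (D := Q →₀ S) (Q := Q)
    (j := (LinearMap.ker π).subtype) (k := π) hip' hp' hjk hπ hM hG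
  let e : ∀ (X : Type u) [AddCommGroup X] [Module R X], (S ⊗[R] X) ⊗[S] Q ≃ₗ[R] X ⊗[R] Q :=
    fun X _ _ => (TensorProduct.comm S (S ⊗[R] X) Q).restrictScalars R ≪≫ₗ
      (AlgebraTensorModule.cancelBaseChange R S S Q X).restrictScalars R ≪≫ₗ
      TensorProduct.comm R Q X
  have heq : ∀ z, i.rTensor Q (e N z) = e F ((i.baseChange S).rTensor Q z) := by
    intro z
    induction z with
    | zero => simp
    | add a b ha hb => simp only [map_add, ha, hb]
    | tmul w x =>
      induction w with
      | zero => simp
      | add a b ha hb => simp only [add_tmul, map_add, ha, hb]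
      | tmul s n => simp [e]
  intro x y hxy
  obtain ⟨x', rfl⟩ := (e N).surjective x
  obtain ⟨y', rfl⟩ := (e N).surjective y
  rw [heq, heq] at hxy
  rw [key ((e F).injective hxy)]

theorem rTensor_injective_congr {N F X Y : Type u} [AddCommGroup N] [Module R N]
    [AddCommGroup F] [Module R F] [AddCommGroup X] [Module R X] [AddCommGroup Y] [Module R Y]
    {i : N →ₗ[R] F} (e : X ≃ₗ[R] Y) (h : Injective (i.rTensor Y)) : Injective (i.rTensor X) :=
  rTensor_injective_of_retract e.toLinearMap e.symm.toLinearMap (by ext; simp) h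

end Purity

variable {R R' : Type u} [CommRing R] [CommRing R'] [Algebra R R'] {f : R}

/-- `f` acts bijectively: the module is its own base change to `Localization.Away f`. -/
theorem isLocalizedModule_id {Q : Type u} [AddCommGroup Q] [Module R Q]
    (hQ : Bijective fun x : Q => f • x) :
    IsLocalizedModule (Submonoid.powers f) (LinearMap.id : Q →ₗ[R] Q) where
  map_units := by
    rintro ⟨_, n, rfl⟩
    rw [map_pow]
    exact IsUnit.pow n ((Module.End.isUnit_iff _).mpr hQ)
  surj y := ⟨(y, 1), one_smul _ y⟩
  exists_of_eq {x y} h := ⟨1, by rw [show x = y from h]⟩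

theorem rTensor_injective_of_bijective {N F M : Type u} [AddCommGroup N] [Module R N]
    [AddCommGroup F] [Module R F] [AddCommGroup M] [Module R M] [Module.Flat R F]
    {i : N →ₗ[R] F} {p : F →ₗ[R] M} (hip : Exact i p) (hp : Surjective p) (hi : Injective i)
    [Module.Flat (Localization.Away f) (Localization.Away f ⊗[R] M)]
    (Q : Type u) [AddCommGroup Q] [Module R Q] (hQ : Bijective fun x : Q => f • x) :
    Injective (i.rTensor Q) := by
  haveI := isLocalizedModule_id hQ
  let e : Q ≃ₗ[R] Localization.Away f ⊗[R] Q :=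
    IsLocalizedModule.linearEquiv (Submonoid.powers f) LinearMap.id
      (TensorProduct.mk R (Localization (Submonoid.powers f)) Q 1)
  refine rTensor_injective_congr e ?_
  exact rTensor_injective_of_baseChange (S := Localization.Away f) hip hp
    (Module.Flat.lTensor_preserves_injective_linearMap i hi) _

theorem algebraMap_eq_zero_and (h : EtGlue.IsGlueingPair R R' f) (r : R)
    (h1 : algebraMap R R' r = 0) (h2 : algebraMap R (Localization.Away f) r = 0) : r = 0 :=
  @h.2.1 r 0 (by simp only [map_zero, h1, h2])

section Flat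

variable (h : EtGlue.IsGlueingPair R R' f) {M : Type u} [AddCommGroup M] [Module R M]
  [Module.Flat (Localization.Away f) (Localization.Away f ⊗[R] M)]

include h in
/-- A presentation stays exact on the left after tensoring with `R'`. -/
theorem baseChange_injective {N F : Type u} [AddCommGroup N] [Module R N] [AddCommGroup F]
    [Module R F] [Module.Flat R F] {i : N →ₗ[R] F} {p : F →ₗ[R] M} (hip : Exact i p)
    (hp : Surjective p) (hi : Injective i) : Injective (i.baseChange R') := by
  let g := Localization.awayMap (algebraMap R R') f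
  let a : R' →ₗ[R] Localization.Away (algebraMap R R' f) :=
    (IsScalarTower.toAlgHom R R' (Localization.Away (algebraMap R R' f))).toLinearMap
  have hg : ∀ r, g (algebraMap R (Localization.Away f) r) =
      algebraMap R (Localization.Away (algebraMap R R' f)) r := fun r => by
    rw [IsScalarTower.algebraMap_apply R R' (Localization.Away (algebraMap R R' f))]
    exact IsLocalization.map_eq (S := Localization.Away f) _ r
  let b : Localization.Away f →ₗ[R] Localization.Away (algebraMap R R' f) :=
    { toFun := g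
      map_add' := map_add g
      map_smul' := fun r x => by
        rw [Algebra.smul_def, map_mul, hg, RingHom.id_apply, Algebra.smul_def] }
  let j : R →ₗ[R] R' × Localization.Away f :=
    (Algebra.linearMap R R').prod (Algebra.linearMap R (Localization.Away f))
  let k : R' × Localization.Away f →ₗ[R] Localization.Away (algebraMap R R' f) :=
    a.coprod (-b)
  have hj : Injective j := fun x y hxy => h.2.1 hxy
  have hk : Surjective k := fun z => by
    obtain ⟨x, y, hxy⟩ := h.2.2.2 z
    exact ⟨(x, y), by simp [k, a, b, ← hxy, sub_eq_add_neg]; rfl⟩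
  have hjk : Exact j k := by
    rintro ⟨x, y⟩
    constructor
    · intro h0
      have h0' : algebraMap R' (Localization.Away (algebraMap R R' f)) x = g y := by
        rw [← sub_eq_zero, sub_eq_add_neg]; exact h0
      obtain ⟨r, hr, hr'⟩ := h.2.2.1 x y h0'
      exact ⟨r, Prod.ext hr hr'⟩
    · rintro ⟨r, hr⟩
      rw [← hr]
      change algebraMap R' (Localization.Away (algebraMap R R' f)) (algebraMap R R' r) +
        -(g (algebraMap R (Localization.Away f) r)) = 0
      rw [hg, ← IsScalarTower.algebraMap_apply, add_neg_cancel]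
  have hu : Bijective fun x : Localization.Away (algebraMap R R' f) => f • x := by
    have hu := IsLocalization.Away.algebraMap_isUnit (S := Localization.Away (algebraMap R R' f))
      (algebraMap R R' f)
    rw [← IsScalarTower.algebraMap_apply] at hu
    simpa [Algebra.smul_def] using hu.unit.mulLeft_bijective
  have hR : Injective (i.rTensor R) := Module.Flat.rTensor_preserves_injective_linearMap i hi
  have hD := rTensor_injective_middle hjk hk hR
    (rTensor_injective_of_bijective (f := f) hip hp hi _ hu)
    (Module.Flat.lTensor_preserves_injective_linearMap j hj)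
  have hR' : Injective (i.rTensor R') :=
    rTensor_injective_of_retract (LinearMap.inl R R' (Localization.Away f))
      (LinearMap.fst R R' (Localization.Away f)) (LinearMap.fst_comp_inl ..) hD
  intro x y hxy
  apply (TensorProduct.comm R R' N).injective
  apply hR'
  have hc : ∀ z, i.rTensor R' (TensorProduct.comm R R' N z) =
      TensorProduct.comm R R' F (i.baseChange R' z) := fun z => by
    induction z with
    | zero => simp
    | add a b ha hb => simp only [map_add, ha, hb]
    | tmul s n => simp
  rw [hc, hc, hxy]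

variable [Module.Flat R' (R' ⊗[R] M)]

set_option maxHeartbeats 1000000 in
include h in
theorem flat_of_presentation {N F : Type u} [AddCommGroup N] [Module R N] [AddCommGroup F]
    [Module R F] [Module.Flat R F] {i : N →ₗ[R] F} {p : F →ₗ[R] M} (hip : Exact i p)
    (hp : Surjective p) (hi : Injective i) : Module.Flat R M := by
  classical
  have hi' := baseChange_injective h hip hp hi
  refine Module.Flat.iff_lTensor_injective'.mpr fun I => ?_
  let I₁ : Ideal R' := I.map (algebraMap R R')
  let I₂ : Ideal (Localization.Away f) := I.map (algebraMap R (Localization.Away f))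
  let j₁ : I →ₗ[R] I₁ :=
    { toFun := fun x => ⟨algebraMap R R' x.1, Ideal.mem_map_of_mem _ x.2⟩
      map_add' := fun x y => Subtype.ext (map_add _ x.1 y.1)
      map_smul' := fun r x => Subtype.ext (by simp [Algebra.smul_def]) }
  let j₂ : I →ₗ[R] I₂ :=
    { toFun := fun x => ⟨algebraMap R _ x.1, Ideal.mem_map_of_mem _ x.2⟩
      map_add' := fun x y => Subtype.ext (map_add _ x.1 y.1)
      map_smul' := fun r x => Subtype.ext (by simp [Algebra.smul_def]) }
  let j : I →ₗ[R] I₁ × I₂ := j₁.prod j₂
  have hj : Injective j := fun x y hxy =>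
    Subtype.ext (h.2.1 (by
      simp only [j, j₁, j₂, LinearMap.prod_apply, Pi.prod] at hxy
      exact Prod.ext (congrArg (fun z => z.1.1) hxy) (congrArg (fun z => z.2.1) hxy)))
  let Q := (I₁ × I₂) ⧸ LinearMap.range j
  let k : I₁ × I₂ →ₗ[R] Q := (LinearMap.range j).mkQ
  have hk : Surjective k := Submodule.mkQ_surjective _
  have hjk : Exact j k := fun z => (Submodule.Quotient.mk_eq_zero _).trans LinearMap.mem_range
  -- `f` is surjective on `Q`
  have hdiv : ∀ q : Q, ∃ q', q = f • q' := by
    intro q
    obtain ⟨⟨x, y⟩, rfl⟩ := hk q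
    have hx : ∀ x : R', x ∈ I₁ → ∃ a ∈ I, ∃ x' ∈ I₁, x = algebraMap R R' a + f • x' := by
      intro x hx
      induction hx using Submodule.span_induction with
      | mem x hx =>
        obtain ⟨a, ha, rfl⟩ := hx
        exact ⟨a, ha, 0, zero_mem _, by simp⟩
      | zero => exact ⟨0, zero_mem _, 0, zero_mem _, by simp⟩
      | add x y _ _ hx hy =>
        obtain ⟨a, ha, x', hx', rfl⟩ := hx
        obtain ⟨b, hb, y', hy', rfl⟩ := hy
        exact ⟨a + b, add_mem ha hb, x' + y', add_mem hx' hy', by rw [map_add, smul_add]; abel⟩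
      | smul s x _ hx =>
        obtain ⟨a, ha, x', hx', rfl⟩ := hx
        obtain ⟨r, s', hs⟩ := exists_eq_add_pow h.1 1 s
        rw [pow_one] at hs
        refine ⟨r * a, Ideal.mul_mem_left _ _ ha, s' * algebraMap R R' a + s * x',
          add_mem (Ideal.mul_mem_left _ _ (Ideal.mem_map_of_mem _ ha)) (Ideal.mul_mem_left _ _ hx'), ?_⟩
        simp only [Algebra.smul_def, smul_eq_mul, map_mul] at hs ⊢
        linear_combination (algebraMap R R' a) * hs
    obtain ⟨a, ha, x', hx', hxa⟩ := hx x.1 x.2
    have hu := IsLocalization.Away.algebraMap_isUnit (S := Localization.Away f) f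
    refine ⟨k (⟨x', hx'⟩, ⟨↑hu.unit⁻¹ * (y.1 - algebraMap R _ a),
      Ideal.mul_mem_left _ _ (sub_mem y.2 (Ideal.mem_map_of_mem _ ha))⟩), ?_⟩
    rw [← map_smul, ← sub_eq_zero, ← map_sub]
    refine (hjk _).mpr ⟨⟨a, ha⟩, Prod.ext (Subtype.ext ?_) (Subtype.ext ?_)⟩
    · simp [j, j₁, hxa]
    · simp [j, j₂, Algebra.smul_def, ← mul_assoc]
  -- torsion submodule
  let T : Submodule R Q :=
    { carrier := {q | IsTors f q}
      add_mem' := by
        rintro q q' ⟨m, hm⟩ ⟨n, hn⟩
        exact ⟨m + n, by rw [smul_add, pow_add, mul_smul, mul_smul, hn, smul_comm, hm, smul_zero, smul_zero, add_zero]⟩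
      zero_mem' := ⟨0, smul_zero _⟩
      smul_mem' := fun c q ⟨m, hm⟩ => ⟨m, by rw [smul_comm, hm, smul_zero]⟩ }
  have hTtors : ∀ t : T, IsTors f t := fun ⟨q, m, hm⟩ => ⟨m, Subtype.ext hm⟩
  have hT : Injective (i.rTensor T) :=
    rTensor_injective_congr
      (LinearEquiv.ofBijective (TensorProduct.mk R R' T 1) (bijective_mk_of_torsion h.1 hTtors))
      (rTensor_injective_of_baseChange (S := R') (i := i) (p := p) hip hp hi' (R' ⊗[R] T))
  have hQT : Injective (i.rTensor (Q ⧸ T)) := by
    refine rTensor_injective_of_bijective (f := f) (i := i) (p := p) hip hp hi (Q ⧸ T) ⟨?_, ?_⟩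
    · intro a b hab
      obtain ⟨a, rfl⟩ := T.mkQ_surjective a
      obtain ⟨b, rfl⟩ := T.mkQ_surjective b
      simp only [← map_smul] at hab
      rw [← sub_eq_zero, ← map_sub, Submodule.mkQ_apply, Submodule.Quotient.mk_eq_zero] at hab ⊢
      obtain ⟨m, hm⟩ := hab
      exact ⟨m + 1, by rw [pow_succ, mul_smul, smul_sub f a b]; exact hm⟩
    · intro a
      obtain ⟨a, rfl⟩ := T.mkQ_surjective a
      obtain ⟨a', rfl⟩ := hdiv a
      exact ⟨T.mkQ a', (map_smul _ _ _).symm⟩
  have hQ : Injective (i.rTensor Q) :=
    rTensor_injective_middle (C := T) (D := Q) (Q := Q ⧸ T) (j := T.subtype) (k := T.mkQ)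
      (LinearMap.exact_subtype_mkQ T) T.mkQ_surjective hT hQT
      (Module.Flat.lTensor_preserves_injective_linearMap _ T.injective_subtype)
  have hMj := lTensor_injective_of_right (C := I) (D := I₁ × I₂) (Q := Q) (j := j) (k := k) (i := i) (p := p)
    hip hp hjk hk hQ
    (Module.Flat.lTensor_preserves_injective_linearMap j hj)
  rw [injective_iff_map_eq_zero]
  intro ξ hξ
  apply hMj
  rw [map_zero]
  have t1 : ∀ w, I₁.subtype (j₁ w) = Algebra.linearMap R R' (I.subtype w) := fun _ => rfl
  have t2 : ∀ w, I₂.subtype (j₂ w) = Algebra.linearMap R _ (I.subtype w) := fun _ => rfl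
  have s1 := fun (ξ : M ⊗[R] I) h0 => Milnor.lTensor_eq_zero_of_comp (R := R) (S := R') M
    (X := I₁) (Y := R') (W := I) (Z := R) I₁.subtype Subtype.val_injective j₁ I.subtype
    (Algebra.linearMap R R') t1 ξ h0
  have s2 := fun (ξ : M ⊗[R] I) h0 => Milnor.lTensor_eq_zero_of_comp (R := R) (S := Localization.Away f) M
    (X := I₂) (Y := Localization.Away f) (W := I) (Z := R) I₂.subtype Subtype.val_injective j₂
    I.subtype (Algebra.linearMap R _) t2 ξ h0
  have hsum : j = LinearMap.inl R I₁ I₂ ∘ₗ j₁ + LinearMap.inr R I₁ I₂ ∘ₗ j₂ :=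
    LinearMap.ext fun x => by simp [j]
  rw [hsum, LinearMap.lTensor_add, LinearMap.add_apply, LinearMap.lTensor_comp_apply,
    LinearMap.lTensor_comp_apply, s1 ξ hξ, s2 ξ hξ, map_zero, map_zero, add_zero]

include h in
theorem flat_of_flat : Module.Flat R M := by
  classical
  let p : (M →₀ R) →ₗ[R] M := Finsupp.linearCombination R _root_.id
  have hp : Surjective p := Finsupp.linearCombination_id_surjective R M
  have hip : Exact (LinearMap.ker p).subtype p := LinearMap.exact_subtype_ker_map p
  exact flat_of_presentation h (N := ↥(LinearMap.ker p)) (F := M →₀ R)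
    (i := (LinearMap.ker p).subtype) (p := p) hip hp (Submodule.injective_subtype _)

end Flat

theorem injective_of_flat (h : EtGlue.IsGlueingPair R R' f) (M : Type u) [AddCommGroup M]
    [Module R M] [Module.Flat R M] (m : M) (h1 : (1 : R') ⊗ₜ[R] m = 0) (h2 : IsTors f m) : m = 0 := by
  let j : R →ₗ[R] R' × Localization.Away f :=
    (Algebra.linearMap R R').prod (Algebra.linearMap R (Localization.Away f))
  have hj : Injective j := fun x y hxy => h.2.1 hxy
  have := Module.Flat.rTensor_preserves_injective_linearMap (M := M) j hj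
  have h3 : ((1 : Localization.Away f) ⊗ₜ[R] m : Localization.Away f ⊗[R] M) = 0 := by
    obtain ⟨n, hn⟩ := h2
    obtain ⟨v, hv⟩ := ((IsLocalization.Away.algebraMap_isUnit (S := Localization.Away f) f).pow n).exists_left_inv
    rw [← map_pow, mul_comm, ← Algebra.smul_def] at hv
    rw [← hv, smul_tmul, hn, tmul_zero]
  have h0 : j.rTensor M (1 ⊗ₜ m) = 0 := by
    apply (TensorProduct.prodLeft R R R' (Localization.Away f) M).injective
    simp [j, h1, h3]
  simpa using congrArg (TensorProduct.lid R M) (this (h0.trans (map_zero _).symm))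

theorem isGlueable_of_flat (h : EtGlue.IsGlueingPair R R' f) (M : Type u) [AddCommGroup M]
    [Module R M] [Module.Flat R M] : EtGlue.IsGlueable R R' f M :=
  (isGlueable_iff h.1).mpr ⟨fun m hm h0 => injective_of_flat h M m h0 hm, torsSurj_of_pair M h⟩

end Groth.Agent.HenselLib.BL
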