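import Groth.Agent.HenselLib.WEtField
import Groth.Agent.HenselLib.HullProps
import Groth.Agent.CAlgH3.Serre
import Groth.Agent.CAlgH3.CMRing
import Groth.Agent.CommAlg6.FlatLocalModule
import Mathlib.RingTheory.KrullDimension.Field
import Mathlib.RingTheory.Ideal.AssociatedPrime.Localization
import Mathlib.RingTheory.EssentialFiniteness
import Mathlib.RingTheory.Flat.Stability

/-!
# Weakly etale maps of Noetherian rings
-/

set_option autoImplicit false
set_option linter.all false

universe u

open TensorProduct Function IsLocalRing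

namespace Groth.Agent.HenselLib.WEtNoeth

variable {A B : Type u} [CommRing A] [CommRing B] [Algebra A B]

/-- A localisation is weakly etale. -/
theorem weaklyEtale_of_isLocalization (W : Submonoid A) [IsLocalization W B] :
    Algebra.WeaklyEtale A B where
  flat := IsLocalization.flat B W
  flat_lmul' := by
    refine RingHom.Flat.of_bijective ⟨?_, fun b => ⟨b ⊗ₜ 1, by simp⟩⟩
    exact (IsLocalization.bijective_linearMap_mul' W B).1

section Local

variable [IsLocalRing A] [IsLocalRing B] [IsLocalHom (algebraMap A B)] [Algebra.WeaklyEtale A B]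

/-- The closed fibre of a weakly etale local map is the residue field. -/
theorem map_maximalIdeal : (maximalIdeal A).map (algebraMap A B) = maximalIdeal B := by
  refine le_antisymm (Ideal.map_le_iff_le_comap.mpr fun a ha => map_nonunit _ a ha) ?_
  set J := (maximalIdeal A).map (algebraMap A B)
  have hJ : J ≤ maximalIdeal B := Ideal.map_le_iff_le_comap.mpr fun a ha => map_nonunit _ a ha
  intro x hx
  letI : Field (A ⧸ maximalIdeal A) := Ideal.Quotient.field _
  have hF : WEt.VNR ((A ⧸ maximalIdeal A) ⊗[A] B) :=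
    WEt.vnr_of_weaklyEtale (A := A ⧸ maximalIdeal A) (WEt.vnr_field _)
  let e := Algebra.TensorProduct.quotIdealMapEquivQuotTensor B (maximalIdeal A)
  obtain ⟨a, ha⟩ := hF (e (Ideal.Quotient.mk J x))
  obtain ⟨c, hc⟩ := Ideal.Quotient.mk_surjective (e.symm a)
  have h1 := congrArg e.symm ha
  simp only [map_mul, AlgEquiv.symm_apply_apply, ← hc] at h1
  rw [← map_mul, ← map_mul, Ideal.Quotient.eq] at h1
  have hu : IsUnit (1 - x * c) := by
    by_contra hnu
    exact (IsLocalRing.maximalIdeal.isMaximal B).ne_top ((Ideal.eq_top_iff_one _).mpr (by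
      simpa using add_mem ((mem_maximalIdeal _).mpr hnu) (Ideal.mul_mem_right c _ hx)))
  rw [show x - x * x * c = x * (1 - x * c) by ring] at h1
  exact (Ideal.mul_unit_mem_iff_mem J hu).mp h1

variable [IsNoetherianRing A] [IsNoetherianRing B]

theorem depth_eq : LocCoh.depth B B = LocCoh.depth A A := by
  have h0 : LocCoh.depth B (B ⧸ maximalIdeal B) = 0 := by
    rw [CAlgH3.depth_eq_zero_iff]
    refine ⟨(IsLocalRing.maximalIdeal.isMaximal B).isPrime, ⟨Ideal.Quotient.mk _ 1, ?_⟩⟩
    have hc : (⊥ : Submodule B (B ⧸ maximalIdeal B)).colon {Ideal.Quotient.mk (maximalIdeal B) 1} =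
        maximalIdeal B := by
      ext r
      rw [Submodule.mem_colon_singleton, Submodule.mem_bot, Algebra.smul_def, map_one, mul_one,
        Ideal.Quotient.algebraMap_eq, Ideal.Quotient.eq_zero_iff_mem]
    rw [hc, (IsLocalRing.maximalIdeal.isMaximal B).isPrime.radical]
  have h := CommAlg6.depth_tensor_eq (A := A) (B := B) B A
  rw [CAlgH3.depth_congr (AlgebraTensorModule.rid A B B), map_maximalIdeal,
    CAlgH3.depth_congr (Submodule.quotEquivOfEq _ (maximalIdeal B) (by rw [smul_eq_mul, Ideal.mul_top])),
    h0, add_zero] at h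
  exact h

end Local

section Primes

variable [Algebra.WeaklyEtale A B]

theorem weaklyEtale_atPrime (p : Ideal A) [p.IsPrime] (q : Ideal B) [q.IsPrime] [q.LiesOver p]
    [Algebra (Localization.AtPrime p) (Localization.AtPrime q)]
    [IsScalarTower A (Localization.AtPrime p) (Localization.AtPrime q)] :
    Algebra.WeaklyEtale (Localization.AtPrime p) (Localization.AtPrime q) := by
  haveI := weaklyEtale_of_isLocalization (A := A) (B := Localization.AtPrime p) p.primeCompl
  haveI := weaklyEtale_of_isLocalization (A := B) (B := Localization.AtPrime q) q.primeCompl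
  haveI : Algebra.WeaklyEtale A (Localization.AtPrime q) := Algebra.WeaklyEtale.trans A B _
  exact WEt.weaklyEtale_of_algHom (A := A)

theorem atPrime_data [IsNoetherianRing A] [IsNoetherianRing B] (q : Ideal B) [q.IsPrime] :
    LocCoh.depth (Localization.AtPrime q) (Localization.AtPrime q) =
      LocCoh.depth (Localization.AtPrime (q.comap (algebraMap A B)))
        (Localization.AtPrime (q.comap (algebraMap A B))) ∧
    q.height = (q.comap (algebraMap A B)).height ∧
    (IsRegularLocalRing (Localization.AtPrime (q.comap (algebraMap A B))) ↔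
      IsRegularLocalRing (Localization.AtPrime q)) := by
  set p := q.comap (algebraMap A B) with hp
  haveI : q.LiesOver p := ⟨rfl⟩
  letI := Localization.AtPrime.algebraOfLiesOver p q
  haveI : IsScalarTower A (Localization.AtPrime p) (Localization.AtPrime q) := by
    infer_instance
  haveI := weaklyEtale_atPrime p q
  haveI : IsLocalHom (algebraMap (Localization.AtPrime p) (Localization.AtPrime q)) := by
    infer_instance
  have hmax := map_maximalIdeal (A := Localization.AtPrime p) (B := Localization.AtPrime q)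
  have hq : q.height = p.height := by
    rw [Ideal.height_eq_height_add_of_liesOver_of_hasGoingDown p q]
    convert add_zero p.height
    have hle : RingHom.ker (Ideal.Quotient.mk (p.map (algebraMap A B))) ≤ q := by
      rw [Ideal.mk_ker]; exact Ideal.map_comap_le
    haveI := Ideal.map_isPrime_of_surjective Ideal.Quotient.mk_surjective hle
    rw [Ideal.height_eq_zero_iff]
    refine ⟨⟨inferInstance, bot_le⟩,
      fun r ⟨hr, _⟩ hrq => ?_⟩
    set q' := r.comap (Ideal.Quotient.mk (p.map (algebraMap A B))) with hq'def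
    haveI : q'.IsPrime := hr.comap _
    have hq'q : q' ≤ q := by
      refine (Ideal.comap_mono hrq).trans ?_
      rw [Ideal.comap_map_of_surjective _ Ideal.Quotient.mk_surjective, ← RingHom.ker_eq_comap_bot]
      exact sup_le le_rfl hle
    have hqq' : q ≤ q' := by
      intro x hx
      have h1 : algebraMap B (Localization.AtPrime q) x ∈ maximalIdeal (Localization.AtPrime q) :=
        (IsLocalization.AtPrime.to_map_mem_maximal_iff _ q x).mpr hx
      rw [← hmax, ← Localization.AtPrime.map_eq_maximalIdeal, Ideal.map_map,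
        ← IsScalarTower.algebraMap_eq, IsScalarTower.algebraMap_eq A B (Localization.AtPrime q),
        ← Ideal.map_map] at h1
      obtain ⟨⟨⟨y, hy⟩, s⟩, hs⟩ := (IsLocalization.mem_map_algebraMap_iff q.primeCompl _).mp h1
      rw [← map_mul] at hs
      obtain ⟨c, hc⟩ := IsLocalization.exists_of_eq (M := q.primeCompl) hs
      have hyq' : y ∈ q' := by
        have : p.map (algebraMap A B) ≤ q' := by
          rw [← Ideal.mk_ker (I := p.map (algebraMap A B))]
          exact Ideal.ker_le_comap _
        exact this hy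
      have h2 : (c : B) * (x * (s : B)) ∈ q' := by rw [hc]; exact q'.mul_mem_left _ hyq'
      rcases (‹q'.IsPrime›).mem_or_mem h2 with h | h
      · exact absurd (hq'q h) c.2
      rcases (‹q'.IsPrime›).mem_or_mem h with h | h
      · exact h
      · exact absurd (hq'q h) s.2
    rw [← Ideal.map_comap_of_surjective _ Ideal.Quotient.mk_surjective r]
    exact Ideal.map_mono hqq'
  refine ⟨depth_eq, hq, isRegularLocalRing_iff_of_flat _ hmax ?_⟩
  rw [IsLocalization.AtPrime.ringKrullDim_eq_height q (Localization.AtPrime q),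
    IsLocalization.AtPrime.ringKrullDim_eq_height p (Localization.AtPrime p), hq]

variable [IsNoetherianRing A] [IsNoetherianRing B]

theorem hasSk_of_base {k : ℕ} (h : LocCoh.HasSk k A A) : LocCoh.HasSk k B B := by
  rw [CAlgH3.hasSk_self_iff] at h ⊢
  intro q _
  obtain ⟨h1, h2, -⟩ := atPrime_data (A := A) q
  rw [h1, IsLocalization.AtPrime.ringKrullDim_eq_height q, h2,
    ← IsLocalization.AtPrime.ringKrullDim_eq_height (q.comap (algebraMap A B))
      (Localization.AtPrime (q.comap (algebraMap A B)))]
  exact h _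

theorem hasRk_of_base {k : ℕ} (h : LocCoh.HasRk k A) : LocCoh.HasRk k B := by
  intro q _ hk
  obtain ⟨-, h2, h3⟩ := atPrime_data (A := A) q
  exact h3.mp (h _ (h2 ▸ hk))

theorem hasSk_iff [Module.FaithfullyFlat A B] (k : ℕ) :
    LocCoh.HasSk k B B ↔ LocCoh.HasSk k A A := by
  refine ⟨fun h => ?_, hasSk_of_base⟩
  rw [CAlgH3.hasSk_self_iff] at h ⊢
  intro p hp
  obtain ⟨⟨q, hq⟩, hqp⟩ := PrimeSpectrum.comap_surjective_of_faithfullyFlat (A := A) (B := B) ⟨p, hp⟩
  obtain rfl : q.comap (algebraMap A B) = p := congr(($hqp).asIdeal)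
  obtain ⟨h1, h2, -⟩ := atPrime_data (A := A) q
  rw [← h1, IsLocalization.AtPrime.ringKrullDim_eq_height (q.comap (algebraMap A B)), ← h2,
    ← IsLocalization.AtPrime.ringKrullDim_eq_height q (Localization.AtPrime q)]
  exact h q

theorem hasRk_iff [Module.FaithfullyFlat A B] (k : ℕ) : LocCoh.HasRk k B ↔ LocCoh.HasRk k A := by
  refine ⟨fun h p hp hk => ?_, hasRk_of_base⟩
  obtain ⟨⟨q, hq⟩, hqp⟩ := PrimeSpectrum.comap_surjective_of_faithfullyFlat (A := A) (B := B) ⟨p, hp⟩
  obtain rfl : q.comap (algebraMap A B) = p := congr(($hqp).asIdeal)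
  obtain ⟨-, h2, h3⟩ := atPrime_data (A := A) q
  exact h3.mpr (h q (h2.symm ▸ hk))

theorem mem_associatedPrimes_iff_depth {C : Type u} [CommRing C] [IsNoetherianRing C] (P : Ideal C)
    [P.IsPrime] :
    P ∈ associatedPrimes C C ↔
      LocCoh.depth (Localization.AtPrime P) (Localization.AtPrime P) = 0 := by
  rw [CAlgH3.depth_eq_zero_iff,
    ← Module.associatedPrimes.preimage_comap_associatedPrimes_eq_associatedPrimes_of_isLocalizedModule
      P.primeCompl (Localization.AtPrime P) (Algebra.linearMap C (Localization.AtPrime P)),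
    Set.mem_preimage]
  rw [show Ideal.comap (algebraMap C (Localization.AtPrime P)) (maximalIdeal (Localization.AtPrime P)) = P from
    IsLocalization.AtPrime.under_maximalIdeal (Localization.AtPrime P) P]

theorem mem_associatedPrimes_iff (q : Ideal B) [q.IsPrime] :
    q ∈ associatedPrimes B B ↔ q.comap (algebraMap A B) ∈ associatedPrimes A A := by
  obtain ⟨h1, -, -⟩ := atPrime_data (A := A) q
  rw [mem_associatedPrimes_iff_depth, mem_associatedPrimes_iff_depth, h1]

theorem isCohenMacaulayLocalRing_iff [IsLocalRing A] [IsLocalRing B] [IsLocalHom (algebraMap A B)]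
    (hdim : ringKrullDim B = ringKrullDim A) :
    LocCoh.IsCohenMacaulayLocalRing B ↔ LocCoh.IsCohenMacaulayLocalRing A := by
  rw [CAlgH3.isCohenMacaulayLocalRing_iff_depth, CAlgH3.isCohenMacaulayLocalRing_iff_depth, hdim,
    depth_eq (A := A) (B := B)]

theorem fibre_equiv_pi (p : Ideal A) [p.IsPrime] :
    ∃ (n : ℕ) (K : Fin n → Type u) (_ : ∀ i, Field (K i)) (_ : ∀ i, Algebra p.ResidueField (K i)),
      (∀ i, Algebra.IsSeparable p.ResidueField (K i)) ∧
      Nonempty ((p.ResidueField ⊗[A] B) ≃ₐ[p.ResidueField] (Π i, K i)) := by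
  set F := p.ResidueField ⊗[A] B
  haveI : Algebra.EssFiniteType A p.ResidueField := inferInstance
  haveI : IsNoetherianRing F := by
    haveI : IsNoetherianRing (B ⊗[A] p.ResidueField) :=
      Algebra.EssFiniteType.isNoetherianRing B _
    exact isNoetherianRing_of_ringEquiv _ (Algebra.TensorProduct.comm A B p.ResidueField).toRingEquiv
  have hF : WEt.VNR F := WEt.vnr_of_weaklyEtale (A := p.ResidueField) (WEt.vnr_field _)
  haveI : IsReduced F := hF.isReduced
  haveI : IsArtinianRing F := isArtinianRing_iff_isNoetherianRing_krullDimLE_zero.mpr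
    ⟨inferInstance, Ring.KrullDimLE.mk₀ fun P hP => haveI := hP; hF.isMaximal P⟩
  let e : Fin (Nat.card (MaximalSpectrum F)) ≃ MaximalSpectrum F := (Finite.equivFin _).symm
  refine ⟨_, fun i => F ⧸ (e i).asIdeal, fun i => Ideal.Quotient.field _, fun i => inferInstance,
    fun i => ?_, ⟨AlgEquiv.ofBijective
      ({ RingHom.pi (fun i => Ideal.Quotient.mk (e i).asIdeal) with commutes' := fun r => rfl } :
        F →ₐ[p.ResidueField] ∀ i, F ⧸ (e i).asIdeal) ⟨?_, ?_⟩⟩⟩
  · exact WEt.isSeparable_residue (e i).asIdeal
  · intro x y hxy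
    apply (IsArtinianRing.equivPi F).injective
    funext I
    obtain ⟨i, rfl⟩ := e.surjective I
    exact congrFun hxy i
  · intro z
    obtain ⟨x, hx⟩ := Ideal.pi_quotient_surjective (I := fun i => (e i).asIdeal) (fun i j hij => by
      rw [Function.onFun, Ideal.isCoprime_iff_sup_eq]
      exact (e i).isMaximal.coprime_of_ne (e j).isMaximal fun h =>
        hij (e.injective (MaximalSpectrum.ext h))) z
    exact ⟨x, funext hx⟩

end Primes

end Groth.Agent.HenselLib.WEtNoeth
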