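import Groth.Agent.HenselLib.Pointed
import Mathlib.RingTheory.Flat.EquationalCriterion
import Mathlib.RingTheory.Flat.Stability
import Mathlib.RingTheory.Flat.Localization
import Mathlib.RingTheory.Smooth.Flat
import Mathlib.RingTheory.Etale.Basic

/-!
# Flatness and formal etaleness of hulls
-/

set_option autoImplicit false

namespace Groth.Agent.HenselLib

open CategoryTheory Limits
open scoped TensorProduct

universe u

/-- Along an etale algebra, a flat algebra with a compatible map stays flat. -/
theorem flat_of_flat_of_etale {R A C : Type u} [CommRing R] [CommRing A] [CommRing C] [Algebra R A]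
    [Algebra R C] [Algebra A C] [IsScalarTower R A C] [Algebra.Etale R A] [Module.Flat R C] :
    Module.Flat A C := by
  obtain ⟨t, ht, htJ⟩ := (Ideal.isIdempotentElem_iff_of_fg _ (KaehlerDifferential.ideal_fg R A)).mp
    ((Ideal.cotangent_subsingleton_iff _).mp
      Algebra.FormallyUnramified.subsingleton_kaehlerDifferential)
  let φ : A →ₐ[R] C := IsScalarTower.toAlgHom R A C
  let μ : A ⊗[R] C →ₐ[A] C := Algebra.TensorProduct.lift (Algebra.ofId A C) (AlgHom.id R C)
    fun _ _ => Commute.all _ _
  let ψ : A ⊗[R] A →ₐ[A] A ⊗[R] C := Algebra.TensorProduct.map (AlgHom.id A A) φ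
  have htker : Algebra.TensorProduct.lmul' R t = 0 := by
    rw [← RingHom.mem_ker, show RingHom.ker (Algebra.TensorProduct.lmul' R) = _ from htJ]
    exact Ideal.mem_span_singleton_self t
  have hμψ : ∀ z, μ (ψ z) = algebraMap A C (Algebra.TensorProduct.lmul' R z) := by
    intro z
    induction z using TensorProduct.induction_on with
    | zero => simp
    | tmul x y => simp [μ, ψ, φ]
    | add x y hx hy => simp [hx, hy]
  have hgen : ∀ a : A, a ⊗ₜ[R] (1 : C) - 1 ⊗ₜ[R] algebraMap A C a ∈ Ideal.span {ψ t} := by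
    intro a
    have hx : a ⊗ₜ[R] (1 : A) - 1 ⊗ₜ[R] a ∈
        RingHom.ker (Algebra.TensorProduct.lmul' R : A ⊗[R] A →ₐ[R] A) := by simp
    rw [show RingHom.ker (Algebra.TensorProduct.lmul' R) = _ from htJ] at hx
    obtain ⟨c, hc⟩ := Ideal.mem_span_singleton.mp hx
    refine Ideal.mem_span_singleton.mpr ⟨ψ c, ?_⟩
    rw [← map_mul, ← hc]
    simp [ψ, φ]
  have hred : ∀ z, z - (1 : A) ⊗ₜ[R] μ z ∈ Ideal.span {ψ t} := by
    intro z
    induction z using TensorProduct.induction_on with
    | zero => simp
    | tmul x y =>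
        have : x ⊗ₜ[R] y - (1 : A) ⊗ₜ[R] μ (x ⊗ₜ[R] y) =
            (x ⊗ₜ[R] (1 : C) - 1 ⊗ₜ[R] algebraMap A C x) * ((1 : A) ⊗ₜ[R] y) := by
          simp [μ, sub_mul]
        rw [this]; exact Ideal.mul_mem_right _ _ (hgen x)
    | add x y hx hy =>
        rw [map_add, TensorProduct.tmul_add, add_sub_add_comm]
        exact add_mem hx hy
  let : Algebra (A ⊗[R] C) C := μ.toRingHom.toAlgebra
  have : IsScalarTower A (A ⊗[R] C) C := .of_algebraMap_eq fun a => (μ.commutes a).symm
  have hsurj : Function.Surjective (algebraMap (A ⊗[R] C) C) := fun c =>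
    ⟨1 ⊗ₜ c, by show μ _ = c; simp [μ]⟩
  have hker : RingHom.ker (algebraMap (A ⊗[R] C) C) = Ideal.span {1 - (1 - ψ t)} := by
    rw [sub_sub_cancel]
    refine le_antisymm (fun z hz => ?_) ?_
    · have h := hred z
      rwa [show μ z = 0 from hz, TensorProduct.tmul_zero, sub_zero] at h
    · rw [Ideal.span_le, Set.singleton_subset_iff]
      show μ (ψ t) = 0
      rw [hμψ, htker, map_zero]
  have : IsLocalization.Away (1 - ψ t) C :=
    IsLocalization.away_of_isIdempotentElem (ht.map ψ).one_sub hker hsurj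
  have : Module.Flat (A ⊗[R] C) C := IsLocalization.flat C (Submonoid.powers (1 - ψ t))
  exact Module.Flat.trans A (A ⊗[R] C) C

variable {R K : Type u} [CommRing R] [CommRing K] [Algebra R K]

theorem exists_rep_finset {α : Type*} (s : Finset α) (f : α → Hull R K) :
    ∃ (P : Pt R K) (x : α → P.Ring), ∀ a ∈ s, ι P (x a) = f a := by
  classical
  induction s using Finset.induction_on with
  | empty => exact ⟨(exists_base (R := R) (K := K)).choose, fun _ => 0, by simp⟩
  | insert a s has ih =>
      obtain ⟨P, x, hx⟩ := ih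
      obtain ⟨Q, y, hy⟩ := exists_rep (f a)
      obtain ⟨S, p, q, -⟩ := IsFilteredOrEmpty.cocone_objs P Q
      refine ⟨S, fun b => if b = a then q.map y else p.map (x b), fun b hb => ?_⟩
      rcases Finset.mem_insert.mp hb with rfl | hb
      · simp only [if_true]; rw [ι_map q, hy]
      · dsimp only
        rw [if_neg (fun h : b = a => has (h ▸ hb)), ι_map p, hx b hb]

theorem exists_rep_fintype {α : Type*} [Fintype α] (f : α → Hull R K) :
    ∃ (P : Pt R K) (x : α → P.Ring), ∀ a, ι P (x a) = f a := by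
  obtain ⟨P, x, hx⟩ := exists_rep_finset Finset.univ f
  exact ⟨P, x, fun a => hx a (Finset.mem_univ a)⟩

instance flat_hull : Module.Flat R (Hull R K) := by
  refine Module.Flat.of_forall_isTrivialRelation fun {l r x} hrel => ?_
  obtain ⟨P, y, hy⟩ := exists_rep_fintype x
  have h0 : ι P (∑ i, r i • y i) = 0 := by
    rw [map_sum]; simpa only [map_smul, hy] using hrel
  obtain ⟨Q, g, hg⟩ := (exists_eq_zero_iff _).mp h0
  rw [map_sum] at hg
  simp only [map_smul] at hg
  obtain ⟨k, a, z, ha, ha'⟩ :=
    Module.Flat.isTrivialRelation_of_sum_smul_eq_zero (R := R) (M := Q.Ring) hg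
  refine ⟨k, a, fun j => ι Q (z j), fun i => ?_, ha'⟩
  rw [← hy i, ← ι_map g, show g.map (y i) = _ from ha i, map_sum]
  simp only [map_smul]

/-- A module over the hull is flat if it is flat over every stage. -/
theorem flat_of_flat_stages {C : Type u} [CommRing C] [Algebra (Hull R K) C]
    (h : ∀ P : Pt R K, letI := ((algebraMap (Hull R K) C).comp (ι P).toRingHom).toAlgebra
      Module.Flat P.Ring C) : Module.Flat (Hull R K) C := by
  refine Module.Flat.of_forall_isTrivialRelation fun {l r x} hrel => ?_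
  obtain ⟨P, y, hy⟩ := exists_rep_fintype r
  let : Algebra P.Ring C := ((algebraMap (Hull R K) C).comp (ι P).toRingHom).toAlgebra
  have := h P
  have hsmul : ∀ (a : P.Ring) (c : C), a • c = ι P a • c := fun a c => by
    rw [Algebra.smul_def, Algebra.smul_def]; rfl
  have hrel' : ∑ i, y i • x i = 0 := by simpa only [hsmul, hy] using hrel
  obtain ⟨k, a, z, ha, ha'⟩ := Module.Flat.isTrivialRelation_of_sum_smul_eq_zero (R := P.Ring) (M := C)
    (f := y) (x := x) hrel'
  refine ⟨k, fun i j => ι P (a i j), z, fun i => ?_, fun j => ?_⟩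
  · simpa only [← hsmul] using ha i
  · simp only [← hy, ← map_mul, ← map_sum, ha', map_zero]

theorem exists_desc {C : Type u} [CommRing C] [Algebra R C] (g : ∀ P : Pt R K, P.Ring →ₐ[R] C)
    (hg : ∀ (P Q : Pt R K) (f : P ⟶ Q), (g Q).comp f.map = g P) :
    ∃ G : Hull R K →ₐ[R] C, ∀ P, G.comp (ι P) = g P := by
  let c : Cocone (hullDiagram R K) :=
    { pt := CommRingCat.of C
      ι := { app := fun P => CommRingCat.ofHom (g P).toRingHom
             naturality := fun P Q f => CommRingCat.hom_ext
              (RingHom.ext fun x => congr($(hg P Q f) x)) } }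
  exact ⟨{ (colimit.desc (hullDiagram R K) c).hom with
    commutes' := fun r => (colimit_desc_ι c _ _).trans ((g _).commutes r) },
    fun P => AlgHom.ext fun x => colimit_desc_ι c P x⟩

theorem hull_algHom_ext {C : Type u} [CommRing C] [Algebra R C] {f g : Hull R K →ₐ[R] C}
    (h : ∀ P : Pt R K, f.comp (ι P) = g.comp (ι P)) : f = g :=
  AlgHom.ext fun a => by
    obtain ⟨P, x, rfl⟩ := exists_rep a
    exact congr($(h P) x)

instance formallyEtale_hull : Algebra.FormallyEtale R (Hull R K) := by
  rw [Algebra.FormallyEtale.iff_comp_bijective]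
  intro B _ _ I hI
  refine ⟨fun f g hfg => hull_algHom_ext fun P =>
    (Algebra.FormallyEtale.comp_bijective R P.Ring I hI).injective ?_, fun σ => ?_⟩
  · show (Ideal.Quotient.mkₐ R I).comp (f.comp (ι P)) = (Ideal.Quotient.mkₐ R I).comp (g.comp (ι P))
    rw [← AlgHom.comp_assoc, show (Ideal.Quotient.mkₐ R I).comp f = _ from hfg, AlgHom.comp_assoc]
  · choose g hg using fun P : Pt R K =>
      (Algebra.FormallyEtale.comp_bijective R P.Ring I hI).surjective (σ.comp (ι P))
    obtain ⟨G, hG⟩ := exists_desc g fun P Q f => by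
      refine (Algebra.FormallyEtale.comp_bijective R P.Ring I hI).injective ?_
      show (Ideal.Quotient.mkₐ R I).comp ((g Q).comp f.map) = (Ideal.Quotient.mkₐ R I).comp (g P)
      rw [← AlgHom.comp_assoc, show (Ideal.Quotient.mkₐ R I).comp (g Q) = _ from hg Q,
        show (Ideal.Quotient.mkₐ R I).comp (g P) = _ from hg P]
      exact AlgHom.ext fun x => congrArg σ (ι_map f x)
    refine ⟨G, hull_algHom_ext fun P => ?_⟩
    show ((Ideal.Quotient.mkₐ R I).comp G).comp (ι P) = σ.comp (ι P)
    rw [AlgHom.comp_assoc, hG]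
    exact hg P

end Groth.Agent.HenselLib
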