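import Groth.Agent.Et18.EtaleLocalRing
import Groth.Agent.SepClosed.Normal
import Mathlib.AlgebraicGeometry.FunctionField
import Mathlib.AlgebraicGeometry.Fiber
import Mathlib.AlgebraicGeometry.Morphisms.QuasiFinite
import Mathlib.AlgebraicGeometry.Morphisms.UniversallyOpen
import Mathlib.AlgebraicGeometry.Morphisms.FlatMono
import Mathlib.AlgebraicGeometry.PullbackCarrier

/-!
# Etale separated schemes over a normal base with separably closed function field
-/

set_option autoImplicit false
universe u

open CategoryTheory CategoryTheory.Limits AlgebraicGeometry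

namespace Groth.Agent.HenselLib

variable {W X : Scheme.{u}} (g : W ⟶ X)

/-- Two maximal generalizations of a point with integral local ring are equal. -/
theorem eq_of_specializes_of_isDomain_stalk (u : W) [IsDomain (W.presheaf.stalk u)] {ξ ξ' : W}
    (hξ : ∀ ζ, ζ ⤳ ξ → ζ = ξ) (hξ' : ∀ ζ, ζ ⤳ ξ' → ζ = ξ') (h : ξ ⤳ u) (h' : ξ' ⤳ u) : ξ = ξ' := by
  obtain ⟨p, rfl⟩ : ξ ∈ Set.range (W.fromSpecStalk u) := by
    rw [Scheme.range_fromSpecStalk]; exact h
  obtain ⟨q, rfl⟩ : ξ' ∈ Set.range (W.fromSpecStalk u) := by
    rw [Scheme.range_fromSpecStalk]; exact h'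
  let o : PrimeSpectrum (W.presheaf.stalk u) := ⟨⊥, Ideal.isPrime_bot⟩
  have hb : ∀ r : PrimeSpectrum (W.presheaf.stalk u), W.fromSpecStalk u o ⤳ W.fromSpecStalk u r :=
    fun r => ((PrimeSpectrum.le_iff_specializes o r).mp bot_le).map (W.fromSpecStalk u).continuous
  exact (hξ _ (hb p)).symm.trans (hξ' _ (hb q))

theorem residueFieldMap_bijective_of_isSepClosed [FormallyUnramified g] [LocallyOfFiniteType g] (w : W)
    [IsSepClosed (X.residueField (g w))] : Function.Bijective (g.residueFieldMap w).hom := by
  have hu : (g.residueFieldMap w).hom.FormallyUnramified := by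
    algebraize [(g.stalkMap w).hom, (g.residueFieldMap w).hom]
    haveI : Algebra.FormallyUnramified (X.presheaf.stalk (g w)) (W.presheaf.stalk w) :=
      FormallyUnramified.stalkMap g w
    have h1 : (W.residue w).hom.FormallyUnramified :=
      RingHom.FormallyUnramified.of_surjective (W.residue_surjective w)
    have h2 := RingHom.FormallyUnramified.comp (FormallyUnramified.stalkMap g w) h1
    rw [← CommRingCat.hom_comp, ← Scheme.residue_residueFieldMap g w, CommRingCat.hom_comp] at h2
    exact RingHom.FormallyUnramified.of_comp h2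
  have he : (g.residueFieldMap w).hom.EssFiniteType := by
    have h1 : (W.residue w).hom.EssFiniteType :=
      (RingHom.FiniteType.of_surjective _ (W.residue_surjective w)).essFiniteType
    have h2 := RingHom.EssFiniteType.comp (LocallyOfFiniteType.stalkMap g w) h1
    rw [← CommRingCat.hom_comp, ← Scheme.residue_residueFieldMap g w, CommRingCat.hom_comp] at h2
    exact RingHom.EssFiniteType.of_comp _ h2
  algebraize [(g.residueFieldMap w).hom]
  haveI : Algebra.IsSeparable (X.residueField (g w)) (W.residueField w) :=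
    Algebra.FormallyUnramified.isSeparable _ _
  exact ⟨(g.residueFieldMap w).hom.injective,
    IsSepClosed.algebraMap_surjective (k := X.residueField (g w)) (K := W.residueField w)⟩

/-- An etale separated morphism which is an isomorphism over a point generalizing every point, with
no other point over it, is an open immersion. -/
theorem isOpenImmersion_of_generic_fibre [Etale g] [IsSeparated g] (ξ : W)
    (hη : ∀ x : X, g ξ ⤳ x) (huniq : ∀ ξ' : W, g ξ' = g ξ → ξ' = ξ)
    (hbij : Function.Bijective (g.residueFieldMap ξ).hom) : IsOpenImmersion g := by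
  haveI : IsIso (g.residueFieldMap ξ) := (ConcreteCategory.isIso_iff_bijective _).mpr hbij
  let iy := X.fromSpecResidueField (g ξ)
  let a := Spec.map (g.residueFieldMap ξ)
  let j := W.fromSpecResidueField ξ
  have hj : j ≫ g = a ≫ iy := (g.SpecMap_residueFieldMap_fromSpecResidueField ξ).symm
  haveI : Subsingleton ↥(g.fiber (g ξ)) := by
    haveI : Subsingleton (g ⁻¹' {g ξ}) := ⟨fun p q => Subtype.ext ((huniq p.1 p.2).trans (huniq q.1 q.2).symm)⟩
    exact (g.fiberHomeo (g ξ)).injective.subsingleton
  haveI : Subsingleton ↥(pullback j (pullback.fst g g)) := by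
    haveI : IsIso a := inferInstanceAs (IsIso (Spec.map (g.residueFieldMap ξ)))
    have w1 : g ≫ 𝟙 X = 𝟙 W ≫ g := by simp
    have w2 : (a ≫ iy) ≫ 𝟙 X = a ≫ iy := by simp
    have hm : IsIso (pullback.map g (a ≫ iy) g iy (𝟙 W) a (𝟙 X) w1 w2) := pullback.map_isIso ..
    let e1 : pullback j (pullback.fst g g) ≅ pullback (j ≫ g) g := pullbackRightPullbackFstIso g g j
    let e2 : pullback (j ≫ g) g ≅ g.fiber (g ξ) :=
      pullback.congrHom hj rfl ≪≫ pullbackSymmetry _ _ ≪≫
        @asIso _ _ _ _ (pullback.map g (a ≫ iy) g iy (𝟙 W) a (𝟙 X) w1 w2) hm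
    exact (Scheme.homeoOfIso (e1 ≪≫ e2)).injective.subsingleton
  haveI : Surjective (pullback.diagonal g) := by
    refine ⟨fun z => ?_⟩
    obtain ⟨z', hz'z, hz'⟩ := Flat.generalizingMap (pullback.fst g g ≫ g) (hη ((pullback.fst g g ≫ g) z))
    have hfst : pullback.fst g g z' = ξ := huniq _ hz'
    obtain ⟨p, -, hp⟩ := Scheme.Pullback.exists_preimage_pullback (f := j) (g := pullback.fst g g)
      (IsLocalRing.closedPoint _) z' (by rw [hfst]; exact Scheme.fromSpecResidueField_apply ξ _)
    obtain ⟨q, -, hq⟩ := Scheme.Pullback.exists_preimage_pullback (f := j) (g := pullback.fst g g)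
      (IsLocalRing.closedPoint _) (pullback.diagonal g ξ) (by
        rw [← Scheme.Hom.comp_apply, pullback.diagonal_fst]
        exact Scheme.fromSpecResidueField_apply ξ _)
    have hd : z' = pullback.diagonal g ξ := by rw [← hp, ← hq, Subsingleton.elim p q]
    have hz'r : z' ∈ Set.range (pullback.diagonal g) := ⟨ξ, hd.symm⟩
    exact hz'z.mem_closed (pullback.diagonal g).isClosedEmbedding.isClosed_range hz'r
  haveI : IsIso (pullback.diagonal g) := by
    haveI : Epi (pullback.diagonal g).base := (TopCat.epi_iff_surjective _).mpr (pullback.diagonal g).surjective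
    exact IsOpenImmersion.isIso _
  haveI : Mono g := (pullback.isIso_diagonal_iff g).mp inferInstance
  exact IsOpenImmersion.of_flat_of_mono g

end Groth.Agent.HenselLib
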