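import Mathlib.RingTheory.Smooth.StandardSmoothCotangent
import Mathlib.RingTheory.Smooth.StandardSmoothOfFree
import Mathlib.RingTheory.Smooth.NoetherianDescent

/-!
# Etale algebras lift along quotients
-/

set_option autoImplicit false

namespace Groth.Agent.HenselLib

universe u

/-- Every etale algebra over `A ⧸ I` is `B ⧸ I B` for an etale `A`-algebra `B`. -/
theorem exists_etale_lift (A : Type u) [CommRing A] (I : Ideal A) (C : Type u) [CommRing C]
    [Algebra (A ⧸ I) C] [Algebra.Etale (A ⧸ I) C] :
    ∃ (B : Type u) (_ : CommRing B) (_ : Algebra A B) (_ : Algebra.Etale A B) (θ : B →+* C),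
      Function.Surjective θ ∧ RingHom.ker θ = I.map (algebraMap A B) ∧
      ∀ a, θ (algebraMap A B a) = algebraMap (A ⧸ I) C (Ideal.Quotient.mk I a) := by
  classical
  obtain ⟨ι, σ, _, _, P, hP⟩ : Algebra.IsStandardSmoothOfRelativeDimension 0 (A ⧸ I) C :=
    Algebra.Etale.iff_isStandardSmoothOfRelativeDimension_zero.mp inferInstance
  cases nonempty_fintype σ
  let μ : MvPolynomial ι A →+* MvPolynomial ι (A ⧸ I) := MvPolynomial.map (Ideal.Quotient.mk I)
  have hμ : Function.Surjective μ := MvPolynomial.map_surjective _ Ideal.Quotient.mk_surjective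
  choose G hG using fun j : σ => hμ (P.relation j)
  let Q := MvPolynomial ι A ⧸ Ideal.span (Set.range G)
  let P' : Algebra.PreSubmersivePresentation A Q ι σ :=
    Algebra.PreSubmersivePresentation.naive P.map P.map_inj
  let E := Localization.Away P'.jacobian
  have : Algebra.Etale A E := by
    let S : Algebra.SubmersivePresentation A E _ _ :=
      { toPreSubmersivePresentation :=
          .comp (.localizationAway (Localization.Away P'.jacobian) P'.jacobian) P',
        jacobian_isUnit := by
          have hu : IsUnit (algebraMap Q E P'.jacobian) := IsLocalization.Away.algebraMap_isUnit _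
          simpa [Algebra.smul_def, -isUnit_map_iff, E] using hu }
    have : Algebra.IsStandardSmoothOfRelativeDimension 0 A E :=
      ⟨_, _, _, inferInstance, S, by
        simp only [Algebra.PreSubmersivePresentation.dimension_comp_eq_dimension_add_dimension, S]
        simp only [Algebra.Presentation.dimension] at hP ⊢
        simpa [Nat.card_eq_fintype_card] using hP⟩
    exact Algebra.Etale.iff_isStandardSmoothOfRelativeDimension_zero.mpr this
  let : Algebra A C := ((algebraMap (A ⧸ I) C).comp (Ideal.Quotient.mk I)).toAlgebra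
  have : IsScalarTower A (A ⧸ I) C := IsScalarTower.of_algebraMap_eq fun a => rfl
  have haev : ∀ p, MvPolynomial.aeval P.val p = algebraMap P.Ring C (μ p) := fun p => by
    rw [P.algebraMap_apply]
    exact (MvPolynomial.aeval_map_algebraMap (A ⧸ I) P.val p).symm
  let θQ : Q →ₐ[A] C := Ideal.Quotient.liftₐ _ (MvPolynomial.aeval P.val) fun x hx => by
    refine (RingHom.mem_ker).mp ((Ideal.span_le (I := RingHom.ker (MvPolynomial.aeval P.val :
      MvPolynomial ι A →ₐ[A] C))).mpr ?_ hx)
    rintro _ ⟨j, rfl⟩
    rw [SetLike.mem_coe, RingHom.mem_ker, haev, hG, P.algebraMap_apply,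
      P.aeval_val_relation]
  have hjac : θQ P'.jacobian = P.jacobian := by
    rw [P'.jacobian_eq_jacobiMatrix_det, P.jacobian_eq_jacobiMatrix_det,
      show algebraMap P'.Ring Q P'.jacobiMatrix.det =
        Ideal.Quotient.mk _ P'.jacobiMatrix.det from rfl]
    show MvPolynomial.aeval P.val P'.jacobiMatrix.det = _
    rw [haev, RingHom.map_det]
    congr 2
    refine Matrix.ext fun i j => ?_
    rw [RingHom.mapMatrix_apply, Matrix.map_apply, P.jacobiMatrix_apply, ← hG j,
      MvPolynomial.pderiv_map]
    exact congrArg μ (Algebra.PreSubmersivePresentation.jacobiMatrix_naive _ _ _ _ i j)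
  let θ : E →ₐ[A] C := IsLocalization.Away.liftAlgHom P'.jacobian (f := θQ)
    (by rw [hjac]; exact P.jacobian_isUnit)
  have hθ : ∀ x, θ (algebraMap Q E x) = θQ x := fun x => by simp [θ]
  have hθp : ∀ p, θ (algebraMap Q E (Ideal.Quotient.mk _ p)) = algebraMap P.Ring C (μ p) :=
    fun p => (hθ _).trans (haev p)
  have hsurj : Function.Surjective θ := fun c => by
    obtain ⟨p, hp⟩ := P.algebraMap_surjective c
    obtain ⟨p, rfl⟩ := hμ p
    exact ⟨_, (hθp p).trans hp⟩
  refine ⟨E, inferInstance, inferInstance, inferInstance, θ.toRingHom, hsurj, ?_, fun a => θ.commutes a⟩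
  refine le_antisymm ?_ (Ideal.map_le_iff_le_comap.mpr fun a ha => ?_)
  · -- an inverse modulo `I`
    set IE := I.map (algebraMap A E) with hIE
    let κ : A ⧸ I →+* E ⧸ IE := Ideal.quotientMap IE (algebraMap A E) Ideal.le_comap_map
    let ψ₀ : P.Ring →+* E ⧸ IE :=
      MvPolynomial.eval₂Hom κ fun i => Ideal.Quotient.mk IE (algebraMap Q E (Ideal.Quotient.mk _ (MvPolynomial.X i)))
    have hψ₀ : ∀ p, ψ₀ (μ p) = Ideal.Quotient.mk IE (algebraMap Q E (Ideal.Quotient.mk _ p)) := fun p => by
      induction p using MvPolynomial.induction_on with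
      | C a =>
          simp only [μ, ψ₀, MvPolynomial.map_C, MvPolynomial.eval₂Hom_C]
          rfl
      | add p q hp hq => simp only [map_add, hp, hq]
      | mul_X p k hp =>
          simp only [map_mul, hp, μ, ψ₀, MvPolynomial.map_X, MvPolynomial.eval₂Hom_X']
    have hle : RingHom.ker (algebraMap P.Ring C) ≤ RingHom.ker ψ₀ := by
      rw [show RingHom.ker (algebraMap P.Ring C) = P.ker from rfl, ← P.span_range_relation_eq_ker,
        Ideal.span_le]
      rintro _ ⟨j, rfl⟩
      rw [SetLike.mem_coe, RingHom.mem_ker, ← hG j, hψ₀,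
        Ideal.Quotient.eq_zero_iff_mem.mpr (Ideal.subset_span (Set.mem_range_self j)), map_zero, map_zero]
    let ψ : C →+* E ⧸ IE := RingHom.liftOfSurjective (algebraMap P.Ring C) P.algebraMap_surjective
      ⟨ψ₀, hle⟩
    have hψ : ψ.comp θ.toRingHom = Ideal.Quotient.mk IE := by
      refine IsLocalization.ringHom_ext (Submonoid.powers P'.jacobian) ?_
      refine Ideal.Quotient.ringHom_ext (RingHom.ext fun p => ?_)
      show ψ (θ (algebraMap Q E (Ideal.Quotient.mk _ p))) = _
      rw [hθp]
      exact (RingHom.liftOfRightInverse_comp_apply _ _ _ _ (μ p)).trans (hψ₀ p)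
    intro z hz
    rw [← Ideal.Quotient.eq_zero_iff_mem, ← hψ]
    show ψ (θ.toRingHom z) = 0
    rw [RingHom.mem_ker.mp hz, map_zero]
  · show θ (algebraMap A E a) = 0
    rw [θ.commutes]
    show algebraMap (A ⧸ I) C (Ideal.Quotient.mk I a) = 0
    rw [Ideal.Quotient.eq_zero_iff_mem.mpr ha, map_zero]

end Groth.Agent.HenselLib
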