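import Mathlib.CategoryTheory.Filtered.Basic
import Mathlib.CategoryTheory.Comma.Over.Basic
import Mathlib.CategoryTheory.Limits.IsLimit
import Mathlib.Algebra.Category.Ring.Basic
import Mathlib.RingTheory.FinitePresentation
import Mathlib.CategoryTheory.Limits.Types.Colimits
import Mathlib.CategoryTheory.Limits.Preserves.Basic

/-!
# Every algebra is a filtered colimit of finitely presented algebras
-/

set_option autoImplicit false
set_option linter.all false

namespace Groth.Agent.HenselLib.FPColim

universe u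

open CategoryTheory

section category

variable (A B : Type u) [CommRing A] [CommRing B] [Algebra A B]

/-- finitely presented algebras, UH over `A`, mapping to `B` -/
structure Obj : Type u where
  n : ℕ
  b : Fin n → B
  K : Ideal (MvPolynomial (Fin n) A)
  fg : K.FG
  le : ∀ x ∈ K, MvPolynomial.aeval b x = 0

variable {A B}

/-- the ring of an object -/
abbrev Obj.R (j : Obj A B) : Type u := MvPolynomial (Fin j.n) A ⧸ j.K

/-- the map to `B` -/
noncomputable def Obj.ev (j : Obj A B) : j.R →ₐ[A] B :=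
  Ideal.Quotient.liftₐ j.K (MvPolynomial.aeval j.b) j.le

noncomputable instance : Category (Obj A B) where
  Hom j j' := { f : j.R →ₐ[A] j'.R // j'.ev.comp f = j.ev }
  id j := ⟨AlgHom.id A _, AlgHom.comp_id _⟩
  comp f g := ⟨g.1.comp f.1, by rw [← AlgHom.comp_assoc, g.2, f.2]⟩

lemma Obj.comp_val {i j k : Obj A B} (f : i ⟶ j) (g : j ⟶ k) : (f ≫ g).1 = g.1.comp f.1 := rfl

lemma Obj.hom_ev {i j : Obj A B} (f : i ⟶ j) (x : i.R) : j.ev (f.1 x) = i.ev x :=
  AlgHom.congr_fun f.2 x

lemma exists_obj {D : Type u} [CommRing D] [Algebra A D] [hfp : Algebra.FinitePresentation A D]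
    (f : D →ₐ[A] B) :
    ∃ (j : Obj A B) (e : j.R ≃ₐ[A] D), f.comp e.toAlgHom = j.ev := by
  obtain ⟨n, π, hπ, hfg⟩ := hfp.out
  let e : (MvPolynomial (Fin n) A ⧸ RingHom.ker π.toRingHom) ≃ₐ[A] D :=
    Ideal.quotientKerAlgEquivOfSurjective hπ
  have hae : MvPolynomial.aeval (fun i => f (π (MvPolynomial.X i))) = f.comp π :=
    MvPolynomial.algHom_ext fun i => by simp
  have hle : ∀ x ∈ RingHom.ker π.toRingHom,
      MvPolynomial.aeval (fun i => f (π (MvPolynomial.X i))) x = 0 := fun x hx => by
    rw [hae, AlgHom.comp_apply, show π x = 0 from hx, map_zero]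
  let j : Obj A B := ⟨n, fun i => f (π (MvPolynomial.X i)), RingHom.ker π.toRingHom, hfg, hle⟩
  refine ⟨j, e, Ideal.Quotient.algHom_ext A (MvPolynomial.algHom_ext fun i => ?_)⟩
  change f (e (Ideal.Quotient.mk _ (MvPolynomial.X i))) = j.ev (Ideal.Quotient.mk _ (MvPolynomial.X i))
  rw [show e (Ideal.Quotient.mk _ (MvPolynomial.X i)) = π (MvPolynomial.X i) from rfl]
  exact (MvPolynomial.aeval_X j.b i).symm

/-- every finite set is hit above any object -/
lemma exists_hom_range (j : Obj A B) (E : Finset B) :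
    ∃ (k : Obj A B) (_ : j ⟶ k), (↑E : Set B) ⊆ k.ev.range := by
  haveI : Algebra.FinitePresentation A j.R := Algebra.FinitePresentation.quotient j.fg
  let D := MvPolynomial E j.R
  haveI : Algebra.FinitePresentation A D := Algebra.FinitePresentation.trans A j.R D
  let f : D →ₐ[A] B :=
    { toRingHom := MvPolynomial.eval₂Hom j.ev.toRingHom (fun e : E => (e : B))
      commutes' := fun a => by
        show MvPolynomial.eval₂ j.ev.toRingHom (fun e : E => (e : B)) (MvPolynomial.C (algebraMap A j.R a)) = _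
        rw [MvPolynomial.eval₂_C]; exact j.ev.commutes a }
  obtain ⟨k, e, he⟩ := exists_obj (D := D) f
  refine ⟨k, ⟨e.symm.toAlgHom.comp (IsScalarTower.toAlgHom A j.R D), ?_⟩, fun x hx => ?_⟩
  · rw [← he]
    refine AlgHom.ext fun x => ?_
    change f (e (e.symm (MvPolynomial.C x))) = _
    rw [AlgEquiv.apply_symm_apply]
    exact MvPolynomial.eval₂_C _ _ _
  · refine ⟨e.symm (MvPolynomial.X ⟨x, hx⟩), ?_⟩
    rw [← he]
    change f (e (e.symm _)) = _
    rw [AlgEquiv.apply_symm_apply]
    exact MvPolynomial.eval₂_X _ _ _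

/-- kill finitely many elements of the kernel -/
lemma exists_hom_kill (j : Obj A B) (s : Finset j.R) (hs : ∀ x ∈ s, j.ev x = 0) :
    ∃ (k : Obj A B) (f : j ⟶ k), ∀ x ∈ s, f.1 x = 0 := by
  haveI : Algebra.FinitePresentation A j.R := Algebra.FinitePresentation.quotient j.fg
  let I : Ideal j.R := Ideal.span (s : Set j.R)
  have hI : I ≤ RingHom.ker j.ev.toRingHom := Ideal.span_le.2 hs
  haveI : Algebra.FinitePresentation A (j.R ⧸ I) := Algebra.FinitePresentation.quotient ⟨s, rfl⟩
  let f : (j.R ⧸ I) →ₐ[A] B := Ideal.Quotient.liftₐ I j.ev fun x hx => hI hx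
  obtain ⟨k, e, he⟩ := exists_obj (D := j.R ⧸ I) f
  refine ⟨k, ⟨e.symm.toAlgHom.comp (Ideal.Quotient.mkₐ A I), ?_⟩, fun x hx => ?_⟩
  · rw [← he]
    refine AlgHom.ext fun x => ?_
    change f (e (e.symm (Ideal.Quotient.mk I x))) = _
    rw [AlgEquiv.apply_symm_apply]
    rfl
  · change e.symm (Ideal.Quotient.mk I x) = 0
    rw [Ideal.Quotient.eq_zero_iff_mem.2 (Ideal.subset_span hx), map_zero]

/-- the initial object -/
lemma exists_obj_base : ∃ _ : Obj A B, True := by
  obtain ⟨j, -, -⟩ := exists_obj (D := A) (Algebra.ofId A B)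
  exact ⟨j, trivial⟩

lemma isFiltered : IsFiltered (Obj A B) := by
  classical
  haveI : Nonempty (Obj A B) := exists_obj_base.nonempty
  refine { toIsFilteredOrEmpty := { cocone_objs := fun i j => ?_, cocone_maps := fun i j f g => ?_ } }
  · obtain ⟨k, u, hk⟩ := exists_hom_range i (Finset.univ.image j.b)
    have hb : ∀ t, ∃ x : k.R, k.ev x = j.b t := fun t => hk (by simp)
    choose x hx using hb
    let v₀ : MvPolynomial (Fin j.n) A →ₐ[A] k.R := MvPolynomial.aeval x
    have hv₀ : k.ev.comp v₀ = MvPolynomial.aeval j.b := MvPolynomial.algHom_ext fun t => by simp [v₀, hx]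
    obtain ⟨s, hs⟩ := j.fg
    obtain ⟨l, w, hl⟩ := exists_hom_kill k (s.image v₀) (fun y hy => by
      obtain ⟨r, hr, rfl⟩ := Finset.mem_image.1 hy
      rw [← AlgHom.comp_apply, hv₀]
      exact j.le r (hs ▸ Ideal.subset_span hr))
    have hkill : ∀ r ∈ j.K, (w.1.comp v₀) r = 0 := by
      intro r hr
      rw [← hs] at hr
      exact (Ideal.span_le (I := RingHom.ker (w.1.comp v₀).toRingHom)).2
        (fun y hy => hl _ (Finset.mem_image_of_mem v₀ hy)) hr
    refine ⟨l, u ≫ w, ⟨Ideal.Quotient.liftₐ j.K (w.1.comp v₀) hkill, ?_⟩, trivial⟩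
    refine Ideal.Quotient.algHom_ext A ?_
    rw [AlgHom.comp_assoc, Ideal.Quotient.liftₐ_comp, ← AlgHom.comp_assoc, w.2, hv₀]
    exact (Ideal.Quotient.liftₐ_comp _ _ _).symm
  · obtain ⟨k, w, hk⟩ := exists_hom_kill j
      (Finset.univ.image fun t : Fin i.n => f.1 (Ideal.Quotient.mk i.K (MvPolynomial.X t)) -
        g.1 (Ideal.Quotient.mk i.K (MvPolynomial.X t))) (fun y hy => by
      obtain ⟨t, -, rfl⟩ := Finset.mem_image.1 hy
      rw [map_sub, Obj.hom_ev, Obj.hom_ev, sub_self])
    refine ⟨k, w, Subtype.ext (Ideal.Quotient.algHom_ext A (MvPolynomial.algHom_ext fun t => ?_))⟩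
    have := hk _ (Finset.mem_image_of_mem _ (Finset.mem_univ t))
    rw [map_sub, sub_eq_zero] at this
    exact this

lemma exists_preimage (b : B) : ∃ (j : Obj A B) (x : j.R), j.ev x = b := by
  obtain ⟨j, -⟩ := exists_obj_base (A := A) (B := B)
  obtain ⟨k, -, hk⟩ := exists_hom_range j {b}
  obtain ⟨x, hx⟩ := hk (by simp : b ∈ (↑({b} : Finset B) : Set B))
  exact ⟨k, x, hx⟩


variable (A B)

/-- the diagram -/
noncomputable def diagram : Obj A B ⥤ Under (CommRingCat.of A) where
  obj j := Under.mk (CommRingCat.ofHom (algebraMap A j.R))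
  map f := Under.homMk (CommRingCat.ofHom f.1.toRingHom) (CommRingCat.hom_ext f.1.comp_algebraMap)

/-- the cocone with point `B` -/
noncomputable def cocone : Limits.Cocone (diagram A B) where
  pt := Under.mk (CommRingCat.ofHom (algebraMap A B))
  ι :=
    { app := fun j => Under.homMk (CommRingCat.ofHom j.ev.toRingHom)
        (CommRingCat.hom_ext j.ev.comp_algebraMap)
      naturality := fun i j f => by
        apply Under.UnderMorphism.ext
        refine CommRingCat.hom_ext (RingHom.ext fun x => ?_)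
        exact Obj.hom_ev f x }

variable {A B}

/-- `B` is the colimit -/
theorem exists_isColimit : Nonempty (Limits.IsColimit (cocone A B)) := by
  classical
  haveI := isFiltered (A := A) (B := B)
  choose J X hX using exists_preimage (A := A) (B := B)
  have hwd : ∀ (s : Limits.Cocone (diagram A B)) (j : Obj A B) (x : j.R) (k : Obj A B) (y : k.R),
      j.ev x = k.ev y → (s.ι.app j).right x = (s.ι.app k).right y := by
    intro s j x k y hxy
    let f := IsFiltered.leftToMax j k
    let g := IsFiltered.rightToMax j k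
    obtain ⟨l, w, hw⟩ := exists_hom_kill (IsFiltered.max j k) {f.1 x - g.1 y} (fun z hz => by
      rw [Finset.mem_singleton.1 hz, map_sub, Obj.hom_ev, Obj.hom_ev, hxy, sub_self])
    have h0 := hw _ (Finset.mem_singleton_self _)
    rw [map_sub, sub_eq_zero] at h0
    have e1 := congrArg (fun q => q.right x) (s.w (f ≫ w))
    have e2 := congrArg (fun q => q.right y) (s.w (g ≫ w))
    change (s.ι.app l).right (w.1 (f.1 x)) = _ at e1
    change (s.ι.app l).right (w.1 (g.1 y)) = _ at e2
    rw [← e1, ← e2, h0]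
  have hpair : ∀ a b : B, ∃ (m : Obj A B) (x y : m.R), m.ev x = a ∧ m.ev y = b := fun a b =>
    ⟨IsFiltered.max (J a) (J b), (IsFiltered.leftToMax (J a) (J b)).1 (X a),
      (IsFiltered.rightToMax (J a) (J b)).1 (X b), by rw [Obj.hom_ev, hX], by rw [Obj.hom_ev, hX]⟩
  let desc : ∀ s : Limits.Cocone (diagram A B), B →+* s.pt.right := fun s =>
    { toFun := fun b => (s.ι.app (J b)).right (X b)
      map_one' := by
        rw [hwd s (J 1) (X 1) (J 1) 1 (by rw [hX, map_one])]
        exact map_one (s.ι.app (J 1)).right.hom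
      map_zero' := by
        rw [hwd s (J 0) (X 0) (J 0) 0 (by rw [hX, map_zero])]
        exact map_zero (s.ι.app (J 0)).right.hom
      map_add' := fun a b => by
        obtain ⟨m, x, y, hx, hy⟩ := hpair a b
        rw [hwd s (J a) (X a) m x (by rw [hX, hx]), hwd s (J b) (X b) m y (by rw [hX, hy]),
          hwd s (J (a + b)) (X (a + b)) m (x + y) (by rw [hX, map_add, hx, hy])]
        exact map_add (s.ι.app m).right.hom x y
      map_mul' := fun a b => by
        obtain ⟨m, x, y, hx, hy⟩ := hpair a b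
        rw [hwd s (J a) (X a) m x (by rw [hX, hx]), hwd s (J b) (X b) m y (by rw [hX, hy]),
          hwd s (J (a * b)) (X (a * b)) m (x * y) (by rw [hX, map_mul, hx, hy])]
        exact map_mul (s.ι.app m).right.hom x y }
  refine ⟨{ desc := fun s => Under.homMk (CommRingCat.ofHom (desc s)) ?_, fac := ?_, uniq := ?_ }⟩
  · refine CommRingCat.hom_ext (RingHom.ext fun a => ?_)
    change (s.ι.app (J (algebraMap A B a))).right (X (algebraMap A B a)) = _
    rw [hwd s _ (X (algebraMap A B a)) (J (algebraMap A B a)) (algebraMap A _ a)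
      (by rw [hX, AlgHom.commutes])]
    exact congrArg (fun q => q.hom a) (Under.w (s.ι.app (J (algebraMap A B a))))
  · intro s j
    apply Under.UnderMorphism.ext
    refine CommRingCat.hom_ext (RingHom.ext fun x => ?_)
    exact hwd s (J (j.ev x)) (X (j.ev x)) j x (hX _)
  · intro s m hm
    apply Under.UnderMorphism.ext
    refine CommRingCat.hom_ext (RingHom.ext fun b => ?_)
    change m.right b = (s.ι.app (J b)).right (X b)
    rw [← hm (J b)]
    exact congrArg m.right (hX b).symm

end category

end Groth.Agent.HenselLib.FPColim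

namespace Groth.Agent.HenselLib.FPColim

universe u

open CategoryTheory

/-- An element of a finitary functor on `A`-algebras comes from a finitely presented algebra. -/
theorem exists_descend {A : Type u} [CommRing A] (F : Under (CommRingCat.of A) ⥤ Type u)
    (hF : ∀ (J : Type u) [SmallCategory J] [IsFiltered J], Limits.PreservesColimitsOfShape J F)
    (B : Type u) [CommRing B] [Algebra A B]
    (ξ : F.obj (Under.mk (CommRingCat.ofHom (algebraMap A B)))) :
    ∃ (j : Obj A B) (x : F.obj ((diagram A B).obj j)), F.map ((cocone A B).ι.app j) x = ξ := by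
  haveI := isFiltered (A := A) (B := B)
  haveI := hF (Obj A B)
  obtain ⟨hc⟩ := exists_isColimit (A := A) (B := B)
  obtain ⟨j, x, hx⟩ := Limits.Types.jointly_surjective_of_isColimit (Limits.isColimitOfPreserves F hc) ξ
  exact ⟨j, x, hx⟩

end Groth.Agent.HenselLib.FPColim
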