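import Groth.Agent.HenselLib.Pair
import Mathlib.RingTheory.Smooth.StandardSmoothCotangent
import Mathlib.RingTheory.Polynomial.UniversalFactorizationRing
import Mathlib.LinearAlgebra.Matrix.Charpoly.Basic
import Mathlib.Algebra.MvPolynomial.PDeriv

/-!
# Henselian pairs: lifting for systems of equations and for smooth algebras
-/

set_option autoImplicit false

namespace Groth.Agent.HenselLib

universe u v

variable {A : Type u} [CommRing A]

/-- Multivariate Hensel lemma for henselian pairs. -/
theorem exists_root_system (I : Ideal A) [hI : HenselianRing A I] {n : ℕ}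
    (G : Fin n → MvPolynomial (Fin n) A) (a₀ : Fin n → A)
    (h0 : ∀ i, MvPolynomial.eval a₀ (G i) ∈ I)
    (hJ : IsUnit (Ideal.Quotient.mk I
      (Matrix.of fun i j => MvPolynomial.eval a₀ (MvPolynomial.pderiv j (G i))).det)) :
    ∃ a : Fin n → A, (∀ i, MvPolynomial.eval a (G i) = 0) ∧ ∀ j, a j - a₀ j ∈ I := by
  let Q := MvPolynomial (Fin n) A ⧸ Ideal.span (Set.range G)
  let P : Algebra.PreSubmersivePresentation A Q (Fin n) (Fin n) :=
    Algebra.PreSubmersivePresentation.naive id Function.injective_id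
  let d : MvPolynomial (Fin n) A := (Matrix.of fun i j => MvPolynomial.pderiv i (G j)).det
  have hPj : P.jacobian = Ideal.Quotient.mk (Ideal.span (Set.range G)) d := by
    rw [P.jacobian_eq_jacobiMatrix_det]
    have : P.jacobiMatrix = Matrix.of fun i j => MvPolynomial.pderiv i (G j) := by
      refine Matrix.ext fun i j => ?_
      simp only [P, Matrix.of_apply]
      exact Algebra.PreSubmersivePresentation.jacobiMatrix_naive _ _ _ _ i j
    rw [this]
    simp only [P, d]
    rfl
  let E := Localization.Away P.jacobian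
  have : Algebra.Etale A E := by
    let S : Algebra.SubmersivePresentation A E _ _ :=
      { toPreSubmersivePresentation :=
          .comp (.localizationAway (Localization.Away P.jacobian) P.jacobian) P,
        jacobian_isUnit := by
          have hu : IsUnit (algebraMap Q E P.jacobian) := IsLocalization.Away.algebraMap_isUnit _
          simpa [Algebra.smul_def, -isUnit_map_iff, E] using hu }
    have : Algebra.IsStandardSmoothOfRelativeDimension 0 A E :=
      ⟨_, _, _, inferInstance, S, by
        simp only [Algebra.PreSubmersivePresentation.dimension_comp_eq_dimension_add_dimension, S]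
        simp [Algebra.Presentation.dimension]⟩
    infer_instance
  let σ₀ : Q →ₐ[A] A ⧸ I := Ideal.Quotient.liftₐ _
    ((Ideal.Quotient.mkₐ A I).comp (MvPolynomial.aeval a₀)) (fun x hx => by
      refine (RingHom.mem_ker).mp ((Ideal.span_le (I := RingHom.ker _)).mpr ?_ hx)
      rintro _ ⟨i, rfl⟩
      simpa [MvPolynomial.aeval_eq_eval, Ideal.Quotient.eq_zero_iff_mem] using h0 i)
  have hu : IsUnit (σ₀ P.jacobian) := by
    rw [hPj]
    show IsUnit (Ideal.Quotient.mk I (MvPolynomial.aeval a₀ d))
    convert hJ using 2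
    rw [MvPolynomial.aeval_eq_eval, RingHom.map_det, ← Matrix.det_transpose]
    rfl
  obtain ⟨τ, hτ⟩ :=
    exists_lift_of_etale I (IsLocalization.Away.liftAlgHom P.jacobian (f := σ₀) hu : E →ₐ[A] A ⧸ I)
  let τ' : Q →ₐ[A] A := τ.comp (IsScalarTower.toAlgHom A Q E)
  let π : MvPolynomial (Fin n) A →ₐ[A] A := τ'.comp (Ideal.Quotient.mkₐ A _)
  have hπ : π = MvPolynomial.aeval fun j => π (MvPolynomial.X j) := MvPolynomial.aeval_unique π
  refine ⟨fun j => π (MvPolynomial.X j), fun i => ?_, fun j => ?_⟩
  · have h2 : π (G i) = 0 := by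
      show τ' (Ideal.Quotient.mk _ (G i)) = 0
      rw [Ideal.Quotient.eq_zero_iff_mem.mpr (Ideal.subset_span (Set.mem_range_self i)), map_zero]
    rw [hπ, MvPolynomial.aeval_eq_eval] at h2
    exact h2
  · refine (Ideal.Quotient.mk_eq_mk_iff_sub_mem _ _).mp ?_
    have h2 := congr($hτ (algebraMap Q E (Ideal.Quotient.mk _ (MvPolynomial.X j))))
    rw [IsLocalization.Away.liftAlgHom_apply, IsLocalization.Away.lift_eq] at h2
    exact h2.trans (show Ideal.Quotient.mk I (MvPolynomial.aeval a₀ (MvPolynomial.X j)) = _ by simp)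

theorem pderiv_mem_of_mem_sq {n : ℕ} {J : Ideal (MvPolynomial (Fin n) A)} (i : Fin n)
    {z : MvPolynomial (Fin n) A} (hz : z ∈ J * J) : MvPolynomial.pderiv i z ∈ J := by
  refine Submodule.mul_induction_on hz (fun x hx y hy => ?_) (fun x y hx hy => ?_)
  · rw [MvPolynomial.pderiv_mul]
    exact J.add_mem (J.mul_mem_left _ hy) (J.mul_mem_right _ hx)
  · rw [map_add]; exact J.add_mem hx hy

/-- The linear algebra behind the smooth lifting. -/
theorem mem_of_projected {M : Ideal A} {ι : Type} [Fintype ι] [DecidableEq ι] (D : ι → ι → A)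
    (x w : ι → A) (e1 : ∀ j, x j - ∑ i, D j i * x i ∈ M)
    (e2 : ∀ j, ∑ i, (D j i * x i + ((if j = i then 1 else 0) - D j i) * w i) = 0)
    (e3 : ∀ j i, (∑ k, D j k * D k i - D j i) * w i ∈ M) (j : ι) : x j ∈ M := by
  let ρ := Ideal.Quotient.mk M
  let T : Matrix ι ι (A ⧸ M) := Matrix.of fun j i => ρ (D j i)
  let v : ι → A ⧸ M := fun i => ρ (x i)
  let u : ι → A ⧸ M := fun i => ρ (w i)
  have f1 : T.mulVec v = v := by
    funext j
    have h1 := (Ideal.Quotient.mk_eq_mk_iff_sub_mem _ _).mpr (e1 j)
    simp only [map_sum, map_mul] at h1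
    exact h1.symm
  have f2 : T.mulVec v + (1 - T).mulVec u = 0 := by
    funext j
    have h1 := congrArg ρ (e2 j)
    simp only [map_sum, map_add, map_mul, map_sub, map_zero, Finset.sum_add_distrib,
      apply_ite ρ, map_one] at h1
    simpa [Matrix.mulVec, dotProduct, T, v, u, Matrix.one_apply, Matrix.sub_apply] using h1
  have f3 : (T * T - T).mulVec u = 0 := by
    funext j
    have : ∀ i, ρ ((∑ k, D j k * D k i - D j i) * w i) = 0 :=
      fun i => Ideal.Quotient.eq_zero_iff_mem.mpr (e3 j i)
    simp only [map_mul, map_sub, map_sum] at this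
    simp [Matrix.mulVec, dotProduct, T, u, Matrix.mul_apply, Matrix.sub_apply, this]
  have f4 : v = 0 := by
    have h1 : v = -(1 - T).mulVec u := by
      rw [f1] at f2; exact eq_neg_of_add_eq_zero_left f2
    have h2 : v = (T * T - T).mulVec u := by
      conv_lhs => rw [← f1, h1]
      rw [Matrix.mulVec_neg, Matrix.mulVec_mulVec, ← Matrix.neg_mulVec, mul_sub, mul_one, neg_sub]
    rw [h2, f3]
  exact Ideal.Quotient.eq_zero_iff_mem.mp (congrFun f4 j)

/-- Sections modulo `I` of smooth algebras lift. -/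
theorem exists_lift_of_smooth (I : Ideal A) [hI : HenselianRing A I] {B : Type v} [CommRing B]
    [Algebra A B] [Algebra.Smooth A B] (σ : B →ₐ[A] A ⧸ I) :
    ∃ τ : B →ₐ[A] A, (Ideal.Quotient.mkₐ A I).comp τ = σ := by
  obtain ⟨n, π, hπ, hfg⟩ := Algebra.FinitePresentation.out (R := A) (A := B)
  set J : Ideal (MvPolynomial (Fin n) A) := RingHom.ker π.toRingHom with hJdef
  -- a section of `A[x]/J² → B`
  let p : MvPolynomial (Fin n) A ⧸ J ^ 2 →ₐ[A] B := Ideal.Quotient.liftₐ _ π fun a ha =>
    RingHom.mem_ker.mp (Ideal.pow_le_self two_ne_zero ha : a ∈ J)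
  have hp : Function.Surjective p := fun b => let ⟨a, ha⟩ := hπ b; ⟨Ideal.Quotient.mk _ a, ha⟩
  have hpnil : IsNilpotent (RingHom.ker (p : MvPolynomial (Fin n) A ⧸ J ^ 2 →+* B)) := by
    refine ⟨2, ?_⟩
    have hle : RingHom.ker (p : MvPolynomial (Fin n) A ⧸ J ^ 2 →+* B) ≤
        J.map (Ideal.Quotient.mk (J ^ 2)) := by
      intro y hy
      obtain ⟨a, rfl⟩ := Ideal.Quotient.mk_surjective y
      exact Ideal.mem_map_of_mem _ (show a ∈ J from hy)
    refine le_bot_iff.mp ?_
    rw [← Ideal.map_quotient_self (J ^ 2), Ideal.map_pow]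
    exact pow_le_pow_left' hle 2
  let sec : B →ₐ[A] MvPolynomial (Fin n) A ⧸ J ^ 2 :=
    Algebra.FormallySmooth.liftOfSurjective (AlgHom.id A B) p hp hpnil
  have hsec : ∀ b, p (sec b) = b := fun b =>
    Algebra.FormallySmooth.liftOfSurjective_apply (AlgHom.id A B) p hp hpnil b
  choose S hS using fun i : Fin n => Ideal.Quotient.mk_surjective (sec (π (MvPolynomial.X i)))
  let h : Fin n → MvPolynomial (Fin n) A := fun i => MvPolynomial.X i - S i
  have hhJ : ∀ i, h i ∈ J := fun i => by
    have h1 : π (S i) = π (MvPolynomial.X i) := by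
      have := hsec (π (MvPolynomial.X i)); rw [← hS] at this; exact this
    simp [J, h, h1]
  let φ : MvPolynomial (Fin n) A →ₐ[A] MvPolynomial (Fin n) A ⧸ J ^ 2 := sec.comp π
  have hsq : ∀ {x y : MvPolynomial (Fin n) A}, x ∈ J → y ∈ J →
      Ideal.Quotient.mk (J ^ 2) (x * y) = 0 := fun hx hy =>
    Ideal.Quotient.eq_zero_iff_mem.mpr (by rw [pow_two]; exact Ideal.mul_mem_mul hx hy)
  have hdiff : ∀ g, Ideal.Quotient.mk (J ^ 2) g - φ g =
      Ideal.Quotient.mk (J ^ 2) (∑ i, MvPolynomial.pderiv i g * h i) := by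
    intro g
    induction g using MvPolynomial.induction_on with
    | C a =>
        have h2 : φ (MvPolynomial.C a) = Ideal.Quotient.mk (J ^ 2) (MvPolynomial.C a) :=
          φ.commutes a
        simp [h2]
    | add g g' hg hg' =>
        rw [map_add, map_add, add_sub_add_comm, hg, hg', ← map_add, ← Finset.sum_add_distrib]
        exact congrArg _ (Finset.sum_congr rfl fun i _ => by rw [map_add, add_mul])
    | mul_X g k hg =>
        have hX : φ (MvPolynomial.X k) = Ideal.Quotient.mk (J ^ 2) (MvPolynomial.X k - h k) := by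
          show sec (π (MvPolynomial.X k)) = _
          rw [← hS k]; simp [h]
        set D := ∑ i, MvPolynomial.pderiv i g * h i with hD
        have hDJ : D ∈ J := J.sum_mem fun i _ => J.mul_mem_left _ (hhJ i)
        have hφg : φ g = Ideal.Quotient.mk (J ^ 2) (g - D) := by
          rw [map_sub, ← hg]; ring
        have hsum : ∑ i, MvPolynomial.pderiv i (g * MvPolynomial.X k) * h i =
            D * MvPolynomial.X k + g * h k := by
          have hXsum : ∑ i, MvPolynomial.pderiv i (MvPolynomial.X k : MvPolynomial (Fin n) A) * h i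
              = h k := by
            rw [Finset.sum_eq_single k (fun i _ hik => by simp [MvPolynomial.pderiv_X, hik.symm])
              (by simp)]
            simp
          simp only [MvPolynomial.pderiv_mul, add_mul, Finset.sum_add_distrib]
          rw [hD, Finset.sum_mul]
          congr 1
          · exact Finset.sum_congr rfl fun i _ => by ring
          · conv_rhs => rw [← hXsum]
            rw [Finset.mul_sum]
            exact Finset.sum_congr rfl fun i _ => by ring
        rw [map_mul φ, hφg, hX, hsum, ← map_mul, ← map_sub,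
          show g * MvPolynomial.X k - (g - D) * (MvPolynomial.X k - h k)
            = D * MvPolynomial.X k + g * h k - D * h k by ring,
          map_sub, hsq hDJ (hhJ k), sub_zero]
  have hrel : ∀ g ∈ J, g - ∑ i, MvPolynomial.pderiv i g * h i ∈ J * J := by
    intro g hg
    rw [← pow_two, ← Ideal.Quotient.eq_zero_iff_mem, map_sub, ← hdiff g]
    have : φ g = 0 := by show sec (π g) = 0; rw [show π g = 0 from hg, map_zero]
    rw [this, sub_zero, sub_self]
  let D : Matrix (Fin n) (Fin n) (MvPolynomial (Fin n) A) :=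
    Matrix.of fun j i => MvPolynomial.pderiv i (h j)
  have hidem : ∀ j k, ∑ i, D j i * D i k - D j k ∈ J := by
    intro j k
    have h1 := pderiv_mem_of_mem_sq k (hrel _ (hhJ j))
    rw [map_sub, map_sum] at h1
    have h2 : ∑ i, MvPolynomial.pderiv k (MvPolynomial.pderiv i (h j) * h i) =
        (∑ i, MvPolynomial.pderiv k (MvPolynomial.pderiv i (h j)) * h i) + ∑ i, D j i * D i k := by
      rw [← Finset.sum_add_distrib]
      exact Finset.sum_congr rfl fun i _ => by rw [MvPolynomial.pderiv_mul]; rfl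
    rw [h2] at h1
    have h3 := J.sum_mem (t := Finset.univ) fun i _ =>
      J.mul_mem_left (MvPolynomial.pderiv k (MvPolynomial.pderiv i (h j))) (hhJ i)
    have h4 := J.neg_mem (J.add_mem h1 h3)
    convert h4 using 1
    simp only [D, Matrix.of_apply]; ring
  choose a₀ ha₀ using fun i : Fin n => Ideal.Quotient.mk_surjective (σ (π (MvPolynomial.X i)))
  have hev : ∀ g, Ideal.Quotient.mk I (MvPolynomial.eval a₀ g) = σ (π g) := by
    intro g
    have h1 : (Ideal.Quotient.mkₐ A I).comp (MvPolynomial.aeval a₀) = σ.comp π :=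
      MvPolynomial.algHom_ext fun i => by simp [ha₀]
    simpa [MvPolynomial.aeval_eq_eval] using congr($h1 g)
  have hevJ : ∀ g ∈ J, MvPolynomial.eval a₀ g ∈ I := fun g hg => by
    rw [← Ideal.Quotient.eq_zero_iff_mem, hev, show π g = 0 from hg, map_zero]
  let δ : Fin n → Fin n → MvPolynomial (Fin n) A := fun j i => if j = i then 1 else 0
  let w : Fin n → MvPolynomial (Fin n) A := fun i => MvPolynomial.X i - MvPolynomial.C (a₀ i)
  let G : Fin n → MvPolynomial (Fin n) A := fun j =>
    ∑ i, (D j i * h i + (δ j i - D j i) * w i)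
  have hw0 : ∀ i, MvPolynomial.eval a₀ (w i) = 0 := fun i => by simp [w]
  have hG0 : ∀ j, MvPolynomial.eval a₀ (G j) ∈ I := by
    intro j
    simp only [G, map_sum, map_add, map_mul, hw0, mul_zero, add_zero]
    exact I.sum_mem fun i _ => I.mul_mem_left _ (hevJ _ (hhJ i))
  have hGd : ∀ j k, Ideal.Quotient.mk I (MvPolynomial.eval a₀ (MvPolynomial.pderiv k (G j))) =
      if j = k then 1 else 0 := by
    intro j k
    have hwk : ∀ i, MvPolynomial.pderiv k (w i) = if i = k then 1 else 0 := by
      intro i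
      simp only [w, map_sub, MvPolynomial.pderiv_C, sub_zero, MvPolynomial.pderiv_X]
      by_cases hik : i = k <;> simp [hik]
    simp only [G, map_sum, map_add, MvPolynomial.pderiv_mul, map_mul, hw0,
      mul_zero, zero_add, hwk, apply_ite (MvPolynomial.eval a₀), map_one, map_zero, mul_ite,
      mul_one]
    simp only [apply_ite (Ideal.Quotient.mk I), map_zero, Finset.sum_add_distrib,
      Finset.sum_ite_eq', Finset.mem_univ, if_true]
    have h1 : ∀ i, Ideal.Quotient.mk I (MvPolynomial.eval a₀ (h i)) = 0 := fun i =>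
      Ideal.Quotient.eq_zero_iff_mem.mpr (hevJ _ (hhJ i))
    simp only [h1, mul_zero, zero_add]
    have h2 := Ideal.Quotient.eq_zero_iff_mem.mpr (hevJ _ (hidem j k))
    simp only [map_sub, map_sum, map_mul] at h2
    simp only [D, Matrix.of_apply] at h2 ⊢
    rw [sub_eq_zero] at h2
    rw [h2]
    by_cases hjk : j = k <;> simp [δ, hjk]
  obtain ⟨a, ha, haI⟩ := exists_root_system I G a₀ hG0 (by
    rw [RingHom.map_det]
    have : (Ideal.Quotient.mk I).mapMatrix (Matrix.of fun i j =>
        MvPolynomial.eval a₀ (MvPolynomial.pderiv j (G i))) = 1 := by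
      ext i j
      simp [Matrix.one_apply, hGd]
    rw [this, Matrix.det_one]; exact isUnit_one)
  let ev : MvPolynomial (Fin n) A →ₐ[A] A := MvPolynomial.aeval a
  have hevI : ∀ g, ev g - MvPolynomial.eval a₀ g ∈ I := by
    intro g
    rw [← Ideal.Quotient.eq_zero_iff_mem, map_sub, sub_eq_zero]
    have h1 : (Ideal.Quotient.mkₐ A I).comp ev = (Ideal.Quotient.mkₐ A I).comp (MvPolynomial.aeval a₀) :=
      MvPolynomial.algHom_ext fun i => by
        simpa [ev] using (Ideal.Quotient.mk_eq_mk_iff_sub_mem _ _).mpr (haI i)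
    simpa [MvPolynomial.aeval_eq_eval] using congr($h1 g)
  let K : Ideal A := J.map ev
  have hKI : K ≤ I := Ideal.map_le_iff_le_comap.mpr fun g hg => by
    show ev g ∈ I
    simpa using I.add_mem (hevI g) (hevJ g hg)
  have hevK : ∀ g ∈ J, ev g ∈ K := fun g hg => Ideal.mem_map_of_mem ev hg
  have hwI : ∀ i, ev (w i) ∈ I := fun i => by simpa [ev, w] using haI i
  have hKK : ∀ g ∈ J * J, ev g ∈ I * K := fun g hg => by
    have h1 : ev g ∈ (J * J).map ev := Ideal.mem_map_of_mem ev hg
    rw [Ideal.map_mul] at h1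
    exact Ideal.mul_mono_left hKI h1
  have hhv : ∀ j, ev (h j) ∈ I * K := by
    refine mem_of_projected (fun j i => ev (D j i)) (fun i => ev (h i)) (fun i => ev (w i))
      (fun j => ?_) (fun j => ?_) (fun j i => ?_)
    · have h1 := hKK _ (hrel _ (hhJ j))
      simpa only [map_sub, map_sum, map_mul, D, Matrix.of_apply] using h1
    · have h1 : ev (G j) = 0 := by
        rw [show ev (G j) = MvPolynomial.eval a (G j) by simp [ev, MvPolynomial.aeval_eq_eval]]
        exact ha j
      simpa only [G, δ, map_sum, map_add, map_mul, map_sub, apply_ite ev, map_one, map_zero] using h1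
    · rw [mul_comm I K]
      refine Ideal.mul_mem_mul ?_ (hwI i)
      have h1 := hevK _ (hidem j i)
      simpa only [map_sub, map_sum, map_mul] using h1
  have hKM : K ≤ I * K := by
    refine Ideal.map_le_iff_le_comap.mpr fun g hg => ?_
    show ev g ∈ I * K
    have h1 := hKK _ (hrel g hg)
    simp only [map_sub, map_sum, map_mul] at h1
    have h2 : ∑ i, ev (MvPolynomial.pderiv i g) * ev (h i) ∈ I * K :=
      Ideal.sum_mem _ fun i _ => Ideal.mul_mem_left _ _ (hhv i)
    simpa using Ideal.add_mem _ h1 h2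
  have hK0 : K = ⊥ := Submodule.eq_bot_of_le_smul_of_le_jacobson_bot I K (hfg.map _)
    (by rw [smul_eq_mul]; exact hKM) hI.jac
  have hker : ∀ g ∈ RingHom.ker π, ev g = 0 := fun g hg => by
    have h1 := hevK g hg
    rwa [hK0, Ideal.mem_bot] at h1
  obtain ⟨τ, hτ⟩ : ∃ τ : B →ₐ[A] A, ∀ g, τ (π g) = ev g := by
    let e : (MvPolynomial (Fin n) A ⧸ RingHom.ker π) ≃ₐ[A] B :=
      Ideal.quotientKerAlgEquivOfSurjective hπ
    refine ⟨(Ideal.Quotient.liftₐ _ ev hker).comp e.symm.toAlgHom, fun g => ?_⟩
    have : e.symm (π g) = Ideal.Quotient.mk _ g := by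
      rw [AlgEquiv.symm_apply_eq]; rfl
    show Ideal.Quotient.liftₐ _ ev hker (e.symm (π g)) = ev g
    rw [this]; rfl
  refine ⟨τ, AlgHom.ext fun b => ?_⟩
  obtain ⟨g, rfl⟩ := hπ b
  show Ideal.Quotient.mk I (τ (π g)) = σ (π g)
  rw [hτ, ← hev]
  exact (Ideal.Quotient.mk_eq_mk_iff_sub_mem _ _).mpr (hevI g)

end Groth.Agent.HenselLib
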