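import Groth.Agent.HenselLib.WeakDim
import Groth.Agent.HenselLib.WEtale
import Mathlib.RingTheory.Flat.FaithfullyFlat.Algebra
import Mathlib.RingTheory.LocalRing.Basic

/-!
# Normality along weakly etale local maps
-/

set_option autoImplicit false
set_option linter.all false

universe u

open TensorProduct Function

namespace Groth.Agent.HenselLib

open WEt

/-- A local ring which is weakly etale over a normal domain is a normal domain. -/
theorem normalDomain_of_weaklyEtale (R S : Type u) [CommRing R] [IsDomain R] [IsIntegrallyClosed R]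
    [CommRing S] [IsLocalRing S] [Algebra R S] [Algebra.WeaklyEtale R S] :
    IsDomain S ∧ IsIntegrallyClosed S := by
  let K := FractionRing R
  let T := S ⊗[R] K
  haveI hcl : IsIntegrallyClosedIn S T := WeakDim.integrallyClosed_weaklyEtale R K S
  have hinj : Injective (algebraMap S T) := (isIntegrallyClosedIn_iff.mp hcl).1
  have hint : ∀ {x : T}, IsIntegral S x → ∃ s, algebraMap S T s = x :=
    fun {x} hx => (isIntegrallyClosedIn_iff.mp hcl).2 hx
  have hv' : VNR (K ⊗[R] S) := vnr_of_weaklyEtale (A := K) (vnr_field K)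
  let c : S ⊗[R] K ≃ₐ[R] K ⊗[R] S := Algebra.TensorProduct.comm R S K
  have hvT : VNR T := fun x => by
    obtain ⟨a, ha⟩ := hv' (c x)
    refine ⟨c.symm a, c.injective ?_⟩
    simpa using ha
  haveI : Nontrivial T := hinj.nontrivial
  have hunit : ∀ x : T, x ≠ 0 → IsUnit x := by
    intro x hx
    obtain ⟨a, ha⟩ := hvT x
    have he : x * a * (x * a) = x * a := by linear_combination (-a) * ha
    obtain ⟨s, hs⟩ := hint (x := x * a) ⟨Polynomial.X ^ 2 - Polynomial.X,
      Polynomial.monic_X_pow_sub (by simp), by simp [sq, he]⟩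
    have hse : s * s = s := hinj (by rw [map_mul, hs, he])
    rcases IsLocalRing.isUnit_or_isUnit_one_sub_self s with h | h
    · have h1 : s = 1 := h.mul_left_cancel (by rw [hse, mul_one])
      refine IsUnit.of_mul_eq_one a ?_
      rw [← hs, h1, map_one]
    · have h0 : s = 0 := by
        refine h.mul_right_eq_zero.mp ?_
        rw [sub_mul, one_mul, hse, sub_self]
      refine absurd ?_ hx
      rw [show x = x * (x * a) by rw [← mul_assoc]; exact ha, ← hs, h0, map_zero, mul_zero]
  haveI : NoZeroDivisors T := ⟨fun {x y} h => or_iff_not_imp_left.mpr fun hx =>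
    (hunit x hx).mul_right_eq_zero.mp h⟩
  haveI : IsDomain T := NoZeroDivisors.to_isDomain T
  haveI : IsDomain S := hinj.isDomain _
  refine ⟨‹_›, (isIntegrallyClosed_iff (FractionRing S)).mpr fun {x} hx => ?_⟩
  let φ : FractionRing S →+* T := IsLocalization.lift (M := nonZeroDivisors S)
    (g := algebraMap S T) fun y => hunit _ ((map_ne_zero_iff _ hinj).mpr (nonZeroDivisors.ne_zero y.2))
  have hφ : ∀ s : S, φ (algebraMap S (FractionRing S) s) = algebraMap S T s :=
    fun s => IsLocalization.lift_eq _ s
  let φA : FractionRing S →ₐ[S] T := { φ with commutes' := hφ }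
  obtain ⟨s, hs⟩ := hint (hx.map φA)
  exact ⟨s, φ.injective ((hφ s).trans hs)⟩

/-- Normality descends along faithfully flat maps. -/
theorem normalDomain_of_faithfullyFlat (R S : Type u) [CommRing R] [CommRing S] [IsDomain S]
    [IsIntegrallyClosed S] [Algebra R S] [Module.FaithfullyFlat R S] :
    IsDomain R ∧ IsIntegrallyClosed R := by
  have hinj : Injective (algebraMap R S) := FaithfulSMul.algebraMap_injective R S
  haveI : IsDomain R := hinj.isDomain _
  refine ⟨‹_›, (isIntegrallyClosed_iff (FractionRing R)).mpr fun {x} hx => ?_⟩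
  obtain ⟨a, b, hb, rfl⟩ := IsFractionRing.div_surjective R x
  let ψ : FractionRing R →+* FractionRing S :=
    IsLocalization.map (FractionRing S) (algebraMap R S)
      (nonZeroDivisors_le_comap_nonZeroDivisors_of_injective _ hinj)
  have hψ : ∀ r : R, ψ (algebraMap R (FractionRing R) r) =
      algebraMap S (FractionRing S) (algebraMap R S r) := fun r => IsLocalization.map_eq _ r
  obtain ⟨p, hp, hp'⟩ := hx
  have hint : IsIntegral S (ψ (algebraMap R _ a / algebraMap R _ b)) := by
    refine ⟨p.map (algebraMap R S), hp.map _, ?_⟩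
    rw [Polynomial.eval₂_map]
    have := congrArg ψ hp'
    rw [map_zero, Polynomial.hom_eval₂] at this
    rwa [show ψ.comp (algebraMap R (FractionRing R)) = (algebraMap S (FractionRing S)).comp (algebraMap R S)
      from RingHom.ext hψ] at this
  obtain ⟨s, hs⟩ := IsIntegrallyClosed.isIntegral_iff.mp hint
  have hb0 : b ≠ 0 := nonZeroDivisors.ne_zero hb
  rw [map_div₀, hψ, hψ, eq_div_iff ((map_ne_zero_iff _ (IsFractionRing.injective S _)).mpr
    ((map_ne_zero_iff _ hinj).mpr hb0)), ← map_mul] at hs
  have hmem : a ∈ ((Ideal.span {b}).map (algebraMap R S)).comap (algebraMap R S) := by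
    rw [Ideal.mem_comap, ← IsFractionRing.injective S (FractionRing S) hs]
    exact Ideal.mul_mem_left _ _ (Ideal.mem_map_of_mem _ (Ideal.mem_span_singleton_self b))
  rw [Ideal.comap_map_eq_self_of_faithfullyFlat] at hmem
  obtain ⟨c, hc⟩ := Ideal.mem_span_singleton'.mp hmem
  refine ⟨c, ?_⟩
  rw [eq_div_iff ((map_ne_zero_iff _ (IsFractionRing.injective R _)).mpr hb0), ← map_mul, hc]

end Groth.Agent.HenselLib
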