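import Groth.Agent.HenselLib.WEtale
import Mathlib.RingTheory.LocalRing.ResidueField.Fiber
import Mathlib.RingTheory.Ideal.GoingDown
import Mathlib.RingTheory.Flat.TorsionFree

/-!
# Fibres of weakly etale maps are zero dimensional
-/

set_option autoImplicit false
set_option linter.all false

universe u

open TensorProduct

namespace Groth.Agent.HenselLib.WEt

variable {A B : Type u} [CommRing A] [CommRing B] [Algebra A B] [Algebra.WeaklyEtale A B]

/-- Primes in a fibre of a weakly etale map are incomparable. -/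
theorem eq_of_le_of_comap_eq {q₁ q₂ : Ideal B} [q₁.IsPrime] [q₂.IsPrime] (hle : q₁ ≤ q₂)
    (h : q₁.comap (algebraMap A B) = q₂.comap (algebraMap A B)) : q₁ = q₂ := by
  let p : PrimeSpectrum A := PrimeSpectrum.comap (algebraMap A B) ⟨q₂, inferInstance⟩
  let x₁ : PrimeSpectrum.comap (algebraMap A B) ⁻¹' {p} := ⟨⟨q₁, inferInstance⟩, PrimeSpectrum.ext h⟩
  let x₂ : PrimeSpectrum.comap (algebraMap A B) ⁻¹' {p} := ⟨⟨q₂, inferInstance⟩, rfl⟩
  let e := PrimeSpectrum.preimageOrderIsoFiber A B p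
  have hv : VNR (p.asIdeal.Fiber B) := vnr_of_weaklyEtale (A := p.asIdeal.ResidueField) (vnr_field _)
  have he : e x₁ ≤ e x₂ := e.monotone (show x₁ ≤ x₂ from hle)
  have heq : e x₁ = e x₂ := PrimeSpectrum.ext
    ((hv.isMaximal (e x₁).asIdeal).eq_of_le (e x₂).isPrime.ne_top he)
  exact congrArg (fun x => x.1.asIdeal) (e.injective heq)

/-- Minimal primes over an extended prime ideal are the primes of the fibre. -/
theorem mem_minimalPrimes_map_iff (p : Ideal A) [p.IsPrime] (P : Ideal B) :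
    P ∈ (p.map (algebraMap A B)).minimalPrimes ↔ P.IsPrime ∧ P.comap (algebraMap A B) = p := by
  constructor
  · intro h
    haveI := h.1.1
    refine ⟨h.1.1, le_antisymm ?_ (Ideal.map_le_iff_le_comap.mp h.1.2)⟩
    obtain ⟨Q, hQP, hQ, hQp⟩ := P.exists_ideal_le_liesOver_of_le (p := p)
      (q := P.comap (algebraMap A B)) (Ideal.map_le_iff_le_comap.mp h.1.2)
    have hQ2 : P ≤ Q := h.2 ⟨hQ, Ideal.map_le_iff_le_comap.mpr hQp.over.le⟩ hQP
    exact (Ideal.comap_mono hQ2).trans hQp.over.ge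
  · rintro ⟨hP, rfl⟩
    refine ⟨⟨hP, Ideal.map_comap_le⟩, fun Q hQ hQP => ?_⟩
    haveI := hQ.1
    exact (eq_of_le_of_comap_eq hQP (le_antisymm (Ideal.comap_mono hQP)
      (Ideal.map_le_iff_le_comap.mp hQ.2))).ge

end Groth.Agent.HenselLib.WEt
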