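import Groth.Agent.HenselLib.WEtale
import Groth.Prelude.Def_EtAlgD
import Mathlib.RingTheory.Artinian.Ring
import Mathlib.RingTheory.Ideal.GoingUp
import Mathlib.RingTheory.Ideal.MinimalPrime.Localization
import Mathlib.LinearAlgebra.TensorProduct.Finiteness
import Mathlib.Algebra.Algebra.Subalgebra.Directed
import Mathlib.FieldTheory.IntermediateField.Adjoin.Algebra

/-!
# Weakly etale algebras over fields
-/

set_option autoImplicit false
set_option linter.all false

universe u

open TensorProduct Function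

namespace Groth.Agent.HenselLib.WEt

variable {K : Type u} [Field K]

theorem isSeparable_field (L : Type u) [Field L] [Algebra K L] [Algebra.WeaklyEtale K L] :
    Algebra.IsSeparable K L := by
  refine ⟨fun x => ?_⟩
  obtain ⟨E, hxE, hE⟩ : ∃ E : IntermediateField K L, x ∈ E ∧ Algebra.EssFiniteType K E :=
    ⟨IntermediateField.adjoin K {x}, IntermediateField.subset_adjoin K {x} rfl,
      IntermediateField.essFiniteType_iff.mpr ⟨{x}, by rw [Finset.coe_singleton]⟩⟩
  haveI : Algebra.WeaklyEtale K E := weaklyEtale_of_faithfullyFlat (C := L)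
  haveI := formallyUnramified (A := K) (B := E)
  haveI : Algebra.IsSeparable K E := Algebra.FormallyUnramified.isSeparable K E
  have hs : IsSeparable K (⟨x, hxE⟩ : E) := Algebra.IsSeparable.isSeparable K _
  unfold IsSeparable at hs ⊢
  rwa [IntermediateField.minpoly_eq] at hs

variable {B : Type u} [CommRing B] [Algebra K B]

theorem isSeparable_residue [Algebra.WeaklyEtale K B] (Q : Ideal B) [Q.IsMaximal] :
    Algebra.IsSeparable K (B ⧸ Q) := by
  letI := Ideal.Quotient.field Q
  haveI := weaklyEtale_quotient (A := K) (vnr_of_weaklyEtale (A := K) (B := B) (vnr_field K)) Q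
  exact isSeparable_field (B ⧸ Q)

theorem isIntegral_of_weaklyEtale [Algebra.WeaklyEtale K B] : Algebra.IsIntegral K B := by
  refine ⟨fun x => ?_⟩
  rw [← isAlgebraic_iff_isIntegral]
  by_contra hx
  have hinj : Injective (Polynomial.aeval (R := K) x).toRingHom := transcendental_iff_injective.mp hx
  have hB := vnr_of_weaklyEtale (A := K) (B := B) (vnr_field K)
  obtain ⟨Q, hQ, hQ'⟩ := Ideal.exists_comap_eq_of_mem_minimalPrimes_of_injective hinj
    (⊥ : Ideal (Polynomial K)) (by rw [IsDomain.minimalPrimes_eq_singleton_bot]; rfl)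
  haveI := hQ
  haveI := hB.isMaximal Q
  haveI := isSeparable_residue (K := K) Q
  obtain ⟨p, hp, hp'⟩ := Algebra.IsAlgebraic.isAlgebraic (R := K) (Ideal.Quotient.mkₐ K Q x)
  rw [Polynomial.aeval_algHom_apply, Ideal.Quotient.mkₐ_eq_mk, Ideal.Quotient.eq_zero_iff_mem] at hp'
  have : p ∈ Q.comap (Polynomial.aeval (R := K) x).toRingHom := hp'
  rw [hQ', Submodule.mem_bot] at this
  exact hp this

/-- Every finitely generated subalgebra is etale. -/
def EtFG (K B : Type u) [Field K] [CommRing B] [Algebra K B] : Prop :=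
  ∀ S : Subalgebra K B, S.FG → Algebra.Etale K S

theorem etFG_of_weaklyEtale [Algebra.WeaklyEtale K B] : EtFG K B := by
  intro S hS
  haveI := isIntegral_of_weaklyEtale (K := K) (B := B)
  have hB := vnr_of_weaklyEtale (A := K) (B := B) (vnr_field K)
  haveI := hB.isReduced
  haveI : Algebra.FiniteType K S := S.fg_iff_finiteType.mp hS
  haveI : Algebra.IsIntegral K S := ⟨fun s => (isIntegral_algHom_iff S.val Subtype.val_injective).mp
    (Algebra.IsIntegral.isIntegral _)⟩
  haveI : Module.Finite K S := Algebra.IsIntegral.finite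
  haveI : IsArtinianRing S := IsArtinianRing.of_finite K S
  haveI : IsReduced S := isReduced_of_injective S.val Subtype.val_injective
  rw [Algebra.Etale.iff_exists_algEquiv_prod]
  refine ⟨MaximalSpectrum S, inferInstance, fun m => S ⧸ m.asIdeal,
    fun m => Ideal.Quotient.field m.asIdeal, inferInstance,
    (IsArtinianRing.equivPi S).restrictScalars K, fun m => ⟨inferInstance, ?_⟩⟩
  haveI : Algebra.IsIntegral S B := ⟨fun b => (Algebra.IsIntegral.isIntegral (R := K) b).tower_top (A := S)⟩
  obtain ⟨Q, -, hQ, hQ'⟩ := Ideal.exists_ideal_over_prime_of_isIntegral (S := B) m.asIdeal ⊥ (by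
    intro s hs
    rw [Ideal.mem_comap, Submodule.mem_bot] at hs
    rw [show s = 0 from Subtype.val_injective hs]
    exact zero_mem _)
  haveI := hQ
  haveI := hB.isMaximal Q
  haveI := isSeparable_residue (K := K) Q
  let φ : S ⧸ m.asIdeal →ₐ[K] B ⧸ Q :=
    Ideal.Quotient.liftₐ m.asIdeal ((Ideal.Quotient.mkₐ K Q).comp S.val) fun s hs => by
      rw [← hQ'] at hs
      exact Ideal.Quotient.eq_zero_iff_mem.mpr hs
  letI := Ideal.Quotient.field m.asIdeal
  letI := Ideal.Quotient.field Q
  exact Algebra.IsSeparable.of_algHom K (B ⧸ Q) φ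

theorem vnr_of_etale (S : Type u) [CommRing S] [Algebra K S] [Algebra.Etale K S] : VNR S := by
  obtain ⟨ι, _, F, _, _, e, _⟩ := (Algebra.Etale.iff_exists_algEquiv_prod (K := K) (A := S)).mp ‹_›
  intro x
  obtain ⟨a, ha⟩ := vnr_pi_field ι F (e x)
  exact ⟨e.symm a, e.injective (by rw [map_mul, map_mul, e.apply_symm_apply]; exact ha)⟩

theorem weaklyEtale_of_etFG (h : EtFG K B) : Algebra.WeaklyEtale K B where
  flat_lmul' := by
    classical
    have hsurj : ∀ z : B ⊗[K] B, ∃ S : Subalgebra K B, S.FG ∧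
        z ∈ Set.range (Algebra.TensorProduct.map S.val S.val) := by
      intro z
      obtain ⟨T, rfl⟩ := TensorProduct.exists_finset z
      let S : Subalgebra K B :=
        Algebra.adjoin K ((T.image Prod.fst ∪ T.image Prod.snd : Finset B) : Set B)
      refine ⟨S, ⟨_, rfl⟩, ?_⟩
      rw [← AlgHom.coe_range]
      refine sum_mem fun i hi => ?_
      exact ⟨(⟨i.1, Algebra.subset_adjoin (by simp; left; exact ⟨_, hi⟩)⟩ : S) ⊗ₜ
        (⟨i.2, Algebra.subset_adjoin (by simp; right; exact ⟨_, hi⟩)⟩ : S), by simp⟩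
    have hvnr : VNR (B ⊗[K] B) := by
      intro z
      obtain ⟨S, hS, w, rfl⟩ := hsurj z
      haveI := h S hS
      haveI : Algebra.Etale K (S ⊗[K] S) := .comp K S _
      obtain ⟨a, ha⟩ := vnr_of_etale (K := K) (S ⊗[K] S) w
      exact ⟨Algebra.TensorProduct.map S.val S.val a, by rw [← map_mul, ← map_mul, ← ha]⟩
    algebraize [(Algebra.TensorProduct.lmul' K (S := B)).toRingHom]
    exact hvnr.flat B

theorem weaklyEtale_iff_etFG : Algebra.WeaklyEtale K B ↔ EtFG K B :=
  ⟨fun _ => etFG_of_weaklyEtale, weaklyEtale_of_etFG⟩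

theorem etFG_of_injective {A : Type u} [CommRing A] [Algebra K A] (f : A →ₐ[K] B)
    (hf : Injective f) (h : EtFG K B) : EtFG K A := by
  intro S hS
  haveI := h (S.map f) (hS.map f)
  exact Algebra.Etale.of_equiv (S.equivMapOfInjective f hf).symm

theorem weaklyEtale_subalgebra [Algebra.WeaklyEtale K B] (S : Subalgebra K B) :
    Algebra.WeaklyEtale K S :=
  weaklyEtale_of_etFG (etFG_of_injective S.val Subtype.val_injective etFG_of_weaklyEtale)

theorem weaklyEtale_range {A : Type u} [CommRing A] [Algebra K A] [Algebra.WeaklyEtale K A]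
    (f : A →ₐ[K] B) : Algebra.WeaklyEtale K f.range := by
  haveI := weaklyEtale_quotient (A := K) (vnr_of_weaklyEtale (A := K) (B := A) (vnr_field K))
    (RingHom.ker f.rangeRestrict)
  exact weaklyEtale_of_etFG (etFG_of_injective
    (Ideal.quotientKerAlgEquivOfSurjective f.rangeRestrict_surjective).symm.toAlgHom
    (AlgEquiv.injective _) etFG_of_weaklyEtale)

theorem le_maxWeaklyEtale (S : Subalgebra K B) [Algebra.WeaklyEtale K S] :
    S ≤ EtAlgD.maxWeaklyEtale K B := le_sSup (show Algebra.WeaklyEtale K S from inferInstance)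

theorem weaklyEtale_bot : Algebra.WeaklyEtale K (⊥ : Subalgebra K B) := by
  rw [show (⊥ : Subalgebra K B) = (Algebra.ofId K B).range from (Algebra.range_ofId (R := K) (A := B)).symm]
  exact weaklyEtale_range _

theorem weaklyEtale_sup (S T : Subalgebra K B) [Algebra.WeaklyEtale K S] [Algebra.WeaklyEtale K T] :
    Algebra.WeaklyEtale K ↥(S ⊔ T) := by
  haveI : Algebra.WeaklyEtale K (S ⊗[K] T) := Algebra.WeaklyEtale.trans K S _
  have := weaklyEtale_range (K := K) (Algebra.TensorProduct.productMap S.val T.val)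
  rwa [Algebra.TensorProduct.productMap_range, Subalgebra.range_val, Subalgebra.range_val] at this

theorem directed_weaklyEtale :
    Directed (· ≤ ·) (fun S : {S : Subalgebra K B // Algebra.WeaklyEtale K S} => S.1) := by
  rintro ⟨S, hS⟩ ⟨T, hT⟩
  exact ⟨⟨S ⊔ T, weaklyEtale_sup S T⟩, le_sup_left, le_sup_right⟩

theorem mem_maxWeaklyEtale {x : B} :
    x ∈ EtAlgD.maxWeaklyEtale K B ↔ ∃ S : Subalgebra K B, Algebra.WeaklyEtale K S ∧ x ∈ S := by
  haveI : Nonempty {S : Subalgebra K B // Algebra.WeaklyEtale K S} := ⟨⟨⊥, weaklyEtale_bot⟩⟩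
  rw [EtAlgD.maxWeaklyEtale, sSup_eq_iSup']
  rw [← SetLike.mem_coe]
  erw [Subalgebra.coe_iSup_of_directed (directed_weaklyEtale (K := K) (B := B))]
  simp

theorem weaklyEtale_max : Algebra.WeaklyEtale K ↥(EtAlgD.maxWeaklyEtale K B) := by
  classical
  refine weaklyEtale_of_etFG fun U hU => ?_
  obtain ⟨s, hs⟩ := hU.map (EtAlgD.maxWeaklyEtale K B).val
  have : ∀ t : Finset B, (∀ x ∈ t, x ∈ EtAlgD.maxWeaklyEtale K B) →
      ∃ S : Subalgebra K B, Algebra.WeaklyEtale K S ∧ ∀ x ∈ t, x ∈ S := by
    intro t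
    induction t using Finset.induction with
    | empty => exact fun _ => ⟨⊥, weaklyEtale_bot, by simp⟩
    | insert a t _ ih =>
      intro h
      obtain ⟨S, hS, hSt⟩ := ih fun x hx => h x (Finset.mem_insert_of_mem hx)
      obtain ⟨T, hT, haT⟩ := mem_maxWeaklyEtale.mp (h a (Finset.mem_insert_self a t))
      refine ⟨S ⊔ T, weaklyEtale_sup S T, fun x hx => ?_⟩
      rcases Finset.mem_insert.mp hx with rfl | hx
      · exact le_sup_right (a := S) haT
      · exact le_sup_left (b := T) (hSt x hx)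
  have hUle : U.map (EtAlgD.maxWeaklyEtale K B).val ≤ EtAlgD.maxWeaklyEtale K B := by
    rintro _ ⟨u, -, rfl⟩; exact u.2
  obtain ⟨S, hS, hsS⟩ := this s fun x hx => hUle (hs ▸ Algebra.subset_adjoin hx)
  have hle : U.map (EtAlgD.maxWeaklyEtale K B).val ≤ S := hs ▸ Algebra.adjoin_le hsS
  let g : U →ₐ[K] S := ((EtAlgD.maxWeaklyEtale K B).val.comp U.val).codRestrict S fun u =>
    hle ⟨u.1, u.2, rfl⟩
  have hg : Injective g := fun a b hab =>
    Subtype.ext (Subtype.ext (congrArg (fun s : S => (s : B)) hab :))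
  have := etFG_of_injective g hg etFG_of_weaklyEtale ⊤
    (Algebra.FiniteType.out (self := U.fg_iff_finiteType.mp hU))
  exact Algebra.Etale.of_equiv (R := K) (A := (⊤ : Subalgebra K U)) (Subalgebra.topEquiv (R := K) (A := U))

end Groth.Agent.HenselLib.WEt
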