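import Mathlib
import Groth.Agent.HenselLib.WEtale
import Groth.Agent.HenselLib.WEtField
import Groth.Agent.HenselLib.NormalHens
import Groth.Agent.HenselLib.WEtFibre
import Groth.Agent.HenselLib.Perm
import Groth.Agent.CAlgH3.Branches

/-!
# Olivier's theorem
-/

set_option autoImplicit false

open TensorProduct IsLocalRing

universe u

namespace Groth.Agent.HenselLib.Olivier

variable {A : Type u} [CommRing A] [HenselianLocalRing A]

/-- An integral domain extension of a henselian local ring is local. -/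
theorem isLocalRing_of_integral_domain (D : Type u) [CommRing D] [IsDomain D] [Algebra A D]
    [Algebra.IsIntegral A D] : IsLocalRing D := by
  haveI := HenselLib.henselianRing_maximalIdeal A
  refine IsLocalRing.of_isUnit_or_isUnit_one_sub_self fun x => ?_
  haveI : Module.Finite A (Algebra.adjoin A {x}) :=
    Module.Finite.iff_fg.2 (Algebra.IsIntegral.isIntegral x).fg_adjoin_singleton
  haveI : IsLocalRing (Algebra.adjoin A {x}) :=
    IsLocalRing.of_unique_max_ideal (by
      obtain ⟨M, hM⟩ := Ideal.exists_maximal (Algebra.adjoin A {x})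
      exact ⟨M, hM, fun M' hM' => CAlgH3.Branches.maximal_unique A _ M' M⟩)
  let x' : Algebra.adjoin A {x} := ⟨x, Algebra.self_mem_adjoin_singleton A x⟩
  rcases IsLocalRing.isUnit_or_isUnit_one_sub_self x' with h | h
  · exact Or.inl (h.map (Algebra.adjoin A {x}).val)
  · exact Or.inr (by simpa using h.map (Algebra.adjoin A {x}).val)

variable [IsSepClosed (ResidueField A)] {B : Type u} [CommRing B] [IsLocalRing B] [Algebra A B]
  [IsLocalHom (algebraMap A B)] [Algebra.WeaklyEtale A B]

/-- The residue field does not grow. -/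
theorem exists_residue_rep (b : B) : ∃ a : A, b - algebraMap A B a ∈ maximalIdeal B := by
  let m := maximalIdeal A
  let J := m.map (algebraMap A B)
  haveI : Algebra.WeaklyEtale (ResidueField A) (ResidueField A ⊗[A] B) := inferInstance
  obtain ⟨Q, hQ⟩ : ∃ Q : Ideal (ResidueField A ⊗[A] B), Q.IsMaximal := by
    refine @Ideal.exists_maximal _ _ ?_
    exact Algebra.TensorProduct.lift (Algebra.ofId (ResidueField A) (ResidueField B))
      (IsScalarTower.toAlgHom A B (ResidueField B)) (fun _ _ => Commute.all _ _) |>.toRingHom.domain_nontrivial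
  letI := Ideal.Quotient.field Q
  haveI := WEt.isSeparable_residue (K := ResidueField A) Q
  obtain ⟨c, hc⟩ := IsSepClosed.algebraMap_surjective (ResidueField A) ((ResidueField A ⊗[A] B) ⧸ Q)
    (Ideal.Quotient.mk Q (1 ⊗ₜ[A] b))
  obtain ⟨a, rfl⟩ := Ideal.Quotient.mk_surjective c
  refine ⟨a, ?_⟩
  let g : B →+* (ResidueField A ⊗[A] B) ⧸ Q :=
    (Ideal.Quotient.mk Q).comp Algebra.TensorProduct.includeRight.toRingHom
  have hg : g (b - algebraMap A B a) = 0 := by
    rw [map_sub, sub_eq_zero]
    refine hc.symm.trans ?_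
    show Ideal.Quotient.mk Q (algebraMap (ResidueField A) (ResidueField A ⊗[A] B) (residue A a)) = _
    simp only [g, RingHom.comp_apply]
    refine congrArg _ ?_
    show residue A a ⊗ₜ[A] (1 : B) = (1 : ResidueField A) ⊗ₜ[A] algebraMap A B a
    rw [Algebra.algebraMap_eq_smul_one, ← TensorProduct.smul_tmul, Algebra.smul_def, mul_one]
    rfl
  exact le_maximalIdeal (RingHom.ker_ne_top g) hg

set_option synthInstance.maxHeartbeats 100000 in
set_option maxHeartbeats 800000 in
/-- A field valued point of `A` extends in at most one way to `B`. -/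
theorem algHom_field_unique {L : Type u} [Field L] [Algebra A L] (f g : B →ₐ[A] L) : f = g := by
  suffices h : ∀ (L : Type u) [Field L] [IsAlgClosed L] [Algebra A L] (f g : B →ₐ[A] L), f = g by
    let i := IsScalarTower.toAlgHom A L (AlgebraicClosure L)
    have := h (AlgebraicClosure L) (i.comp f) (i.comp g)
    exact AlgHom.ext fun x => (algebraMap L (AlgebraicClosure L)).injective (AlgHom.congr_fun this x)
  intro L _ _ _ f g
  let p : Ideal A := RingHom.ker (algebraMap A L)
  haveI : p.IsPrime := RingHom.ker_isPrime _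
  let Ω := AlgebraicClosure p.ResidueField
  have hunit : p.primeCompl ≤ (IsUnit.submonoid L).comap (algebraMap A L) := fun x hx =>
    isUnit_iff_ne_zero.2 hx
  letI : Algebra p.ResidueField L := (Ideal.ResidueField.lift p (algebraMap A L) le_rfl hunit).toAlgebra
  haveI : IsScalarTower A p.ResidueField L :=
    IsScalarTower.of_algebraMap_eq fun x => (Ideal.ResidueField.lift_algebraMap p (algebraMap A L) le_rfl hunit x).symm
  let j : Ω →ₐ[p.ResidueField] L := IsAlgClosed.lift
  -- the normalization of `A / p` in the algebraic closure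
  haveI : Algebra.IsAlgebraic (A ⧸ p) Ω := IsFractionRing.comap_isAlgebraic_iff.mpr
    (inferInstance : Algebra.IsAlgebraic p.ResidueField Ω)
  let N := integralClosure (A ⧸ p) Ω
  haveI : IsFractionRing N Ω := integralClosure.isFractionRing_of_algebraic fun x hx => by
    rw [IsScalarTower.algebraMap_apply (A ⧸ p) p.ResidueField Ω] at hx
    exact IsFractionRing.to_map_eq_zero_iff.1 ((map_eq_zero _).1 hx)
  haveI : IsIntegrallyClosed N := (isIntegrallyClosed_iff_isIntegrallyClosedIn Ω).2
    (isIntegrallyClosedIn_iff.2 ⟨Subtype.val_injective, fun {x} hx => ⟨⟨x, isIntegral_trans x hx⟩, rfl⟩⟩)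
  haveI hintN : Algebra.IsIntegral A N := Algebra.IsIntegral.trans (A ⧸ p)
  haveI : IsLocalRing N := isLocalRing_of_integral_domain (A := A) N
  -- its base change is local
  letI : Algebra B (N ⊗[A] B) := Algebra.TensorProduct.rightAlgebra
  haveI : Algebra.IsIntegral B (N ⊗[A] B) := by
    refine ⟨fun z => ?_⟩
    induction z using TensorProduct.induction_on with
    | zero => exact isIntegral_zero
    | add z w hz hw => exact hz.add hw
    | tmul x b =>
      have : x ⊗ₜ[A] b = algebraMap B (N ⊗[A] B) b * (x ⊗ₜ[A] 1) := by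
        show _ = ((1 : N) ⊗ₜ[A] b) * _
        simp
      rw [this]
      refine isIntegral_algebraMap.mul ?_
      obtain ⟨P, hP, hPx⟩ := hintN.isIntegral x
      refine ⟨P.map (algebraMap A B), hP.map _, ?_⟩
      rw [Polynomial.eval₂_map]
      have h2 := congrArg (Algebra.TensorProduct.includeLeft (R := A) (S := A) (A := N) (B := B)).toRingHom hPx
      rw [map_zero, Polynomial.hom_eval₂] at h2
      refine Eq.trans (congrArg (fun φ => Polynomial.eval₂ φ _ P) (RingHom.ext fun a => ?_)) h2
      show (1 : N) ⊗ₜ[A] algebraMap A B a = algebraMap A N a ⊗ₜ[A] (1 : B)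
      rw [Algebra.algebraMap_eq_smul_one, Algebra.algebraMap_eq_smul_one, TensorProduct.smul_tmul]
  have hcomm : ∀ a : A, algebraMap N (N ⊗[A] B) (algebraMap A N a) =
      algebraMap B (N ⊗[A] B) (algebraMap A B a) := by
    intro a
    show algebraMap A N a ⊗ₜ[A] (1 : B) = (1 : N) ⊗ₜ[A] algebraMap A B a
    rw [Algebra.algebraMap_eq_smul_one, Algebra.algebraMap_eq_smul_one, TensorProduct.smul_tmul]
  have hmB : ∀ (M : Ideal (N ⊗[A] B)), M.IsMaximal →
      M.comap (algebraMap B (N ⊗[A] B)) = maximalIdeal B := fun M hM =>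
    haveI := hM
    eq_maximalIdeal (Ideal.isMaximal_comap_of_isIntegral_of_isMaximal M)
  have hmN : ∀ (M : Ideal (N ⊗[A] B)), M.IsMaximal →
      M.comap (algebraMap N (N ⊗[A] B)) = maximalIdeal N := by
    intro M hM
    haveI := hM
    refine eq_maximalIdeal (Ideal.isMaximal_of_isIntegral_of_isMaximal_comap (R := A) _ ?_)
    have : (M.comap (algebraMap N (N ⊗[A] B))).comap (algebraMap A N) = maximalIdeal A := by
      rw [Ideal.comap_comap, show (algebraMap N (N ⊗[A] B)).comp (algebraMap A N) =
        (algebraMap B (N ⊗[A] B)).comp (algebraMap A B) from RingHom.ext hcomm, ← Ideal.comap_comap, hmB M hM]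
      exact IsLocalRing.maximalIdeal_comap (algebraMap A B)
    rw [this]
    infer_instance
  have hrep : ∀ y : N ⊗[A] B, ∃ x : N, ∀ M : Ideal (N ⊗[A] B), M.IsMaximal →
      y - x ⊗ₜ[A] (1 : B) ∈ M := by
    intro y
    induction y using TensorProduct.induction_on with
    | zero => exact ⟨0, fun M _ => by simp⟩
    | add z w hz hw =>
      obtain ⟨x₁, h1⟩ := hz
      obtain ⟨x₂, h2⟩ := hw
      refine ⟨x₁ + x₂, fun M hM => ?_⟩
      rw [TensorProduct.add_tmul, add_sub_add_comm]
      exact Ideal.add_mem _ (h1 M hM) (h2 M hM)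
    | tmul x b =>
      obtain ⟨a, ha⟩ := exists_residue_rep (A := A) b
      refine ⟨a • x, fun M hM => ?_⟩
      have h3 : x ⊗ₜ[A] b - (a • x) ⊗ₜ[A] (1 : B) =
          (x ⊗ₜ[A] (1 : B)) * algebraMap B (N ⊗[A] B) (b - algebraMap A B a) := by
        show _ = (x ⊗ₜ[A] (1 : B)) * ((1 : N) ⊗ₜ[A] (b - algebraMap A B a))
        rw [Algebra.TensorProduct.tmul_mul_tmul, mul_one, one_mul, TensorProduct.tmul_sub,
          TensorProduct.smul_tmul, Algebra.algebraMap_eq_smul_one]
      rw [h3]
      exact Ideal.mul_mem_left _ _ ((hmB M hM).ge ha)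
  haveI : Module.FaithfullyFlat A B := Module.FaithfullyFlat.of_flat_of_isLocalHom
  haveI : Nontrivial (N ⊗[A] B) := inferInstance
  haveI : IsLocalRing (N ⊗[A] B) := IsLocalRing.of_unique_max_ideal (by
    obtain ⟨M, hM⟩ := Ideal.exists_maximal (N ⊗[A] B)
    refine ⟨M, hM, fun M' hM' => hM'.eq_of_le hM.ne_top fun y hy => ?_⟩
    obtain ⟨x, hx⟩ := hrep y
    have hxm : x ∈ maximalIdeal N := (hmN M' hM').le (by
      show x ⊗ₜ[A] (1 : B) ∈ M'
      simpa using M'.sub_mem hy (hx M' hM'))
    have hxM : x ⊗ₜ[A] (1 : B) ∈ M := (hmN M hM).ge hxm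
    simpa using M.add_mem (hx M hM) hxM)
  obtain ⟨hdom, -⟩ := normalDomain_of_weaklyEtale N (N ⊗[A] B)
  haveI := hdom
  -- the two points give injective maps of that domain
  let jN : N →ₐ[A] L := ((j.restrictScalars A).comp (IsScalarTower.toAlgHom A N Ω))
  let F : (B →ₐ[A] L) → (N ⊗[A] B →ₐ[A] L) := fun h =>
    Algebra.TensorProduct.lift jN h fun _ _ => Commute.all _ _
  have hjN : Function.Injective jN := fun x y h => IsFractionRing.injective N Ω (j.toRingHom.injective h)
  have hinjN : Function.Injective (algebraMap N (N ⊗[A] B)) := by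
    intro x y hxy
    exact hjN (by simpa [F] using congrArg (F f) hxy)
  have hinj : Function.Injective (F f) := by
    haveI : (RingHom.ker (F f)).IsPrime := RingHom.ker_isPrime (F f)
    refine (RingHom.injective_iff_ker_eq_bot _).2 (WEt.eq_of_le_of_comap_eq (A := N) bot_le ?_).symm
    refine SetLike.ext fun x => ?_
    rw [Ideal.mem_comap, Ideal.mem_comap, Ideal.mem_bot, RingHom.mem_ker]
    refine ⟨fun h => by rw [h, map_zero], fun h => ?_⟩
    rw [map_eq_zero_iff _ hinjN]
    refine (map_eq_zero_iff jN hjN).1 ?_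
    simpa [F] using h
  refine AlgHom.ext fun b => ?_
  -- `b` satisfies a split equation over the algebraically closed field
  letI : Algebra A Ω := inferInstance
  haveI := WEt.isIntegral_of_weaklyEtale (K := Ω) (B := Ω ⊗[A] B)
  obtain ⟨P, hP, hPb⟩ := Algebra.IsIntegral.isIntegral (R := Ω) ((1 : Ω) ⊗ₜ[A] b)
  let toL : Ω ⊗[A] B →ₐ[A] L := Algebra.TensorProduct.lift (j.restrictScalars A) f fun _ _ => Commute.all _ _
  have hroot : Polynomial.eval₂ j.toRingHom (f b) P = 0 := by
    have h2 := congrArg toL.toRingHom hPb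
    rw [map_zero, Polynomial.hom_eval₂] at h2
    refine Eq.trans ?_ h2
    congr 1
    · exact RingHom.ext fun w => by simp [toL]
    · simp [toL]
  obtain ⟨w, -, hw⟩ : ∃ w : Ω, P.eval w = 0 ∧ j w = f b := by
    have hsplit : P.Splits := IsAlgClosed.splits P
    rw [Polynomial.eval₂_eq_eval_map] at hroot
    have hmem : f b ∈ (P.map j.toRingHom).roots :=
      (Polynomial.mem_roots ((hP.map _).ne_zero)).2 hroot
    rw [hsplit.roots_map, Multiset.mem_map] at hmem
    obtain ⟨w, hw, hwf⟩ := hmem
    exact ⟨w, (Polynomial.mem_roots hP.ne_zero).1 hw, hwf⟩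
  obtain ⟨⟨n, d⟩, hnd⟩ := IsLocalization.surj (nonZeroDivisors N) w
  have hy : algebraMap N (N ⊗[A] B) d * ((1 : N) ⊗ₜ[A] b) = algebraMap N (N ⊗[A] B) n := by
    refine hinj ?_
    have h2 : j (algebraMap N Ω d) * f b = j (algebraMap N Ω n) := by
      rw [← hw, ← map_mul, mul_comm, hnd]
    simpa [F, jN] using h2
  have hg := congrArg (F g) hy
  have hd : jN d ≠ 0 := (map_ne_zero_iff jN hjN).2 (nonZeroDivisors.coe_ne_zero d)
  have hf := congrArg (F f) hy
  refine mul_left_cancel₀ hd ?_
  calc jN d * f b = jN n := by simpa [F] using hf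
    _ = jN d * g b := by simpa [F] using hg.symm

/-- Olivier's theorem. -/
theorem bijective : Function.Bijective (algebraMap A B) := by
  haveI : Module.FaithfullyFlat A B := Module.FaithfullyFlat.of_flat_of_isLocalHom
  let μ : B ⊗[A] B →ₐ[A] B := Algebra.TensorProduct.lmul' A
  let I : Ideal (B ⊗[A] B) := RingHom.ker μ.toRingHom
  have hμ : Function.Surjective μ := fun b => ⟨b ⊗ₜ 1, by simp [μ]⟩
  haveI : I.Pure := by
    have hflat : μ.toRingHom.Flat := Algebra.WeaklyEtale.flat_lmul' A B
    algebraize [μ.toRingHom]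
    exact Module.Flat.of_linearEquiv
      (Ideal.quotientKerAlgEquivOfSurjective (f := Algebra.ofId (B ⊗[A] B) B) hμ).toLinearEquiv
  haveI : (⊥ : Ideal (B ⊗[A] B)).Pure :=
    Ideal.Pure.of_isIdempotentElem Submodule.fg_bot (Ideal.bot_mul _)
  have hI : I = ⊥ := by
    rw [← Ideal.zeroLocus_inj_of_pure, Set.eq_univ_of_forall (s := PrimeSpectrum.zeroLocus (I : Set (B ⊗[A] B))) ?_]
    · simp
    intro P
    let L := P.asIdeal.ResidueField
    let ψ : B ⊗[A] B →ₐ[A] L := IsScalarTower.toAlgHom A _ L
    have h1 := algHom_field_unique (A := A) (ψ.comp Algebra.TensorProduct.includeLeft)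
      (ψ.comp Algebra.TensorProduct.includeRight)
    have h2 : ψ = (ψ.comp Algebra.TensorProduct.includeLeft).comp μ := by
      refine Algebra.TensorProduct.ext' fun x y => ?_
      have : x ⊗ₜ[A] y = (x ⊗ₜ[A] (1 : B)) * ((1 : B) ⊗ₜ[A] y) := by simp
      rw [this, map_mul, map_mul]
      simp only [AlgHom.comp_apply, μ]
      have h3 := AlgHom.congr_fun h1 y
      simp only [AlgHom.comp_apply, Algebra.TensorProduct.includeLeft_apply,
        Algebra.TensorProduct.includeRight_apply] at h3
      rw [← h3]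
      simp
    intro z hz
    have hz0 : μ z = 0 := hz
    have hzψ : algebraMap (B ⊗[A] B) L z = 0 := by
      have := AlgHom.congr_fun h2 z
      rw [AlgHom.comp_apply, hz0, map_zero] at this
      exact this
    exact Ideal.algebraMap_residueField_eq_zero.1 hzψ
  have hinj : Function.Injective μ := (RingHom.injective_iff_ker_eq_bot μ.toRingHom).2 hI
  have hsurj : Function.Surjective (Algebra.linearMap A B) := by
    rw [← Module.FaithfullyFlat.lTensor_surjective_iff_surjective A B]
    intro z
    refine ⟨μ z ⊗ₜ[A] (1 : A), hinj ?_⟩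
    simp [μ]
  exact ⟨FaithfulSMul.algebraMap_injective A B, hsurj⟩

end Groth.Agent.HenselLib.Olivier
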