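import Groth.Agent.HenselLib.Unique
import Mathlib.RingTheory.Etale.StandardEtale
import Mathlib.RingTheory.TensorProduct.Maps
import Mathlib.Algebra.Category.Ring.Colimits
import Mathlib.Algebra.Category.Ring.FilteredColimits
import Mathlib.CategoryTheory.Limits.ConcreteCategory.Basic
import Mathlib.CategoryTheory.Filtered.Basic

/-!
# The universal henselian ring of pointed etale algebras

For an `R`-algebra `K`, the colimit `Hull R K` of all etale `R`-algebras `A` with a map `A →ₐ[R] K`.
For `K = R ⧸ I` this is the henselization of the pair `(R, I)`, for `K` a separable closure of the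
residue field of a local ring it is the strict henselization.
-/

set_option autoImplicit false

namespace Groth.Agent.HenselLib

open CategoryTheory Limits
open scoped TensorProduct

universe u

variable (R K : Type u) [CommRing R] [CommRing K] [Algebra R K]

/-- An etale algebra, given by generators and relations, with a point in `K`. -/
structure Pt where
  /-- number of generators -/
  n : ℕ
  /-- relations -/
  rel : Ideal (MvPolynomial (Fin n) R)
  etale : Algebra.Etale R (MvPolynomial (Fin n) R ⧸ rel)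
  /-- the point -/
  pt : (MvPolynomial (Fin n) R ⧸ rel) →ₐ[R] K

variable {R K}

/-- The algebra underlying a pointed etale algebra. -/
abbrev Pt.Ring (P : Pt R K) : Type u := MvPolynomial (Fin P.n) R ⧸ P.rel

instance (P : Pt R K) : Algebra.Etale R P.Ring := P.etale

/-- Every pointed etale algebra is isomorphic to one given by generators and relations. -/
theorem Pt.exists_equiv (A : Type u) [CommRing A] [Algebra R A] [Algebra.Etale R A]
    (σ : A →ₐ[R] K) :
    ∃ (P : Pt R K) (e : P.Ring ≃ₐ[R] A), ∀ x, σ (e x) = P.pt x := by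
  obtain ⟨n, f, hf, hfg⟩ := Algebra.FinitePresentation.out (R := R) (A := A)
  have e : (MvPolynomial (Fin n) R ⧸ RingHom.ker f) ≃ₐ[R] A :=
    Ideal.quotientKerAlgEquivOfSurjective hf
  have : Algebra.Etale R (MvPolynomial (Fin n) R ⧸ RingHom.ker f) := Algebra.Etale.of_equiv e.symm
  exact ⟨⟨n, RingHom.ker f, this, σ.comp e.toAlgHom⟩, e, fun x => rfl⟩

/-- Morphisms of pointed etale algebras. -/
@[ext]
structure Pt.Hom (P Q : Pt R K) where
  /-- the algebra map -/
  map : P.Ring →ₐ[R] Q.Ring
  comm : Q.pt.comp map = P.pt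

noncomputable instance : SmallCategory (Pt R K) where
  Hom := Pt.Hom
  id P := ⟨AlgHom.id R P.Ring, AlgHom.comp_id _⟩
  comp f g := ⟨g.map.comp f.map, by rw [← AlgHom.comp_assoc, g.comm, f.comm]⟩

theorem Pt.comp_map {P Q S : Pt R K} (f : P ⟶ Q) (g : Q ⟶ S) :
    (f ≫ g).map = g.map.comp f.map := rfl

theorem Pt.pt_map {P Q : Pt R K} (f : P ⟶ Q) (x : P.Ring) : Q.pt (f.map x) = P.pt x :=
  congr($(f.comm) x)

/-- The trivial pointed algebra. -/
theorem exists_base : ∃ P : Pt R K, Function.Bijective (algebraMap R P.Ring) := by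
  obtain ⟨P, e, -⟩ := Pt.exists_equiv R (Algebra.ofId R K)
  refine ⟨P, ?_⟩
  convert e.symm.bijective using 1
  funext r
  exact (e.symm.commutes r).symm

/-- Morphism to a pointed etale algebra given abstractly. -/
theorem Pt.exists_hom (P : Pt R K) {A : Type u} [CommRing A] [Algebra R A] [Algebra.Etale R A]
    (σ : A →ₐ[R] K) (f : P.Ring →ₐ[R] A) (hf : σ.comp f = P.pt) :
    ∃ (Q : Pt R K) (g : P ⟶ Q) (e : Q.Ring ≃ₐ[R] A),
      (∀ x, σ (e x) = Q.pt x) ∧ g.map = e.symm.toAlgHom.comp f := by
  obtain ⟨Q, e, he⟩ := Pt.exists_equiv A σ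
  refine ⟨Q, ⟨e.symm.toAlgHom.comp f, AlgHom.ext fun x => ?_⟩, e, he, rfl⟩
  show Q.pt (e.symm (f x)) = P.pt x
  rw [← he, e.apply_symm_apply]
  exact congr($hf x)

instance : IsFiltered (Pt R K) where
  cocone_objs P Q := by
    let σ : P.Ring ⊗[R] Q.Ring →ₐ[R] K :=
      Algebra.TensorProduct.lift P.pt Q.pt fun _ _ => Commute.all _ _
    have : Algebra.Etale R (P.Ring ⊗[R] Q.Ring) :=
      Algebra.Etale.comp R P.Ring (P.Ring ⊗[R] Q.Ring)
    obtain ⟨S, g, e, he, -⟩ := P.exists_hom (A := P.Ring ⊗[R] Q.Ring) σ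
      (Algebra.TensorProduct.includeLeft : P.Ring →ₐ[R] P.Ring ⊗[R] Q.Ring)
      (AlgHom.ext fun x => by simp [σ])
    refine ⟨S, g, ⟨e.symm.toAlgHom.comp Algebra.TensorProduct.includeRight,
      AlgHom.ext fun x => ?_⟩, trivial⟩
    show S.pt (e.symm ((1 : P.Ring) ⊗ₜ[R] x)) = Q.pt x
    rw [← he, e.apply_symm_apply]
    simp [σ]
  cocone_maps P Q f g := by
    set J := RingHom.ker (Algebra.TensorProduct.lmul' R : P.Ring ⊗[R] P.Ring →ₐ[R] P.Ring) with hJ
    obtain ⟨t, ht, htJ⟩ :=
      (Ideal.isIdempotentElem_iff_of_fg _ (KaehlerDifferential.ideal_fg R P.Ring)).mp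
        ((Ideal.cotangent_subsingleton_iff _).mp
          Algebra.FormallyUnramified.subsingleton_kaehlerDifferential)
    let Φ : P.Ring ⊗[R] P.Ring →ₐ[R] Q.Ring :=
      Algebra.TensorProduct.lift f.map g.map fun _ _ => Commute.all _ _
    have hpt : Q.pt.comp Φ = P.pt.comp (Algebra.TensorProduct.lmul' R) := by
      refine Algebra.TensorProduct.ext' fun x y => ?_
      simp [Φ, Pt.pt_map f, Pt.pt_map g]
    have htker : Algebra.TensorProduct.lmul' R t = 0 := by
      rw [← RingHom.mem_ker, show RingHom.ker (Algebra.TensorProduct.lmul' R) = _ from htJ]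
      exact Ideal.mem_span_singleton_self t
    have hu : IsUnit (Q.pt (1 - Φ t)) := by
      have h1 : Q.pt (Φ t) = 0 := by
        have h2 := congr($hpt t); simpa [htker] using h2
      simp [h1]
    have : Algebra.Etale R (Localization.Away (1 - Φ t)) :=
      Algebra.Etale.comp R Q.Ring _
    let σ : Localization.Away (1 - Φ t) →ₐ[R] K :=
      IsLocalization.Away.liftAlgHom (1 - Φ t) (f := Q.pt) hu
    obtain ⟨S, h, e, -, hmap⟩ := Q.exists_hom σ
      (IsScalarTower.toAlgHom R Q.Ring (Localization.Away (1 - Φ t)))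
      (AlgHom.ext fun x => by
        simp [σ])
    refine ⟨S, h, Pt.Hom.ext (AlgHom.ext fun x => ?_)⟩
    show h.map (f.map x) = h.map (g.map x)
    rw [hmap]
    show e.symm (algebraMap Q.Ring _ (f.map x)) = e.symm (algebraMap Q.Ring _ (g.map x))
    congr 1
    have hx : x ⊗ₜ[R] (1 : P.Ring) - 1 ⊗ₜ[R] x ∈
        RingHom.ker (Algebra.TensorProduct.lmul' R : P.Ring ⊗[R] P.Ring →ₐ[R] P.Ring) := by simp
    rw [show RingHom.ker (Algebra.TensorProduct.lmul' R) = _ from htJ] at hx
    obtain ⟨c, hc⟩ := Ideal.mem_span_singleton.mp hx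
    have h3 : f.map x - g.map x = Φ t * Φ c := by
      rw [← map_mul, ← hc]; simp [Φ]
    rw [← sub_eq_zero, ← map_sub, h3, IsLocalization.map_eq_zero_iff (Submonoid.powers (1 - Φ t))]
    refine ⟨⟨1 - Φ t, Submonoid.mem_powers _⟩, ?_⟩
    have h4 := (ht.map Φ).eq
    linear_combination (-Φ c) * h4
  nonempty := ⟨(exists_base (R := R) (K := K)).choose⟩

variable (R K)

/-- The functor of underlying rings. -/
noncomputable def hullDiagram : Pt R K ⥤ CommRingCat.{u} where
  obj P := CommRingCat.of P.Ring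
  map f := CommRingCat.ofHom f.map.toRingHom
  map_id _ := rfl
  map_comp _ _ := rfl

/-- The colimit of all pointed etale algebras. -/
noncomputable def Hull : Type u := (colimit (hullDiagram R K) : CommRingCat.{u})

noncomputable instance : CommRing (Hull R K) :=
  inferInstanceAs (CommRing (colimit (hullDiagram R K) : CommRingCat.{u}))

variable {R K}

/-- The structure maps of the colimit, as ring maps. -/
noncomputable def ιRing (P : Pt R K) : P.Ring →+* Hull R K :=
  (colimit.ι (hullDiagram R K) P).hom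

theorem ιRing_map {P Q : Pt R K} (f : P ⟶ Q) (x : P.Ring) :
    ιRing Q (f.map x) = ιRing P x :=
  congr($(colimit.w (hullDiagram R K) f).hom x)

theorem ιRing_algebraMap (P Q : Pt R K) (r : R) :
    ιRing P (algebraMap R P.Ring r) = ιRing Q (algebraMap R Q.Ring r) := by
  obtain ⟨S, f, g, -⟩ := IsFilteredOrEmpty.cocone_objs P Q
  rw [← ιRing_map f, ← ιRing_map g, f.map.commutes, g.map.commutes]

variable (R K) in
/-- The structure map of the hull. -/
noncomputable def hullAlgebraMap : R →+* Hull R K :=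
  (ιRing (exists_base (R := R) (K := K)).choose).comp (algebraMap R _)

noncomputable instance : Algebra R (Hull R K) := (hullAlgebraMap R K).toAlgebra

/-- The canonical map from a pointed etale algebra. -/
noncomputable def ι (P : Pt R K) : P.Ring →ₐ[R] Hull R K :=
  { ιRing P with commutes' := fun r => ιRing_algebraMap P _ r }

theorem ι_map {P Q : Pt R K} (f : P ⟶ Q) (x : P.Ring) : ι Q (f.map x) = ι P x := ιRing_map f x

theorem exists_rep (h : Hull R K) : ∃ (P : Pt R K) (x : P.Ring), ι P x = h :=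
  Concrete.colimit_exists_rep (hullDiagram R K) h

theorem exists_eq_iff {P Q : Pt R K} (x : P.Ring) (y : Q.Ring) :
    ι P x = ι Q y ↔ ∃ (S : Pt R K) (f : P ⟶ S) (g : Q ⟶ S), f.map x = g.map y :=
  Concrete.colimit_rep_eq_iff_exists (hullDiagram R K) x y

theorem exists_eq_zero_iff {P : Pt R K} (x : P.Ring) :
    ι P x = 0 ↔ ∃ (S : Pt R K) (f : P ⟶ S), f.map x = 0 := by
  constructor
  · intro h
    rw [← map_zero (ι P)] at h
    obtain ⟨S, f, g, hfg⟩ := (exists_eq_iff x 0).mp h
    exact ⟨S, f, by rw [hfg, map_zero]⟩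
  · rintro ⟨S, f, hf⟩
    rw [← ι_map f, hf, map_zero]

/-- Two elements of the hull come from a common stage. -/
theorem exists_rep₂ (h h' : Hull R K) :
    ∃ (P : Pt R K) (x y : P.Ring), ι P x = h ∧ ι P y = h' := by
  obtain ⟨P, x, rfl⟩ := exists_rep h
  obtain ⟨Q, y, rfl⟩ := exists_rep h'
  obtain ⟨S, f, g, -⟩ := IsFilteredOrEmpty.cocone_objs P Q
  exact ⟨S, f.map x, g.map y, ι_map f x, ι_map g y⟩

/-- The cocone given by the points. -/
noncomputable def pointCocone : Cocone (hullDiagram R K) where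
  pt := CommRingCat.of K
  ι := { app := fun P => CommRingCat.ofHom P.pt.toRingHom
         naturality := fun P Q f => CommRingCat.hom_ext (congrArg AlgHom.toRingHom f.comm) }

theorem colimit_desc_ι (c : Cocone (hullDiagram R K)) (P : Pt R K) (x : P.Ring) :
    (colimit.desc (hullDiagram R K) c).hom (ι P x) = (c.ι.app P).hom x :=
  congr($(colimit.ι_desc c P).hom x)

variable (R K) in
/-- The point of the hull. -/
noncomputable def hullPt : Hull R K →ₐ[R] K :=
  { (colimit.desc (hullDiagram R K) pointCocone).hom with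
    commutes' := fun r =>
      (colimit_desc_ι pointCocone _ (algebraMap R _ r)).trans
        ((exists_base (R := R) (K := K)).choose.pt.commutes r) }

theorem hullPt_ι (P : Pt R K) (x : P.Ring) : hullPt R K (ι P x) = P.pt x :=
  colimit_desc_ι pointCocone P x

theorem hullPt_comp_ι (P : Pt R K) : (hullPt R K).comp (ι P) = P.pt :=
  AlgHom.ext fun x => hullPt_ι P x

theorem hull_hom_ext {C : Type u} [CommRing C] {f g : Hull R K →+* C}
    (h : ∀ P : Pt R K, ∀ x, f (ι P x) = g (ι P x)) : f = g := by
  refine RingHom.ext fun a => ?_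
  obtain ⟨P, x, rfl⟩ := exists_rep a
  exact h P x

theorem exists_map_of_etale {A : Type u} [CommRing A] [Algebra R A] [Algebra.Etale R A]
    (σ : A →ₐ[R] K) : ∃ f : A →ₐ[R] Hull R K, (hullPt R K).comp f = σ := by
  obtain ⟨P, e, he⟩ := Pt.exists_equiv A σ
  refine ⟨(ι P).comp e.symm.toAlgHom, AlgHom.ext fun a => ?_⟩
  show hullPt R K (ι P (e.symm a)) = σ a
  rw [hullPt_ι, ← he, e.apply_symm_apply]

theorem isUnit_of_isUnit_hullPt {h : Hull R K} (hu : IsUnit (hullPt R K h)) : IsUnit h := by
  obtain ⟨P, x, rfl⟩ := exists_rep h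
  rw [hullPt_ι] at hu
  have : Algebra.Etale R (Localization.Away x) := Algebra.Etale.comp R P.Ring _
  let σ : Localization.Away x →ₐ[R] K := IsLocalization.Away.liftAlgHom x (f := P.pt) hu
  obtain ⟨Q, g, e, -, hmap⟩ := P.exists_hom σ (IsScalarTower.toAlgHom R P.Ring (Localization.Away x))
    (AlgHom.ext fun y => by simp [σ])
  rw [← ι_map g, hmap]
  exact ((IsLocalization.Away.algebraMap_isUnit (S := Localization.Away x) x).map e.symm).map (ι Q)

theorem ker_hullPt_le_jacobson : RingHom.ker (hullPt R K) ≤ Ideal.jacobson ⊥ := fun h hh =>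
  Ideal.mem_jacobson_bot.mpr fun y => isUnit_of_isUnit_hullPt (by
    rw [map_add, map_mul, show hullPt R K h = 0 from hh, zero_mul, zero_add, map_one]
    exact isUnit_one)

/-- Monic polynomials over the hull come from some stage. -/
theorem exists_monic_rep (f : Polynomial (Hull R K)) (hf : f.Monic) :
    ∃ (P : Pt R K) (g : Polynomial P.Ring), g.Monic ∧ g.map (ι P).toRingHom = f := by
  classical
  have hrep : ∀ s : Finset (Hull R K), ∃ P : Pt R K, ∀ h ∈ s, ∃ x : P.Ring, ι P x = h := by
    intro s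
    induction s using Finset.induction_on with
    | empty => exact ⟨(exists_base (R := R) (K := K)).choose, by simp⟩
    | insert a s _ ih =>
        obtain ⟨P, hP⟩ := ih
        obtain ⟨Q, y, rfl⟩ := exists_rep a
        obtain ⟨S, f', g', -⟩ := IsFilteredOrEmpty.cocone_objs P Q
        refine ⟨S, fun h hh => ?_⟩
        rcases Finset.mem_insert.mp hh with rfl | hh
        · exact ⟨g'.map y, ι_map g' y⟩
        · obtain ⟨x, rfl⟩ := hP h hh
          exact ⟨f'.map x, ι_map f' x⟩
  obtain ⟨P, hP⟩ := hrep ((Finset.range (f.natDegree + 1)).image f.coeff)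
  have hlift : f ∈ Polynomial.lifts (ι P).toRingHom := by
    rw [Polynomial.lifts_iff_coeff_lifts]
    intro n
    by_cases hn : n ≤ f.natDegree
    · obtain ⟨x, hx⟩ := hP (f.coeff n) (Finset.mem_image.mpr ⟨n, by simp; omega, rfl⟩)
      exact ⟨x, hx⟩
    · exact ⟨0, by rw [map_zero, Polynomial.coeff_eq_zero_of_natDegree_lt (by omega)]⟩
  obtain ⟨g, hg, -, hgm⟩ := Polynomial.lifts_and_natDegree_eq_and_monic hlift hf
  exact ⟨P, g, hgm, hg⟩

instance henselianRing_hull : HenselianRing (Hull R K) (RingHom.ker (hullPt R K)) := by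
  refine ⟨ker_hullPt_le_jacobson, fun f hf a₀ h0 h1 => ?_⟩
  obtain ⟨P, g, hg, rfl⟩ := exists_monic_rep f hf
  obtain ⟨Q, x, rfl⟩ := exists_rep a₀
  obtain ⟨S, p, q, -⟩ := IsFilteredOrEmpty.cocone_objs P Q
  set G := g.map p.map.toRingHom with hG
  have hGm : G.Monic := hg.map _
  have hmap : g.map (ι P).toRingHom = G.map (ι S).toRingHom := by
    rw [hG, Polynomial.map_map]; congr 1; exact RingHom.ext fun y => (ι_map p y).symm
  have hev : ∀ F : Polynomial S.Ring,
      (F.map (ι S).toRingHom).eval (ι Q x) = ι S (F.eval (q.map x)) := fun F => by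
    rw [← ι_map q x]
    exact (Polynomial.eval_map _ _).trans (Polynomial.eval₂_at_apply _ _)
  rw [hmap, hev, RingHom.mem_ker, hullPt_ι] at h0
  have h1' := isUnit_of_isUnit_mk ker_hullPt_le_jacobson h1
  rw [hmap, Polynomial.derivative_map, hev] at h1'
  have h2 : IsUnit (S.pt (G.derivative.eval (q.map x))) := by
    rw [← hullPt_ι]; exact h1'.map _
  let E : StandardEtalePair S.Ring :=
    { f := G, monic_f := hGm, g := Polynomial.derivative G, cond := ⟨1, 0, 1, by ring⟩ }
  algebraize [S.pt.toRingHom]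
  have : IsScalarTower R S.Ring K :=
    IsScalarTower.of_algHom S.pt
  have hE : E.HasMap (algebraMap S.Ring K (q.map x)) := by
    refine ⟨?_, ?_⟩ <;> rw [Polynomial.aeval_algebraMap_apply_eq_algebraMap_eval]
    · exact h0
    · exact h2
  let τ : E.Ring →ₐ[S.Ring] K := E.lift _ hE
  let : Algebra R E.Ring := ((algebraMap S.Ring E.Ring).comp (algebraMap R S.Ring)).toAlgebra
  have : IsScalarTower R S.Ring E.Ring :=
    IsScalarTower.of_algebraMap_eq (R := R) (S := S.Ring) (A := E.Ring) fun _ => rfl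
  have : Algebra.Etale R E.Ring := Algebra.Etale.comp R S.Ring E.Ring
  obtain ⟨T, c, e, he, hc⟩ := S.exists_hom (τ.restrictScalars R)
    (IsScalarTower.toAlgHom R S.Ring E.Ring) (AlgHom.ext fun y => τ.commutes y)
  refine ⟨ι T (e.symm E.X), ?_, ?_⟩
  · rw [Polynomial.IsRoot, hmap]
    have h3 : (ι S).toRingHom = (ι T).toRingHom.comp (c.map.toRingHom) :=
      RingHom.ext fun y => (ι_map c y).symm
    rw [h3, ← Polynomial.map_map, Polynomial.eval_map]
    refine (Polynomial.eval₂_at_apply _ _).trans ?_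
    have h4 : (G.map c.map.toRingHom).eval (e.symm E.X) = 0 := by
      rw [hc, Polynomial.eval_map]
      have h5 : Polynomial.aeval E.X G = 0 := E.hasMap_X.1
      rw [Polynomial.aeval_def] at h5
      have := congrArg e.symm h5
      rw [map_zero] at this
      rw [← this]
      exact (Polynomial.hom_eval₂ G (algebraMap S.Ring E.Ring) e.symm.toAlgHom.toRingHom E.X).symm
    show ι T _ = 0
    rw [h4, map_zero]
  · rw [RingHom.mem_ker, map_sub, hullPt_ι, hullPt_ι, ← he, e.apply_symm_apply]
    show τ E.X - Q.pt x = 0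
    rw [show τ E.X = _ from E.lift_X _ hE, sub_eq_zero, ← Pt.pt_map q]
    rfl

/-- The universal property of the hull. -/
theorem hull_universal {C : Type u} [CommRing C] [Algebra R C] (J : Ideal C) [hJ : HenselianRing C J]
    (τ : K →ₐ[R] C ⧸ J) :
    ∃! g : Hull R K →ₐ[R] C, (Ideal.Quotient.mkₐ R J).comp g = τ.comp (hullPt R K) := by
  choose g hg hguniq using fun P : Pt R K => existsUnique_lift J (τ.comp P.pt)
  let c : Cocone (hullDiagram R K) :=
    { pt := CommRingCat.of C
      ι := { app := fun P => CommRingCat.ofHom (g P).toRingHom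
             naturality := fun P Q f => by
              refine CommRingCat.hom_ext (RingHom.ext fun x => ?_)
              have hgQ : (Ideal.Quotient.mkₐ R J).comp (g Q) = τ.comp Q.pt := hg Q
              have : (g Q).comp f.map = g P := hguniq P _ (by
                show (Ideal.Quotient.mkₐ R J).comp ((g Q).comp f.map) = τ.comp P.pt
                rw [← AlgHom.comp_assoc, hgQ, AlgHom.comp_assoc, f.comm])
              exact congr($this x) } }
  let G : Hull R K →ₐ[R] C :=
    { (colimit.desc (hullDiagram R K) c).hom with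
      commutes' := fun r => (colimit_desc_ι c _ _).trans ((g _).commutes r) }
  have hG : ∀ P x, G (ι P x) = g P x := fun P x => colimit_desc_ι c P x
  refine ⟨G, AlgHom.ext fun a => ?_, fun G' hG' => AlgHom.ext fun a => ?_⟩
  · obtain ⟨P, x, rfl⟩ := exists_rep a
    simp only [AlgHom.comp_apply, hG, hullPt_ι]
    exact congr($(hg P) x)
  · obtain ⟨P, x, rfl⟩ := exists_rep a
    have : G'.comp (ι P) = g P := hguniq P _ (by
      show (Ideal.Quotient.mkₐ R J).comp (G'.comp (ι P)) = τ.comp P.pt
      rw [← AlgHom.comp_assoc, hG', AlgHom.comp_assoc, hullPt_comp_ι])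
    rw [hG, ← this]
    rfl

end Groth.Agent.HenselLib
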