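import Groth.Agent.HenselLib.Local
import Mathlib.RingTheory.Polynomial.Basic

/-!
# Polynomials over local rings and their reductions
-/

set_option autoImplicit false

open Polynomial

namespace Groth.Agent.HenselLib

universe u

variable {A : Type u} [CommRing A]

theorem mk_mem_map_of_map_eq_zero (I : Ideal A) (f : A[X]) {z : A[X]}
    (hz : z.map (Ideal.Quotient.mk I) = 0) :
    AdjoinRoot.mk f z ∈ I.map (algebraMap A (AdjoinRoot f)) := by
  have h1 : z ∈ I.map (C : A →+* A[X]) := Ideal.mem_map_C_iff.mpr fun n => by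
    rw [← Ideal.Quotient.eq_zero_iff_mem, ← coeff_map, hz, coeff_zero]
  have h2 := Ideal.mem_map_of_mem (AdjoinRoot.mk f) h1
  rwa [Ideal.map_map] at h2

theorem dvd_map_of_mk_mem (I : Ideal A) (f : A[X]) {z : A[X]}
    (hz : AdjoinRoot.mk f z ∈ I.map (algebraMap A (AdjoinRoot f))) :
    f.map (Ideal.Quotient.mk I) ∣ z.map (Ideal.Quotient.mk I) := by
  let φ : AdjoinRoot f →+* AdjoinRoot (f.map (Ideal.Quotient.mk I)) :=
    AdjoinRoot.lift ((AdjoinRoot.of _).comp (Ideal.Quotient.mk I)) (AdjoinRoot.root _) (by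
      rw [← eval₂_map, AdjoinRoot.eval₂_root])
  have hker : I.map (algebraMap A (AdjoinRoot f)) ≤ RingHom.ker φ := by
    refine Ideal.map_le_iff_le_comap.mpr fun a ha => ?_
    simp only [Ideal.mem_comap, RingHom.mem_ker, AdjoinRoot.algebraMap_eq, φ,
      AdjoinRoot.lift_of, RingHom.comp_apply, Ideal.Quotient.eq_zero_iff_mem.mpr ha, map_zero]
  have h := hker hz
  simp only [RingHom.mem_ker, φ, AdjoinRoot.lift_mk] at h
  rw [← eval₂_map] at h
  rw [← AdjoinRoot.mk_eq_zero]
  rwa [← AdjoinRoot.aeval_eq, aeval_def, AdjoinRoot.algebraMap_eq]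

section Local

variable [IsLocalRing A]

theorem mk_mem_map_maximalIdeal (f : A[X]) {z : A[X]}
    (hz : z.map (IsLocalRing.residue A) = 0) :
    AdjoinRoot.mk f z ∈ (IsLocalRing.maximalIdeal A).map (algebraMap A (AdjoinRoot f)) :=
  mk_mem_map_of_map_eq_zero _ f hz

theorem dvd_map_residue_of_mk_mem (f : A[X]) {z : A[X]}
    (hz : AdjoinRoot.mk f z ∈ (IsLocalRing.maximalIdeal A).map (algebraMap A (AdjoinRoot f))) :
    f.map (IsLocalRing.residue A) ∣ z.map (IsLocalRing.residue A) :=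
  dvd_map_of_mk_mem _ f hz

/-- Lifting of coprimality of polynomials, the first one monic. -/
theorem isCoprime_of_map_residue {Q R : A[X]} (hQ : Q.Monic)
    (h : IsCoprime (Q.map (IsLocalRing.residue A)) (R.map (IsLocalRing.residue A))) :
    IsCoprime Q R := by
  obtain ⟨u₀, v₀, huv⟩ := h
  obtain ⟨u, rfl⟩ := map_surjective _ IsLocalRing.residue_surjective u₀
  obtain ⟨v, rfl⟩ := map_surjective _ IsLocalRing.residue_surjective v₀
  have hfin := hQ.finite_adjoinRoot
  have hmem := map_maximalIdeal_le_jacobson A (AdjoinRoot Q)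
    (mk_mem_map_maximalIdeal Q (z := u * Q + v * R - 1) (by simp [huv]))
  rw [map_sub, map_one] at hmem
  obtain ⟨w, hw⟩ := (isUnit_of_sub_one_mem le_rfl hmem).exists_left_inv
  obtain ⟨a, rfl⟩ := AdjoinRoot.mk_surjective w
  rw [← map_mul, ← map_one (AdjoinRoot.mk Q), AdjoinRoot.mk_eq_mk] at hw
  obtain ⟨c, hc⟩ := hw
  exact ⟨a * u - c, a * v, by linear_combination hc⟩

theorem monic_eq_of_map_residue_eq {Q U : A[X]} (hQ : Q.Monic) (hU : U.Monic)
    (hQU : Q.map (IsLocalRing.residue A) = U.map (IsLocalRing.residue A)) (hdvd : Q ∣ U) :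
    Q = U := by
  refine (eq_of_monic_of_dvd_of_natDegree_le hQ hU hdvd ?_).symm
  rw [← hQ.natDegree_map (IsLocalRing.residue A), hQU, hU.natDegree_map]

/-- Idempotents lift in `A[X]/(f)` as soon as coprime factorizations of the reduction lift. -/
theorem idemLift_adjoinRoot_of_factor {f : A[X]} (hf : f.Monic)
    (h : ∀ g₀ h₀ : (IsLocalRing.ResidueField A)[X], IsCoprime g₀ h₀ →
      f.map (IsLocalRing.residue A) = g₀ * h₀ →
      ∃ g h : A[X], f = g * h ∧ g.map (IsLocalRing.residue A) = g₀ ∧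
        h.map (IsLocalRing.residue A) = h₀) :
    IdemLift ((IsLocalRing.maximalIdeal A).map (algebraMap A (AdjoinRoot f))) := by
  classical
  intro b hb
  obtain ⟨p, rfl⟩ := AdjoinRoot.mk_surjective b
  set k := IsLocalRing.ResidueField A
  set fb : k[X] := f.map (IsLocalRing.residue A) with hfb
  set pb : k[X] := p.map (IsLocalRing.residue A) with hpb
  have hdvd : fb ∣ pb * (pb - 1) := by
    have h1 := dvd_map_residue_of_mk_mem f (z := p * (p - 1)) (by
      convert hb using 1; simp [mul_sub])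
    simpa [hfb, hpb] using h1
  obtain ⟨g₁, h₁, hg₁, hh₁, hfac⟩ := exists_dvd_and_dvd_of_dvd_mul hdvd
  have hco : IsCoprime g₁ h₁ :=
    IsCoprime.of_isCoprime_of_dvd_left
      (IsCoprime.of_isCoprime_of_dvd_right (⟨1, -1, by ring⟩ : IsCoprime pb (pb - 1)) hh₁) hg₁
  obtain ⟨g, h', hgh, hgm, hhm⟩ := h g₁ h₁ hco hfac
  obtain ⟨u₀, v₀, huv⟩ := hco
  obtain ⟨u, rfl⟩ := map_surjective _ IsLocalRing.residue_surjective u₀
  obtain ⟨v, rfl⟩ := map_surjective _ IsLocalRing.residue_surjective v₀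
  have hfin := hf.finite_adjoinRoot
  set J := (IsLocalRing.maximalIdeal A).map (algebraMap A (AdjoinRoot f)) with hJ
  have hmem : AdjoinRoot.mk f (u * g + v * h') - 1 ∈ J := by
    rw [← map_one (AdjoinRoot.mk f), ← map_sub]
    refine mk_mem_map_maximalIdeal _ ?_
    simp [hgm, hhm, huv]
  obtain ⟨w, hw⟩ := (isUnit_of_sub_one_mem (map_maximalIdeal_le_jacobson A (AdjoinRoot f))
    hmem).exists_left_inv
  have h0 : AdjoinRoot.mk f g * AdjoinRoot.mk f h' = 0 := by
    rw [← map_mul, ← hgh, AdjoinRoot.mk_self]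
  refine ⟨w * AdjoinRoot.mk f (u * g), ?_, ?_⟩
  · show _ * _ = _
    simp only [map_add, map_mul] at hw ⊢
    linear_combination (w * AdjoinRoot.mk f u * AdjoinRoot.mk f g) * hw
      - (w * AdjoinRoot.mk f u * w * AdjoinRoot.mk f v) * h0
  · have hw1 : w - 1 ∈ J := by
      have : w - 1 = -(w * (AdjoinRoot.mk f (u * g + v * h') - 1)) := by
        rw [mul_sub, hw]; ring
      rw [this]; exact J.neg_mem (J.mul_mem_left _ hmem)
    have h2 : AdjoinRoot.mk f (u * g) - AdjoinRoot.mk f p ∈ J := by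
      obtain ⟨q, hq⟩ : fb ∣ (u * g - p).map (IsLocalRing.residue A) := by
        rw [hfac, Polynomial.map_sub, Polynomial.map_mul, hgm, ← hpb]
        refine IsCoprime.mul_dvd ⟨_, _, huv⟩ (dvd_sub (Dvd.intro_left _ rfl) hg₁) ?_
        have : u.map (IsLocalRing.residue A) * g₁ - pb
            = -(v.map (IsLocalRing.residue A) * h₁) - (pb - 1) := by linear_combination huv
        rw [this]
        exact dvd_sub (dvd_neg.mpr (Dvd.intro_left _ rfl)) hh₁
      obtain ⟨q', rfl⟩ := map_surjective _ IsLocalRing.residue_surjective q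
      have h3 : AdjoinRoot.mk f (u * g - p - f * q') ∈ J := by
        refine mk_mem_map_maximalIdeal _ ?_
        rw [Polynomial.map_sub, hq, Polynomial.map_mul, ← hfb, sub_self]
      rw [← map_sub]
      rwa [map_sub (AdjoinRoot.mk f) (u * g - p) (f * q'), map_mul (AdjoinRoot.mk f) f q',
        AdjoinRoot.mk_self, zero_mul, sub_zero] at h3
    have : w * AdjoinRoot.mk f (u * g) - AdjoinRoot.mk f p
        = (w - 1) * AdjoinRoot.mk f (u * g) + (AdjoinRoot.mk f (u * g) - AdjoinRoot.mk f p) := by ring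
    rw [this]
    exact J.add_mem (J.mul_mem_right _ hw1) h2

end Local

end Groth.Agent.HenselLib
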