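import Mathlib.RingTheory.Flat.FaithfullyFlat.Algebra
import Mathlib.RingTheory.Flat.Stability
import Mathlib.RingTheory.Ideal.Quotient.Operations
import Mathlib.LinearAlgebra.TensorProduct.Pi
import Mathlib.RingTheory.TensorProduct.Quotient
import Mathlib.RingTheory.Nilpotent.Lemmas
import Mathlib.RingTheory.Noetherian.Nilpotent

/-!
# Flat ring maps with `R/I → S/IS` bijective
-/

set_option autoImplicit false
set_option linter.all false

universe u

open TensorProduct Function

namespace Groth.Agent.HenselLib.FlatQuot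

variable {R S : Type u} [CommRing R] [CommRing S] [Algebra R S] {I : Ideal R}

/-- Power torsion. -/
def IsTors (I : Ideal R) {M : Type*} [AddCommGroup M] [Module R M] (m : M) : Prop :=
  ∃ n : ℕ, ∀ a ∈ I ^ n, a • m = 0

variable (hq : Bijective (Ideal.quotientMap (I.map (algebraMap R S)) (algebraMap R S) Ideal.le_comap_map))

include hq in
theorem exists_sub_mem (n : ℕ) (s : S) :
    ∃ r : R, s - algebraMap R S r ∈ (I ^ n).map (algebraMap R S) := by
  have h1 : ∀ s : S, ∃ r : R, s - algebraMap R S r ∈ I.map (algebraMap R S) := by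
    intro s
    obtain ⟨z, hz⟩ := hq.2 (Ideal.Quotient.mk _ s)
    obtain ⟨r, rfl⟩ := Ideal.Quotient.mk_surjective z
    rw [Ideal.quotientMap_mk, eq_comm, Ideal.Quotient.mk_eq_mk_iff_sub_mem] at hz
    exact ⟨r, hz⟩
  induction n with
  | zero => exact ⟨0, by rw [pow_zero, Ideal.one_eq_top, Ideal.map_top]; exact Submodule.mem_top⟩
  | succ n ih =>
    obtain ⟨r, hr⟩ := ih
    suffices ∀ x ∈ (I ^ n).map (algebraMap R S), ∃ a : R,
        x - algebraMap R S a ∈ (I ^ (n + 1)).map (algebraMap R S) by
      obtain ⟨a, ha⟩ := this _ hr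
      exact ⟨r + a, by rw [map_add]; convert ha using 1; ring⟩
    intro x hx
    suffices ∀ t : S, ∃ a : R, t * x - algebraMap R S a ∈ (I ^ (n + 1)).map (algebraMap R S) by
      simpa using this 1
    induction hx using Submodule.span_induction with
    | mem x hx =>
      obtain ⟨i, hi, rfl⟩ := hx
      intro t
      obtain ⟨c, hc⟩ := h1 t
      refine ⟨c * i, ?_⟩
      rw [map_mul, ← sub_mul, pow_succ', Ideal.map_mul]
      exact Ideal.mul_mem_mul hc (Ideal.mem_map_of_mem _ hi)
    | zero => exact fun t => ⟨0, by simp⟩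
    | add x y _ _ hx hy =>
      intro t
      obtain ⟨a, ha⟩ := hx t
      obtain ⟨b, hb⟩ := hy t
      exact ⟨a + b, by rw [map_add, mul_add]; convert add_mem ha hb using 1; ring⟩
    | smul c x _ hx =>
      intro t
      obtain ⟨a, ha⟩ := hx (t * c)
      exact ⟨a, by rw [smul_eq_mul, ← mul_assoc]; exact ha⟩

include hq in
theorem bijective_mk_of_killed (M : Type u) [AddCommGroup M] [Module R M]
    (hM : ∀ a ∈ I, ∀ m : M, a • m = 0) : Bijective (TensorProduct.mk R S M 1) := by
  choose r hr using fun s : S => exists_sub_mem hq 1 s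
  simp only [pow_one] at hr
  have key : ∀ (s : S) (a : R), s - algebraMap R S a ∈ I.map (algebraMap R S) →
      ∀ m : M, r s • m = a • m := by
    intro s a h m
    rw [← sub_eq_zero, ← sub_smul]
    refine hM _ ?_ m
    rw [← Ideal.Quotient.eq_zero_iff_mem]
    apply hq.1
    rw [Ideal.quotientMap_mk, map_zero, Ideal.Quotient.eq_zero_iff_mem, map_sub]
    convert sub_mem h (hr s) using 1
    ring
  let θ : S →ₗ[R] M →ₗ[R] M :=
    LinearMap.mk₂ R (fun s m => r s • m)
      (fun s t m => by
        rw [key (s + t) (r s + r t) (by rw [map_add]; convert add_mem (hr s) (hr t) using 1; ring),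
          add_smul])
      (fun c s m => by
        rw [key (c • s) (c * r s) (by
          rw [Algebra.smul_def, map_mul, ← mul_sub]; exact Ideal.mul_mem_left _ _ (hr s)), mul_smul])
      (fun s m m' => smul_add _ _ _)
      (fun c s m => smul_comm _ _ _)
  have h1 : ∀ m : M, θ 1 m = m := fun m => by
    change r 1 • m = m
    rw [key 1 1 (by simp), one_smul]
  refine ⟨fun a b hab => ?_, fun x => ?_⟩
  · have := congrArg (TensorProduct.lift θ) hab
    simpa [h1] using this
  · induction x with
    | zero => exact ⟨0, map_zero _⟩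
    | tmul s m =>
      refine ⟨r s • m, ?_⟩
      rw [TensorProduct.mk_apply, eq_comm, ← sub_eq_zero, ← smul_tmul,
        ← Algebra.algebraMap_eq_smul_one, ← sub_tmul]
      have : ∀ x ∈ I.map (algebraMap R S), ∀ t : S, ((t * x) ⊗ₜ[R] m : S ⊗[R] M) = 0 := by
        intro x hx
        induction hx using Submodule.span_induction with
        | mem x hx =>
          obtain ⟨i, hi, rfl⟩ := hx
          intro t
          rw [mul_comm, ← Algebra.smul_def, smul_tmul, hM i hi, tmul_zero]
        | zero => simp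
        | add x y _ _ hx hy => exact fun t => by rw [mul_add, add_tmul, hx, hy, add_zero]
        | smul c x _ hx => exact fun t => by rw [smul_eq_mul, ← mul_assoc, hx]
      simpa using this _ (hr s) 1
    | add x y hx hy =>
      obtain ⟨a, rfl⟩ := hx
      obtain ⟨b, rfl⟩ := hy
      exact ⟨a + b, map_add _ _ _⟩

include hq in
theorem bijective_mk_of_torsion [Module.Flat R S] (M : Type u) [AddCommGroup M] [Module R M]
    (hM : ∀ m : M, IsTors I m) : Bijective (TensorProduct.mk R S M 1) := by
  have inj : ∀ (n : ℕ) (N : Submodule R M), (∀ a ∈ I ^ n, ∀ x ∈ N, a • x = 0) →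
      ∀ x ∈ N, (1 : S) ⊗ₜ[R] x = 0 → x = 0 := by
    intro n
    induction n with
    | zero => exact fun N hN x hx _ => by simpa using hN 1 (by simp) x hx
    | succ n ih =>
      intro N hN x hx h0
      let P : Submodule R M := I • N
      have hP : P ≤ N := Submodule.smul_le_right
      have hPk : ∀ a ∈ I ^ n, ∀ y ∈ P, a • y = 0 := by
        intro a ha y hy
        refine Submodule.smul_induction_on hy (fun i hi z hz => ?_) (fun u v hu hv => ?_)
        · rw [smul_smul]; exact hN _ (by rw [pow_succ]; exact Ideal.mul_mem_mul ha hi) z hz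
        · rw [smul_add, hu, hv, add_zero]
      have hxP : x ∈ P := by
        let Q := N ⧸ (P.comap N.subtype)
        have h1 : (1 : S) ⊗ₜ[R] (⟨x, hx⟩ : N) = 0 := by
          apply Module.Flat.lTensor_preserves_injective_linearMap (M := S) N.subtype N.injective_subtype
          rw [LinearMap.lTensor_tmul, map_zero]; exact h0
        have h2 : (P.comap N.subtype).mkQ ⟨x, hx⟩ = 0 := by
          refine (bijective_mk_of_killed hq Q (fun a ha q => ?_)).1 ?_
          · obtain ⟨y, rfl⟩ := Submodule.mkQ_surjective _ q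
            rw [← map_smul, Submodule.mkQ_apply, Submodule.Quotient.mk_eq_zero]
            exact Submodule.smul_mem_smul ha y.2
          · have := congrArg ((P.comap N.subtype).mkQ.lTensor S) h1
            rw [LinearMap.lTensor_tmul, map_zero] at this
            rw [map_zero]
            exact this
        have h3 := LinearMap.mem_ker.mpr h2
        rw [Submodule.ker_mkQ] at h3
        exact h3
      exact ih P hPk x hxP h0
  refine ⟨fun a b hab => ?_, fun x => ?_⟩
  · obtain ⟨n, hn⟩ := hM (a - b)
    refine sub_eq_zero.mp (inj n (Submodule.span R {a - b}) (fun c hc y hy => ?_) _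
      (Submodule.subset_span rfl) ?_)
    · obtain ⟨d, rfl⟩ := Submodule.mem_span_singleton.mp hy
      rw [smul_comm, hn c hc, smul_zero]
    · simp only [TensorProduct.mk_apply] at hab
      rw [tmul_sub, hab, sub_self]
  · induction x with
    | zero => exact ⟨0, map_zero _⟩
    | tmul s m =>
      obtain ⟨n, hn⟩ := hM m
      obtain ⟨r, hr⟩ := exists_sub_mem hq n s
      refine ⟨r • m, ?_⟩
      rw [TensorProduct.mk_apply, eq_comm, ← sub_eq_zero, ← smul_tmul,
        ← Algebra.algebraMap_eq_smul_one, ← sub_tmul]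
      have : ∀ x ∈ (I ^ n).map (algebraMap R S), ∀ t : S, ((t * x) ⊗ₜ[R] m : S ⊗[R] M) = 0 := by
        intro x hx
        induction hx using Submodule.span_induction with
        | mem x hx =>
          obtain ⟨i, hi, rfl⟩ := hx
          intro t
          rw [mul_comm, ← Algebra.smul_def, smul_tmul, hn i hi, tmul_zero]
        | zero => simp
        | add x y _ _ hx hy => exact fun t => by rw [mul_add, add_tmul, hx, hy, add_zero]
        | smul c x _ hx => exact fun t => by rw [smul_eq_mul, ← mul_assoc, hx]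
      simpa using this _ (hr) 1
    | add x y hx hy =>
      obtain ⟨a, rfl⟩ := hx
      obtain ⟨b, rfl⟩ := hy
      exact ⟨a + b, map_add _ _ _⟩

section Glue

variable (N : Type u) [AddCommGroup N] [Module R N] {M' : Type u} [AddCommGroup M'] [Module R M']
  [Module S M'] [IsScalarTower R S M'] (φ : M' →ₗ[S] S ⊗[R] N)

/-- The glued module. -/
def glued : Submodule R (M' × N) :=
  LinearMap.ker ((φ.restrictScalars R).coprod (-(TensorProduct.mk R S N 1)))

theorem mem_glued {z : M' × N} : z ∈ glued N φ ↔ φ z.1 = (1 : S) ⊗ₜ[R] z.2 := by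
  simp [glued, LinearMap.mem_ker, ← sub_eq_add_neg, sub_eq_zero]

/-- First projection. -/
def gluedFst : glued N φ →ₗ[R] M' := (LinearMap.fst R M' N) ∘ₗ (glued N φ).subtype

/-- Second projection. -/
def gluedSnd : glued N φ →ₗ[R] N := (LinearMap.snd R M' N) ∘ₗ (glued N φ).subtype

variable [Module.Flat R S]

include hq in
theorem bijective_liftBaseChange_gluedFst (hker : ∀ x : M', φ x = 0 → IsTors I x)
    (hcoker : ∀ y : S ⊗[R] N, ∃ n : ℕ, ∀ a ∈ I ^ n, a • y ∈ LinearMap.range φ) :
    Bijective ((gluedFst N φ).liftBaseChange S) := by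
  set Φ := (gluedFst N φ).liftBaseChange S
  constructor
  · rw [injective_iff_map_eq_zero]
    intro ξ hξ
    have hcomp : ∀ ξ, (gluedSnd N φ).baseChange S ξ = φ (Φ ξ) := by
      intro ξ
      induction ξ with
      | zero => simp
      | add a b ha hb => simp only [map_add, ha, hb]
      | tmul s m =>
        simp only [Φ, LinearMap.baseChange_tmul, LinearMap.liftBaseChange_tmul, map_smul]
        rw [show gluedFst N φ m = m.1.1 from rfl, (mem_glued N φ).mp m.2, smul_tmul', smul_eq_mul, mul_one]
        rfl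
    have h0 : (gluedSnd N φ).lTensor S ξ = 0 := by
      have := hcomp ξ
      rw [hξ, map_zero] at this
      exact this
    have hex' := Module.Flat.lTensor_exact (M := S) (N := LinearMap.ker (gluedSnd N φ))
      (N' := glued N φ) (N'' := N) (f := (LinearMap.ker (gluedSnd N φ)).subtype) (g := gluedSnd N φ)
      (LinearMap.exact_subtype_ker_map (gluedSnd N φ))
    obtain ⟨η, hη⟩ := (hex' ξ).mp h0
    subst hη
    obtain ⟨k, rfl⟩ := (bijective_mk_of_torsion (S := S) hq (LinearMap.ker (gluedSnd N φ)) fun k => by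
      have hk : k.1.1.2 = 0 := k.2
      obtain ⟨n, hn⟩ := hker k.1.1.1 (by rw [(mem_glued N φ).mp k.1.2, hk, tmul_zero])
      exact ⟨n, fun a ha => Subtype.ext (Subtype.ext (Prod.ext (hn a ha)
        (by change a • k.1.1.2 = 0; rw [hk, smul_zero])))⟩).2 η
    have h1 : k.1.1.1 = 0 := by simpa [Φ, gluedFst] using hξ
    have hk0 : k = 0 := Subtype.ext (Subtype.ext (Prod.ext h1 k.2))
    rw [hk0, map_zero, map_zero]
  · intro x
    suffices ∀ z : S ⊗[R] N, ∃ (y : N) (x₀ : S ⊗[R] glued N φ), z = 1 ⊗ₜ y + φ (Φ x₀) by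
      obtain ⟨y, x₀, hx₀⟩ := this (φ x)
      have hmem : φ (x - Φ x₀) = 1 ⊗ₜ y := by rw [map_sub, hx₀, add_sub_cancel_right]
      refine ⟨x₀ + 1 ⊗ₜ ⟨(x - Φ x₀, y), (mem_glued N φ).mpr hmem⟩, ?_⟩
      rw [map_add]
      simp [Φ, gluedFst]
    intro z
    induction z with
    | zero => exact ⟨0, 0, by simp⟩
    | add a b ha hb =>
      obtain ⟨y, x₀, rfl⟩ := ha
      obtain ⟨y', x₀', rfl⟩ := hb
      exact ⟨y + y', x₀ + x₀', by rw [tmul_add, map_add, map_add]; abel⟩
    | tmul s n =>
      obtain ⟨k, hk⟩ := hcoker ((1 : S) ⊗ₜ[R] n)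
      obtain ⟨r, hr⟩ := exists_sub_mem hq k s
      suffices ∀ x ∈ (I ^ k).map (algebraMap R S), ∀ t : S, ∃ x₀ : S ⊗[R] glued N φ,
          ((t * x) ⊗ₜ[R] n : S ⊗[R] N) = φ (Φ x₀) by
        obtain ⟨x₀, hx₀⟩ := this _ hr 1
        refine ⟨r • n, x₀, ?_⟩
        rw [← hx₀, one_mul, ← smul_tmul, ← Algebra.algebraMap_eq_smul_one, ← add_tmul, add_sub_cancel]
      intro x hx
      induction hx using Submodule.span_induction with
      | mem x hx =>
        obtain ⟨a, ha, rfl⟩ := hx
        intro t
        obtain ⟨y, hy⟩ := hk a ha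
        refine ⟨t ⊗ₜ ⟨(y, a • n), (mem_glued N φ).mpr (by rw [hy]; exact (tmul_smul _ _ _).symm)⟩, ?_⟩
        have : Φ (t ⊗ₜ ⟨(y, a • n), (mem_glued N φ).mpr (by rw [hy]; exact (tmul_smul _ _ _).symm)⟩) = t • y := by
          simp [Φ, gluedFst]
        rw [this, map_smul, hy, ← tmul_smul, smul_tmul', smul_eq_mul, mul_one, mul_comm t,
          ← Algebra.smul_def, smul_tmul]
      | zero => exact fun t => ⟨0, by simp⟩
      | add x y _ _ hx hy =>
        intro t
        obtain ⟨a, ha⟩ := hx t
        obtain ⟨b, hb⟩ := hy t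
        exact ⟨a + b, by rw [mul_add, add_tmul, ha, hb, map_add, map_add]⟩
      | smul c x _ hx =>
        intro t
        obtain ⟨a, ha⟩ := hx (t * c)
        exact ⟨a, by rw [smul_eq_mul, ← mul_assoc]; exact ha⟩

end Glue

end Groth.Agent.HenselLib.FlatQuot
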