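import Groth.Agent.HenselLib.PairQuot
import Groth.Agent.HenselLib.Unique

/-!
# Etale neighbourhoods of a pair
-/

set_option autoImplicit false

namespace Groth.Agent.HenselLib

open CategoryTheory

universe u

variable {R : Type u} [CommRing R] (I : Ideal R)

/-- The quotient map of an algebra along an ideal of the base. -/
noncomputable abbrev quotθ (A : Type u) [CommRing A] [Algebra R A] :
    R ⧸ I →+* A ⧸ I.map (algebraMap R A) :=
  Ideal.quotientMap (I.map (algebraMap R A)) (algebraMap R A) Ideal.le_comap_map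

/-- The unique point of a neighbourhood of a pair. -/
theorem exists_point {A : Type u} [CommRing A] [Algebra R A] (hA : Function.Bijective (quotθ I A)) :
    ∃ σ : A →ₐ[R] R ⧸ I, RingHom.ker σ = I.map (algebraMap R A) ∧
      ∀ τ : A →ₐ[R] R ⧸ I, τ = σ := by
  let θ : (R ⧸ I) ≃+* (A ⧸ I.map (algebraMap R A)) := RingEquiv.ofBijective _ hA
  let σ : A →ₐ[R] R ⧸ I :=
    { θ.symm.toRingHom.comp (Ideal.Quotient.mk _) with
      commutes' := fun r => θ.symm_apply_eq.mpr rfl }
  refine ⟨σ, ?_, fun τ => AlgHom.ext fun a => ?_⟩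
  · show RingHom.ker (θ.symm.toRingHom.comp (Ideal.Quotient.mk _)) = _
    rw [RingHom.ker_comp_of_injective _ θ.symm.injective, Ideal.mk_ker]
  · obtain ⟨x, hx⟩ := hA.2 (Ideal.Quotient.mk _ a)
    obtain ⟨r, rfl⟩ := Ideal.Quotient.mk_surjective x
    rw [Ideal.quotientMap_mk, Ideal.Quotient.eq] at hx
    have hz : ∀ φ : A →ₐ[R] R ⧸ I, φ a = algebraMap R (R ⧸ I) r := fun φ => by
      have h : φ (algebraMap R A r - a) = 0 := by
        have h1 := mem_map_algHom φ I hx
        rw [show I.map (algebraMap R (R ⧸ I)) = ⊥ from Ideal.map_quotient_self I] at h1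
        exact h1
      rw [map_sub, AlgHom.commutes, sub_eq_zero] at h
      exact h.symm
    rw [hz, hz]

theorem bijective_quotθ_of_ker {A : Type u} [CommRing A] [Algebra R A] (σ : A →ₐ[R] R ⧸ I)
    (hσ : RingHom.ker σ = I.map (algebraMap R A)) : Function.Bijective (quotθ I A) := by
  refine ⟨(injective_iff_map_eq_zero _).mpr fun x hx => ?_, fun y => ?_⟩
  · obtain ⟨r, rfl⟩ := Ideal.Quotient.mk_surjective x
    rw [Ideal.quotientMap_mk, Ideal.Quotient.eq_zero_iff_mem, ← hσ, RingHom.mem_ker,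
      AlgHom.commutes] at hx
    exact hx
  · obtain ⟨a, rfl⟩ := Ideal.Quotient.mk_surjective y
    obtain ⟨r, hr⟩ := Ideal.Quotient.mk_surjective (σ a)
    refine ⟨Ideal.Quotient.mk I r, ?_⟩
    rw [Ideal.quotientMap_mk, Ideal.Quotient.eq, ← hσ, RingHom.mem_ker, map_sub, AlgHom.commutes,
      sub_eq_zero]
    exact hr

/-- Every pointed etale algebra maps to a neighbourhood of the pair. -/
theorem exists_hom_nbhd (P : Pt R (R ⧸ I)) :
    ∃ (Q : Pt R (R ⧸ I)) (_ : P ⟶ Q), RingHom.ker Q.pt = I.map (algebraMap R Q.Ring) := by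
  obtain ⟨e, he1, he⟩ := exists_idempotent_of_section P.pt
  have : Algebra.Etale R (Localization.Away e) := Algebra.Etale.comp R P.Ring _
  let σ : Localization.Away e →ₐ[R] R ⧸ I :=
    IsLocalization.Away.liftAlgHom e (f := P.pt) (by rw [he1]; exact isUnit_one)
  have hσy : ∀ y, σ (algebraMap P.Ring _ y) = P.pt y := fun y => by simp [σ]
  obtain ⟨Q, g, ε, hε, -⟩ := P.exists_hom σ (IsScalarTower.toAlgHom R P.Ring (Localization.Away e))
    (AlgHom.ext hσy)
  refine ⟨Q, g, le_antisymm (fun z hz => ?_) (Ideal.map_le_iff_le_comap.mpr fun r hr => ?_)⟩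
  · obtain ⟨⟨y, s⟩, hs⟩ := IsLocalization.surj (Submonoid.powers e) (ε z)
    have hy : P.pt y = 0 := by
      rw [← hσy, ← show ε z * algebraMap P.Ring _ s.1 = algebraMap P.Ring _ y from hs, map_mul, hε,
        show Q.pt z = 0 from hz, zero_mul]
    have h1 := mem_map_algHom (IsScalarTower.toAlgHom R P.Ring (Localization.Away e)) I (he y hy)
    rw [map_mul] at h1
    have h2 := ((I.map (algebraMap R (Localization.Away e))).unit_mul_mem_iff_mem
      (IsLocalization.Away.algebraMap_isUnit (S := Localization.Away e) e)).mp h1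
    rw [IsScalarTower.coe_toAlgHom', ← show ε z * algebraMap P.Ring _ s.1 = algebraMap P.Ring _ y from hs,
      mul_comm] at h2
    have h3 := ((I.map (algebraMap R (Localization.Away e))).unit_mul_mem_iff_mem
      (IsLocalization.map_units (Localization.Away e) s)).mp h2
    simpa using mem_map_algHom ε.symm.toAlgHom I h3
  · rw [Ideal.mem_comap, RingHom.mem_ker, AlgHom.commutes]
    exact Ideal.Quotient.eq_zero_iff_mem.mpr hr

theorem bijective_quotθ_pt {Q : Pt R (R ⧸ I)}
    (hQ : RingHom.ker Q.pt = I.map (algebraMap R Q.Ring)) : Function.Bijective (quotθ I Q.Ring) :=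
  bijective_quotθ_of_ker I Q.pt hQ

theorem nonempty_unique_algHom {B : Type u} [CommRing B] [Algebra R B] (hB : IsPairHull R I B)
    (A : Type u) [CommRing A] [Algebra R A] [Algebra.Etale R A]
    (hA : Function.Bijective (quotθ I A)) : Nonempty (Unique (A →ₐ[R] B)) := by
  obtain ⟨σ, hσ, -⟩ := exists_point I hA
  have := hB.1
  let τ : R ⧸ I →ₐ[R] B ⧸ I.map (algebraMap R B) :=
    Ideal.Quotient.liftₐ I (Algebra.ofId R _) fun a ha =>
      Ideal.Quotient.eq_zero_iff_mem.mpr (Ideal.mem_map_of_mem _ ha)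
  obtain ⟨g, hg, huniq⟩ := existsUnique_lift (I.map (algebraMap R B)) (τ.comp σ)
  refine ⟨⟨⟨g⟩, fun φ => huniq φ (AlgHom.ext fun a => ?_)⟩⟩
  obtain ⟨r, hr⟩ := Ideal.Quotient.mk_surjective (σ a)
  have hmem : a - algebraMap R A r ∈ I.map (algebraMap R A) := by
    rw [← hσ, RingHom.mem_ker, map_sub, AlgHom.commutes, sub_eq_zero]
    exact hr.symm
  have h1 := mem_map_algHom φ I hmem
  rw [map_sub, AlgHom.commutes] at h1
  show Ideal.Quotient.mk _ (φ a) = τ (σ a)
  rw [← hr]
  exact Ideal.Quotient.eq.mpr h1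

end Groth.Agent.HenselLib
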