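import Groth.Agent.HenselLib.Local
import Groth.Agent.HenselLib.Perm
import Groth.Prelude.Def_Hensel
import Mathlib.FieldTheory.PurelyInseparable.Basic
import Mathlib.RingTheory.Ideal.GoingUp

/-!
# Localizations of integral algebras over henselian local rings
-/

set_option autoImplicit false
set_option linter.all false

universe u

open IsLocalRing

namespace Groth.Agent.HenselLib.LocalInt

variable (A : Type u) [CommRing A] [HenselianLocalRing A] {T : Type u} [CommRing T] [Algebra A T]

/-- Localizations of integral algebras over henselian local rings at maximal ideals are quotients. -/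
theorem surjective_algebraMap_localization [Algebra.IsIntegral A T] (M : Ideal T) [M.IsMaximal] :
    Function.Surjective (algebraMap T (Localization.AtPrime M)) := by
  intro x
  obtain ⟨t, ⟨s, hs⟩, rfl⟩ := IsLocalization.exists_mk'_eq M.primeCompl x
  let T₀ := Algebra.adjoin A ({t, s} : Set T)
  have : Module.Finite A T₀ := ⟨(Submodule.fg_top _).mpr
    (fg_adjoin_of_finite (Set.toFinite _) fun y _ => Algebra.IsIntegral.isIntegral y)⟩
  let s₀ : T₀ := ⟨s, Algebra.subset_adjoin (by simp)⟩
  let M₀ : Ideal T₀ := M.comap T₀.val
  have : M₀.IsMaximal := by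
    letI := T₀.val.toRingHom.toAlgebra
    have : IsScalarTower A T₀ T := IsScalarTower.of_algebraMap_eq fun _ => rfl
    have : Algebra.IsIntegral T₀ T := Algebra.IsIntegral.tower_top A
    exact Ideal.isMaximal_comap_of_isIntegral_of_isMaximal (R := T₀) M
  have := isArtinianRing_closedFibre A T₀
  obtain ⟨-, he⟩ := exists_idempotents_maximalSpectrum _ (map_maximalIdeal_le_jacobson A T₀)
    ((isPiLocal_iff_idemLift A T₀).mp (isPiLocal_of_henselian A T₀))
  obtain ⟨e, hidem, heM, hothers⟩ := he ⟨M₀, inferInstance⟩
  have hunit : IsUnit (s₀ * e + (1 - e)) := isUnit_of_forall_notMem fun N hN hmem => by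
    by_cases h : (⟨N, hN⟩ : MaximalSpectrum T₀) = ⟨M₀, inferInstance⟩
    · have hN' : N = M₀ := congrArg MaximalSpectrum.asIdeal h
      subst hN'
      have h1 : (1 - e) ∈ M₀ := ((inferInstance : M₀.IsPrime).mem_or_mem
        (show e * (1 - e) ∈ M₀ by rw [mul_sub, mul_one, hidem.eq, sub_self]; exact zero_mem _)
        ).resolve_left heM
      have h2 : s₀ * e ∈ M₀ := by simpa using M₀.sub_mem hmem h1
      exact ((inferInstance : M₀.IsPrime).mem_or_mem h2).elim (fun h3 => hs h3) heM
    · have h1 : e ∈ N := hothers ⟨N, hN⟩ h
      exact hN.ne_top ((Ideal.eq_top_iff_one _).mpr (by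
        have := N.sub_mem hmem (N.mul_mem_left s₀ h1)
        rw [add_sub_cancel_left] at this
        simpa using N.add_mem this h1))
  obtain ⟨w, hw⟩ := hunit.exists_left_inv
  have hwse : (w : T) * (s * e + (1 - e)) = 1 := by
    simpa [s₀] using congrArg T₀.val hw
  have he' : (e : T) * e = e := by simpa using congrArg T₀.val hidem.eq
  refine ⟨t * w * e, ?_⟩
  rw [IsLocalization.eq_mk'_iff_mul_eq, ← map_mul, IsLocalization.eq_iff_exists M.primeCompl]
  refine ⟨⟨e, fun h => heM h⟩, ?_⟩
  show (e : T) * (t * w * e * s) = e * t
  have h0 : (1 - (e : T)) * e = 0 := by rw [sub_mul, one_mul, he', sub_self]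
  linear_combination (t * e) * hwse - (t * w) * h0

theorem comap_maximal [Algebra.IsIntegral A T] (M : Ideal T) [M.IsMaximal] :
    M.comap (algebraMap A T) = maximalIdeal A :=
  eq_maximalIdeal (Ideal.isMaximal_comap_of_isIntegral_of_isMaximal (R := A) M)

theorem henselianLocalRing_localization [Algebra.IsIntegral A T] (M : Ideal T) [M.IsMaximal] :
    HenselianLocalRing (Localization.AtPrime M) := by
  have : Algebra.IsIntegral A (Localization.AtPrime M) :=
    Algebra.IsIntegral.of_surjective (IsScalarTower.toAlgHom A T (Localization.AtPrime M))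
      (surjective_algebraMap_localization A M)
  exact henselianLocalRing_of_isIntegral A _

omit [HenselianLocalRing A] in
theorem isLocalHom_of_isIntegral [IsLocalRing A] (S : Type u) [CommRing S] [IsLocalRing S]
    [Algebra A S] [Algebra.IsIntegral A S] : IsLocalHom (algebraMap A S) :=
  ((IsLocalRing.local_hom_TFAE _).out 4 0).mp
    (eq_maximalIdeal (Ideal.isMaximal_comap_of_isIntegral_of_isMaximal (R := A) (maximalIdeal S)))

omit [HenselianLocalRing A] in
theorem isSepClosed_residueField [IsLocalRing A] [IsSepClosed (ResidueField A)]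
    (S : Type u) [CommRing S] [IsLocalRing S] [Algebra A S] [IsLocalHom (algebraMap A S)]
    [Algebra.IsIntegral A S] : IsSepClosed (ResidueField S) := by
  have : Algebra.IsIntegral A (ResidueField S) := Algebra.IsIntegral.trans S
  have : Algebra.IsIntegral (ResidueField A) (ResidueField S) := Algebra.IsIntegral.tower_top A
  exact Algebra.IsAlgebraic.isSepClosed (F := ResidueField A)

theorem isHenselization_self (S : Type u) [CommRing S] [HenselianLocalRing S]
    [IsLocalHom (algebraMap S S)] : Hensel.IsHenselization S S where
  henselian := inferInstance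
  universal T _ _ f _ := ⟨f, RingHom.comp_id f, fun g hg => hg⟩

theorem isStrictHenselization_self (S : Type u) [CommRing S] [HenselianLocalRing S]
    [IsSepClosed (ResidueField S)] [IsLocalHom (algebraMap S S)] :
    Hensel.IsStrictHenselization S S where
  henselian := inferInstance
  isSepClosure := by
    have h : (ResidueField.instAlgebra : Algebra (ResidueField S) (ResidueField S)) =
        Algebra.id _ := Algebra.algebra_ext _ _ fun r => by
      obtain ⟨y, rfl⟩ := IsLocalRing.residue_surjective r
      rfl
    rw [h]
    exact IsSepClosure.self_of_isSepClosed _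
  universal T _ _ f _ τ hτ := ⟨f, ⟨RingHom.comp_id f, fun x =>
    (congr($hτ (residue S x))).symm⟩, fun g hg => hg.1⟩

end Groth.Agent.HenselLib.LocalInt
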