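import Groth.Agent.HenselLib.WeakDim
import Groth.Agent.HenselLib.NormalHens
import Groth.Agent.HenselLib.WEtField
import Groth.Agent.HenselLib.WEtNoeth
import Mathlib.RingTheory.Algebraic.Integral

/-!
# Weakly etale local algebras over valuation rings
-/

set_option autoImplicit false
set_option linter.all false

universe u

open TensorProduct Function Polynomial

namespace Groth.Agent.HenselLib.ValRingWEt

/-- A weakly etale local algebra over a valuation ring is a valuation ring. -/
theorem valuationRing (A R : Type u) [CommRing A] [IsDomain A] [ValuationRing A]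
    [CommRing R] [IsLocalRing R] [Algebra A R] [Algebra.WeaklyEtale A R] :
    ∃ _ : IsDomain R, ValuationRing R := by
  obtain ⟨hd, -⟩ := normalDomain_of_weaklyEtale A R
  have hA : ∀ I : Ideal A, Module.Flat A I := fun I => by
    rw [Module.Flat.flat_iff_torsion_eq_bot_of_isBezout, Submodule.eq_bot_iff]
    rintro ⟨x, hx⟩ ⟨⟨a, ha⟩, hax⟩
    have h1 : a * x = 0 := congrArg Subtype.val hax
    exact Subtype.ext ((mul_eq_zero.mp h1).resolve_left (nonZeroDivisors.ne_zero ha))
  refine ⟨hd, ValuationRing.iff_local_bezout_domain.mpr ⟨inferInstance,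
    IsBezout.iff_span_pair_isPrincipal.mpr fun x y => ?_⟩⟩
  haveI hJA : Module.Flat A (Ideal.span ({x, y} : Set R)) :=
    WeakDim.flat_submodule hA R ((Ideal.span ({x, y} : Set R)).restrictScalars A)
  haveI : Module.Flat R (Ideal.span ({x, y} : Set R)) :=
    WEt.flat_of_flat_lmul (A := A) (Algebra.WeaklyEtale.flat_lmul' A R) _
  haveI : Module.Finite R (Ideal.span ({x, y} : Set R)) :=
    Module.Finite.iff_fg.mpr (Submodule.fg_span (by simp))
  haveI : Module.Free R (Ideal.span ({x, y} : Set R)) := Module.free_of_flat_of_isLocalRing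
  rcases WeakDim.principal_regular (Ideal.span ({x, y} : Set R)) with hJ | ⟨e, he, -⟩
  · exact ⟨0, by rw [hJ]; simp⟩
  · exact ⟨e, he⟩

theorem algebraMap_injective_of_flat (A R : Type u) [CommRing A] [IsDomain A] [CommRing R]
    [Nontrivial R] [Algebra A R] [Module.Flat A R] : Injective (algebraMap A R) := by
  rw [injective_iff_map_eq_zero]
  intro a ha
  by_contra h
  have : (1 : R) ∈ Submodule.torsion A R :=
    ⟨⟨a, mem_nonZeroDivisors_of_ne_zero h⟩, by
      rw [Submonoid.smul_def, Algebra.smul_def, ha, zero_mul]⟩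
  rw [Module.Flat.torsion_eq_bot, Submodule.mem_bot] at this
  exact one_ne_zero this

/-- In a valuation ring, a vanishing sum has two associated terms of minimal value. -/
theorem exists_associated_of_sum_eq_zero {B ι : Type*} [CommRing B] [IsDomain B] [ValuationRing B]
    [DecidableEq ι]
    (s : Finset ι) (t : ι → B) (hsum : ∑ i ∈ s, t i = 0) (hne : ∃ i ∈ s, t i ≠ 0) :
    ∃ i ∈ s, ∃ j ∈ s, i ≠ j ∧ t i ≠ 0 ∧ Associated (t i) (t j) := by
  have hmin : ∀ s : Finset ι, s.Nonempty → ∃ i ∈ s, ∀ j ∈ s, t i ∣ t j := by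
    intro s hs
    induction hs using Finset.Nonempty.cons_induction with
    | singleton a => exact ⟨a, by simp⟩
    | cons a s ha hs ih =>
      obtain ⟨i, hi, hmin⟩ := ih
      rcases ValuationRing.dvd_total (t i) (t a) with h | h
      · refine ⟨i, by simp [hi], fun j hj => ?_⟩
        rcases Finset.mem_cons.mp hj with rfl | hj
        exacts [h, hmin j hj]
      · refine ⟨a, by simp, fun j hj => ?_⟩
        rcases Finset.mem_cons.mp hj with rfl | hj
        exacts [dvd_rfl, h.trans (hmin j hj)]
  obtain ⟨i₀, hi₀, hne⟩ := hne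
  obtain ⟨i, hi, hdvd⟩ := hmin s ⟨i₀, hi₀⟩
  have hti : t i ≠ 0 := fun h => hne (zero_dvd_iff.mp (h ▸ hdvd i₀ hi₀))
  by_contra hcon
  push_neg at hcon
  obtain ⟨w, hw⟩ : t i * (1 : B) ∣ t i := by rw [mul_one]
  choose r hr using hdvd
  have hnon : ∀ j (hj : j ∈ s), j ≠ i → r j hj ∈ IsLocalRing.maximalIdeal B := by
    intro j hj hji
    rw [IsLocalRing.mem_maximalIdeal, mem_nonunits_iff]
    exact fun hu => hcon i hi j hj (Ne.symm hji) hti ⟨hu.unit, by rw [IsUnit.unit_spec, ← hr]⟩
  let m : B := ∑ j ∈ (s.erase i).attach, r j.1 (Finset.mem_of_mem_erase j.2)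
  have hm : m ∈ IsLocalRing.maximalIdeal B :=
    sum_mem fun j _ => hnon _ _ (Finset.ne_of_mem_erase j.2)
  have h0 : t i * (1 + m) = 0 := by
    rw [← hsum, ← Finset.add_sum_erase s t hi, ← Finset.sum_attach (s.erase i), mul_add, mul_one,
      Finset.mul_sum]
    exact congrArg _ (Finset.sum_congr rfl fun j _ => (hr _ _).symm)
  have hu : IsUnit (1 + m) := by
    by_contra h
    have := Ideal.sub_mem _ ((IsLocalRing.mem_maximalIdeal _).mpr h) hm
    rw [add_sub_cancel_right] at this
    exact (IsLocalRing.maximalIdeal.isMaximal B).ne_top ((Ideal.eq_top_iff_one _).mpr this)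
  exact hti ((hu.mul_left_eq_zero).mp h0)

variable (A B : Type u) [CommRing A] [IsDomain A] [ValuationRing A]
    [CommRing B] [IsLocalRing B] [Algebra A B] [Algebra.WeaklyEtale A B]

/-- Every nonzero element satisfies `c b^k ~ d` with nonzero constants. -/
theorem exists_relation [IsDomain B] [ValuationRing B] (b : B) (hb : b ≠ 0) :
    ∃ k : ℕ, k ≠ 0 ∧ ∃ c d : A, c ≠ 0 ∧ Associated (algebraMap A B c * b ^ k) (algebraMap A B d) := by
  classical
  let K := FractionRing A
  have hint : Algebra.IsIntegral K (K ⊗[A] B) := WEt.isIntegral_of_weaklyEtale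
  have halg : IsAlgebraic K ((1 : K) ⊗ₜ[A] b) := (hint.isIntegral _).isAlgebraic
  rw [← IsFractionRing.isAlgebraic_iff A K] at halg
  obtain ⟨P, hP, hPb⟩ := halg
  have hinj : Injective (Algebra.TensorProduct.includeRight : B →ₐ[A] K ⊗[A] B) :=
    Algebra.TensorProduct.includeRight_injective (IsFractionRing.injective A K)
  have h0 : aeval b P = 0 := hinj (by
    rw [← aeval_algHom_apply, map_zero]; exact hPb)
  rw [aeval_eq_sum_range] at h0
  simp only [Algebra.smul_def] at h0
  have hAB : Injective (algebraMap A B) := algebraMap_injective_of_flat A B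
  obtain ⟨i, -, j, -, hij, hti, hass⟩ := exists_associated_of_sum_eq_zero _ _ h0
    ⟨P.natDegree, by simp, mul_ne_zero ((map_ne_zero_iff _ hAB).mpr (leadingCoeff_ne_zero.mpr hP))
      (pow_ne_zero _ hb)⟩
  have htj : algebraMap A B (P.coeff j) * b ^ j ≠ 0 := fun h => hti ((associated_zero_iff_eq_zero _).mp (h ▸ hass))
  wlog hlt : i < j generalizing i j
  · exact this j i (Ne.symm hij) htj hass.symm hti (by omega)
  obtain ⟨k, rfl⟩ := Nat.exists_eq_add_of_lt hlt
  refine ⟨k + 1, by omega, P.coeff (i + k + 1), P.coeff i, fun h => htj (by rw [h, map_zero, zero_mul]), ?_⟩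
  obtain ⟨u, hu⟩ := hass.symm
  refine ⟨u, mul_right_cancel₀ (pow_ne_zero i hb) ?_⟩
  rw [← hu]
  ring

omit [IsLocalRing B] in
/-- The two images of a nonzero element in `B ⊗ B` generate the same ideal. -/
theorem span_tmul_eq (b : B) {k : ℕ} (hk : k ≠ 0) {c d : A} (hc : c ≠ 0)
    (h : Associated (algebraMap A B c * b ^ k) (algebraMap A B d)) :
    Ideal.span {b ⊗ₜ[A] (1 : B)} = Ideal.span {(1 : B) ⊗ₜ[A] b} := by
  have key : ∀ (P : Ideal (B ⊗[A] B)) [P.IsMaximal],
      Associated (algebraMap _ (Localization.AtPrime P) (b ⊗ₜ[A] (1 : B)))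
        (algebraMap _ (Localization.AtPrime P) ((1 : B) ⊗ₜ[A] b)) := by
    intro P _
    let R := Localization.AtPrime P
    haveI : Algebra.WeaklyEtale A (B ⊗[A] B) := Algebra.WeaklyEtale.trans A B _
    haveI : Algebra.WeaklyEtale (B ⊗[A] B) R := WEtNoeth.weaklyEtale_of_isLocalization P.primeCompl
    haveI : Algebra.WeaklyEtale A R := Algebra.WeaklyEtale.trans A (B ⊗[A] B) R
    obtain ⟨hd, hv⟩ := valuationRing A R
    have hAR : Injective (algebraMap A R) := algebraMap_injective_of_flat A R
    let f : B →ₐ[A] R := (IsScalarTower.toAlgHom A _ R).comp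
      (Algebra.TensorProduct.includeLeft : B →ₐ[A] B ⊗[A] B)
    let g : B →ₐ[A] R := (IsScalarTower.toAlgHom A _ R).comp
      (Algebra.TensorProduct.includeRight : B →ₐ[A] B ⊗[A] B)
    show Associated (f b) (g b)
    have hf := h.map f
    have hg := h.map g
    rw [map_mul, map_pow, AlgHom.commutes, AlgHom.commutes] at hf hg
    have hpow : Associated (f b ^ k) (g b ^ k) :=
      Associated.of_mul_left (hf.trans hg.symm) (Associated.refl _) ((map_ne_zero_iff _ hAR).mpr hc)
    have main : ∀ x y : R, Associated (x ^ k) (y ^ k) → y ∣ x → Associated x y := by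
      rintro x y hxy ⟨r, rfl⟩
      by_cases hy : y = 0
      · simp [hy]
      have : IsUnit r := by
        rw [mul_pow] at hxy
        obtain ⟨w, hw⟩ := hxy
        rw [mul_assoc] at hw
        have h1 : r ^ k * w = 1 := mul_left_cancel₀ (pow_ne_zero k hy) (hw.trans (mul_one _).symm)
        exact (isUnit_pow_iff hk).mp (IsUnit.of_mul_eq_one _ h1)
      exact (associated_mul_unit_left y r this)
    rcases ValuationRing.dvd_total (g b) (f b) with h' | h'
    · exact main _ _ hpow h'
    · exact (main _ _ hpow.symm h').symm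
  refine Ideal.eq_of_localization_maximal fun P _ => ?_
  rw [Ideal.map_span, Ideal.map_span, Set.image_singleton, Set.image_singleton]
  haveI : Algebra.WeaklyEtale A (B ⊗[A] B) := Algebra.WeaklyEtale.trans A B _
  haveI : Algebra.WeaklyEtale (B ⊗[A] B) (Localization.AtPrime P) :=
    WEtNoeth.weaklyEtale_of_isLocalization P.primeCompl
  haveI : Algebra.WeaklyEtale A (Localization.AtPrime P) := Algebra.WeaklyEtale.trans A (B ⊗[A] B) _
  obtain ⟨hd, -⟩ := valuationRing A (Localization.AtPrime P)
  exact Ideal.span_singleton_eq_span_singleton.mpr (key P)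

/-- Nonzero elements of a weakly etale local algebra over a valuation ring are units times
elements of the base. -/
theorem exists_eq_unit_mul (b : B) (hb : b ≠ 0) : ∃ (a : A) (u : Bˣ), b = u * algebraMap A B a := by
  obtain ⟨hd, hv⟩ := valuationRing A B
  obtain ⟨k, hk, c, d, hc, hcd⟩ := exists_relation A B b hb
  have hspan := span_tmul_eq A B b hk hc hcd
  let J := Ideal.span {b}
  let ι : A →ₗ[A] B ⧸ J := (Ideal.Quotient.mkₐ A J).toLinearMap ∘ₗ Algebra.linearMap A B
  have hex := Module.Flat.lTensor_exact B (LinearMap.exact_subtype_ker_map ι)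
  have hmem : b ⊗ₜ[A] (1 : B) ∈ Ideal.span {(1 : B) ⊗ₜ[A] b} :=
    hspan ▸ Ideal.mem_span_singleton_self _
  have hker : LinearMap.lTensor B ι (b ⊗ₜ[A] (1 : A)) = 0 := by
    obtain ⟨z, hz⟩ := Ideal.mem_span_singleton'.mp hmem
    have hzero : ∀ z : B ⊗[A] B,
        LinearMap.lTensor B (Ideal.Quotient.mkₐ A J).toLinearMap (z * (1 ⊗ₜ[A] b)) = 0 := by
      intro z
      induction z using TensorProduct.induction_on with
      | zero => rw [zero_mul, map_zero]
      | tmul u v =>
        rw [Algebra.TensorProduct.tmul_mul_tmul, mul_one, LinearMap.lTensor_tmul]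
        rw [show (Ideal.Quotient.mkₐ A J).toLinearMap (v * b) = 0 from
          Ideal.Quotient.eq_zero_iff_mem.mpr (Ideal.mul_mem_left _ _ (Ideal.mem_span_singleton_self b)),
          TensorProduct.tmul_zero]
      | add x y hx hy => rw [add_mul, map_add, hx, hy, add_zero]
    rw [show LinearMap.lTensor B ι (b ⊗ₜ[A] (1 : A)) =
      LinearMap.lTensor B (Ideal.Quotient.mkₐ A J).toLinearMap (b ⊗ₜ[A] (1 : B)) by simp [ι],
      ← hz]
    exact hzero z
  obtain ⟨w, hw⟩ := (hex _).mp hker
  have hrid := congrArg (TensorProduct.rid A B) hw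
  rw [TensorProduct.rid_tmul, one_smul] at hrid
  have hall : ∀ w : B ⊗[A] (LinearMap.ker ι),
      TensorProduct.rid A B (LinearMap.lTensor B (LinearMap.ker ι).subtype w) ∈
        Ideal.span (algebraMap A B '' {a | b ∣ algebraMap A B a}) := by
    intro w
    induction w using TensorProduct.induction_on with
    | zero => simp
    | tmul x a =>
      rw [LinearMap.lTensor_tmul, TensorProduct.rid_tmul, Algebra.smul_def]
      refine Ideal.mul_mem_right _ _ (Ideal.subset_span ⟨_, ?_, rfl⟩)
      exact Ideal.mem_span_singleton.mp (Ideal.Quotient.eq_zero_iff_mem.mp a.2)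
    | add x y hx hy => rw [map_add, map_add]; exact add_mem hx hy
  obtain ⟨T, hTsub, hT⟩ := Submodule.mem_span_finite_of_mem_span (hrid ▸ hall w)
  classical
  choose pre hpre hpre' using fun t : T => hTsub t.2
  let I : Ideal A := Ideal.span (Set.range pre)
  obtain ⟨a, ha⟩ := IsBezout.isPrincipal_of_FG I (Submodule.fg_span (Set.finite_range pre))
  change I = Ideal.span {a} at ha
  have hba : b ∣ algebraMap A B a := by
    have : I ≤ J.comap (algebraMap A B) :=
      Ideal.span_le.mpr (by rintro _ ⟨t, rfl⟩; exact Ideal.mem_span_singleton.mpr (hpre t))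
    exact Ideal.mem_span_singleton.mp (this (ha ▸ Ideal.mem_span_singleton_self a))
  have hab : algebraMap A B a ∣ b := by
    rw [← Ideal.mem_span_singleton]
    refine (Ideal.span_le.mpr ?_) hT
    intro t ht
    have : pre ⟨t, ht⟩ ∈ Ideal.span {a} := ha ▸ Ideal.subset_span ⟨_, rfl⟩
    rw [Ideal.mem_span_singleton] at this
    rw [SetLike.mem_coe, Ideal.mem_span_singleton]
    exact (map_dvd (algebraMap A B) this).trans (hpre' ⟨t, ht⟩).dvd
  obtain ⟨u, hu⟩ := associated_of_dvd_dvd hab hba
  exact ⟨a, u, by rw [← hu, mul_comm]⟩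

end Groth.Agent.HenselLib.ValRingWEt
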