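import Groth.Agent.HenselLib.Hfp
import Mathlib.LinearAlgebra.DirectSum.Finsupp
import Mathlib.LinearAlgebra.TensorProduct.RightExactness
import Mathlib.RingTheory.IntegralClosure.IsIntegralClosure.Basic

/-!
# Descending finite parts from henselizations
-/

set_option autoImplicit false
set_option linter.all false

universe u

open scoped TensorProduct
open CategoryTheory

namespace Groth.Agent.HenselLib

/-- Over a henselian pair, a finite type algebra finite modulo the ideal has a finite idempotent
factor containing the closed subset. -/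
theorem exists_idem_finite {A R : Type u} [CommRing A] [CommRing R] (I : Ideal A) [HenselianRing A I]
    [Algebra A R] [Algebra.FiniteType A R] (hfin : Module.Finite A (R ⧸ I.map (algebraMap A R))) :
    ∃ e : R, IsIdempotentElem e ∧ e - 1 ∈ I.map (algebraMap A R) ∧
      Module.Finite A (R ⧸ Ideal.span {1 - e}) := by
  classical
  set IR := I.map (algebraMap A R) with hIR
  have hspan : Ideal.span (zmtLocus A R : Set R) ⊔ IR = ⊤ := by
    by_contra h
    obtain ⟨q, hq, hle⟩ := Ideal.exists_le_maximal _ h
    have hIq : IR ≤ q := le_sup_right.trans hle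
    have hqfat : Algebra.QuasiFiniteAt A q := by
      refine Algebra.QuasiFiniteAt.of_isOpen_singleton_fiber (⟨q, hq.isPrime⟩ : PrimeSpectrum R) ?_
      let p := PrimeSpectrum.comap (algebraMap A R) ⟨q, hq.isPrime⟩
      have hqp : Ideal.map (algebraMap A R) I ≤ q := hIq
      have hd := (Algebra.QuasiFinite.isDiscrete_comap_preimage_singleton (R := A) (S := R ⧸ IR) p)
      have hd' := hd.image (PrimeSpectrum.isClosedEmbedding_comap_of_surjective (R ⧸ IR)
        (Ideal.Quotient.mk IR) Ideal.Quotient.mk_surjective).isInducing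
      have himage : (PrimeSpectrum.comap (Ideal.Quotient.mk IR)) ''
          (PrimeSpectrum.comap (algebraMap A (R ⧸ IR)) ⁻¹' {p}) =
          PrimeSpectrum.comap (algebraMap A R) ⁻¹' {p} := by
        have hcomp : PrimeSpectrum.comap (algebraMap A (R ⧸ IR)) =
            PrimeSpectrum.comap (algebraMap A R) ∘ PrimeSpectrum.comap (Ideal.Quotient.mk IR) := by
          rw [← PrimeSpectrum.comap_comp]; rfl
        rw [hcomp, Set.preimage_comp, Set.image_preimage_eq_inter_range, Set.inter_eq_left]
        intro y hy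
        rw [range_comap_of_surjective _ _ Ideal.Quotient.mk_surjective, Ideal.mk_ker]
        refine Ideal.map_le_iff_le_comap.mpr ?_
        have hyp : y.asIdeal.comap (algebraMap A R) = q.comap (algebraMap A R) :=
          congrArg PrimeSpectrum.asIdeal hy
        rw [hyp]
        exact Ideal.map_le_iff_le_comap.mp hqp
      rw [himage] at hd'
      have := hd'.to_subtype
      exact isOpen_discrete _
    obtain ⟨r, hrq, hr, H⟩ :=
      Algebra.zariskisMainProperty_iff.mp (Algebra.ZariskisMainProperty.of_finiteType (R := A) q)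
    exact hrq (hle (Submodule.mem_sup_left (Ideal.subset_span ⟨hr, H⟩)))
  obtain ⟨G, hG⟩ := hfin.fg_top
  choose g hg using fun x : R ⧸ IR => Ideal.Quotient.mk_surjective x
  have hfin' : ∃ G' : Finset R, ∀ x : R, ∃ c : R → A, 1 * x - ∑ y ∈ G', c y • y ∈ IR := by
    refine ⟨G.image g, fun x => ?_⟩
    have hx : Ideal.Quotient.mk IR x ∈ Submodule.span A (G : Set (R ⧸ IR)) := by rw [hG]; trivial
    obtain ⟨c, -, hc⟩ := Submodule.mem_span_finset.mp hx
    refine ⟨fun y => c (Ideal.Quotient.mk IR y), ?_⟩
    rw [one_mul, ← Ideal.Quotient.eq, ← hc, map_sum]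
    rw [Finset.sum_image fun a _ b _ hab => by rw [← hg a, ← hg b, hab]]
    refine Finset.sum_congr rfl fun y _ => ?_
    show c y • y = Ideal.Quotient.mkₐ A IR (c (Ideal.Quotient.mk IR (g y)) • g y)
    rw [map_smul, Ideal.Quotient.mkₐ_eq_mk, hg]
  exact exists_finite_part I (1 : R) (by simp) (by rw [hspan]; trivial) hfin'

namespace TensorHull

variable {R K : Type u} [CommRing R] [CommRing K] [Algebra R K] {M : Type u} [AddCommGroup M] [Module R M]

theorem rTensor_ι_map {M : Type u} [AddCommMonoid M] [Module R M] {P Q : Pt R K} (f : P ⟶ Q)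
    (z : P.Ring ⊗[R] M) :
    (ι Q).toLinearMap.rTensor M (f.map.toLinearMap.rTensor M z) = (ι P).toLinearMap.rTensor M z := by
  rw [← LinearMap.rTensor_comp_apply]
  congr 2
  exact LinearMap.ext fun x => ι_map f x

/-- Elements of a tensor product with the hull come from a stage. -/
theorem exists_rep_rTensor {M : Type u} [AddCommMonoid M] [Module R M] (z : Hull R K ⊗[R] M) :
    ∃ (P : Pt R K) (z' : P.Ring ⊗[R] M), (ι P).toLinearMap.rTensor M z' = z := by
  induction z using TensorProduct.induction_on with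
  | zero => exact ⟨(exists_base (R := R) (K := K)).choose, 0, map_zero _⟩
  | tmul h m =>
    obtain ⟨P, x, rfl⟩ := exists_rep h
    exact ⟨P, x ⊗ₜ m, rfl⟩
  | add a b ha hb =>
    obtain ⟨P, a', rfl⟩ := ha
    obtain ⟨Q, b', rfl⟩ := hb
    obtain ⟨S, f, g, -⟩ := IsFilteredOrEmpty.cocone_objs P Q
    exact ⟨S, f.map.toLinearMap.rTensor M a' + g.map.toLinearMap.rTensor M b', by
      rw [map_add, rTensor_ι_map, rTensor_ι_map]⟩

theorem exists_kill_finset {P : Pt R K} (s : Finset P.Ring) (h : ∀ x ∈ s, ι P x = 0) :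
    ∃ (S : Pt R K) (f : P ⟶ S), ∀ x ∈ s, f.map x = 0 := by
  classical
  induction s using Finset.induction_on with
  | empty => exact ⟨P, 𝟙 P, by simp⟩
  | insert a t _ ih =>
    obtain ⟨S', g', hg'⟩ := ih fun x hx => h x (Finset.mem_insert_of_mem hx)
    obtain ⟨T, k, hk⟩ := (exists_eq_zero_iff (g'.map a)).mp (by
      rw [ι_map]; exact h a (Finset.mem_insert_self a t))
    refine ⟨T, g' ≫ k, fun x hx => ?_⟩
    show k.map (g'.map x) = 0
    rcases Finset.mem_insert.mp hx with rfl | hx
    · exact hk
    · rw [hg' x hx, map_zero]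

theorem finsuppScalarRight_rTensor {P Q : Type u} [AddCommGroup P] [Module R P] [AddCommGroup Q]
    [Module R Q] (φ : P →ₗ[R] Q) {α : Type u} [DecidableEq α] (u : P ⊗[R] (α →₀ R)) (a : α) :
    TensorProduct.finsuppScalarRight R R Q α (φ.rTensor _ u) a =
      φ (TensorProduct.finsuppScalarRight R R P α u a) := by
  classical
  induction u using TensorProduct.induction_on with
  | zero => simp
  | tmul p v => simp
  | add x y hx hy => simp [hx, hy]

theorem hcomm {A B N N' : Type u} [AddCommMonoid A] [Module R A] [AddCommMonoid B] [Module R B]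
    [AddCommMonoid N] [Module R N] [AddCommMonoid N'] [Module R N']
    (φ : A →ₗ[R] B) (ψ : N →ₗ[R] N') (u : A ⊗[R] N) :
    φ.rTensor N' (ψ.lTensor A u) = ψ.lTensor B (φ.rTensor N u) := by
  rw [← LinearMap.comp_apply, ← LinearMap.comp_apply, LinearMap.rTensor_comp_lTensor,
    LinearMap.lTensor_comp_rTensor]

/-- An element killed in the hull is killed at a later stage. -/
theorem exists_eq_zero_rTensor {P : Pt R K} (z : P.Ring ⊗[R] M)
    (h : (ι P).toLinearMap.rTensor M z = 0) :
    ∃ (S : Pt R K) (f : P ⟶ S), f.map.toLinearMap.rTensor M z = 0 := by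
  classical
  let π : (M →₀ R) →ₗ[R] M := Finsupp.linearCombination R id
  have hπ : Function.Surjective π := fun m => ⟨Finsupp.single m 1, by simp [π]⟩
  obtain ⟨z₁, rfl⟩ := LinearMap.lTensor_surjective P.Ring hπ z
  rw [hcomm] at h
  have hex : Function.Exact (LinearMap.ker π).subtype π := LinearMap.exact_subtype_ker_map π
  have hex2 := @lTensor_exact R (LinearMap.ker π) (M →₀ R) M _ _ _ _ _ _ _ (LinearMap.ker π).subtype π
    (Hull R K) _ _ hex hπ
  obtain ⟨w, hw⟩ := (hex2 _).mp h
  obtain ⟨Q, w', rfl⟩ := exists_rep_rTensor w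
  obtain ⟨S, f, g, -⟩ := IsFilteredOrEmpty.cocone_objs P Q
  let u := f.map.toLinearMap.rTensor (M →₀ R) z₁ -
    (LinearMap.ker π).subtype.lTensor S.Ring (g.map.toLinearMap.rTensor _ w')
  have hu : (ι S).toLinearMap.rTensor _ u = 0 := by
    rw [map_sub, rTensor_ι_map, hcomm, rTensor_ι_map, hw, sub_self]
  let cu := TensorProduct.finsuppScalarRight R R S.Ring M u
  obtain ⟨T, t, ht⟩ := exists_kill_finset (cu.support.image fun a => cu a) (by
    intro x hx
    obtain ⟨a, -, rfl⟩ := Finset.mem_image.mp hx
    show (ι S).toLinearMap _ = 0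
    rw [← finsuppScalarRight_rTensor, hu, map_zero, Finsupp.zero_apply])
  have h0 : t.map.toLinearMap.rTensor (M →₀ R) u = 0 := by
    refine (TensorProduct.finsuppScalarRight R R T.Ring M).injective (Finsupp.ext fun a => ?_)
    rw [finsuppScalarRight_rTensor, map_zero, Finsupp.zero_apply]
    by_cases ha : cu a = 0
    · show t.map (cu a) = 0
      rw [ha, map_zero]
    · exact ht _ (Finset.mem_image_of_mem _ (Finsupp.mem_support_iff.mpr ha))
  refine ⟨T, f ≫ t, ?_⟩
  show (t.map.toLinearMap.comp f.map.toLinearMap).rTensor M (π.lTensor _ z₁) = 0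
  rw [LinearMap.rTensor_comp_apply, hcomm, hcomm]
  have h2 := congrArg (π.lTensor T.Ring) h0
  rw [map_sub, map_sub, map_zero, hcomm t.map.toLinearMap (LinearMap.ker π).subtype,
    ← LinearMap.lTensor_comp_apply, show π.comp (LinearMap.ker π).subtype = 0 from
      LinearMap.ext fun x => x.2, LinearMap.lTensor_zero, LinearMap.zero_apply, sub_zero] at h2
  exact h2

theorem exists_eq_zero_family {P : Pt R K} {α : Type*} (s : Finset α) (z : α → P.Ring ⊗[R] M)
    (h : ∀ a ∈ s, (ι P).toLinearMap.rTensor M (z a) = 0) :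
    ∃ (S : Pt R K) (f : P ⟶ S), ∀ a ∈ s, f.map.toLinearMap.rTensor M (z a) = 0 := by
  classical
  induction s using Finset.induction_on with
  | empty => exact ⟨P, 𝟙 P, by simp⟩
  | insert a t _ ih =>
    obtain ⟨S₁, g, hg⟩ := ih fun x hx => h x (Finset.mem_insert_of_mem hx)
    obtain ⟨S, k, hk⟩ := exists_eq_zero_rTensor (g.map.toLinearMap.rTensor M (z a)) (by
      rw [rTensor_ι_map]; exact h a (Finset.mem_insert_self a t))
    refine ⟨S, g ≫ k, fun x hx => ?_⟩
    show (k.map.toLinearMap.comp g.map.toLinearMap).rTensor M (z x) = 0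
    rw [LinearMap.rTensor_comp_apply]
    rcases Finset.mem_insert.mp hx with rfl | hx
    · exact hk
    · rw [hg x hx, map_zero]

end TensorHull

end Groth.Agent.HenselLib
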