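import Groth.Agent.HenselLib.FlatQuot
import Groth.Agent.HenselLib.PairQuot
import Mathlib.RingTheory.AdicCompletion.Completeness
import Mathlib.RingTheory.AdicCompletion.Algebra
import Mathlib.RingTheory.TensorProduct.DirectLimitFG

/-!
# Base change of torsion modules along maps which are isomorphisms modulo every power
-/

set_option autoImplicit false
set_option linter.all false

universe u

open TensorProduct Function

namespace Groth.Agent.HenselLib.FlatQuot

section General

variable {S T : Type u} [CommRing S] [CommRing T] [Algebra S T] {I : Ideal S}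

/-- Torsion modules do not change along a map which is an isomorphism modulo all powers. -/
theorem bijective_mk_of_torsion' (hq : ∀ n : ℕ, Bijective
      (Ideal.quotientMap ((I ^ n).map (algebraMap S T)) (algebraMap S T) Ideal.le_comap_map))
    (N : Type u) [AddCommGroup N] [Module S N] (hN : ∀ m : N, IsTors I m) :
    Bijective (TensorProduct.mk S T N 1) := by
  have hfg : ∀ P : Submodule S N, P.FG → ∃ n, ∀ a ∈ I ^ n, ∀ x : P, a • x = 0 := by
    intro P hP
    classical
    obtain ⟨s, rfl⟩ := hP
    choose n hn using hN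
    refine ⟨s.sup n, fun a ha x => Subtype.ext ?_⟩
    simp only [Submodule.coe_smul, ZeroMemClass.coe_zero]
    obtain ⟨x, hx⟩ := x
    show a • x = 0
    induction hx using Submodule.span_induction with
    | mem y hy => exact hn y a (Ideal.pow_le_pow_right (Finset.le_sup hy) ha)
    | zero => exact smul_zero _
    | add y z _ _ hy hz => rw [smul_add, hy, hz, add_zero]
    | smul c y _ hy => rw [smul_comm, hy, smul_zero]
  refine ⟨(injective_iff_map_eq_zero _).mpr fun x hx => ?_, fun z => ?_⟩
  · let P := Submodule.span S ({x} : Set N)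
    let t : P ⊗[S] T := ⟨x, Submodule.subset_span rfl⟩ ⊗ₜ 1
    have ht : LinearMap.rTensor T P.subtype t = 0 := by
      refine (TensorProduct.comm S N T).injective ?_
      rw [map_zero]
      exact hx
    obtain ⟨Q, hPQ, hQ, h⟩ := TensorProduct.eq_zero_of_fg_of_subtype_eq_zero
      (hP := Submodule.fg_span_singleton x) ht
    obtain ⟨n, hn⟩ := hfg Q hQ
    have hinj := (bijective_mk_of_killed (hq n) Q hn).1
    have h0 : (⟨x, hPQ (Submodule.subset_span rfl)⟩ : Q) = 0 := by
      refine hinj ?_
      rw [map_zero]
      have := congrArg (TensorProduct.comm S Q T) h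
      rw [map_zero] at this
      exact this
    exact congrArg Subtype.val h0
  · induction z with
    | zero => exact ⟨0, map_zero _⟩
    | tmul s m =>
      obtain ⟨n, hn⟩ := hfg (Submodule.span S ({m} : Set N)) (Submodule.fg_span_singleton m)
      obtain ⟨y, hy⟩ := (bijective_mk_of_killed (hq n) _ hn).2
        (s ⊗ₜ (⟨m, Submodule.subset_span rfl⟩ : Submodule.span S ({m} : Set N)))
      exact ⟨y.1, congrArg ((Submodule.span S ({m} : Set N)).subtype.lTensor T) hy⟩
    | add x y hx hy =>
      obtain ⟨a, rfl⟩ := hx
      obtain ⟨b, rfl⟩ := hy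
      exact ⟨a + b, map_add _ _ _⟩

variable {R : Type u} [CommRing R] [Algebra R S] [Algebra R T] [IsScalarTower R S T]

theorem bijective_rTensor_of_torsion (m : Ideal R)
    (hq : ∀ n : ℕ, Bijective (Ideal.quotientMap (((m.map (algebraMap R S)) ^ n).map (algebraMap S T))
      (algebraMap S T) Ideal.le_comap_map))
    (E : Type u) [AddCommGroup E] [Module R E] (hE : ∀ e : E, ∃ n : ℕ, ∀ r ∈ m ^ n, r • e = 0) :
    Bijective (LinearMap.rTensor E (IsScalarTower.toAlgHom R S T).toLinearMap) := by
  have hN : ∀ z : S ⊗[R] E, IsTors (m.map (algebraMap R S)) z := by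
    intro z
    induction z with
    | zero => exact ⟨0, fun _ _ => smul_zero _⟩
    | tmul s e =>
      obtain ⟨n, hn⟩ := hE e
      refine ⟨n, fun a ha => ?_⟩
      rw [← Ideal.map_pow] at ha
      suffices ∀ t : S, a • (t ⊗ₜ[R] e : S ⊗[R] E) = 0 from this s
      induction ha using Submodule.span_induction with
      | mem x hx =>
        obtain ⟨r, hr, rfl⟩ := hx
        intro t
        rw [algebraMap_smul, ← TensorProduct.tmul_smul, hn r hr, TensorProduct.tmul_zero]
      | zero => exact fun t => zero_smul _ _
      | add x y _ _ hx hy => exact fun t => by rw [add_smul, hx, hy, add_zero]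
      | smul c x _ hx => exact fun t => by rw [smul_eq_mul, mul_smul, hx, smul_zero]
    | add x y hx hy =>
      obtain ⟨a, ha⟩ := hx
      obtain ⟨b, hb⟩ := hy
      refine ⟨a + b, fun c hc => ?_⟩
      rw [smul_add, ha c (Ideal.pow_le_pow_right (Nat.le_add_right a b) hc),
        hb c (Ideal.pow_le_pow_right (Nat.le_add_left b a) hc), add_zero]
  have h := bijective_mk_of_torsion' hq (S ⊗[R] E) hN
  have he : ∀ z, LinearMap.rTensor E (IsScalarTower.toAlgHom R S T).toLinearMap z =
      TensorProduct.AlgebraTensorModule.cancelBaseChange R S S T E (1 ⊗ₜ z) := fun z => by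
    induction z with
    | zero => simp
    | tmul s e => simp [Algebra.smul_def]
    | add x y hx hy => rw [map_add, hx, hy, TensorProduct.tmul_add, map_add]
  rw [show ⇑(LinearMap.rTensor E (IsScalarTower.toAlgHom R S T).toLinearMap) =
    ⇑(TensorProduct.AlgebraTensorModule.cancelBaseChange R S S T E) ∘ ⇑(TensorProduct.mk S T (S ⊗[R] E) 1)
    from funext he]
  exact (LinearEquiv.bijective _).comp h

end General

theorem bijective_quotientMap_completion {S : Type u} [CommRing S] (I : Ideal S) (hI : I.FG)
    {T : Type u} [CommRing T] [Algebra S T] (e : T ≃ₐ[S] AdicCompletion I S) (n : ℕ) :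
    Bijective (Ideal.quotientMap ((I ^ n).map (algebraMap S T)) (algebraMap S T) Ideal.le_comap_map) := by
  let ev : T →ₐ[S] S ⧸ I ^ n := (AdicCompletion.evalₐ I n).comp e.toAlgHom
  have hker : ∀ x, ev x = 0 → x ∈ (I ^ n).map (algebraMap S T) := by
    intro x hx
    have h1 : AdicCompletion.eval I S n (e x) = 0 := by
      rw [← AdicCompletion.factor_evalₐ_eq_eval I (e x) (by simp), show AdicCompletion.evalₐ I n (e x) = 0 from hx,
        map_zero]
    have h2 : e x ∈ I ^ n • (⊤ : Submodule S (AdicCompletion I S)) := by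
      rw [AdicCompletion.pow_smul_top_eq_ker_eval hI]; exact h1
    rw [Ideal.smul_top_eq_map, Submodule.restrictScalars_mem] at h2
    have h3 := Ideal.mem_map_of_mem (e.symm.toAlgHom : AdicCompletion I S →+* T) h2
    rw [Ideal.map_map, e.symm.toAlgHom.comp_algebraMap] at h3
    simpa using h3
  refine ⟨(injective_iff_map_eq_zero _).mpr fun z hz => ?_, fun z => ?_⟩
  · obtain ⟨s, rfl⟩ := Ideal.Quotient.mk_surjective z
    rw [Ideal.quotientMap_mk, Ideal.Quotient.eq_zero_iff_mem] at hz
    have h : ∀ x ∈ (I ^ n).map (algebraMap S T), ev x = 0 := fun x hx => by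
      have := Ideal.mem_map_of_mem (ev : T →+* S ⧸ I ^ n) hx
      rw [Ideal.map_map, ev.comp_algebraMap] at this
      rw [Ideal.Quotient.algebraMap_eq, Ideal.map_quotient_self] at this
      exact (Submodule.mem_bot _).mp this
    have := h _ hz
    rwa [ev.commutes, Ideal.Quotient.algebraMap_eq] at this
  · obtain ⟨x, rfl⟩ := Ideal.Quotient.mk_surjective z
    obtain ⟨s, hs⟩ := Ideal.Quotient.mk_surjective (ev x)
    refine ⟨Ideal.Quotient.mk _ s, ?_⟩
    rw [Ideal.quotientMap_mk, Ideal.Quotient.eq]
    refine hker _ ?_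
    rw [map_sub, ev.commutes, Ideal.Quotient.algebraMap_eq, hs, sub_self]

end Groth.Agent.HenselLib.FlatQuot
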