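import Mathlib.AlgebraicGeometry.Scheme
import Mathlib.AlgebraicGeometry.Properties
import Mathlib.RingTheory.Idempotents

/-!
# Idempotent global sections and open-closed subsets
-/

set_option autoImplicit false
set_option linter.all false

universe u

open CategoryTheory AlgebraicGeometry TopologicalSpace Opposite

namespace Groth.Agent.HenselLib.SectionsIdem

variable {X : Scheme.{u}}

theorem germ_one_or_zero {e : Γ(X, ⊤)} (he : IsIdempotentElem e) (x : X) :
    (X.presheaf.germ ⊤ x trivial).hom e = 1 ∨ (X.presheaf.germ ⊤ x trivial).hom e = 0 := by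
  set a := (X.presheaf.germ ⊤ x trivial).hom e
  have ha : a * a = a := by rw [← map_mul, he.eq]
  rcases IsLocalRing.isUnit_or_isUnit_one_sub_self a with h | h
  · exact Or.inl (h.mul_left_cancel (by rw [ha, mul_one]))
  · exact Or.inr (h.mul_left_cancel (by rw [mul_zero, sub_mul, one_mul, ha, sub_self]))

/-- Idempotent global sections are determined by their basic open. -/
theorem eq_of_basicOpen_eq {e f : Γ(X, ⊤)} (he : IsIdempotentElem e) (hf : IsIdempotentElem f)
    (h : X.basicOpen e = X.basicOpen f) : e = f := by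
  refine TopCat.Presheaf.section_ext X.sheaf ⊤ e f fun x hx => ?_
  show (X.presheaf.germ ⊤ x trivial).hom e = (X.presheaf.germ ⊤ x trivial).hom f
  have hiff : x ∈ X.basicOpen e ↔ x ∈ X.basicOpen f := by rw [h]
  rw [Scheme.mem_basicOpen X e x hx, Scheme.mem_basicOpen X f x hx] at hiff
  rcases germ_one_or_zero he x with h1 | h1 <;> rcases germ_one_or_zero hf x with h2 | h2
  · rw [h1, h2]
  · exact absurd (hiff.mp (by rw [h1]; exact isUnit_one)) (by rw [h2]; exact not_isUnit_zero)
  · exact absurd (hiff.mpr (by rw [h2]; exact isUnit_one)) (by rw [h1]; exact not_isUnit_zero)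
  · rw [h1, h2]

/-- Open-closed subsets are cut out by idempotent global sections. -/
theorem exists_idempotent {U : Set X} (hU : IsClopen U) :
    ∃ e : Γ(X, ⊤), IsIdempotentElem e ∧ (X.basicOpen e : Set X) = U := by
  let O : Bool → X.Opens := fun b => bif b then ⟨U, hU.2⟩ else ⟨Uᶜ, hU.1.isOpen_compl⟩
  have hcov : (⊤ : X.Opens) ≤ iSup O := fun x _ => by
    by_cases hx : x ∈ U
    · exact Opens.mem_iSup.mpr ⟨true, hx⟩
    · exact Opens.mem_iSup.mpr ⟨false, hx⟩
  let sf : ∀ b, Γ(X, O b) := fun b => bif b then 1 else 0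
  have hbot : ∀ b c, b ≠ c → O b ⊓ O c = ⊥ := fun b c hbc => by
    rw [eq_bot_iff]
    intro x hx
    cases b <;> cases c
    · exact absurd rfl hbc
    · exact absurd hx.2 hx.1
    · exact absurd hx.1 hx.2
    · exact absurd rfl hbc
  have hcompat : TopCat.Presheaf.IsCompatible X.sheaf.1 O sf := fun b c => by
    by_cases hbc : b = c
    · subst hbc; rfl
    · have : Subsingleton Γ(X, O b ⊓ O c) := by rw [hbot b c hbc]; infer_instance
      exact this.elim _ _
  have glue : ∃! s : Γ(X, ⊤), ∀ b, X.presheaf.map (homOfLE (le_top : O b ≤ ⊤)).op s = sf b :=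
    X.sheaf.existsUnique_gluing' O ⊤ (fun b => homOfLE le_top) hcov sf hcompat
  obtain ⟨e, hres, huniq⟩ := glue
  refine ⟨e, huniq (e * e) fun b => ?_, ?_⟩
  · show X.presheaf.map _ (e * e) = _
    rw [map_mul, hres]
    cases b <;> simp [sf]
  · have hb : ∀ b, (O b : X.Opens) ⊓ X.basicOpen e = X.basicOpen (sf b) := fun b => by
      rw [← hres b, Scheme.basicOpen_res]
    have h1 := hb true
    have h0 := hb false
    simp only [sf, cond_true, cond_false, Scheme.basicOpen_zero] at h1 h0
    rw [X.basicOpen_of_isUnit isUnit_one] at h1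
    ext x
    constructor
    · intro hx
      by_contra hxU
      have : x ∈ (O false ⊓ X.basicOpen e : X.Opens) := ⟨hxU, hx⟩
      rw [h0] at this
      exact this
    · intro hx
      have : x ∈ (O true : X.Opens) := hx
      rw [← h1] at this
      exact this.2

theorem isClopen_basicOpen {e : Γ(X, ⊤)} (he : IsIdempotentElem e) : IsClopen (X.basicOpen e : Set X) := by
  refine ⟨⟨?_⟩, (X.basicOpen e).isOpen⟩
  have : (X.basicOpen e : Set X)ᶜ = X.basicOpen (1 - e) := by
    ext x
    simp only [Set.mem_compl_iff, SetLike.mem_coe]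
    rw [Scheme.mem_basicOpen X e x (trivial : x ∈ (⊤ : X.Opens)), Scheme.mem_basicOpen X (U := ⊤) (1 - e) x (trivial : x ∈ (⊤ : X.Opens)), map_sub, map_one]
    rcases germ_one_or_zero he x with h | h
    · rw [h]; simp [not_isUnit_zero]
    · rw [h]; simp [not_isUnit_zero]
  rw [this]
  exact (X.basicOpen _).isOpen

end Groth.Agent.HenselLib.SectionsIdem
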