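import Groth.Agent.HenselLib.LocalHens
import Mathlib.RingTheory.Unramified.LocalRing
import Mathlib.RingTheory.LocalRing.ResidueField.Ideal

/-!
# Pointed etale algebras at a prime and the henselization of a localization
-/

set_option autoImplicit false
set_option linter.all false

universe u

open IsLocalRing

namespace Groth.Agent.HenselLib.PtPrime

variable {R : Type u} [CommRing R] (p : Ideal R) [p.IsPrime]

theorem exists_mul_mem_map {S : Type u} [CommRing S] [Algebra R S] [Algebra.EssFiniteType R S]
    [Algebra.FormallyUnramified R S] (q : Ideal S) [q.IsPrime] [q.LiesOver p] {x : S}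
    (hx : x ∈ q) : ∃ s ∉ q, s * x ∈ p.map (algebraMap R S) := by
  letI := Localization.AtPrime.algebraOfLiesOver p q
  have : Algebra.IsUnramifiedAt R q := inferInstance
  have hmap := ((Algebra.isUnramifiedAt_iff_map_eq R p q).mp this).2
  have hx' : algebraMap S (Localization.AtPrime q) x ∈
      (p.map (algebraMap R S)).map (algebraMap S (Localization.AtPrime q)) := by
    rw [Ideal.map_map, ← IsScalarTower.algebraMap_eq, hmap]
    exact (IsLocalization.AtPrime.to_map_mem_maximal_iff _ q x _).mpr hx
  rw [IsLocalization.algebraMap_mem_map_algebraMap_iff q.primeCompl] at hx'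
  obtain ⟨s, hs, hsx⟩ := hx'
  exact ⟨s, hs, hsx⟩

theorem ker_hullPt_eq_map {K : Type u} [Field K] [Algebra R K]
    (hK : RingHom.ker (algebraMap R K) = p) :
    RingHom.ker (hullPt R K) = p.map (algebraMap R (Hull R K)) := by
  refine le_antisymm (fun h hh => ?_) (Ideal.map_le_iff_le_comap.mpr fun r hr => ?_)
  · obtain ⟨P, x, rfl⟩ := exists_rep h
    rw [RingHom.mem_ker, hullPt_ι] at hh
    let q : Ideal P.Ring := RingHom.ker P.pt
    have hqp : q.IsPrime := RingHom.ker_isPrime _
    have hl : q.LiesOver p := ⟨Ideal.ext fun r => by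
      rw [Ideal.mem_comap, RingHom.mem_ker, AlgHom.commutes, ← hK, RingHom.mem_ker]⟩
    obtain ⟨s, hs, hsx⟩ := exists_mul_mem_map p q (show x ∈ q from hh)
    have h1 := mem_map_algHom (ι P) p hsx
    rw [map_mul] at h1
    exact ((p.map (algebraMap R (Hull R K))).unit_mul_mem_iff_mem
      (isUnit_of_isUnit_hullPt (by rw [hullPt_ι]; exact Ne.isUnit hs))).mp h1
  · rw [Ideal.mem_comap, RingHom.mem_ker, AlgHom.commutes]
    exact (hK.ge hr : r ∈ RingHom.ker (algebraMap R K))

section Points

variable {S : Type u} [CommRing S] [Algebra R S] (q : Ideal S) [q.IsPrime]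
  (hq : p = q.comap (algebraMap R S))

theorem comap_ker_point (σ : S →ₐ[R] p.ResidueField) :
    p = (RingHom.ker σ).comap (algebraMap R S) :=
  Ideal.ext fun r => by
    rw [Ideal.mem_comap, RingHom.mem_ker, AlgHom.commutes, Ideal.algebraMap_residueField_eq_zero]

include hq in
theorem bijective_map_of_point (σ : S →ₐ[R] p.ResidueField) (hσ : RingHom.ker σ = q) :
    Function.Bijective (Ideal.ResidueField.map p q (algebraMap R S) hq) := by
  let τ : q.ResidueField →+* p.ResidueField := Ideal.ResidueField.lift q σ.toRingHom hσ.ge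
    fun x hx => Ne.isUnit fun h => hx (hσ.le h)
  have hid : τ.comp (Ideal.ResidueField.map p q (algebraMap R S) hq) = RingHom.id _ :=
    Ideal.ResidueField.ringHom_ext (RingHom.ext fun r => by simp [τ])
  exact ⟨RingHom.injective _, fun y => ⟨τ y, τ.injective congr($hid (τ y))⟩⟩

include hq in
theorem exists_point (hb : Function.Bijective (Ideal.ResidueField.map p q (algebraMap R S) hq)) :
    ∃ σ : S →ₐ[R] p.ResidueField, RingHom.ker σ = q := by
  let e := RingEquiv.ofBijective _ hb
  let σ : S →ₐ[R] p.ResidueField :=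
    { e.symm.toRingHom.comp (algebraMap S q.ResidueField) with
      commutes' := fun r => e.injective (by
        show e (e.symm (algebraMap S q.ResidueField (algebraMap R S r))) = _
        rw [e.apply_symm_apply]
        exact (Ideal.ResidueField.map_algebraMap p q (algebraMap R S) hq r).symm) }
  refine ⟨σ, Ideal.ext fun s => ?_⟩
  show e.symm (algebraMap S q.ResidueField s) = 0 ↔ s ∈ q
  rw [map_eq_zero_iff _ e.symm.injective, Ideal.algebraMap_residueField_eq_zero]

include hq in
theorem point_unique (hb : Function.Bijective (Ideal.ResidueField.map p q (algebraMap R S) hq))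
    (σ σ' : S →ₐ[R] p.ResidueField) (hσ : RingHom.ker σ = q) (hσ' : RingHom.ker σ' = q) :
    σ = σ' := by
  let τ : q.ResidueField →+* p.ResidueField := Ideal.ResidueField.lift q σ.toRingHom hσ.ge
    fun x hx => Ne.isUnit fun h => hx (hσ.le h)
  let τ' : q.ResidueField →+* p.ResidueField := Ideal.ResidueField.lift q σ'.toRingHom hσ'.ge
    fun x hx => Ne.isUnit fun h => hx (hσ'.le h)
  have h : τ.comp (Ideal.ResidueField.map p q (algebraMap R S) hq) =
      τ'.comp (Ideal.ResidueField.map p q (algebraMap R S) hq) :=
    Ideal.ResidueField.ringHom_ext (RingHom.ext fun r => by simp [τ, τ'])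
  refine AlgHom.ext fun s => ?_
  obtain ⟨y, hy⟩ := hb.2 (algebraMap S q.ResidueField s)
  have := congr($h y)
  simp only [RingHom.comp_apply, hy] at this
  simpa [τ, τ'] using this

end Points

theorem exists_mul_eq (x : p.ResidueField) :
    ∃ (a s : R), s ∉ p ∧ algebraMap R p.ResidueField s * x = algebraMap R p.ResidueField a := by
  obtain ⟨x, rfl⟩ := IsLocalRing.residue_surjective x
  obtain ⟨a, ⟨s, hs⟩, rfl⟩ := IsLocalization.exists_mk'_eq p.primeCompl x
  refine ⟨a, s, hs, ?_⟩
  have h := congrArg (IsLocalRing.residue (Localization.AtPrime p))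
    (IsLocalization.mk'_spec' (Localization.AtPrime p) a (⟨s, hs⟩ : p.primeCompl))
  rw [map_mul] at h
  exact h

theorem hull_point_surjective : Function.Surjective (hullPt R p.ResidueField) := fun x => by
  obtain ⟨a, s, hs, h⟩ := exists_mul_eq p x
  have hs' : algebraMap R p.ResidueField s ≠ 0 := fun h' =>
    hs (Ideal.algebraMap_residueField_eq_zero.mp h')
  obtain ⟨w, hw⟩ := isUnit_of_isUnit_hullPt (h := algebraMap R (Hull R p.ResidueField) s)
    (by rw [AlgHom.commutes]; exact hs'.isUnit)
  refine ⟨↑w⁻¹ * algebraMap R _ a, mul_left_cancel₀ hs' ?_⟩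
  rw [h, ← AlgHom.commutes (hullPt R p.ResidueField) s, ← map_mul, ← mul_assoc, ← hw,
    Units.mul_inv, one_mul, AlgHom.commutes]

/-- Maps from the hull to a field over `κ(p)` are determined. -/
theorem algHom_eq_comp_hullPt {L : Type u} [Field L] [Algebra R L]
    (φ : Hull R p.ResidueField →ₐ[R] L) (ι : p.ResidueField →ₐ[R] L) :
    φ = ι.comp (hullPt R p.ResidueField) := by
  refine AlgHom.ext fun h => ?_
  obtain ⟨a, s, hs, hx⟩ := exists_mul_eq p (hullPt R p.ResidueField h)
  have hs' : algebraMap R L s ≠ 0 := fun h' => hs (by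
    rw [← ι.commutes] at h'
    replace h' := ι.toRingHom.injective (h'.trans (map_zero ι.toRingHom).symm)
    exact Ideal.algebraMap_residueField_eq_zero.mp h')
  refine mul_left_cancel₀ hs' ?_
  have hk : algebraMap R (Hull R p.ResidueField) s * h - algebraMap R _ a ∈
      RingHom.ker (hullPt R p.ResidueField) := by
    rw [RingHom.mem_ker, map_sub, map_mul, AlgHom.commutes, AlgHom.commutes, hx, sub_self]
  rw [ker_hullPt_eq_map p p.ker_algebraMap_residueField] at hk
  have h0 : φ (algebraMap R (Hull R p.ResidueField) s * h - algebraMap R _ a) = 0 := by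
    have := mem_map_algHom φ p hk
    have hle : p.map (algebraMap R L) = ⊥ := by
      rw [Ideal.map_eq_bot_iff_le_ker]
      intro r hr
      rw [RingHom.mem_ker, ← ι.commutes, Ideal.algebraMap_residueField_eq_zero.mpr hr, map_zero]
    rwa [hle, Ideal.mem_bot] at this
  rw [map_sub, map_mul, AlgHom.commutes, AlgHom.commutes, sub_eq_zero] at h0
  rw [h0, AlgHom.comp_apply, ← ι.commutes s, ← map_mul, hx, ι.commutes]

/-- Two maps from an etale algebra to the hull with the same point agree. -/
theorem hom_ext_of_hullPt {K : Type u} [CommRing K] [Algebra R K] {S : Type u} [CommRing S]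
    [Algebra R S] [Algebra.Etale R S] (g g' : S →ₐ[R] Hull R K)
    (h : (hullPt R K).comp g = (hullPt R K).comp g') : g = g' :=
  (existsUnique_lift (hJ := henselianRing_hull) (RingHom.ker (hullPt R K))
    ((Ideal.Quotient.mkₐ R _).comp g)).unique rfl (AlgHom.ext fun s =>
      (Ideal.Quotient.mk_eq_mk_iff_sub_mem _ _).mpr (by
        rw [RingHom.mem_ker, map_sub, sub_eq_zero]; exact congr($h.symm s)))

/-- The henselization of `R_p` is the hull of pointed etale algebras over `κ(p)`. -/
theorem exists_equiv_hull (Rh : Type u) [CommRing Rh] [IsLocalRing Rh]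
    [Algebra (Localization.AtPrime p) Rh] [IsLocalHom (algebraMap (Localization.AtPrime p) Rh)]
    [hS : Hensel.IsHenselization (Localization.AtPrime p) Rh] [Algebra R Rh]
    [IsScalarTower R (Localization.AtPrime p) Rh] :
    Nonempty (Hull R p.ResidueField ≃ₐ[R] Rh) := by
  have := hS.henselian
  let H := Hull R p.ResidueField
  have : IsLocalRing H := isLocalRing_hull
  have : HenselianLocalRing H := henselianLocalRing_hull
  have hu : ∀ r : R, r ∉ p → IsUnit (algebraMap R H r) := fun r hr =>
    isUnit_of_isUnit_hullPt (by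
      rw [AlgHom.commutes]
      exact Ne.isUnit fun h => hr (Ideal.algebraMap_residueField_eq_zero.mp h))
  let l : Localization.AtPrime p →+* H :=
    IsLocalization.lift (M := p.primeCompl) (g := algebraMap R H) fun s => hu s s.2
  have hl : IsLocalHom l := ⟨fun x hx => by
    obtain ⟨a, s, rfl⟩ := IsLocalization.exists_mk'_eq p.primeCompl x
    rw [IsLocalization.AtPrime.isUnit_mk'_iff (Localization.AtPrime p) p]
    intro ha
    have h1 : l (algebraMap R _ (s : R)) * l (IsLocalization.mk' _ a s) = algebraMap R H a := by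
      rw [← map_mul, IsLocalization.mk'_spec', IsLocalization.lift_eq]
    have h2 : IsUnit (algebraMap R H a) := by
      rw [← h1, IsLocalization.lift_eq]; exact (hu _ s.2).mul hx
    have h3 := h2.map (hullPt R p.ResidueField)
    rw [AlgHom.commutes] at h3
    exact h3.ne_zero (Ideal.algebraMap_residueField_eq_zero.mpr ha)⟩
  obtain ⟨f₀, hf₀, -⟩ := hS.universal H l hl
  have hf₀' : ∀ r : R, f₀ (algebraMap R Rh r) = algebraMap R H r := fun r => by
    rw [IsScalarTower.algebraMap_apply R (Localization.AtPrime p) Rh]
    exact (congr($hf₀ (algebraMap R _ r))).trans (IsLocalization.lift_eq _ r)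
  let f : Rh →ₐ[R] H := { f₀ with commutes' := hf₀' }
  let τ : p.ResidueField →ₐ[R] Rh ⧸ maximalIdeal Rh :=
    { Ideal.ResidueField.lift p (algebraMap R (Rh ⧸ maximalIdeal Rh))
        (fun r hr => by
          rw [RingHom.mem_ker, IsScalarTower.algebraMap_apply R Rh (Rh ⧸ maximalIdeal Rh),
            IsScalarTower.algebraMap_apply R (Localization.AtPrime p) Rh]
          refine Ideal.Quotient.eq_zero_iff_mem.mpr ?_
          exact map_nonunit (algebraMap (Localization.AtPrime p) Rh) _
            ((IsLocalization.AtPrime.to_map_mem_maximal_iff _ p r _).mpr hr))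
        (fun r hr => by
          show IsUnit (algebraMap R (Rh ⧸ maximalIdeal Rh) r)
          rw [IsScalarTower.algebraMap_apply R Rh (Rh ⧸ maximalIdeal Rh),
            IsScalarTower.algebraMap_apply R (Localization.AtPrime p) Rh]
          exact ((IsLocalization.map_units (Localization.AtPrime p)
            (⟨r, hr⟩ : p.primeCompl)).map _).map _) with
      commutes' := fun r => by simp }
  obtain ⟨g, -, -⟩ := hull_universal (hJ := henselianRing_maximalIdeal Rh) (maximalIdeal Rh) τ
  have h1 : g.comp f = AlgHom.id R Rh := AlgHom.coe_ringHom_injective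
    ((hS.universal Rh (algebraMap _ Rh) ‹_›).unique
      (IsLocalization.ringHom_ext p.primeCompl (RingHom.ext fun r => by
        show (g.comp f) (algebraMap _ Rh (algebraMap R _ r)) = _
        rw [← IsScalarTower.algebraMap_apply, AlgHom.commutes]
        exact IsScalarTower.algebraMap_apply R _ Rh r))
      (RingHom.id_comp _))
  have h2 : f.comp g = AlgHom.id R H := by
    let τ₀ := (Ideal.quotientKerAlgEquivOfSurjective (hull_point_surjective p)).symm.toAlgHom
    have hτ₀ : ∀ φ : H →ₐ[R] H,
        (Ideal.Quotient.mkₐ R (RingHom.ker (hullPt R p.ResidueField))).comp φ =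
          τ₀.comp (hullPt R p.ResidueField) := fun φ => AlgHom.ext fun h => by
      have hφ := congr($(algHom_eq_comp_hullPt p ((hullPt R p.ResidueField).comp φ)
        (AlgHom.id R p.ResidueField)) h)
      show Ideal.Quotient.mk _ (φ h) =
        (Ideal.quotientKerAlgEquivOfSurjective (hull_point_surjective p)).symm _
      rw [AlgEquiv.eq_symm_apply]
      exact hφ
    exact (hull_universal (hJ := henselianRing_hull) _ τ₀).unique (hτ₀ _) (hτ₀ _)
  exact ⟨AlgEquiv.ofAlgHom g f h1 h2⟩

end Groth.Agent.HenselLib.PtPrime
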