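import Groth.Agent.HenselLib.HullWEt
import Groth.Agent.HenselLib.LocalHens
import Groth.Agent.HenselLib.Olivier
import Groth.Agent.HenselLib.WEtale
import Groth.Agent.HenselLib.HullProps
import Groth.Prelude.Def_Hensel

/-!
# Weakly etale local maps and strict henselizations
-/

set_option autoImplicit false
set_option linter.all false

universe u

open IsLocalRing

namespace Groth.Agent.HenselLib.StrictTransfer

theorem isStrictHenselization_of_algEquiv {R S T : Type u} [CommRing R] [IsLocalRing R] [CommRing S] [IsLocalRing S]
    [CommRing T] [IsLocalRing T] [Algebra R S] [IsLocalHom (algebraMap R S)] [Algebra R T]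
    [IsLocalHom (algebraMap R T)] [hS : Hensel.IsStrictHenselization R S] (e : S ≃ₐ[R] T) :
    Hensel.IsStrictHenselization R T := by
  haveI := hS.henselian
  haveI : IsLocalHom e.toRingEquiv.toRingHom := ⟨fun a h => (MulEquiv.isUnit_map e.toMulEquiv).mp h⟩
  haveI : IsLocalHom e.symm.toRingEquiv.toRingHom := ⟨fun a h => (MulEquiv.isUnit_map e.symm.toMulEquiv).mp h⟩
  letI : Algebra S T := e.toRingEquiv.toRingHom.toAlgebra
  haveI : Algebra.IsIntegral S T := ⟨fun t => by
    obtain ⟨s, rfl⟩ := e.surjective t
    exact isIntegral_algebraMap⟩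
  haveI : HenselianLocalRing T := henselianLocalRing_of_isIntegral S T
  let r : ResidueField S ≃+* ResidueField T := RingEquiv.ofRingHom
    (ResidueField.map e.toRingEquiv.toRingHom) (ResidueField.map e.symm.toRingEquiv.toRingHom)
    (RingHom.ext fun x => by obtain ⟨x, rfl⟩ := residue_surjective x; exact congrArg (residue T) (e.apply_symm_apply x))
    (RingHom.ext fun x => by obtain ⟨x, rfl⟩ := residue_surjective x; exact congrArg (residue S) (e.symm_apply_apply x))
  let rA : ResidueField S ≃ₐ[ResidueField R] ResidueField T := AlgEquiv.ofRingEquiv (f := r) fun x => by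
    obtain ⟨x, rfl⟩ := residue_surjective x
    exact congrArg (residue T) (e.commutes x)
  refine ⟨inferInstance, ?_, fun U _ _ f _ τ hτ => ?_⟩
  · haveI := hS.isSepClosure
    haveI : IsSepClosed (ResidueField S) := IsSepClosure.sep_closed (ResidueField R)
    refine ⟨IsSepClosed.of_exists_root _ fun p hp hirr hsep => ?_, AlgEquiv.Algebra.isSeparable rA⟩
    have hdeg : (p.map r.symm.toRingHom).degree ≠ 0 := by
      rw [Polynomial.degree_map]
      exact (Polynomial.degree_pos_of_irreducible hirr).ne'
    obtain ⟨x, hx⟩ := IsSepClosed.exists_root _ hdeg hsep.map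
    refine ⟨r x, r.symm.injective ?_⟩
    rw [map_zero, show r.symm (p.eval (r x)) = r.symm.toRingHom (p.eval (r x)) from rfl,
      ← Polynomial.eval₂_at_apply]
    rw [Polynomial.IsRoot, Polynomial.eval_map] at hx
    simpa using hx
  · obtain ⟨g, ⟨hg, hgres⟩, huniq⟩ := hS.universal U f (τ.comp r.toRingHom) (RingHom.ext fun x => by
      have := congr($hτ x)
      obtain ⟨x, rfl⟩ := residue_surjective x
      refine Eq.trans ?_ this
      show τ (residue T (e (algebraMap R S x))) = τ (residue T (algebraMap R T x))
      rw [e.commutes])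
    refine ⟨g.comp e.symm.toRingEquiv.toRingHom, ⟨RingHom.ext fun a => ?_, fun x => ?_⟩, fun g' hg' => ?_⟩
    · show g (e.symm (algebraMap R T a)) = f a
      rw [e.symm.commutes]; exact congr($hg a)
    · show residue U (g (e.symm x)) = τ (residue T x)
      rw [hgres]
      show τ (residue T (e (e.symm x))) = _
      rw [e.apply_symm_apply]
    · have h1 : g'.comp e.toRingEquiv.toRingHom = g := huniq _ ⟨RingHom.ext fun a => by
        show g' (e (algebraMap R S a)) = f a
        rw [e.commutes]; exact congr($(hg'.1) a), fun x => hg'.2 (e x)⟩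
      rw [← h1]
      exact RingHom.ext fun x => congrArg g' (e.apply_symm_apply x).symm

/-- A strictly henselian local ring which is weakly etale over a local ring is its strict henselization. -/
theorem isStrictHenselization_of_weaklyEtale (R S : Type u) [CommRing R] [IsLocalRing R] [CommRing S]
    [HenselianLocalRing S] [IsSepClosed (ResidueField S)] [Algebra R S] [IsLocalHom (algebraMap R S)]
    [Algebra.WeaklyEtale R S] : Hensel.IsStrictHenselization R S := by
  let H := LocalSH R
  haveI hH : Hensel.IsStrictHenselization R H := isStrictHenselization_localSH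
  haveI := hH.henselian
  haveI := hH.isSepClosure
  haveI : IsSepClosed (ResidueField H) := IsSepClosure.sep_closed (ResidueField R)
  let τ : ResidueField H →ₐ[ResidueField R] ResidueField S := IsSepClosed.lift
  obtain ⟨g, ⟨hg, hgres⟩, -⟩ := hH.universal S (algebraMap R S) τ.toRingHom (RingHom.ext fun x => τ.commutes x)
  letI : Algebra H S := g.toAlgebra
  haveI : IsScalarTower R H S := IsScalarTower.of_algebraMap_eq fun a => (congr($hg a)).symm
  haveI : IsLocalHom (algebraMap H S) := ⟨fun x hx => by
    by_contra hxu
    have h1 : residue H x = 0 := (residue_eq_zero_iff x).mpr hxu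
    have h2 := hgres x
    rw [h1, map_zero, residue_eq_zero_iff] at h2
    exact h2 hx⟩
  haveI : Algebra.WeaklyEtale H S := WEt.weaklyEtale_of_algHom (A := R)
  exact isStrictHenselization_of_algEquiv
    (AlgEquiv.ofBijective (IsScalarTower.toAlgHom R H S) (Olivier.bijective (A := H) (B := S)))

end Groth.Agent.HenselLib.StrictTransfer
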