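import Mathlib
import Groth.Prelude.Def_ProEtW

/-!
# The ring of constructibly-locally fraction functions along a profinite family of primes

For a profinite space `T` and `p : T → Spec A` such that the preimages of basic opens are clopen we define
`W = WRing p`, the ring of families `w t ∈ A_{p t}` which are locally of the form `a / s`. Its spectrum is
w-local with space of closed points `T`. For `T = Spec A` with the constructible topology this is the
w-localization of `A`.
-/

set_option autoImplicit false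

open TopologicalSpace

universe u

namespace Groth.Agent.HenselLib.WLoc

variable {A : Type u} [CommRing A] {T : Type u} [TopologicalSpace T]

/-- Data: a family of primes with clopen preimages of basic opens. -/
structure Fam (A : Type u) [CommRing A] (T : Type u) [TopologicalSpace T] where
  p : T → PrimeSpectrum A
  clopen : ∀ f : A, IsClopen {t | f ∉ (p t).asIdeal}

variable (F : Fam A T)

/-- the local ring at a point -/
abbrev Loc (t : T) : Type u := Localization.AtPrime (F.p t).asIdeal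

/-- `w` is the fraction `a / s` on `U`. -/
def IsFracOn (w : ∀ t, Loc F t) (U : Set T) (a s : A) : Prop :=
  ∀ t ∈ U, s ∉ (F.p t).asIdeal ∧ algebraMap A (Loc F t) s * w t = algebraMap A (Loc F t) a

/-- the ring `W` -/
def WSub : Subalgebra A (∀ t, Loc F t) where
  carrier := {w | ∀ t, ∃ U : Set T, IsOpen U ∧ t ∈ U ∧ ∃ a s : A, IsFracOn F w U a s}
  mul_mem' {v w} hv hw t := by
    obtain ⟨U, hU, htU, a, s, h⟩ := hv t
    obtain ⟨V, hV, htV, b, r, h'⟩ := hw t
    refine ⟨U ∩ V, hU.inter hV, ⟨htU, htV⟩, a * b, s * r, fun x hx => ?_⟩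
    obtain ⟨hs, e⟩ := h x hx.1
    obtain ⟨hr, e'⟩ := h' x hx.2
    refine ⟨(F.p x).isPrime.mul_notMem hs hr, ?_⟩
    rw [Pi.mul_apply, map_mul, map_mul, ← e, ← e']; ring
  add_mem' {v w} hv hw t := by
    obtain ⟨U, hU, htU, a, s, h⟩ := hv t
    obtain ⟨V, hV, htV, b, r, h'⟩ := hw t
    refine ⟨U ∩ V, hU.inter hV, ⟨htU, htV⟩, a * r + b * s, s * r, fun x hx => ?_⟩
    obtain ⟨hs, e⟩ := h x hx.1
    obtain ⟨hr, e'⟩ := h' x hx.2
    refine ⟨(F.p x).isPrime.mul_notMem hs hr, ?_⟩
    rw [Pi.add_apply, map_add, map_mul, map_mul, map_mul, ← e, ← e']; ring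
  algebraMap_mem' r t := ⟨Set.univ, isOpen_univ, Set.mem_univ _, r, 1,
    fun x _ => ⟨(F.p x).isPrime.one_notMem, by simp⟩⟩

/-- the ring `W` as a type -/
abbrev WRing : Type u := WSub F

/-- evaluation at a point -/
noncomputable def ev (t : T) : WRing F →ₐ[A] Loc F t :=
  (Pi.evalAlgHom A (fun t => Loc F t) t).comp (WSub F).val

theorem ev_apply (t : T) (w : WRing F) : ev F t w = w.1 t := rfl

theorem ext_ev {v w : WRing F} (h : ∀ t, ev F t v = ev F t w) : v = w := Subtype.ext (funext h)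

open Classical in
/-- the fraction `a / s` on a clopen `C` on which `s` does not vanish, zero elsewhere -/
noncomputable def frac {C : Set T} (hC : IsClopen C) (a s : A)
    (hs : ∀ t ∈ C, s ∉ (F.p t).asIdeal) : WRing F :=
  ⟨fun t => if h : t ∈ C then IsLocalization.mk' (Loc F t) a (⟨s, hs t h⟩ : (F.p t).asIdeal.primeCompl) else 0,
    fun t => by
      by_cases h : t ∈ C
      · refine ⟨C, hC.isOpen, h, a, s, fun x hx => ⟨hs x hx, ?_⟩⟩
        simp only [dif_pos hx]
        rw [mul_comm]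
        exact IsLocalization.mk'_spec (Loc F x) a (⟨s, hs x hx⟩ : (F.p x).asIdeal.primeCompl)
      · refine ⟨Cᶜ, hC.isClosed.isOpen_compl, h, 0, 1, fun x hx => ⟨(F.p x).isPrime.one_notMem, ?_⟩⟩
        simp only [dif_neg hx, mul_zero, map_zero]⟩

theorem ev_frac_pos {C : Set T} (hC : IsClopen C) {a s : A} (hs : ∀ t ∈ C, s ∉ (F.p t).asIdeal)
    {t : T} (ht : t ∈ C) :
    ev F t (frac F hC a s hs) = IsLocalization.mk' (Loc F t) a (⟨s, hs t ht⟩ : (F.p t).asIdeal.primeCompl) := by
  rw [ev_apply, frac]; exact dif_pos ht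

theorem ev_frac_neg {C : Set T} (hC : IsClopen C) {a s : A} (hs : ∀ t ∈ C, s ∉ (F.p t).asIdeal)
    {t : T} (ht : t ∉ C) : ev F t (frac F hC a s hs) = 0 := by
  rw [ev_apply, frac]; exact dif_neg ht

/-- the idempotent of a clopen -/
noncomputable def chi {C : Set T} (hC : IsClopen C) : WRing F :=
  frac F hC 1 1 fun t _ => (F.p t).isPrime.one_notMem

theorem ev_chi_pos {C : Set T} (hC : IsClopen C) {t : T} (ht : t ∈ C) : ev F t (chi F hC) = 1 := by
  rw [chi, ev_frac_pos F hC _ ht]; exact IsLocalization.mk'_self _ _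

theorem ev_chi_neg {C : Set T} (hC : IsClopen C) {t : T} (ht : t ∉ C) : ev F t (chi F hC) = 0 :=
  ev_frac_neg F hC _ ht

theorem ev_surjective (t : T) : Function.Surjective (ev F t) := fun z => by
  obtain ⟨a, ⟨s, hs⟩, rfl⟩ := IsLocalization.exists_mk'_eq (F.p t).asIdeal.primeCompl z
  exact ⟨frac F (F.clopen s) a s fun _ h => h, ev_frac_pos F _ _ hs⟩

theorem exists_frac_nhd (w : WRing F) (t : T) :
    ∃ U : Set T, IsOpen U ∧ t ∈ U ∧ ∃ a s : A, IsFracOn F w.1 U a s := w.2 t

theorem isOpen_ev_eq_zero (w : WRing F) : IsOpen {t | ev F t w = 0} := by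
  rw [isOpen_iff_forall_mem_open]
  intro t ht
  obtain ⟨U, hU, htU, a, s, h⟩ := w.2 t
  have ha : algebraMap A (Loc F t) a = 0 := by
    rw [← (h t htU).2]
    change algebraMap A (Loc F t) s * ev F t w = 0
    rw [ht, mul_zero]
  obtain ⟨⟨u, hu⟩, hua⟩ := (IsLocalization.map_eq_zero_iff (F.p t).asIdeal.primeCompl (Loc F t) a).1 ha
  refine ⟨U ∩ {x | u ∉ (F.p x).asIdeal}, ?_, hU.inter (F.clopen u).isOpen, htU, hu⟩
  rintro x ⟨hx, hux⟩
  obtain ⟨hs, e⟩ := h x hx
  have ha' : algebraMap A (Loc F x) a = 0 :=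
    (IsLocalization.map_eq_zero_iff (F.p x).asIdeal.primeCompl (Loc F x) a).2 ⟨⟨u, hux⟩, hua⟩
  rw [ha'] at e
  exact ((IsLocalization.map_units (Loc F x) (⟨s, hs⟩ : (F.p x).asIdeal.primeCompl)).mul_right_eq_zero).1 e

theorem isClopen_isUnit_ev (w : WRing F) : IsClopen {t | IsUnit (ev F t w)} := by
  have key : ∀ t, ∃ V : Set T, IsOpen V ∧ t ∈ V ∧ ∀ x ∈ V, IsUnit (ev F x w) ↔ IsUnit (ev F t w) := by
    intro t
    obtain ⟨U, hU, htU, a, s, h⟩ := w.2 t
    have hiff : ∀ x ∈ U, IsUnit (ev F x w) ↔ a ∉ (F.p x).asIdeal := fun x hx => by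
      obtain ⟨hs, e⟩ := h x hx
      refine Iff.trans ?_ (IsLocalization.AtPrime.isUnit_to_map_iff (Loc F x) (F.p x).asIdeal a)
      rw [← e]
      exact ⟨fun hw => (IsLocalization.map_units (Loc F x) (⟨s, hs⟩ : (F.p x).asIdeal.primeCompl)).mul hw,
        fun hw => (IsUnit.mul_iff.1 hw).2⟩
    by_cases ha : a ∈ (F.p t).asIdeal
    · refine ⟨U ∩ {x | a ∉ (F.p x).asIdeal}ᶜ, hU.inter (F.clopen a).isClosed.isOpen_compl,
        ⟨htU, fun h' => h' ha⟩, fun x hx => ?_⟩
      rw [hiff x hx.1, hiff t htU]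
      exact iff_of_false hx.2 (fun h' => h' ha)
    · refine ⟨U ∩ {x | a ∉ (F.p x).asIdeal}, hU.inter (F.clopen a).isOpen, ⟨htU, ha⟩, fun x hx => ?_⟩
      rw [hiff x hx.1, hiff t htU]
      exact iff_of_true hx.2 ha
  refine ⟨isOpen_compl_iff.1 (isOpen_iff_forall_mem_open.2 fun t ht => ?_),
    isOpen_iff_forall_mem_open.2 fun t ht => ?_⟩
  · obtain ⟨V, hV, htV, hVx⟩ := key t
    exact ⟨V, fun x hx h => ht ((hVx x hx).1 h), hV, htV⟩
  · obtain ⟨V, hV, htV, hVx⟩ := key t
    exact ⟨V, fun x hx => (hVx x hx).2 ht, hV, htV⟩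

section profinite

variable [CompactSpace T] [T2Space T] [TotallyDisconnectedSpace T]

theorem exists_point (P : PrimeSpectrum (WRing F)) :
    ∃ t : T, ∀ w : WRing F, ev F t w = 0 → w ∈ P.asIdeal := by
  classical
  let 𝒰 : Set (Set T) := {U | ∃ h : IsClopen U, chi F h ∉ P.asIdeal}
  have hinter : ∀ U ∈ 𝒰, ∀ V ∈ 𝒰, U ∩ V ∈ 𝒰 := by
    rintro U ⟨hU, hU'⟩ V ⟨hV, hV'⟩
    refine ⟨hU.inter hV, ?_⟩
    have : chi F (hU.inter hV) = chi F hU * chi F hV := ext_ev F fun t => by
      rw [map_mul]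
      by_cases h1 : t ∈ U <;> by_cases h2 : t ∈ V <;>
        simp [ev_chi_pos, ev_chi_neg, h1, h2, Set.mem_inter_iff]
    rw [this]
    exact fun h => (P.isPrime.mem_or_mem h).elim hU' hV'
  have huniv : (Set.univ : Set T) ∈ 𝒰 := by
    refine ⟨isClopen_univ, ?_⟩
    have : chi F (isClopen_univ (X := T)) = 1 := ext_ev F fun t => by simp [ev_chi_pos]
    rw [this]; exact P.isPrime.one_notMem
  have hne : ∀ U ∈ 𝒰, U.Nonempty := by
    rintro U ⟨hU, hU'⟩
    by_contra h
    rw [Set.not_nonempty_iff_eq_empty] at h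
    subst h
    apply hU'
    have : chi F hU = 0 := ext_ev F fun t => by simp [ev_chi_neg]
    rw [this]; exact zero_mem _
  haveI : Nonempty 𝒰 := ⟨⟨_, huniv⟩⟩
  obtain ⟨t, ht⟩ := IsCompact.nonempty_iInter_of_directed_nonempty_isCompact_isClosed
    (fun U : 𝒰 => (U : Set T))
    (fun U V => ⟨⟨U.1 ∩ V.1, hinter U.1 U.2 V.1 V.2⟩, Set.inter_subset_left, Set.inter_subset_right⟩)
    (fun U => hne U.1 U.2) (fun U => U.2.choose.isClosed.isCompact) (fun U => U.2.choose.isClosed)
  refine ⟨t, fun w hw => ?_⟩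
  obtain ⟨C, hC, htC, hCw⟩ := compact_exists_isClopen_in_isOpen (isOpen_ev_eq_zero F w) hw
  have h0 : chi F hC * w = 0 := ext_ev F fun x => by
    rw [map_mul, map_zero]
    by_cases hx : x ∈ C
    · rw [show ev F x w = 0 from hCw hx, mul_zero]
    · rw [ev_chi_neg F hC hx, zero_mul]
  refine (P.isPrime.mem_or_mem (h0 ▸ zero_mem _)).resolve_left fun h => ?_
  have hc : chi F hC + chi F hC.compl = 1 := ext_ev F fun x => by
    by_cases hx : x ∈ C <;> simp [ev_chi_pos, ev_chi_neg, hx]
  exact Set.mem_iInter.1 ht ⟨Cᶜ, hC.compl, fun h' => P.isPrime.one_notMem (hc ▸ add_mem h h')⟩ htC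

/-- the point of `T` under a prime of `W` -/
noncomputable def pt (P : PrimeSpectrum (WRing F)) : T := (exists_point F P).choose

theorem ker_le (P : PrimeSpectrum (WRing F)) :
    RingHom.ker (ev F (pt F P)).toRingHom ≤ P.asIdeal :=
  fun w hw => (exists_point F P).choose_spec w hw

theorem chi_mem_iff (P : PrimeSpectrum (WRing F)) {C : Set T} (hC : IsClopen C) :
    chi F hC ∈ P.asIdeal ↔ pt F P ∉ C := by
  refine ⟨fun h hmem => P.isPrime.one_notMem ?_, fun h => ker_le F P (ev_chi_neg F hC h)⟩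
  have : 1 - chi F hC ∈ P.asIdeal := ker_le F P (show ev F (pt F P) (1 - chi F hC) = 0 by
    rw [map_sub, map_one, ev_chi_pos F hC hmem, sub_self])
  simpa using add_mem this h

theorem continuous_pt : Continuous (pt F) := by
  rw [loc_compact_Haus_tot_disc_of_zero_dim.continuous_iff]
  intro C hC
  have : pt F ⁻¹' C = (PrimeSpectrum.basicOpen (chi F hC) : Set (PrimeSpectrum (WRing F))) := by
    ext P
    simp [chi_mem_iff]
  rw [this]
  exact (PrimeSpectrum.basicOpen _).isOpen

/-- the closed point of `Spec W` over `t` -/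
noncomputable def closedPt (t : T) : PrimeSpectrum (WRing F) :=
  PrimeSpectrum.comap (ev F t).toRingHom (IsLocalRing.closedPoint (Loc F t))

theorem mem_closedPt {t : T} {w : WRing F} :
    w ∈ (closedPt F t).asIdeal ↔ ¬ IsUnit (ev F t w) := Iff.rfl

theorem pt_closedPt (t : T) : pt F (closedPt F t) = t := by
  by_contra h
  obtain ⟨C, hC, h1, h2⟩ := exists_isClopen_of_totally_separated h
  have : chi F hC ∈ (closedPt F t).asIdeal := by
    rw [mem_closedPt, ev_chi_neg F hC h2]
    exact not_isUnit_zero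
  exact (chi_mem_iff F _ hC).1 this h1

theorem le_closedPt (P : PrimeSpectrum (WRing F)) : P.asIdeal ≤ (closedPt F (pt F P)).asIdeal := by
  intro w hw hu
  obtain ⟨v, hv⟩ := ev_surjective F (pt F P) ↑(hu.unit⁻¹)
  have h1 : w * v - 1 ∈ P.asIdeal := ker_le F P (show ev F (pt F P) (w * v - 1) = 0 by
    rw [map_sub, map_mul, map_one, hv]; simp)
  exact P.isPrime.one_notMem (by simpa using sub_mem (Ideal.mul_mem_right v _ hw) h1)

theorem closedPt_isMaximal (t : T) : (closedPt F t).asIdeal.IsMaximal :=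
  haveI : (IsLocalRing.closedPoint (Loc F t)).asIdeal.IsMaximal := IsLocalRing.maximalIdeal.isMaximal _
  Ideal.comap_isMaximal_of_surjective (ev F t).toRingHom (ev_surjective F t)

theorem isClosed_singleton_iff {P : PrimeSpectrum (WRing F)} :
    IsClosed ({P} : Set (PrimeSpectrum (WRing F))) ↔ P = closedPt F (pt F P) := by
  rw [PrimeSpectrum.isClosed_singleton_iff_isMaximal]
  refine ⟨fun h => PrimeSpectrum.ext (h.eq_of_le (closedPt F _).isPrime.ne_top (le_closedPt F P)),
    fun h => h ▸ closedPt_isMaximal F _⟩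

theorem comap_closedPt (t : T) :
    PrimeSpectrum.comap (algebraMap A (WRing F)) (closedPt F t) = F.p t := by
  ext a
  show ¬ IsUnit (ev F t (algebraMap A (WRing F) a)) ↔ _
  rw [(ev F t).commutes, IsLocalization.AtPrime.isUnit_to_map_iff (Loc F t) (F.p t).asIdeal]
  exact not_not

theorem mem_iff_of_pt (P : PrimeSpectrum (WRing F)) {v w : WRing F}
    (h : ev F (pt F P) v = ev F (pt F P) w) : v ∈ P.asIdeal ↔ w ∈ P.asIdeal := by
  have h1 : v - w ∈ P.asIdeal := ker_le F P (show ev F (pt F P) (v - w) = 0 by rw [map_sub, h, sub_self])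
  exact ⟨fun hv => by simpa using sub_mem hv h1, fun hw => by simpa using add_mem h1 hw⟩

theorem closedPoints_eq_zeroLocus :
    ProEtW.closedPoints (PrimeSpectrum (WRing F)) =
      PrimeSpectrum.zeroLocus {w : WRing F | ∀ t, ¬ IsUnit (ev F t w)} := by
  ext P
  refine (isClosed_singleton_iff F).trans ⟨fun h w hw => ?_, fun h => ?_⟩
  · rw [h]; exact (mem_closedPt F).2 (hw _)
  · refine le_antisymm (le_closedPt F P) ?_
    intro w0 hw0
    have hC := (isClopen_isUnit_ev F w0).compl
    have h1 : chi F hC * w0 ∈ P.asIdeal := h (show ∀ t, ¬ IsUnit (ev F t (chi F hC * w0)) from fun t => by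
      rw [map_mul]
      by_cases ht : t ∈ {t | IsUnit (ev F t w0)}ᶜ
      · rw [ev_chi_pos F hC ht, one_mul]; exact ht
      · haveI := (ev F t).toRingHom.domain_nontrivial
        rw [ev_chi_neg F hC ht, zero_mul]; exact not_isUnit_zero)
    exact (mem_iff_of_pt F P (by
      rw [map_mul, ev_chi_pos F hC ((mem_closedPt F).1 hw0), one_mul])).1 h1

theorem isWLocal : ProEtW.IsWLocal (PrimeSpectrum (WRing F)) := by
  refine ⟨inferInstance, ?_, fun P => ⟨closedPt F (pt F P),
    ⟨(PrimeSpectrum.isClosed_singleton_iff_isMaximal _).2 (closedPt_isMaximal F _),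
      (PrimeSpectrum.le_iff_specializes _ _).1 (le_closedPt F P)⟩, fun Q hQ => ?_⟩⟩
  · have := closedPoints_eq_zeroLocus F
    unfold ProEtW.closedPoints at this
    rw [this]
    exact PrimeSpectrum.isClosed_zeroLocus _
  · rw [(isClosed_singleton_iff F).1 hQ.1, show pt F Q = pt F P from
      ((hQ.2.map (continuous_pt F)).eq).symm]

theorem continuous_closedPt : Continuous (closedPt F) := by
  rw [PrimeSpectrum.isTopologicalBasis_basic_opens.continuous_iff]
  rintro _ ⟨w, rfl⟩
  have : closedPt F ⁻¹' (PrimeSpectrum.basicOpen w : Set (PrimeSpectrum (WRing F))) = {t | IsUnit (ev F t w)} := by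
    ext t; simp [mem_closedPt]
  rw [this]
  exact (isClopen_isUnit_ev F w).isOpen

/-- `π₀(Spec W)` is `T`. -/
noncomputable def componentsHomeo : ConnectedComponents (PrimeSpectrum (WRing F)) ≃ₜ T where
  toFun := (continuous_pt F).connectedComponentsLift
  invFun t := ConnectedComponents.mk (closedPt F t)
  left_inv c := by
    obtain ⟨P, rfl⟩ := ConnectedComponents.surjective_coe c
    rw [Continuous.connectedComponentsLift_apply_coe]
    refine ConnectedComponents.coe_eq_coe'.2 ?_
    have : P ⤳ closedPt F (pt F P) := (PrimeSpectrum.le_iff_specializes _ _).1 (le_closedPt F P)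
    exact this.mem_closed isClosed_connectedComponent mem_connectedComponent
  right_inv t := by
    rw [Continuous.connectedComponentsLift_apply_coe, pt_closedPt]
  continuous_toFun := (continuous_pt F).connectedComponentsLift_continuous
  continuous_invFun := ConnectedComponents.continuous_coe.comp (continuous_closedPt F)

end profinite

end Groth.Agent.HenselLib.WLoc
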