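import Mathlib
import Groth.Agent.HenselLib.WLocBasic
import Groth.Agent.HenselLib.IndEtale
import Groth.Agent.CAlgH.UnderColimit

/-!
# `WRing F` is ind-Zariski and ind-etale over `A`
-/

set_option autoImplicit false

open CategoryTheory Limits

universe u

namespace Groth.Agent.HenselLib.WLoc

/-- Gluing local choices on a profinite space to a locally constant choice. -/
theorem exists_locallyConstant {T : Type*} [TopologicalSpace T] [CompactSpace T] {X : Type*} [Nonempty X]
    (P : T → X → Prop) (h : ∀ t, ∃ C : Set T, IsClopen C ∧ t ∈ C ∧ ∃ x, ∀ t' ∈ C, P t' x) :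
    ∃ f : LocallyConstant T X, ∀ t, P t (f t) := by
  classical
  choose C hC htC x hx using h
  obtain ⟨K, hK⟩ := (isCompact_univ (X := T)).elim_finite_subcover C (fun t => (hC t).isOpen)
    fun t _ => Set.mem_iUnion.2 ⟨t, htC t⟩
  suffices ∀ K : Finset T, ∃ f : LocallyConstant T X, ∀ t, (∃ i ∈ K, t ∈ C i) → P t (f t) by
    obtain ⟨f, hf⟩ := this K
    exact ⟨f, fun t => hf t (by simpa using hK (Set.mem_univ t))⟩
  intro K
  induction K using Finset.induction_on with
  | empty => exact ⟨LocallyConstant.const T (Classical.arbitrary X), fun t => by simp⟩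
  | insert i K _ ih =>
    obtain ⟨f, hf⟩ := ih
    refine ⟨⟨fun t => if t ∈ C i then x i else f t, (IsLocallyConstant.iff_exists_open _).2 fun t => ?_⟩, ?_⟩
    · by_cases ht : t ∈ C i
      · exact ⟨C i, (hC i).isOpen, ht, fun t' ht' => by simp [ht, ht']⟩
      · obtain ⟨U, hU, htU, hU'⟩ := (IsLocallyConstant.iff_exists_open _).1 f.isLocallyConstant t
        refine ⟨U ∩ (C i)ᶜ, hU.inter (hC i).isClosed.isOpen_compl, ⟨htU, ht⟩, fun t' ht' => ?_⟩
        have hn : t' ∉ C i := ht'.2
        simp only [if_neg ht, if_neg hn]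
        exact hU' t' ht'.1
    · rintro t ⟨j, hj, htj⟩
      show P t (if t ∈ C i then x i else f t)
      by_cases ht : t ∈ C i
      · rw [if_pos ht]; exact hx i t ht
      · rw [if_neg ht]
        rcases Finset.mem_insert.1 hj with rfl | hj
        · exact absurd htj ht
        · exact hf t ⟨j, hj, htj⟩

variable {A : Type u} [CommRing A] {T : Type u} [TopologicalSpace T] (F : Fam A T)

/-- index: a discrete quotient with a nonvanishing element on each class -/
structure Idx : Type u where
  S : DiscreteQuotient T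
  g : S → A
  hg : ∀ t, g (S.proj t) ∉ (F.p t).asIdeal

variable {F}

/-- stage -/
abbrev Stage (i : Idx F) : Type u := ∀ c : i.S, Localization.Away (i.g c)

/-- component at `t` of the map from a stage -/
noncomputable def toLoc (i : Idx F) (t : T) : Localization.Away (i.g (i.S.proj t)) →ₐ[A] Loc F t :=
  IsLocalization.liftAlgHom (M := Submonoid.powers (i.g (i.S.proj t))) (f := Algebra.ofId A (Loc F t)) fun y => by
    obtain ⟨_, n, rfl⟩ := y
    show IsUnit (algebraMap A (Loc F t) (i.g (i.S.proj t) ^ n))
    rw [map_pow]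
    exact (IsLocalization.map_units (Loc F t) (⟨_, i.hg t⟩ : (F.p t).asIdeal.primeCompl)).pow n

theorem toLoc_algebraMap (i : Idx F) (t : T) (a : A) :
    toLoc i t (algebraMap A _ a) = algebraMap A (Loc F t) a := (toLoc i t).commutes a

/-- map from a stage to `∏ Loc` -/
noncomputable def stagePi (i : Idx F) : Stage i →ₐ[A] (∀ t, Loc F t) :=
  Pi.algHom A (fun t => Loc F t) fun t => (toLoc i t).comp (Pi.evalAlgHom A _ (i.S.proj t))

theorem stagePi_apply (i : Idx F) (x : Stage i) (t : T) : stagePi i x t = toLoc i t (x (i.S.proj t)) := rfl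

theorem stagePi_mem (i : Idx F) (x : Stage i) : stagePi i x ∈ WSub F := by
  intro t
  obtain ⟨n, a, ha⟩ := IsLocalization.Away.surj (i.g (i.S.proj t)) (x (i.S.proj t))
  refine ⟨i.S.proj ⁻¹' {i.S.proj t}, i.S.isOpen_preimage _, rfl, a, i.g (i.S.proj t) ^ n, fun t' ht' => ?_⟩
  have ht'' : i.S.proj t' = i.S.proj t := ht'
  refine ⟨fun h => i.hg t' (ht''.symm ▸ (F.p t').isPrime.mem_of_pow_mem n h), ?_⟩
  rw [stagePi_apply]
  have key : ∀ (c : i.S) (hc : c = i.S.proj t') (m : ℕ) (b : A),
      x c * algebraMap A _ (i.g c) ^ m = algebraMap A _ b →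
      algebraMap A (Loc F t') (i.g c ^ m) * toLoc i t' (x (i.S.proj t')) = algebraMap A (Loc F t') b := by
    rintro c rfl m b hb
    rw [← toLoc_algebraMap i t', ← toLoc_algebraMap i t' b, ← map_mul, ← hb, map_pow, mul_comm]
  exact key (i.S.proj t) ht''.symm n a ha

/-- map from a stage to `W` -/
noncomputable def stageMap (i : Idx F) : Stage i →ₐ[A] WRing F :=
  (stagePi i).codRestrict (WSub F) (stagePi_mem i)

theorem ev_stageMap (i : Idx F) (x : Stage i) (t : T) :
    ev F t (stageMap i x) = toLoc i t (x (i.S.proj t)) := rfl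

instance : Preorder (Idx F) where
  le i j := ∃ h : j.S ≤ i.S, ∀ c : j.S,
    IsUnit (algebraMap A (Localization.Away (j.g c)) (i.g (DiscreteQuotient.ofLE h c)))
  le_refl i := ⟨le_rfl, fun c => by
    rw [DiscreteQuotient.ofLE_refl_apply]
    exact IsLocalization.Away.algebraMap_isUnit (i.g c)⟩
  le_trans i j k := by
    rintro ⟨h, hu⟩ ⟨h', hu'⟩
    refine ⟨h'.trans h, fun c => ?_⟩
    have h1 := hu (DiscreteQuotient.ofLE h' c)
    rw [DiscreteQuotient.ofLE_ofLE] at h1
    let φ : Localization.Away (j.g (DiscreteQuotient.ofLE h' c)) →ₐ[A] Localization.Away (k.g c) :=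
      IsLocalization.liftAlgHom (M := Submonoid.powers (j.g (DiscreteQuotient.ofLE h' c)))
        (f := Algebra.ofId A _) fun y => by
          obtain ⟨_, n, rfl⟩ := y
          show IsUnit (algebraMap A (Localization.Away (k.g c)) (_ ^ n))
          rw [map_pow]
          exact (hu' c).pow n
    simpa using h1.map φ

/-- transition component -/
noncomputable def transC {i j : Idx F} (h : i ≤ j) (c : j.S) :
    Localization.Away (i.g (DiscreteQuotient.ofLE h.choose c)) →ₐ[A] Localization.Away (j.g c) :=
  IsLocalization.liftAlgHom (M := Submonoid.powers (i.g (DiscreteQuotient.ofLE h.choose c)))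
    (f := Algebra.ofId A _) fun y => by
      obtain ⟨_, n, rfl⟩ := y
      show IsUnit (algebraMap A (Localization.Away (j.g c)) (_ ^ n))
      rw [map_pow]
      exact (h.choose_spec c).pow n

/-- transition maps -/
noncomputable def stageTr (i j : Idx F) (h : i ≤ j) : Stage i →ₐ[A] Stage j :=
  Pi.algHom A (fun c : j.S => Localization.Away (j.g c)) fun c =>
    (transC h c).comp (Pi.evalAlgHom A _ (DiscreteQuotient.ofLE h.choose c))

theorem stageTr_apply {i j : Idx F} (h : i ≤ j) (x : Stage i) (c : j.S) :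
    stageTr i j h x c = transC h c (x (DiscreteQuotient.ofLE h.choose c)) := rfl

/-- evaluation of the stage at a class, transported along an equality of classes -/
theorem algHom_ext_away {i : Idx F} {X : Type u} [CommRing X] [Algebra A X] (x : Stage i) {c d : i.S}
    (hcd : c = d) (φ : Localization.Away (i.g c) →ₐ[A] X) (ψ : Localization.Away (i.g d) →ₐ[A] X) :
    φ (x c) = ψ (x d) := by
  subst hcd
  haveI := IsLocalization.algHom_subsingleton (R := A) (Submonoid.powers (i.g c)) (S := Localization.Away (i.g c)) (P := X)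
  rw [Subsingleton.elim φ ψ]

variable [CompactSpace T] [T2Space T] [TotallyDisconnectedSpace T]

theorem exists_ge (i : Idx F) (u : LocallyConstant T A) (hu : ∀ t, u t ∉ (F.p t).asIdeal)
    (S₀ : DiscreteQuotient T) :
    ∃ (j : Idx F) (_ : i ≤ j) (_ : j.S ≤ S₀), ∀ c : j.S, ∃ t, j.S.proj t = c ∧
      IsUnit (algebraMap A (Localization.Away (j.g c)) (u t)) := by
  let S := u.discreteQuotient ⊓ i.S ⊓ S₀
  have hu' : S ≤ u.discreteQuotient := inf_le_left.trans inf_le_left
  have hi' : S ≤ i.S := inf_le_left.trans inf_le_right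
  let g : S → A := fun c => u.lift (DiscreteQuotient.ofLE hu' c) * i.g (DiscreteQuotient.ofLE hi' c)
  have hg : ∀ t, g (S.proj t) ∉ (F.p t).asIdeal := fun t => by
    show u.lift _ * i.g _ ∉ _
    rw [DiscreteQuotient.ofLE_proj, DiscreteQuotient.ofLE_proj]
    exact (F.p t).isPrime.mul_notMem (hu t) (i.hg t)
  refine ⟨⟨S, g, hg⟩, ⟨hi', fun c => ?_⟩, inf_le_right, fun c => ?_⟩
  · exact isUnit_of_mul_isUnit_right (x := algebraMap A (Localization.Away (g c))
      (u.lift (DiscreteQuotient.ofLE hu' c)))
      (by rw [← map_mul]; exact IsLocalization.Away.algebraMap_isUnit (g c))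
  · obtain ⟨t, rfl⟩ := S.proj_surjective c
    refine ⟨t, rfl, ?_⟩
    have h1 : IsUnit (algebraMap A (Localization.Away (g (S.proj t))) (g (S.proj t))) :=
      IsLocalization.Away.algebraMap_isUnit _
    have h2 : g (S.proj t) = u t * i.g (i.S.proj t) := by
      show u.lift _ * i.g _ = _
      rw [DiscreteQuotient.ofLE_proj, DiscreteQuotient.ofLE_proj]
      rfl
    have h3 : algebraMap A (Localization.Away (g (S.proj t))) (g (S.proj t)) =
        algebraMap A _ (u t) * algebraMap A _ (i.g (i.S.proj t)) := by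
      rw [← map_mul]; exact congrArg _ h2
    rw [h3] at h1
    exact isUnit_of_mul_isUnit_left h1

instance : Nonempty (Idx F) := ⟨⟨⊤, fun _ => 1, fun t => (F.p t).isPrime.one_notMem⟩⟩

instance : IsDirected (Idx F) (· ≤ ·) := ⟨fun i j => by
  let u : LocallyConstant T A := ⟨j.g ∘ j.S.proj, j.S.proj_isLocallyConstant.comp j.g⟩
  obtain ⟨k, hik, hkS, hk⟩ := exists_ge i u j.hg j.S
  refine ⟨k, hik, hkS, fun c => ?_⟩
  obtain ⟨t, rfl, hunit⟩ := hk c
  rw [DiscreteQuotient.ofLE_proj]
  exact hunit⟩

/-- `W` is the filtered colimit of the stages. -/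
theorem exists_colimit :
    ∃ (D : Idx F ⥤ Under (CommRingCat.of A)) (c : Cocone D) (_ : IsColimit c),
      (∀ i, D.obj i = CommRingCat.mkUnder (CommRingCat.of A) (Stage i)) ∧
      Nonempty (c.pt ≅ Under.mk (CommRingCat.ofHom (algebraMap A (WRing F)))) := by
  obtain ⟨D, c, hc, hobj, -, e⟩ := CAlgH.under_colimit (R := A) (fun i : Idx F => Stage i) stageTr
    (fun i => AlgHom.ext fun x => funext fun c => by
      rw [stageTr_apply]
      exact algHom_ext_away x (DiscreteQuotient.ofLE_refl_apply c) _ (AlgHom.id A _))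
    (fun i j k h1 h2 => AlgHom.ext fun x => funext fun c => by
      rw [AlgHom.comp_apply, stageTr_apply, stageTr_apply, stageTr_apply]
      exact algHom_ext_away x (DiscreteQuotient.ofLE_ofLE h2.choose h1.choose c)
        ((transC h2 c).comp (transC h1 _)) _)
    (fun i => stageMap i)
    (fun i j h => AlgHom.ext fun x => ext_ev F fun t => by
      rw [AlgHom.comp_apply, ev_stageMap, ev_stageMap, stageTr_apply]
      exact algHom_ext_away x (DiscreteQuotient.ofLE_proj h.choose t)
        ((toLoc j t).comp (transC h (j.S.proj t))) _)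
    (fun w => by
      obtain ⟨f, hf⟩ := exists_locallyConstant
        (fun t (x : A × A) => x.2 ∉ (F.p t).asIdeal ∧
          algebraMap A (Loc F t) x.2 * ev F t w = algebraMap A (Loc F t) x.1)
        (fun t => by
          obtain ⟨U, hU, htU, a, s, h⟩ := exists_frac_nhd F w t
          obtain ⟨C, hC, htC, hCU⟩ := compact_exists_isClopen_in_isOpen hU htU
          exact ⟨C, hC, htC, (a, s), fun t' ht' => h t' (hCU ht')⟩)
      let i : Idx F := ⟨f.discreteQuotient, fun c => (f.lift c).2, fun t => (hf t).1⟩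
      let x : Stage i := fun c => IsLocalization.mk' (Localization.Away (i.g c)) (f.lift c).1
        (⟨i.g c, Submonoid.mem_powers _⟩ : Submonoid.powers (i.g c))
      refine ⟨i, x, ext_ev F fun t => ?_⟩
      rw [ev_stageMap]
      apply (IsLocalization.map_units (Loc F t) (⟨_, (hf t).1⟩ : (F.p t).asIdeal.primeCompl)).mul_left_cancel
      have h2 := congrArg (toLoc i t) (IsLocalization.mk'_spec (Localization.Away (i.g (i.S.proj t)))
        (f.lift (i.S.proj t)).1 (⟨i.g _, Submonoid.mem_powers _⟩ : Submonoid.powers (i.g (i.S.proj t))))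
      rw [map_mul, toLoc_algebraMap, toLoc_algebraMap, mul_comm] at h2
      exact h2.trans (hf t).2.symm)
    (fun i x hx => by
      obtain ⟨u, hu⟩ := exists_locallyConstant
        (fun t (u : A) => u ∉ (F.p t).asIdeal ∧
          ∀ a n, x (i.S.proj t) * algebraMap A _ (i.g (i.S.proj t)) ^ n = algebraMap A _ a →
            ∃ m, u * i.g (i.S.proj t) ^ m * a = 0)
        (fun t => by
          obtain ⟨n, a, ha⟩ := IsLocalization.Away.surj (i.g (i.S.proj t)) (x (i.S.proj t))
          have h0 : toLoc i t (x (i.S.proj t)) = 0 := by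
            rw [← ev_stageMap, hx, map_zero]
          have h1 : algebraMap A (Loc F t) a = 0 := by
            rw [← toLoc_algebraMap i t, ← ha, map_mul, h0, zero_mul]
          obtain ⟨⟨v, hv⟩, hva⟩ :=
            (IsLocalization.map_eq_zero_iff (F.p t).asIdeal.primeCompl (Loc F t) a).1 h1
          obtain ⟨C, hC, htC, hCU⟩ := compact_exists_isClopen_in_isOpen
            ((F.clopen v).isOpen.inter (i.S.isOpen_preimage {i.S.proj t})) ⟨hv, rfl⟩
          refine ⟨C, hC, htC, v, fun t' ht' => ⟨(hCU ht').1, ?_⟩⟩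
          have e : i.S.proj t' = i.S.proj t := (hCU ht').2
          rw [e]
          intro b m hb
          have h3 : algebraMap A (Localization.Away (i.g (i.S.proj t))) (v * b) = 0 := by
            have hg := IsLocalization.Away.algebraMap_isUnit (S := Localization.Away (i.g (i.S.proj t))) (i.g (i.S.proj t))
            have hx0 : algebraMap A _ v * x (i.S.proj t) = 0 := by
              refine (hg.pow n).mul_left_eq_zero.1 ?_
              rw [mul_assoc, ha, ← map_mul, show v * a = 0 from hva, map_zero]
            rw [map_mul, ← hb, ← mul_assoc, hx0, zero_mul]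
          obtain ⟨⟨_, k, rfl⟩, hk⟩ :=
            (IsLocalization.map_eq_zero_iff (Submonoid.powers (i.g (i.S.proj t))) _ (v * b)).1 h3
          exact ⟨k, by linear_combination hk⟩)
      obtain ⟨j, hij, -, hj⟩ := exists_ge i u (fun t => (hu t).1) i.S
      refine ⟨j, hij, funext fun c => ?_⟩
      obtain ⟨t, rfl, hunit⟩ := hj c
      rw [stageTr_apply, Pi.zero_apply]
      have hd : DiscreteQuotient.ofLE hij.choose (j.S.proj t) = i.S.proj t := DiscreteQuotient.ofLE_proj _ t
      suffices key : ∀ (d : i.S), d = i.S.proj t →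
          ∀ φ : Localization.Away (i.g d) →ₐ[A] Localization.Away (j.g (j.S.proj t)),
            IsUnit (algebraMap A (Localization.Away (j.g (j.S.proj t))) (i.g d)) → φ (x d) = 0 from
        key _ hd _ (hij.choose_spec (j.S.proj t))
      rintro d rfl φ hg
      obtain ⟨n, a, ha⟩ := IsLocalization.Away.surj (i.g (i.S.proj t)) (x (i.S.proj t))
      obtain ⟨m, hm⟩ := (hu t).2 a n ha
      have h1 := congrArg φ ha
      rw [map_mul, map_pow, φ.commutes, φ.commutes] at h1
      refine (hg.pow n).mul_left_eq_zero.1 (h1.trans ?_)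
      have h2 := congrArg (algebraMap A (Localization.Away (j.g (j.S.proj t)))) hm
      rw [map_zero, map_mul, map_mul, map_pow] at h2
      exact (hunit.mul (hg.pow m)).mul_right_eq_zero.1 h2)
  exact ⟨D, c, hc, hobj, e⟩

theorem etale_stage (i : Idx F) : Algebra.Etale A (Stage i) := by
  haveI : ∀ c : i.S, Algebra.Etale A (Localization.Away (i.g c)) := fun c =>
    Algebra.Etale.of_isLocalizationAway (i.g c)
  infer_instance

theorem isLocalIso_stage (i : Idx F) : Algebra.IsLocalIso A (Stage i) := by
  haveI : ∀ c : i.S, Algebra.IsLocalIso A (Localization.Away (i.g c)) := fun c => by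
    haveI : Algebra.IsStandardOpenImmersion A (Localization.Away (i.g c)) := ⟨⟨i.g c, inferInstance⟩⟩
    infer_instance
  exact Algebra.IsLocalIso.pi_of_finite A fun c => Localization.Away (i.g c)

variable (F)

theorem isIndZariski : EtPBC.IsIndZariski A (WRing F) := by
  obtain ⟨D, c, hc, hobj, ⟨e⟩⟩ := exists_colimit (F := F)
  refine ⟨Idx F, inferInstance, inferInstance, D, c, hc, fun i => ?_, ⟨e⟩⟩
  rw [hobj i]
  haveI := isLocalIso_stage i
  letI : Algebra A ((CommRingCat.of A).mkUnder (Stage i)).right :=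
    ((CommRingCat.of A).mkUnder (Stage i)).hom.hom.toAlgebra
  exact Algebra.IsLocalIso.of_algEquiv
    ({ RingEquiv.refl _ with commutes' := fun r => rfl } :
      Stage i ≃ₐ[A] ((CommRingCat.of A).mkUnder (Stage i)).right)

theorem isIndEtale : EtPBC.IsIndEtale A (WRing F) := by
  obtain ⟨D, c, hc, hobj, ⟨e⟩⟩ := exists_colimit (F := F)
  refine ⟨Idx F, inferInstance, inferInstance, D, c, hc, fun i => ?_, ⟨e⟩⟩
  rw [hobj i]
  haveI := etale_stage i
  letI : Algebra A ((CommRingCat.of A).mkUnder (Stage i)).right :=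
    ((CommRingCat.of A).mkUnder (Stage i)).hom.hom.toAlgebra
  exact Algebra.Etale.of_equiv
    ({ RingEquiv.refl _ with commutes' := fun r => rfl } :
      Stage i ≃ₐ[A] ((CommRingCat.of A).mkUnder (Stage i)).right)

theorem flat : Module.Flat A (WRing F) := IndEt.flat A (WRing F) (isIndEtale F)

theorem faithfullyFlat (hp : Function.Surjective F.p) : Module.FaithfullyFlat A (WRing F) :=
  haveI := flat F
  Module.FaithfullyFlat.of_comap_surjective fun x => by
    obtain ⟨t, rfl⟩ := hp x
    exact ⟨closedPt F t, comap_closedPt F t⟩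

end Groth.Agent.HenselLib.WLoc
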