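import Mathlib
import Groth.Agent.HenselLib.WLocBasic
import Groth.Agent.HenselLib.WLocInd
import Groth.Agent.S7579

/-!
# Canonical families for the w-localization
-/

set_option autoImplicit false

open TopologicalSpace

universe u

namespace Groth.Agent.HenselLib.WLoc

variable (A : Type u) [CommRing A]

/-- `Spec A` with the constructible topology. -/
abbrev ZT : Type u := WithConstructibleTopology (PrimeSpectrum A)

instance : T2Space (ZT A) := (Groth.Agent.S7579.result (PrimeSpectrum A)).1
instance : TotallyDisconnectedSpace (ZT A) := (Groth.Agent.S7579.result (PrimeSpectrum A)).2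

variable {A}

theorem isClopen_ZT_basicOpen (f : A) :
    IsClopen {z : ZT A | f ∉ z.ofTopology.asIdeal} := by
  have hc := PrimeSpectrum.isCompact_basicOpen f
  have ho := (PrimeSpectrum.basicOpen f).isOpen
  refine ⟨⟨?_⟩, ?_⟩
  · rw [WithConstructibleTopology.isOpen_iff, Set.preimage_compl]
    refine IsCompact.isOpen_constructibleTopology_of_isClosed ?_ ?_
    · rw [compl_compl]; exact hc
    · exact isClosed_compl_iff.2 ho
  · rw [WithConstructibleTopology.isOpen_iff]
    exact hc.isOpen_constructibleTopology_of_isOpen ho

variable (A)

/-- The canonical family. -/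
def canon : Fam A (ZT A) where
  p z := z.ofTopology
  clopen := isClopen_ZT_basicOpen

theorem continuous_ofTopology : Continuous (fun z : ZT A => z.ofTopology) := by
  rw [PrimeSpectrum.isTopologicalBasis_basic_opens.continuous_iff]
  rintro _ ⟨f, rfl⟩
  exact (isClopen_ZT_basicOpen f).isOpen

/-- Restriction of the canonical family to `V(I)`. -/
abbrev ZV (I : Ideal A) : Type u := {z : ZT A // z.ofTopology ∈ PrimeSpectrum.zeroLocus (I : Set A)}

def canonOn (I : Ideal A) : Fam A (ZV A I) where
  p z := z.1.ofTopology
  clopen f := (isClopen_ZT_basicOpen f).preimage continuous_subtype_val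

instance (I : Ideal A) : CompactSpace (ZV A I) :=
  isCompact_iff_compactSpace.1
    ((PrimeSpectrum.isClosed_zeroLocus (I : Set A)).preimage (continuous_ofTopology A)).isCompact

/-- The Gleason-type cover. -/
abbrev GT : Type u := StoneCech (WithTopology (PrimeSpectrum A) ⊥)

noncomputable def gleasonMap : GT A → ZT A :=
  stoneCechExtend (g := fun z => WithTopology.toTopology _ z.ofTopology)
    (by
      haveI : DiscreteTopology (WithTopology (PrimeSpectrum A) ⊥) :=
        discreteTopology_iff_forall_isOpen.2 fun s => (WithTopology.isOpen_iff _).2 trivial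
      exact continuous_of_discreteTopology)

theorem gleasonMap_continuous : Continuous (gleasonMap A) := continuous_stoneCechExtend _

theorem gleasonMap_surjective : Function.Surjective (gleasonMap A) := fun z =>
  ⟨stoneCechUnit (WithTopology.toTopology (⊥ : TopologicalSpace (PrimeSpectrum A)) z.ofTopology),
    stoneCechExtend_stoneCechUnit _ _⟩

noncomputable def gleasonFam : Fam A (GT A) where
  p t := (gleasonMap A t).ofTopology
  clopen f := (isClopen_ZT_basicOpen f).preimage (gleasonMap_continuous A)

instance : ExtremallyDisconnected (GT A) := by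
  haveI : DiscreteTopology (WithTopology (PrimeSpectrum A) ⊥) :=
    discreteTopology_iff_forall_isOpen.2 fun s => (WithTopology.isOpen_iff _).2 trivial
  exact CompactT2.Projective.extremallyDisconnected StoneCech.projective

end Groth.Agent.HenselLib.WLoc
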