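import Mathlib
import Groth.Prelude.Def_ProEtW
import Groth.Agent.HenselLib.EtaleLift

/-!
# Rings over which faithfully flat etale algebras have retractions
-/

set_option autoImplicit false

open Polynomial

universe u

namespace Groth.Agent.HenselLib.EtRetr

variable {A : Type u} [CommRing A]

/-- two-element family -/
abbrev BoolFam (C X : Type u) : Bool → Type u := fun b => b.casesOn X C

noncomputable local instance (C X : Type u) [CommRing C] [CommRing X] : ∀ b, CommRing (BoolFam C X b) :=
  fun b => b.casesOn ‹CommRing X› ‹CommRing C›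

noncomputable local instance instAlgBoolFam (C X : Type u) [CommRing C] [CommRing X] [Algebra A C] [Algebra A X] :
    ∀ b, Algebra A (BoolFam C X b) :=
  fun b => b.casesOn ‹Algebra A X› ‹Algebra A C›

theorem etale_prod (C X : Type u) [CommRing C] [CommRing X] [Algebra A C] [Algebra A X]
    [Algebra.Etale A C] [Algebra.Etale A X] : Algebra.Etale A (C × X) := by
  haveI : ∀ b, Algebra.Etale A (BoolFam C X b) := fun b => by
    cases b
    · exact ‹Algebra.Etale A X›
    · exact ‹Algebra.Etale A C›
  let e : (∀ b, BoolFam C X b) ≃ₐ[A] C × X :=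
    { toFun := fun f => (f true, f false)
      invFun := fun x b => b.casesOn x.2 x.1
      left_inv := fun f => funext fun b => by cases b <;> rfl
      right_inv := fun x => rfl
      map_mul' := fun f g => rfl
      map_add' := fun f g => rfl
      commutes' := fun a => rfl }
  exact Algebra.Etale.of_equiv e

/-- Given an etale algebra whose image, together with the basic opens of `f i`, covers everything, the
retraction of the cover gives a decomposition. -/
theorem exists_retraction (h : ProEtW.HasEtaleRetractions A) (C : Type u) [CommRing C] [Algebra A C]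
    [Algebra.Etale A C] {ι : Type u} [Finite ι] (f : ι → A)
    (hcov : ∀ p : PrimeSpectrum A, p ∈ Set.range (PrimeSpectrum.comap (algebraMap A C)) ∨ ∃ i, f i ∉ p.asIdeal) :
    Nonempty ((C × (∀ i, Localization.Away (f i))) →ₐ[A] A) := by
  haveI : ∀ i, Algebra.Etale A (Localization.Away (f i)) := fun i => Algebra.Etale.of_isLocalizationAway (f i)
  haveI : Algebra.Etale A (∀ i, Localization.Away (f i)) := inferInstance
  let D := C × (∀ i, Localization.Away (f i))
  haveI : Algebra.Etale A D := etale_prod (A := A) C _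
  haveI : Module.Flat A D := Algebra.Smooth.flat A D
  refine h D (Module.FaithfullyFlat.of_comap_surjective fun p => ?_) inferInstance
  rcases hcov p with ⟨q, hq⟩ | ⟨i, hi⟩
  · refine ⟨PrimeSpectrum.comap (AlgHom.fst A C _).toRingHom q, ?_⟩
    rw [← PrimeSpectrum.comap_comp_apply, AlgHom.toRingHom_eq_coe, AlgHom.comp_algebraMap]
    exact hq
  · have hp : p ∈ Set.range (PrimeSpectrum.comap (algebraMap A (Localization.Away (f i)))) := by
      rw [PrimeSpectrum.localization_away_comap_range (Localization.Away (f i)) (f i)]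
      exact hi
    obtain ⟨q, hq⟩ := hp
    refine ⟨PrimeSpectrum.comap ((Pi.evalAlgHom A (fun i => Localization.Away (f i)) i).comp
      (AlgHom.snd A C _)).toRingHom q, ?_⟩
    rw [← PrimeSpectrum.comap_comp_apply, AlgHom.toRingHom_eq_coe, AlgHom.comp_algebraMap]
    exact hq

/-- Etale retractions pass to quotients. -/
theorem hasEtaleRetractions_quotient (h : ProEtW.HasEtaleRetractions A) (I : Ideal A) :
    ProEtW.HasEtaleRetractions (A ⧸ I) := by
  classical
  intro B _ _ hff het
  obtain ⟨C, _, _, _, θ, hθ, hker, hθA⟩ := exists_etale_lift A I B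
  haveI : Module.Flat A C := Algebra.Smooth.flat A C
  let U : Set (PrimeSpectrum A) := Set.range (PrimeSpectrum.comap (algebraMap A C))
  have hU : IsOpen U :=
    (PrimeSpectrum.isOpenMap_comap_of_hasGoingDown_of_finitePresentation (R := A) (S := C)).isOpen_range
  have hVU : PrimeSpectrum.zeroLocus (I : Set A) ⊆ U := by
    intro p hp
    obtain ⟨p', hp'⟩ : p ∈ Set.range (PrimeSpectrum.comap (Ideal.Quotient.mk I)) := by
      rw [range_comap_of_surjective _ _ Ideal.Quotient.mk_surjective, Ideal.mk_ker]; exact hp
    obtain ⟨q, hq⟩ := PrimeSpectrum.comap_surjective_of_faithfullyFlat (A := A ⧸ I) (B := B) p'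
    refine ⟨PrimeSpectrum.comap θ q, ?_⟩
    rw [← hp', ← hq, ← PrimeSpectrum.comap_comp_apply, ← PrimeSpectrum.comap_comp_apply]
    refine congrArg (fun φ => PrimeSpectrum.comap φ q) (?_ : θ.comp (algebraMap A C) = (algebraMap (A ⧸ I) B).comp (Ideal.Quotient.mk I))
    exact RingHom.ext hθA
  obtain ⟨t, ht⟩ : ∃ t : Finset {a // a ∈ I}, Uᶜ ⊆ ⋃ a ∈ t, (PrimeSpectrum.basicOpen a.1 : Set (PrimeSpectrum A)) := by
    refine hU.isClosed_compl.isCompact.elim_finite_subcover _ (fun a => (PrimeSpectrum.basicOpen a.1).isOpen)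
      fun p hp => ?_
    obtain ⟨a, ha, hap⟩ := Set.not_subset.1 (fun hle => hp (hVU hle))
    exact Set.mem_iUnion.2 ⟨⟨a, ha⟩, hap⟩
  obtain ⟨r⟩ := exists_retraction h C (fun a : {x // x ∈ t} => a.1.1) fun p => by
    by_cases hp : p ∈ U
    · exact Or.inl hp
    · obtain ⟨a, ha, hpa⟩ := Set.mem_iUnion₂.1 (ht hp)
      exact Or.inr ⟨⟨a, ha⟩, hpa⟩
  let T : (C × (∀ a : {x // x ∈ t}, Localization.Away a.1.1)) →ₐ[A] A ⧸ I := (Ideal.Quotient.mkₐ A I).comp r
  have hzero : ∀ v : (∀ a : {x // x ∈ t}, Localization.Away a.1.1), T (0, v) = 0 := by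
    intro v
    have hsum : ((0 : C), v) = ∑ a : {x // x ∈ t}, ((0 : C), (Pi.single a (v a) :
          ∀ a : {x // x ∈ t}, Localization.Away a.1.1)) := by
      refine Prod.ext ?_ ?_
      · simp [Prod.fst_sum]
      · rw [Prod.snd_sum]
        exact (Finset.univ_sum_single v).symm
    rw [hsum, map_sum]
    refine Finset.sum_eq_zero fun a _ => ?_
    have : ((0 : C), (Pi.single a (v a) : ∀ a : {x // x ∈ t}, Localization.Away a.1.1)) =
        algebraMap A (C × (∀ a : {x // x ∈ t}, Localization.Away a.1.1)) a.1.1 *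
          ((0 : C), Pi.single a (IsLocalization.Away.invSelf a.1.1 * v a)) := by
      refine Prod.ext (by simp) (funext fun b => ?_)
      rcases eq_or_ne b a with rfl | hne
      · simp [← mul_assoc, IsLocalization.Away.mul_invSelf]
      · simp [hne]
    rw [this, map_mul, T.commutes, Ideal.Quotient.algebraMap_eq, Ideal.Quotient.eq_zero_iff_mem.2 a.1.2,
      zero_mul]
  have h10 : T (1, 0) = 1 := by
    have : T (1, 0) + T (0, 1) = 1 := by
      rw [← map_add]
      convert map_one T using 2
      exact Prod.ext (by simp) (by simp)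
    rwa [hzero, add_zero] at this
  let τ : C →+* A ⧸ I :=
    { toFun := fun x => T (x, 0)
      map_one' := h10
      map_mul' := fun x y => by rw [← map_mul]; congr 1; exact Prod.ext rfl (by simp)
      map_zero' := map_zero T
      map_add' := fun x y => by rw [← map_add]; congr 1; exact Prod.ext rfl (by simp) }
  have hτA : ∀ a, τ (algebraMap A C a) = Ideal.Quotient.mk I a := fun a => by
    show T (algebraMap A C a, 0) = _
    have hprod : ((algebraMap A C a, 0) : C × (∀ a : {x // x ∈ t}, Localization.Away a.1.1)) =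
        algebraMap A _ a * (1, 0) := Prod.ext (by simp) (by simp)
    rw [hprod, map_mul, h10, mul_one, T.commutes]
    rfl
  have hle : RingHom.ker θ ≤ RingHom.ker τ := by
    rw [hker, Ideal.map_le_iff_le_comap]
    intro a ha
    show τ (algebraMap A C a) = 0
    rw [hτA, Ideal.Quotient.eq_zero_iff_mem.2 ha]
  exact ⟨{ RingHom.liftOfSurjective θ hθ ⟨τ, hle⟩ with
    commutes' := fun x => by
      obtain ⟨a, rfl⟩ := Ideal.Quotient.mk_surjective x
      rw [← hθA]
      exact (RingHom.liftOfRightInverse_comp_apply θ _ (Function.rightInverse_surjInv hθ) ⟨τ, hle⟩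
        (algebraMap A C a)).trans (hτA a) }⟩

/-- Etale algebras with a point over a maximal ideal map to the local ring there. -/
theorem exists_point (h : ProEtW.HasEtaleRetractions A) (m : Ideal A) [m.IsMaximal] (C : Type u)
    [CommRing C] [Algebra A C] [Algebra.Etale A C] (q : Ideal C) [q.IsPrime]
    (hq : q.comap (algebraMap A C) = m) :
    ∃ τ : C →ₐ[A] Localization.AtPrime m,
      (IsLocalRing.maximalIdeal (Localization.AtPrime m)).comap τ.toRingHom = q := by
  classical
  -- shrink to separate `q` from the other primes over `m`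
  haveI : Algebra.QuasiFinite A C := inferInstance
  have hfin : (m.primesOver C).Finite := Algebra.QuasiFinite.finite_primesOver m
  have hmax : ∀ q' ∈ m.primesOver C, q' ≠ q → ∃ g ∈ q', g ∉ q := by
    rintro q' ⟨hq'p, hq'⟩ hne
    by_contra hcon
    push Not at hcon
    haveI := hq'p
    haveI := hq'
    haveI : q.LiesOver m := ⟨hq.symm⟩
    exact hne (Algebra.QuasiFinite.eq_of_le_of_under_eq (R := A) q' q (fun x hx => hcon x hx) (by
      rw [← Ideal.over_def q' m, ← Ideal.over_def q m]))
  obtain ⟨g, hgq, hg⟩ : ∃ g : C, g ∉ q ∧ ∀ q' ∈ m.primesOver C, q' ≠ q → g ∈ q' := by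
    let s := hfin.toFinset.filter (fun q' => q' ≠ q)
    have : ∀ x : {x // x ∈ s}, ∃ g ∈ x.1, g ∉ q := fun x => by
      have := Finset.mem_filter.1 x.2
      exact hmax x.1 (hfin.mem_toFinset.1 this.1) this.2
    choose g hg hgq using this
    refine ⟨∏ x, g x, fun h => ?_, fun q' hq' hne => ?_⟩
    · obtain ⟨x, -, hx⟩ := Ideal.IsPrime.prod_mem_iff.1 h
      exact hgq x hx
    · have hx : q' ∈ s := Finset.mem_filter.2 ⟨hfin.mem_toFinset.2 hq', hne⟩
      exact Ideal.mem_of_dvd _ (Finset.dvd_prod_of_mem g (Finset.mem_univ ⟨q', hx⟩)) (hg ⟨q', hx⟩)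
  let C' := Localization.Away g
  haveI : Algebra.Etale A C' := Algebra.Etale.comp A C C'
  haveI : Module.Flat A C' := Algebra.Smooth.flat A C'
  -- the image of the shrunk algebra is an open set containing `m`
  let U : Set (PrimeSpectrum A) := Set.range (PrimeSpectrum.comap (algebraMap A C'))
  have hU : IsOpen U :=
    (PrimeSpectrum.isOpenMap_comap_of_hasGoingDown_of_finitePresentation (R := A) (S := C')).isOpen_range
  let pm : PrimeSpectrum A := ⟨m, inferInstance⟩
  have hmU : pm ∈ U := by
    obtain ⟨q', hq'⟩ : (⟨q, inferInstance⟩ : PrimeSpectrum C) ∈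
        Set.range (PrimeSpectrum.comap (algebraMap C C')) := by
      rw [PrimeSpectrum.localization_away_comap_range C' g]
      exact hgq
    refine ⟨q', ?_⟩
    rw [IsScalarTower.algebraMap_eq A C C', PrimeSpectrum.comap_comp_apply, hq']
    exact PrimeSpectrum.ext hq
  -- finitely many elements of `m` cover the complement
  obtain ⟨t, ht⟩ : ∃ t : Finset {a // a ∈ m}, Uᶜ ⊆ ⋃ a ∈ t, (PrimeSpectrum.basicOpen a.1 : Set (PrimeSpectrum A)) := by
    refine hU.isClosed_compl.isCompact.elim_finite_subcover _ (fun a => (PrimeSpectrum.basicOpen a.1).isOpen)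
      fun p hp => ?_
    have hne : ¬ m ≤ p.asIdeal := fun hle => hp (by
      have : pm = p := PrimeSpectrum.ext ((‹m.IsMaximal›).eq_of_le p.isPrime.ne_top hle)
      exact this ▸ hmU)
    obtain ⟨a, ha, hap⟩ := Set.not_subset.1 hne
    exact Set.mem_iUnion.2 ⟨⟨a, ha⟩, hap⟩
  obtain ⟨r⟩ := exists_retraction h C' (fun a : {x // x ∈ t} => a.1.1) fun p => by
    by_cases hp : p ∈ U
    · exact Or.inl hp
    · obtain ⟨a, ha, hpa⟩ := Set.mem_iUnion₂.1 (ht hp)
      exact Or.inr ⟨⟨a, ha⟩, hpa⟩
  let T : (C' × (∀ a : {x // x ∈ t}, Localization.Away a.1.1)) →ₐ[A] Localization.AtPrime m :=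
    (IsScalarTower.toAlgHom A A (Localization.AtPrime m)).comp r
  let M := IsLocalRing.maximalIdeal (Localization.AtPrime m)
  have hzero : T (0, 1) ∈ M := by
    have hsum : ((0 : C'), (1 : ∀ a : {x // x ∈ t}, Localization.Away a.1.1)) =
        ∑ a : {x // x ∈ t}, ((0 : C'), (Pi.single a (1 : Localization.Away a.1.1) :
          ∀ a : {x // x ∈ t}, Localization.Away a.1.1)) := by
      refine Prod.ext ?_ ?_
      · simp [Prod.fst_sum]
      · rw [Prod.snd_sum]
        exact (Finset.univ_sum_single (1 : ∀ a : {x // x ∈ t}, Localization.Away a.1.1)).symm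
    rw [hsum, map_sum]
    refine sum_mem fun a _ => ?_
    have : ((0 : C'), (Pi.single a (1 : Localization.Away a.1.1) : ∀ a : {x // x ∈ t}, Localization.Away a.1.1)) =
        algebraMap A (C' × (∀ a : {x // x ∈ t}, Localization.Away a.1.1)) a.1.1 *
          ((0 : C'), Pi.single a (IsLocalization.Away.invSelf a.1.1)) := by
      refine Prod.ext (by simp) (funext fun b => ?_)
      rcases eq_or_ne b a with rfl | hne
      · simp [IsLocalization.Away.mul_invSelf]
      · simp [hne]
    rw [this, map_mul, T.commutes]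
    exact Ideal.mul_mem_right _ _
      ((IsLocalization.AtPrime.to_map_mem_maximal_iff (Localization.AtPrime m) m a.1.1).2 a.1.2)
  have hu : IsUnit (T (1, 0)) := by
    have : T (1, 0) = 1 - T (0, 1) := by
      rw [eq_sub_iff_add_eq, ← map_add]
      convert map_one T using 2
      exact Prod.ext (by simp) (by simp)
    rw [this]
    exact IsLocalRing.isUnit_one_sub_self_of_mem_nonunits _ hzero
  have h10 : T (1, 0) = 1 := by
    have hid : T (1, 0) * T (1, 0) = T (1, 0) := by
      rw [← map_mul]; congr 1; exact Prod.ext (by simp) (by simp)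
    exact hu.mul_left_cancel (by rw [hid, mul_one])
  let τ' : C' →ₐ[A] Localization.AtPrime m :=
    { toFun := fun x => T (x, 0)
      map_one' := h10
      map_mul' := fun x y => by rw [← map_mul]; congr 1; exact Prod.ext rfl (by simp)
      map_zero' := map_zero T
      map_add' := fun x y => by rw [← map_add]; congr 1; exact Prod.ext rfl (by simp)
      commutes' := fun a => by
        have hprod : ((algebraMap A C' a, 0) : C' × (∀ a : {x // x ∈ t}, Localization.Away a.1.1)) =
            algebraMap A _ a * (1, 0) := Prod.ext (by simp) (by simp)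
        rw [hprod, map_mul, h10, mul_one, T.commutes] }
  refine ⟨τ'.comp (IsScalarTower.toAlgHom A C C'), ?_⟩
  let q₁ := M.comap (τ'.comp (IsScalarTower.toAlgHom A C C')).toRingHom
  have hq₁ : q₁ ∈ m.primesOver C := by
    refine ⟨inferInstance, ⟨?_⟩⟩
    show m = q₁.comap (algebraMap A C)
    rw [Ideal.comap_comap, AlgHom.toRingHom_eq_coe, AlgHom.comp_algebraMap]
    exact (IsLocalization.AtPrime.under_maximalIdeal (Localization.AtPrime m) m).symm
  by_contra hne
  have hgmem : g ∈ q₁ := hg q₁ hq₁ hne
  exact (IsLocalRing.mem_maximalIdeal _).1 hgmem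
    ((IsLocalization.Away.algebraMap_isUnit (S := C') g).map τ')

/-- Etale retractions at maximal ideals: the local rings are strictly henselian. -/
theorem strictlyHenselian_atPrime (h : ProEtW.HasEtaleRetractions A) (m : Ideal A) [m.IsMaximal] :
    HenselianLocalRing (Localization.AtPrime m) ∧
      IsSepClosed (IsLocalRing.ResidueField (Localization.AtPrime m)) := by
  classical
  let L := Localization.AtPrime m
  let k := IsLocalRing.ResidueField L
  have hsurj : Function.Surjective (algebraMap A k) := Ideal.algebraMap_residueField_surjective m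
  -- a simple root modulo `m` of a monic polynomial over `A` lifts to `L`
  have key : ∀ F : A[X], F.Monic → ∀ a : k, aeval a F = 0 → aeval a (derivative F) ≠ 0 →
      ∃ b : L, aeval b F = 0 ∧ IsLocalRing.residue L b = a := by
    intro F hF a ha ha'
    let P : StandardEtalePair A :=
      { f := F, monic_f := hF, g := derivative F, cond := ⟨1, 0, 1, by ring⟩ }
    have hmap : P.HasMap a := ⟨ha, ha'.isUnit⟩
    let σ := P.lift a hmap
    haveI : (RingHom.ker σ.toRingHom).IsPrime := RingHom.ker_isPrime _
    have hker : (RingHom.ker σ.toRingHom).comap (algebraMap A P.Ring) = m := by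
      ext x
      show σ (algebraMap A P.Ring x) = 0 ↔ _
      rw [σ.commutes, IsScalarTower.algebraMap_apply A L k, IsLocalRing.ResidueField.algebraMap_eq,
        IsLocalRing.residue_eq_zero_iff, IsLocalization.AtPrime.to_map_mem_maximal_iff L m]
    obtain ⟨τ, hτ⟩ := exists_point h m P.Ring _ hker
    refine ⟨τ P.X, ?_, ?_⟩
    · exact (P.hasMap_X.map τ).1
    · obtain ⟨x, hx⟩ := hsurj a
      have : P.X - algebraMap A P.Ring x ∈ RingHom.ker σ.toRingHom := by
        show σ _ = 0
        rw [map_sub, σ.commutes, StandardEtalePair.lift_X, hx, sub_self]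
      rw [← hτ, Ideal.mem_comap, AlgHom.toRingHom_eq_coe, RingHom.coe_coe, map_sub, τ.commutes,
        ← IsLocalRing.residue_eq_zero_iff, map_sub, sub_eq_zero] at this
      rw [this, ← hx, IsScalarTower.algebraMap_apply A L k]
      rfl
  refine ⟨⟨fun f hf a₀ h0 h1 => ?_⟩, IsSepClosed.of_exists_root _ fun f hf hirr hsep => ?_⟩
  · obtain ⟨⟨s, hs⟩, hint⟩ := IsLocalization.exist_integer_multiples_of_finset m.primeCompl
      (Finset.image f.coeff (Finset.range (f.natDegree + 1)))
    have hlift : f.scaleRoots (algebraMap A L s) ∈ Polynomial.lifts (algebraMap A L) := by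
      rw [Polynomial.lifts_iff_coeff_lifts]
      intro i
      rw [coeff_scaleRoots]
      by_cases hi : i < f.natDegree
      · obtain ⟨z, hz⟩ := hint (f.coeff i) (Finset.mem_image.2 ⟨i, Finset.mem_range.2 (Nat.lt_succ_of_lt hi), rfl⟩)
        refine ⟨z * s ^ (f.natDegree - i - 1), ?_⟩
        have hk : f.natDegree - i = 1 + (f.natDegree - i - 1) := by omega
        conv_rhs => rw [hk, pow_add, pow_one, ← mul_assoc]
        rw [map_mul, map_pow, hz, Algebra.smul_def, mul_comm (algebraMap A L s)]
      · rcases (not_lt.1 hi).eq_or_lt with rfl | hlt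
        · exact ⟨1, by rw [map_one, tsub_self, pow_zero, mul_one, hf.coeff_natDegree]⟩
        · exact ⟨0, by rw [map_zero, coeff_eq_zero_of_natDegree_lt hlt, zero_mul]⟩
    obtain ⟨F, hF, -, hFm⟩ := lifts_and_degree_eq_and_monic hlift ((monic_scaleRoots_iff _).2 hf)
    have hsu : IsUnit (algebraMap A L s) := IsLocalization.map_units L (⟨s, hs⟩ : m.primeCompl)
    let a : k := IsLocalRing.residue L (algebraMap A L s * a₀)
    have hres : ∀ G : A[X], aeval a G = IsLocalRing.residue L (aeval (algebraMap A L s * a₀) G) := fun G =>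
      aeval_algebraMap_apply k (algebraMap A L s * a₀) G
    have hev : aeval (algebraMap A L s * a₀) F = (algebraMap A L s) ^ f.natDegree * f.eval a₀ := by
      rw [← eval_map_algebraMap, hF, scaleRoots_eval_mul]
    have hd : IsUnit (aeval (algebraMap A L s * a₀) (derivative F)) := by
      rw [← eval_map_algebraMap, ← derivative_map, hF]
      have h2 := congrArg derivative (show (f.scaleRoots (algebraMap A L s)).comp (C (algebraMap A L s) * X) =
          C (algebraMap A L s ^ f.natDegree) * f by
        apply Polynomial.ext; intro i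
        rw [comp_C_mul_X_coeff, coeff_scaleRoots, coeff_C_mul]
        rcases le_or_gt i f.natDegree with hi | hi
        · rw [mul_assoc, ← pow_add, Nat.sub_add_cancel hi, mul_comm]
        · rw [coeff_eq_zero_of_natDegree_lt hi]; simp)
      have h3 := congrArg (eval a₀) h2
      rw [derivative_comp, derivative_C_mul, derivative_C_mul, derivative_X] at h3
      simp only [eval_mul, eval_comp, eval_C, eval_X, mul_one] at h3
      exact (IsUnit.mul_iff.1 (h3 ▸ ((hsu.pow _).mul h1) : IsUnit (algebraMap A L s * _))).2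
    obtain ⟨b, hb, hba⟩ := key F hFm a (by
        rw [hres, IsLocalRing.residue_eq_zero_iff, hev]; exact Ideal.mul_mem_left _ _ h0)
      (by
        rw [hres, Ne, IsLocalRing.residue_eq_zero_iff]
        exact fun hmem => (IsLocalRing.mem_maximalIdeal _).1 hmem hd)
    refine ⟨↑hsu.unit⁻¹ * b, ?_, ?_⟩
    · rw [IsRoot.def]
      have h3 : eval b (f.scaleRoots (algebraMap A L s)) = 0 := by
        rw [← hF, eval_map_algebraMap]; exact hb
      have hb' : b = algebraMap A L s * (↑hsu.unit⁻¹ * b) := by
        rw [← mul_assoc, hsu.mul_val_inv, one_mul]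
      rw [hb', scaleRoots_eval_mul] at h3
      exact ((hsu.pow _).mul_right_eq_zero).1 h3
    · rw [← IsLocalRing.residue_eq_zero_iff, map_sub, map_mul, hba]
      show _ * IsLocalRing.residue L (algebraMap A L s * a₀) - _ = 0
      rw [← map_mul, ← mul_assoc, hsu.val_inv_mul, one_mul, sub_self]
  · obtain ⟨F, hF, -, hFm⟩ := lifts_and_degree_eq_and_monic
      ((Polynomial.mem_lifts f).2 (Polynomial.map_surjective (algebraMap A k) hsurj f)) hf
    haveI := Fact.mk hirr
    by_cases hdeg : ∃ r, f.eval r = 0
    · exact hdeg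
    -- pass to the field `k[X]/f`: a maximal ideal over `m` of a standard etale algebra
    let P : StandardEtalePair A :=
      { f := F, monic_f := hFm, g := derivative F, cond := ⟨1, 0, 1, by ring⟩ }
    have h0 : ∀ G : A[X], aeval (AdjoinRoot.root f) G = aeval (AdjoinRoot.root f) (G.map (algebraMap A k)) :=
      fun G => (aeval_map_algebraMap k _ G).symm
    have hmap : P.HasMap (AdjoinRoot.root f) := by
      refine ⟨?_, ?_⟩
      · rw [h0, hF, AdjoinRoot.aeval_eq, AdjoinRoot.mk_self]
      · show IsUnit (aeval _ (derivative F))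
        rw [h0, ← derivative_map, hF]
        exact hsep.aeval_derivative_ne_zero (AdjoinRoot.aeval_eq f |>.trans AdjoinRoot.mk_self) |>.isUnit
    let σ := P.lift _ hmap
    haveI : (RingHom.ker σ.toRingHom).IsPrime := RingHom.ker_isPrime _
    have hker : (RingHom.ker σ.toRingHom).comap (algebraMap A P.Ring) = m := by
      ext x
      show σ (algebraMap A P.Ring x) = 0 ↔ _
      rw [σ.commutes, IsScalarTower.algebraMap_apply A k (AdjoinRoot f),
        map_eq_zero_iff _ (algebraMap k (AdjoinRoot f)).injective, IsScalarTower.algebraMap_apply A L k,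
        IsLocalRing.ResidueField.algebraMap_eq, IsLocalRing.residue_eq_zero_iff,
        IsLocalization.AtPrime.to_map_mem_maximal_iff L m]
    obtain ⟨τ, -⟩ := exists_point h m P.Ring _ hker
    refine ⟨IsLocalRing.residue L (τ P.X), ?_⟩
    have := congrArg (IsLocalRing.residue L) (P.hasMap_X.map τ).1
    rw [map_zero] at this
    rw [← hF, eval_map_algebraMap]
    exact (aeval_algebraMap_apply k (τ P.X) F).trans this

end Groth.Agent.HenselLib.EtRetr
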