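import Mathlib
import Groth.Prelude.Def_PBC
import Groth.Agent.HenselLib.IndEtale

/-!
# Ind-Zariski implies ind-etale
-/

set_option autoImplicit false

open CategoryTheory Limits

universe u

namespace Groth.Agent.HenselLib.IndEt

theorem etale_of_isLocalIso (A B : Type u) [CommRing A] [CommRing B] [Algebra A B]
    [Algebra.IsLocalIso A B] : Algebra.Etale A B := by
  rw [← RingHom.etale_algebraMap]
  refine RingHom.Etale.ofLocalizationSpanTarget (algebraMap A B)
    {g : B | Algebra.IsStandardOpenImmersion A (Localization.Away g)}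
    (Algebra.IsLocalIso.span_isStandardOpenImmersion_eq_top A B) fun g => ?_
  haveI : Algebra.IsStandardOpenImmersion A (Localization.Away g.1) := g.2
  obtain ⟨r, hr⟩ := Algebra.IsStandardOpenImmersion.exists_away A (Localization.Away g.1)
  rw [← IsScalarTower.algebraMap_eq]
  refine RingHom.etale_algebraMap.2 ?_
  exact Algebra.Etale.of_isLocalizationAway r

theorem indEtale_of_indZariski {A B : Type u} [CommRing A] [CommRing B] [Algebra A B]
    (h : EtPBC.IsIndZariski A B) : EtPBC.IsIndEtale A B := by
  obtain ⟨J, _, _, D, c, hc, hD, he⟩ := h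
  refine ⟨J, inferInstance, inferInstance, D, c, hc, fun j => ?_, he⟩
  letI := (D.obj j).hom.hom.toAlgebra
  haveI := hD j
  exact etale_of_isLocalIso A (D.obj j).right

theorem of_algEquiv {A B C : Type u} [CommRing A] [CommRing B] [CommRing C] [Algebra A B] [Algebra A C]
    (e : B ≃ₐ[A] C) (h : EtPBC.IsIndEtale A B) : EtPBC.IsIndEtale A C := by
  obtain ⟨J, _, _, D, c, hc, hD, ⟨i⟩⟩ := h
  exact ⟨J, inferInstance, inferInstance, D, c, hc, hD, ⟨i ≪≫ Under.isoMk e.toRingEquiv.toCommRingCatIso
    (CommRingCat.hom_ext (RingHom.ext fun a => e.commutes a))⟩⟩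

end Groth.Agent.HenselLib.IndEt
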