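import Mathlib
import Groth.Agent.HenselLib.WLocBasic
import Groth.Agent.HenselLib.WLocCanon
import Groth.Agent.S7527

/-!
# Universal property of the w-localization
-/

set_option autoImplicit false

open TopologicalSpace

universe u

namespace Groth.Agent.HenselLib.WLoc

variable {A B : Type u} [CommRing A] [CommRing B] [Algebra A B]

theorem isSpectralMap_comap {R S : Type u} [CommRing R] [CommRing S] (f : R →+* S) :
    IsSpectralMap (PrimeSpectrum.comap f) := by
  refine ⟨PrimeSpectrum.continuous_comap f, fun s hso hsc => ?_⟩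
  obtain ⟨K, hK, hs⟩ := (isCompact_open_iff_eq_finite_iUnion_of_isTopologicalBasis _
    PrimeSpectrum.isTopologicalBasis_basic_opens PrimeSpectrum.isCompact_basicOpen s).1 ⟨hsc, hso⟩
  rw [hs, Set.preimage_iUnion₂]
  exact hK.isCompact_biUnion fun r _ => PrimeSpectrum.isCompact_basicOpen (f r)

variable (hB : ProEtW.IsWLocal (PrimeSpectrum B))

/-- closed points of `Spec B` -/
abbrev CP (B : Type u) [CommRing B] : Type u := {c : PrimeSpectrum B // IsClosed ({c} : Set (PrimeSpectrum B))}

include hB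

theorem exists_separate {c c' : CP B} (h : c ≠ c') :
    ∃ r u : B, r ∉ c.1.asIdeal ∧ u ∉ c'.1.asIdeal ∧ IsNilpotent (r * u) := by
  rcases Groth.Agent.S7527.result c.1 c'.1 with ⟨z, hz, hz'⟩ | ⟨U, V, hU, hV, hcU, hcV, hd⟩
  · obtain ⟨y, -, hy⟩ := hB.2.2 z
    exact absurd (Subtype.ext ((hy c.1 ⟨c.2, hz⟩).trans (hy c'.1 ⟨c'.2, hz'⟩).symm)) h
  · obtain ⟨_, ⟨r, rfl⟩, hr, hrU⟩ := PrimeSpectrum.isTopologicalBasis_basic_opens.exists_subset_of_mem_open hcU hU
    obtain ⟨_, ⟨u, rfl⟩, hu, huV⟩ := PrimeSpectrum.isTopologicalBasis_basic_opens.exists_subset_of_mem_open hcV hV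
    refine ⟨r, u, hr, hu, ?_⟩
    rw [← PrimeSpectrum.basicOpen_eq_bot_iff]
    refine Opens.ext (Set.eq_empty_iff_forall_notMem.2 fun x hx => ?_)
    rw [PrimeSpectrum.basicOpen_mul] at hx
    exact Set.disjoint_left.1 hd (hrU hx.1) (huV hx.2)

theorem t2Space_CP : T2Space (CP B) := ⟨fun c c' h => by
  obtain ⟨r, u, hr, hu, hru⟩ := exists_separate hB h
  refine ⟨Subtype.val ⁻¹' (PrimeSpectrum.basicOpen r : Set _), Subtype.val ⁻¹' (PrimeSpectrum.basicOpen u : Set _),
    (PrimeSpectrum.basicOpen r).isOpen.preimage continuous_subtype_val,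
    (PrimeSpectrum.basicOpen u).isOpen.preimage continuous_subtype_val, (by exact hr), (by exact hu), Set.disjoint_left.2 ?_⟩
  intro x hx hx'
  have : x.1 ∈ PrimeSpectrum.basicOpen (r * u) := by rw [PrimeSpectrum.basicOpen_mul]; exact ⟨hx, hx'⟩
  rw [(PrimeSpectrum.basicOpen_eq_bot_iff _).2 hru] at this
  exact this⟩

theorem compactSpace_CP : CompactSpace (CP B) :=
  isCompact_iff_compactSpace.1 hB.2.1.isCompact

variable (A)

/-- the point of `ZT A` under a closed point -/
def qpt (c : CP B) : ZT A := WithTopology.toTopology _ (PrimeSpectrum.comap (algebraMap A B) c.1)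

theorem continuous_qpt : Continuous (qpt A : CP B → ZT A) := by
  haveI := t2Space_CP hB
  haveI := compactSpace_CP hB
  haveI : T2Space {x // x ∈ {x : PrimeSpectrum B | IsClosed ({x} : Set (PrimeSpectrum B))}} := t2Space_CP hB
  let q₀ : CP B → PrimeSpectrum A := fun c => PrimeSpectrum.comap (algebraMap A B) c.1
  have h1 : @Continuous (CP B) (PrimeSpectrum A) _ (constructibleTopology (PrimeSpectrum A)) q₀ := by
    rw [constructibleTopology, continuous_generateFrom_iff]
    have hc : ∀ U : Set (PrimeSpectrum A), IsOpen U → IsCompact U → IsClopen (q₀ ⁻¹' U) := fun U hUo hUc =>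
      ⟨(hB.2.1.isClosedEmbedding_subtypeVal.isCompact_preimage
        ((isSpectralMap_comap (algebraMap A B)).isCompact_preimage_of_isOpen hUo hUc)).isClosed,
        hUo.preimage ((PrimeSpectrum.continuous_comap _).comp continuous_subtype_val)⟩
    rintro s (⟨hso, hsc⟩ | ⟨hsc, hsc'⟩)
    · exact (hc s hso hsc).isOpen
    · have := (hc sᶜ hsc.isOpen_compl hsc').isClosed.isOpen_compl
      rwa [Set.preimage_compl, compl_compl] at this
  exact @Continuous.comp _ _ _ _ (constructibleTopology (PrimeSpectrum A)) _ _ _ (WithTopology.continuous_toTopology _) h1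

/-- the comparison map on the local rings -/
noncomputable def locMap (c : CP B) :
    Loc (canon A) (qpt A c) →+* Localization.AtPrime c.1.asIdeal :=
  Localization.localRingHom _ c.1.asIdeal (algebraMap A B) rfl

omit hB in
theorem locMap_algebraMap (c : CP B) (a : A) :
    locMap A c (algebraMap A _ a) = algebraMap B _ (algebraMap A B a) :=
  Localization.localRingHom_to_map _ _ _ _ a

/-- the characterising property of the universal map -/
def IsUnivVal (w : WRing (canon A)) (b : B) : Prop :=
  ∀ c : CP B, algebraMap B (Localization.AtPrime c.1.asIdeal) b = locMap A c (ev (canon A) (qpt A c) w)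

theorem univVal_unique {w : WRing (canon A)} {b b' : B} (h : IsUnivVal A w b) (h' : IsUnivVal A w b') :
    b = b' := by
  refine Module.eq_of_localization_maximal (R := B) (M := B) (fun P _ => Localization.AtPrime P)
    (fun P _ => Algebra.linearMap B _) b b' fun m hm => ?_
  exact (h ⟨⟨m, hm.isPrime⟩, (PrimeSpectrum.isClosed_singleton_iff_isMaximal _).2 hm⟩).trans (h' _).symm

theorem exists_univVal (w : WRing (canon A)) : ∃ b : B, IsUnivVal A w b := by
  classical
  haveI := t2Space_CP hB
  haveI := compactSpace_CP hB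
  let J : Ideal B :=
    { carrier := {r | ∃ b : B, ∀ c : CP B, algebraMap B (Localization.AtPrime c.1.asIdeal) b =
        algebraMap B _ r * locMap A c (ev (canon A) (qpt A c) w)}
      zero_mem' := ⟨0, fun c => by simp⟩
      add_mem' := by
        rintro r r' ⟨b, hb⟩ ⟨b', hb'⟩
        exact ⟨b + b', fun c => by rw [map_add, map_add, hb, hb', add_mul]⟩
      smul_mem' := by
        rintro x r ⟨b, hb⟩
        exact ⟨x * b, fun c => by rw [smul_eq_mul, map_mul, map_mul, hb, mul_assoc]⟩ }
  suffices hJ : J = ⊤ by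
    obtain ⟨b, hb⟩ : (1 : B) ∈ J := hJ ▸ Submodule.mem_top
    exact ⟨b, fun c => by rw [hb c, map_one, one_mul]⟩
  by_contra hJ
  obtain ⟨m, hm, hJm⟩ := Ideal.exists_le_maximal J hJ
  let c₀ : CP B := ⟨⟨m, hm.isPrime⟩, (PrimeSpectrum.isClosed_singleton_iff_isMaximal _).2 hm⟩
  obtain ⟨U, hU, htU, a, s, hUs⟩ := exists_frac_nhd (canon A) w (qpt A c₀)
  have hK : IsCompact ((qpt A : CP B → ZT A) ⁻¹' U)ᶜ :=
    (hU.preimage (continuous_qpt A hB)).isClosed_compl.isCompact
  have hsep : ∀ K : Set (CP B), IsCompact K → c₀ ∉ K →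
      ∃ r : B, r ∉ c₀.1.asIdeal ∧ ∀ c ∈ K, algebraMap B (Localization.AtPrime c.1.asIdeal) r = 0 := by
    intro K hK hc
    have main : ∃ r : B, r ∉ c₀.1.asIdeal ∧
        ∀ c ∈ K, c ≠ c₀ → algebraMap B (Localization.AtPrime c.1.asIdeal) r = 0 := by
      refine hK.induction_on
        (p := fun L => ∃ r : B, r ∉ c₀.1.asIdeal ∧
          ∀ c ∈ L, c ≠ c₀ → algebraMap B (Localization.AtPrime c.1.asIdeal) r = 0)
        ⟨1, c₀.1.isPrime.one_notMem, fun c hc => absurd hc (Set.notMem_empty c)⟩
        (fun L L' hL ⟨r, hr, h⟩ => ⟨r, hr, fun c hc => h c (hL hc)⟩) ?_ ?_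
      · rintro L L' ⟨r, hr, h⟩ ⟨r', hr', h'⟩
        refine ⟨r * r', c₀.1.isPrime.mul_notMem hr hr', fun c hc hne => ?_⟩
        rcases hc with hc | hc
        · rw [map_mul, h c hc hne, zero_mul]
        · rw [map_mul, h' c hc hne, mul_zero]
      · intro c hcK
        obtain ⟨r, u, hr, hu, n, hru⟩ := exists_separate hB (show c₀ ≠ c from fun e => hc (e ▸ hcK))
        refine ⟨_, nhdsWithin_le_nhds (((PrimeSpectrum.basicOpen u).isOpen.preimage continuous_subtype_val).mem_nhds hu),
          r ^ n, fun h => hr (c₀.1.isPrime.mem_of_pow_mem n h), fun c' hc' _ => ?_⟩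
        refine (IsLocalization.map_eq_zero_iff c'.1.asIdeal.primeCompl _ _).2
          ⟨⟨u ^ n, fun h => hc' (c'.1.isPrime.mem_of_pow_mem n h)⟩, ?_⟩
        show u ^ n * r ^ n = 0
        rw [← mul_pow, mul_comm u r, hru]
    obtain ⟨r, hr, h⟩ := main
    exact ⟨r, hr, fun c hcK => h c hcK fun e => hc (e ▸ hcK)⟩
  obtain ⟨r, hr, hrK⟩ := hsep _ hK (fun h => h htU)
  have hmem : r * algebraMap A B s ∈ J := ⟨r * algebraMap A B a, fun c => by
    by_cases hc : c ∈ (qpt A : CP B → ZT A) ⁻¹' U
    · have h2 := congrArg (locMap A c) (hUs (qpt A c) hc).2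
      rw [map_mul, locMap_algebraMap, locMap_algebraMap] at h2
      rw [map_mul, map_mul, mul_assoc, ← h2]
      rfl
    · rw [map_mul, map_mul, hrK c hc, zero_mul, zero_mul, zero_mul]⟩
  exact c₀.1.isPrime.mul_notMem hr
    (show algebraMap A B s ∉ c₀.1.asIdeal from fun h => (hUs (qpt A c₀) htU).1 h) (hJm hmem)

/-- the universal map -/
noncomputable def univMap : WRing (canon A) →ₐ[A] B where
  toFun w := (exists_univVal A hB w).choose
  map_one' := univVal_unique A hB (exists_univVal A hB 1).choose_spec fun c => by simp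
  map_mul' v w := univVal_unique A hB (exists_univVal A hB (v * w)).choose_spec fun c => by
    rw [map_mul, map_mul, map_mul, (exists_univVal A hB v).choose_spec c, (exists_univVal A hB w).choose_spec c]
  map_zero' := univVal_unique A hB (exists_univVal A hB 0).choose_spec fun c => by simp
  map_add' v w := univVal_unique A hB (exists_univVal A hB (v + w)).choose_spec fun c => by
    rw [map_add, map_add, map_add, (exists_univVal A hB v).choose_spec c, (exists_univVal A hB w).choose_spec c]
  commutes' a := univVal_unique A hB (exists_univVal A hB _).choose_spec fun c => by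
    rw [AlgHom.commutes, locMap_algebraMap]

theorem univMap_spec (w : WRing (canon A)) : IsUnivVal A w (univMap A hB w) :=
  (exists_univVal A hB w).choose_spec

theorem univMap_wLocal : ProEtW.IsWLocalMap (PrimeSpectrum.comap (univMap A hB).toRingHom) := by
  refine ⟨isSpectralMap_comap _, fun c hc => ?_⟩
  have : PrimeSpectrum.comap (univMap A hB).toRingHom c = closedPt (canon A) (qpt A ⟨c, hc⟩) := by
    ext w
    show univMap A hB w ∈ c.asIdeal ↔ ¬ IsUnit _
    rw [← not_iff_not, not_not]
    refine (IsLocalization.AtPrime.isUnit_to_map_iff (Localization.AtPrime c.asIdeal) c.asIdeal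
      (univMap A hB w)).symm.trans ?_
    rw [univMap_spec A hB w ⟨c, hc⟩]
    haveI : IsLocalHom (locMap A ⟨c, hc⟩) := Localization.isLocalHom_localRingHom _ _ _ rfl
    exact ⟨fun h => (isUnit_map_iff (locMap A ⟨c, hc⟩) _).1 h, fun h => h.map _⟩
  rw [this, PrimeSpectrum.isClosed_singleton_iff_isMaximal]
  exact closedPt_isMaximal _ _

theorem eq_univMap (ψ : WRing (canon A) →ₐ[A] B)
    (hψ : ProEtW.IsWLocalMap (PrimeSpectrum.comap ψ.toRingHom)) : ψ = univMap A hB := by
  refine AlgHom.ext fun w => univVal_unique A hB (fun c => ?_) (univMap_spec A hB w)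
  have hcl := (isClosed_singleton_iff (canon A)).1 (hψ.2 c.1 c.2)
  have ht : pt (canon A) (PrimeSpectrum.comap ψ.toRingHom c.1) = qpt A c := by
    have h1 : PrimeSpectrum.comap (algebraMap A (WRing (canon A))) (PrimeSpectrum.comap ψ.toRingHom c.1) =
        (canon A).p (pt (canon A) (PrimeSpectrum.comap ψ.toRingHom c.1)) := by
      conv_lhs => rw [hcl]
      exact comap_closedPt _ _
    rw [← PrimeSpectrum.comap_comp_apply, AlgHom.toRingHom_eq_coe, AlgHom.comp_algebraMap] at h1
    exact ((congrArg (WithTopology.toTopology (constructibleTopology (PrimeSpectrum A))) h1).symm)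
  have hz : ∀ z : WRing (canon A), ev (canon A) (qpt A c) z = 0 →
      algebraMap B (Localization.AtPrime c.1.asIdeal) (ψ z) = 0 := by
    intro z hz
    obtain ⟨C, hC, htC, hCz⟩ := compact_exists_isClopen_in_isOpen (isOpen_ev_eq_zero (canon A) z) hz
    have h0 : chi (canon A) hC * z = 0 := ext_ev _ fun x => by
      rw [map_mul, map_zero]
      by_cases hx : x ∈ C
      · rw [show ev (canon A) x z = 0 from hCz hx, mul_zero]
      · rw [ev_chi_neg _ hC hx, zero_mul]
    have hχ : ψ (chi (canon A) hC) ∉ c.1.asIdeal := fun h =>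
      (chi_mem_iff (canon A) (PrimeSpectrum.comap ψ.toRingHom c.1) hC).1 h (ht.symm ▸ htC)
    exact (IsLocalization.map_eq_zero_iff c.1.asIdeal.primeCompl _ _).2
      ⟨⟨_, hχ⟩, by rw [← map_mul, h0, map_zero]⟩
  obtain ⟨U, hU, htU, a, s, hUs⟩ := exists_frac_nhd (canon A) w (qpt A c)
  obtain ⟨hs, e⟩ := hUs _ htU
  have h1 := hz (algebraMap A _ s * w - algebraMap A _ a) (by
    rw [map_sub, map_mul, AlgHom.commutes, AlgHom.commutes, ev_apply, e, sub_self])
  rw [map_sub, map_mul, AlgHom.commutes, AlgHom.commutes, map_sub, map_mul, sub_eq_zero] at h1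
  have h2 := congrArg (locMap A c) e
  rw [map_mul, locMap_algebraMap, locMap_algebraMap, ← h1] at h2
  exact ((IsLocalization.map_units (Localization.AtPrime c.1.asIdeal)
    (⟨algebraMap A B s, fun h => hs h⟩ : c.1.asIdeal.primeCompl)).mul_left_cancel h2).symm

end Groth.Agent.HenselLib.WLoc
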