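import Mathlib
import Groth.Agent.HenselLib.WLocUniv
import Groth.Agent.S7530

/-!
# Maps of w-local rings identifying local rings
-/

set_option autoImplicit false

open TopologicalSpace

universe u

namespace Groth.Agent.HenselLib.WLoc

variable {A B : Type u} [CommRing A] [CommRing B]

/-- In a w-local spectrum two closed points in one connected component are equal. -/
theorem closedPoint_eq_of_component (hA : ProEtW.IsWLocal (PrimeSpectrum A)) {c c' : CP A}
    (h : (ConnectedComponents.mk c.1 : ConnectedComponents (PrimeSpectrum A)) = ConnectedComponents.mk c'.1) :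
    c = c' := by
  by_contra hne
  have hq : qpt A c ≠ qpt A c' := fun e => hne (Subtype.ext (congrArg WithTopology.ofTopology e))
  obtain ⟨C, hC, h1, h2⟩ := exists_isClopen_of_totally_separated hq
  let e := univMap A hA (chi (canon A) hC)
  have he : IsIdempotentElem e := by
    refine IsIdempotentElem.map ?_ (univMap A hA)
    exact ext_ev (canon A) fun t => by by_cases ht : t ∈ C <;> simp [ev_chi_pos, ev_chi_neg, ht]
  have hc : e ∉ c.1.asIdeal := fun hmem => by
    have := univMap_spec A hA (chi (canon A) hC) c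
    rw [ev_chi_pos _ hC h1, map_one] at this
    exact (IsLocalization.AtPrime.isUnit_to_map_iff (Localization.AtPrime c.1.asIdeal) c.1.asIdeal e).1
      (this ▸ isUnit_one) hmem
  have hc' : e ∈ c'.1.asIdeal := by
    have := univMap_spec A hA (chi (canon A) hC) c'
    rw [ev_chi_neg _ hC h2, map_zero] at this
    by_contra hmem
    have hu := (IsLocalization.AtPrime.isUnit_to_map_iff (Localization.AtPrime c'.1.asIdeal) c'.1.asIdeal e).2 hmem
    rw [this] at hu
    exact not_isUnit_zero hu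
  have hcl : IsClopen (PrimeSpectrum.basicOpen e : Set (PrimeSpectrum A)) :=
    PrimeSpectrum.isClopen_iff.2 ⟨e, he, rfl⟩
  have hmem : c'.1 ∈ connectedComponent c.1 := ConnectedComponents.coe_eq_coe'.1 h.symm
  exact (hcl.connectedComponent_subset (show c.1 ∈ (PrimeSpectrum.basicOpen e : Set _) from hc) hmem) hc'

variable [Algebra A B]

theorem comap_range_inj {q : PrimeSpectrum B} (h1 : Function.Bijective (Localization.localRingHom
    (q.asIdeal.comap (algebraMap A B)) q.asIdeal (algebraMap A B) rfl)) :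
    (∀ p : PrimeSpectrum A, p ≤ PrimeSpectrum.comap (algebraMap A B) q →
      ∃ q' : PrimeSpectrum B, q' ≤ q ∧ PrimeSpectrum.comap (algebraMap A B) q' = p) ∧
    (∀ q₁ q₂ : PrimeSpectrum B, q₁ ≤ q → q₂ ≤ q →
      PrimeSpectrum.comap (algebraMap A B) q₁ ≤ PrimeSpectrum.comap (algebraMap A B) q₂ → q₁ ≤ q₂) := by
  constructor
  · intro p hp
    obtain ⟨p', hp'⟩ : p ∈ Set.range (PrimeSpectrum.comap
        (algebraMap A (Localization.AtPrime (q.asIdeal.comap (algebraMap A B))))) := by
      rw [PrimeSpectrum.localization_comap_range (Localization.AtPrime (q.asIdeal.comap (algebraMap A B)))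
        (q.asIdeal.comap (algebraMap A B)).primeCompl]
      exact Set.disjoint_left.2 fun x hx hxp => hx (hp hxp)
    let e := RingEquiv.ofBijective _ h1
    let Q : PrimeSpectrum (Localization.AtPrime q.asIdeal) := PrimeSpectrum.comap e.symm.toRingHom p'
    refine ⟨PrimeSpectrum.comap (algebraMap B (Localization.AtPrime q.asIdeal)) Q, ?_, ?_⟩
    · intro x hx
      by_contra hxq
      exact Q.isPrime.ne_top (Ideal.eq_top_of_isUnit_mem _ hx
        (IsLocalization.map_units (Localization.AtPrime q.asIdeal) (⟨x, hxq⟩ : q.asIdeal.primeCompl)))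
    · rw [← hp']
      ext a
      show e.symm (algebraMap B _ (algebraMap A B a)) ∈ p'.asIdeal ↔ algebraMap A _ a ∈ p'.asIdeal
      have : e (algebraMap A _ a) = algebraMap B _ (algebraMap A B a) := Localization.localRingHom_to_map _ _ _ rfl a
      rw [← this, RingEquiv.symm_apply_apply]
  · intro q₁ q₂ hq₁ hq₂ hle x hx
    obtain ⟨z, hz⟩ := h1.2 (algebraMap B _ x)
    obtain ⟨a, ⟨s, hs⟩, rfl⟩ := IsLocalization.exists_mk'_eq (q.asIdeal.comap (algebraMap A B)).primeCompl z
    rw [Localization.localRingHom_mk', IsLocalization.mk'_eq_iff_eq_mul, ← map_mul,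
      IsLocalization.eq_iff_exists q.asIdeal.primeCompl] at hz
    obtain ⟨⟨u, hu⟩, huv⟩ := hz
    have hu1 : u ∉ q₁.asIdeal := fun h => hu (hq₁ h)
    have hu2 : u ∉ q₂.asIdeal := fun h => hu (hq₂ h)
    have hs2 : algebraMap A B s ∉ q₂.asIdeal := fun h => hs (hq₂ h)
    have ha : algebraMap A B a ∈ q₁.asIdeal := by
      refine (q₁.isPrime.mem_or_mem ?_).resolve_left hu1
      rw [show u * algebraMap A B a = u * (x * algebraMap A B s) from huv]
      exact Ideal.mul_mem_left _ _ (Ideal.mul_mem_right _ _ hx)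
    have ha2 : u * (x * algebraMap A B s) ∈ q₂.asIdeal := by
      rw [← show u * algebraMap A B a = u * (x * algebraMap A B s) from huv]
      exact Ideal.mul_mem_left _ _ (hle ha)
    exact ((q₂.isPrime.mem_or_mem ((q₂.isPrime.mem_or_mem ha2).resolve_left hu2)).resolve_right hs2)

theorem bijective_of_identifies (h1 : EtPBC.IdentifiesLocalRings A B)
    (h2 : ProEtW.IsWLocal (PrimeSpectrum A)) (h3 : ProEtW.IsWLocal (PrimeSpectrum B))
    (h4 : ProEtW.IsWLocalMap (PrimeSpectrum.comap (algebraMap A B)))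
    (h5 : Function.Bijective (PrimeSpectrum.continuous_comap (algebraMap A B)).connectedComponentsMap) :
    Function.Bijective (algebraMap A B) := by
  let f := PrimeSpectrum.comap (algebraMap A B)
  have hf : Continuous f := PrimeSpectrum.continuous_comap _
  have hinj : ∀ c c' : CP B, f c.1 = f c'.1 → c = c' := fun c c' h =>
    closedPoint_eq_of_component h3 (h5.1 (show (ConnectedComponents.mk (f c.1) : ConnectedComponents _) =
      ConnectedComponents.mk (f c'.1) by rw [h]))
  have hsurj : ∀ d : CP A, ∃ c : CP B, f c.1 = d.1 := by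
    intro d
    obtain ⟨z, hz⟩ := h5.2 (ConnectedComponents.mk d.1)
    obtain ⟨y, rfl⟩ := ConnectedComponents.surjective_coe z
    obtain ⟨c, ⟨hc, hyc⟩, -⟩ := h3.2.2 y
    refine ⟨⟨c, hc⟩, congrArg Subtype.val (closedPoint_eq_of_component h2
      (c := ⟨f c, h4.2 c hc⟩) (c' := d) ?_)⟩
    rw [← hz]
    exact ((hyc.map hf).map ConnectedComponents.continuous_coe).eq.symm
  have key : ∀ q q' : PrimeSpectrum B, f q ≤ f q' → q ≤ q' := by
    intro q q' h
    obtain ⟨c, ⟨hc, hqc⟩, -⟩ := h3.2.2 q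
    obtain ⟨c', ⟨hc', hqc'⟩, -⟩ := h3.2.2 q'
    obtain ⟨d, -, hd⟩ := h2.2.2 (f q)
    have e1 : f c = d := hd _ ⟨h4.2 c hc, hqc.map hf⟩
    have e2 : f c' = d := hd _ ⟨h4.2 c' hc', ((PrimeSpectrum.le_iff_specializes _ _).1 h).trans (hqc'.map hf)⟩
    have hcc : c = c' := congrArg Subtype.val (hinj ⟨c, hc⟩ ⟨c', hc'⟩ (e1.trans e2.symm))
    subst hcc
    exact (comap_range_inj (h1 c)).2 q q' ((PrimeSpectrum.le_iff_specializes _ _).2 hqc)
      ((PrimeSpectrum.le_iff_specializes _ _).2 hqc') h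
  have hbij : Function.Bijective f := by
    refine ⟨fun q q' h => le_antisymm (key q q' h.le) (key q' q h.ge), fun p => ?_⟩
    obtain ⟨d, ⟨hd, hpd⟩, -⟩ := h2.2.2 p
    obtain ⟨c, hc⟩ := hsurj ⟨d, hd⟩
    obtain ⟨q', -, hq'⟩ := (comap_range_inj (h1 c.1)).1 p
      ((PrimeSpectrum.le_iff_specializes _ _).2 (show p ⤳ f c.1 by rw [hc]; exact hpd))
    exact ⟨q', hq'⟩
  have hgen : GeneralizingMap f := by
    intro q p hp
    obtain ⟨q', hq'⟩ := hbij.2 p
    exact ⟨q', (PrimeSpectrum.le_iff_specializes _ _).1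
      (key q' q (hq'.le.trans ((PrimeSpectrum.le_iff_specializes _ _).2 hp))), hq'⟩
  have hhomeo : IsHomeomorph f := S7530.result f (isSpectralMap_comap _) hbij (Or.inl hgen)
  refine ⟨(injective_iff_map_eq_zero _).2 fun a ha => ?_, fun b => ?_⟩
  · refine Module.eq_of_localization_maximal (R := A) (M := A) (fun P _ => Localization.AtPrime P)
      (fun P _ => Algebra.linearMap A _) a 0 fun m hm => ?_
    obtain ⟨c, hc⟩ := hsurj ⟨⟨m, hm.isPrime⟩, (PrimeSpectrum.isClosed_singleton_iff_isMaximal _).2 hm⟩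
    have h0 : algebraMap A (Localization.AtPrime (c.1.asIdeal.comap (algebraMap A B))) a = 0 := by
      apply (h1 c.1).1
      rw [Localization.localRingHom_to_map, ha, map_zero, map_zero]
    obtain ⟨⟨u, hu⟩, hua⟩ := (IsLocalization.map_eq_zero_iff (c.1.asIdeal.comap (algebraMap A B)).primeCompl
      (Localization.AtPrime (c.1.asIdeal.comap (algebraMap A B))) a).1 h0
    have hm' : c.1.asIdeal.comap (algebraMap A B) = m := congrArg PrimeSpectrum.asIdeal hc
    rw [Algebra.linearMap_apply, Algebra.linearMap_apply, map_zero]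
    exact (IsLocalization.map_eq_zero_iff m.primeCompl _ a).2 ⟨⟨u, fun h => hu (hm'.symm ▸ h)⟩, hua⟩
  · let J : Ideal A :=
      { carrier := {r | algebraMap A B r * b ∈ (algebraMap A B).range}
        zero_mem' := ⟨0, by simp⟩
        add_mem' := by
          rintro r r' ⟨a, ha⟩ ⟨a', ha'⟩
          exact ⟨a + a', by rw [map_add, map_add, ha, ha', add_mul]⟩
        smul_mem' := by
          rintro x r ⟨a, ha⟩
          exact ⟨x * a, by rw [smul_eq_mul, map_mul, map_mul, ha, mul_assoc]⟩ }
    suffices hJ : J = ⊤ by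
      obtain ⟨a, ha⟩ : (1 : A) ∈ J := hJ ▸ Submodule.mem_top
      exact ⟨a, by simpa using ha⟩
    by_contra hJ
    obtain ⟨m, hm, hJm⟩ := Ideal.exists_le_maximal J hJ
    obtain ⟨c, hc⟩ := hsurj ⟨⟨m, hm.isPrime⟩, (PrimeSpectrum.isClosed_singleton_iff_isMaximal _).2 hm⟩
    obtain ⟨z, hz⟩ := (h1 c.1).2 (algebraMap B _ b)
    obtain ⟨a, ⟨s, hs⟩, rfl⟩ := IsLocalization.exists_mk'_eq (c.1.asIdeal.comap (algebraMap A B)).primeCompl z
    rw [Localization.localRingHom_mk', IsLocalization.mk'_eq_iff_eq_mul, ← map_mul,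
      IsLocalization.eq_iff_exists c.1.asIdeal.primeCompl] at hz
    obtain ⟨⟨u, hu⟩, huv⟩ := hz
    obtain ⟨_, ⟨v, rfl⟩, hv, hvU⟩ := PrimeSpectrum.isTopologicalBasis_basic_opens.exists_subset_of_mem_open
      (⟨c.1, hu, rfl⟩ : f c.1 ∈ f '' (PrimeSpectrum.basicOpen u : Set _))
      (hhomeo.isOpenMap _ (PrimeSpectrum.basicOpen u).isOpen)
    have hle : PrimeSpectrum.basicOpen (algebraMap A B v) ≤ PrimeSpectrum.basicOpen u := fun x hx => by
      obtain ⟨y, hy, hyx⟩ := hvU (show f x ∈ PrimeSpectrum.basicOpen v from hx)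
      exact hbij.1 hyx ▸ hy
    obtain ⟨n, w, hw⟩ : ∃ n w, algebraMap A B v ^ n = u * w := by
      obtain ⟨n, hn⟩ := (PrimeSpectrum.basicOpen_le_basicOpen_iff _ _).1 hle
      obtain ⟨w, hw⟩ := Ideal.mem_span_singleton'.1 hn
      exact ⟨n, w, by rw [← hw, mul_comm]⟩
    have hm' : c.1.asIdeal.comap (algebraMap A B) = m := congrArg PrimeSpectrum.asIdeal hc
    have hmem : v ^ n * s ∈ J := ⟨v ^ n * a, by
      rw [map_mul, map_mul, map_pow, hw, mul_comm u w, mul_assoc w u, show u * algebraMap A B a = u * (b * algebraMap A B s) from huv]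
      ring⟩
    have hvm : v ∉ m := fun h => hv (hm'.symm ▸ h : v ∈ c.1.asIdeal.comap (algebraMap A B))
    exact (hm.isPrime.mul_notMem (fun h => hvm (hm.isPrime.mem_of_pow_mem n h))
      fun h => hs (hm'.symm ▸ h)) (hJm hmem)

end Groth.Agent.HenselLib.WLoc
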