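import Mathlib
import Groth.Agent.HenselLib.WLocUniv
import Groth.Agent.HenselLib.WLocInd

/-!
# A w-local algebra identifying local rings is a ring of constructibly local fractions
-/

set_option autoImplicit false

open TopologicalSpace CategoryTheory

universe u

namespace Groth.Agent.HenselLib.WLoc

variable {A B : Type u} [CommRing A] [CommRing B] [Algebra A B]

/-- Gluing a family which is locally a fraction on the closed points of a w-local spectrum. -/
theorem exists_glue (hB : ProEtW.IsWLocal (PrimeSpectrum B))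
    (z : ∀ c : CP B, Localization.AtPrime c.1.asIdeal)
    (h : ∀ c : CP B, ∃ U : Set (CP B), IsOpen U ∧ c ∈ U ∧ ∃ a s : B, ∀ c' ∈ U,
      s ∉ c'.1.asIdeal ∧ algebraMap B _ s * z c' = algebraMap B _ a) :
    ∃ b : B, ∀ c : CP B, algebraMap B (Localization.AtPrime c.1.asIdeal) b = z c := by
  classical
  haveI := t2Space_CP hB
  haveI := compactSpace_CP hB
  let J : Ideal B :=
    { carrier := {r | ∃ b : B, ∀ c : CP B, algebraMap B (Localization.AtPrime c.1.asIdeal) b =
        algebraMap B _ r * z c}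
      zero_mem' := ⟨0, fun c => by simp⟩
      add_mem' := by
        rintro r r' ⟨b, hb⟩ ⟨b', hb'⟩
        exact ⟨b + b', fun c => by rw [map_add, map_add, hb, hb', add_mul]⟩
      smul_mem' := by
        rintro x r ⟨b, hb⟩
        exact ⟨x * b, fun c => by rw [smul_eq_mul, map_mul, map_mul, hb, mul_assoc]⟩ }
  suffices hJ : J = ⊤ by
    obtain ⟨b, hb⟩ : (1 : B) ∈ J := hJ ▸ Submodule.mem_top
    exact ⟨b, fun c => by rw [hb c, map_one, one_mul]⟩
  by_contra hJ
  obtain ⟨m, hm, hJm⟩ := Ideal.exists_le_maximal J hJ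
  let c₀ : CP B := ⟨⟨m, hm.isPrime⟩, (PrimeSpectrum.isClosed_singleton_iff_isMaximal _).2 hm⟩
  obtain ⟨U, hU, hcU, a, s, hUs⟩ := h c₀
  obtain ⟨r, hr, hrK⟩ : ∃ r : B, r ∉ c₀.1.asIdeal ∧
      ∀ c ∈ Uᶜ, c ≠ c₀ → algebraMap B (Localization.AtPrime c.1.asIdeal) r = 0 := by
    refine hU.isClosed_compl.isCompact.induction_on
      (p := fun L => ∃ r : B, r ∉ c₀.1.asIdeal ∧
        ∀ c ∈ L, c ≠ c₀ → algebraMap B (Localization.AtPrime c.1.asIdeal) r = 0)
      ⟨1, c₀.1.isPrime.one_notMem, fun c hc => absurd hc (Set.notMem_empty c)⟩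
      (fun L L' hL ⟨r, hr, h⟩ => ⟨r, hr, fun c hc => h c (hL hc)⟩) ?_ ?_
    · rintro L L' ⟨r, hr, h⟩ ⟨r', hr', h'⟩
      refine ⟨r * r', c₀.1.isPrime.mul_notMem hr hr', fun c hc hne => ?_⟩
      rcases hc with hc | hc
      · rw [map_mul, h c hc hne, zero_mul]
      · rw [map_mul, h' c hc hne, mul_zero]
    · intro c hcK
      obtain ⟨r, u, hr, hu, n, hru⟩ := exists_separate hB (show c₀ ≠ c from fun e => hcK (e ▸ hcU))
      refine ⟨_, nhdsWithin_le_nhds (((PrimeSpectrum.basicOpen u).isOpen.preimage continuous_subtype_val).mem_nhds hu),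
        r ^ n, fun h => hr (c₀.1.isPrime.mem_of_pow_mem n h), fun c' hc' _ => ?_⟩
      refine (IsLocalization.map_eq_zero_iff c'.1.asIdeal.primeCompl _ _).2
        ⟨⟨u ^ n, fun h => hc' (c'.1.isPrime.mem_of_pow_mem n h)⟩, ?_⟩
      show u ^ n * r ^ n = 0
      rw [← mul_pow, mul_comm u r, hru]
  have hmem : r * s ∈ J := ⟨r * a, fun c => by
    by_cases hc : c ∈ U
    · rw [map_mul, map_mul, mul_assoc, (hUs c hc).2]
    · rw [map_mul, map_mul, hrK c hc (fun e => hc (e ▸ hcU)), zero_mul, zero_mul, zero_mul]⟩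
  exact c₀.1.isPrime.mul_notMem hr (hUs c₀ hcU).1 (hJm hmem)

theorem totallyDisconnectedSpace_CP (hB : ProEtW.IsWLocal (PrimeSpectrum B)) :
    TotallyDisconnectedSpace (CP B) := by
  refine ⟨fun s _ hs c hc c' hc' => ?_⟩
  have h := (hs.image (qpt B : CP B → ZT B) (continuous_qpt B hB).continuousOn).subsingleton
    ⟨c, hc, rfl⟩ ⟨c', hc', rfl⟩
  exact Subtype.ext (congrArg WithTopology.ofTopology h)

variable (A B)

/-- The family of the contractions of the closed points. -/
def cpFam (hB : ProEtW.IsWLocal (PrimeSpectrum B)) : Fam A (CP B) where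
  p c := PrimeSpectrum.comap (algebraMap A B) c.1
  clopen f := (isClopen_ZT_basicOpen f).preimage (continuous_qpt A hB)

theorem isIndZariski_of_identifies (h1 : EtPBC.IdentifiesLocalRings A B)
    (hB : ProEtW.IsWLocal (PrimeSpectrum B)) : EtPBC.IsIndZariski A B := by
  haveI := t2Space_CP hB
  haveI := compactSpace_CP hB
  haveI := totallyDisconnectedSpace_CP hB
  let F := cpFam A B hB
  let e : ∀ c : CP B, Loc F c ≃+* Localization.AtPrime c.1.asIdeal := fun c => RingEquiv.ofBijective _ (h1 c.1)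
  have he : ∀ (c : CP B) (a : A), e c (algebraMap A _ a) = algebraMap B _ (algebraMap A B a) := fun c a =>
    Localization.localRingHom_to_map (F.p c).asIdeal c.1.asIdeal (algebraMap A B) rfl a
  let ψ : B →ₐ[A] ∀ c, Loc F c :=
    { toFun := fun b c => (e c).symm (algebraMap B _ b)
      map_one' := funext fun c => by simp
      map_mul' := fun x y => funext fun c => by simp
      map_zero' := funext fun c => by simp
      map_add' := fun x y => funext fun c => by simp
      commutes' := fun a => funext fun c => by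
        show (e c).symm _ = algebraMap A (Loc F c) a
        rw [← he, RingEquiv.symm_apply_apply] }
  have hψ : ∀ b, ψ b ∈ WSub F := by
    intro b c
    obtain ⟨a, ⟨s, hs⟩, hz⟩ := IsLocalization.exists_mk'_eq (F.p c).asIdeal.primeCompl (ψ b c)
    have hz' := congrArg (e c) hz
    rw [show e c (ψ b c) = algebraMap B _ b from (e c).apply_symm_apply _] at hz'
    have h2 := congrArg (e c) (IsLocalization.mk'_spec' (Loc F c) a (⟨s, hs⟩ : (F.p c).asIdeal.primeCompl))
    rw [map_mul, hz', he, he, ← map_mul, IsLocalization.eq_iff_exists c.1.asIdeal.primeCompl] at h2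
    obtain ⟨⟨u, hu⟩, huv⟩ := h2
    refine ⟨{c' : CP B | u ∉ c'.1.asIdeal} ∩ {c' : CP B | algebraMap A B s ∉ c'.1.asIdeal},
      ((PrimeSpectrum.basicOpen u).isOpen.preimage continuous_subtype_val).inter
        ((PrimeSpectrum.basicOpen (algebraMap A B s)).isOpen.preimage continuous_subtype_val),
      ⟨hu, hs⟩, a, s, fun c' hc' => ⟨hc'.2, (e c').injective ?_⟩⟩
    rw [map_mul, he, he, show e c' (ψ b c') = algebraMap B _ b from (e c').apply_symm_apply _, ← map_mul]
    exact (IsLocalization.eq_iff_exists c'.1.asIdeal.primeCompl _).2 ⟨⟨u, hc'.1⟩, huv⟩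
  let Ψ : B →ₐ[A] WRing F := ψ.codRestrict (WSub F) hψ
  have hbij : Function.Bijective Ψ := by
    refine ⟨fun b b' h => ?_, fun w => ?_⟩
    · refine Module.eq_of_localization_maximal (R := B) (M := B) (fun P _ => Localization.AtPrime P)
        (fun P _ => Algebra.linearMap B _) b b' fun m hm => ?_
      exact (e ⟨⟨m, hm.isPrime⟩, (PrimeSpectrum.isClosed_singleton_iff_isMaximal _).2 hm⟩).symm.injective
        (congrFun (congrArg Subtype.val h) _)
    · obtain ⟨b, hb⟩ := exists_glue hB (fun c => e c (w.1 c)) (fun c => by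
        obtain ⟨U, hU, hcU, a, s, hUs⟩ := w.2 c
        refine ⟨U, hU, hcU, algebraMap A B a, algebraMap A B s, fun c' hc' => ⟨(hUs c' hc').1, ?_⟩⟩
        rw [← he, ← map_mul, (hUs c' hc').2, he])
      exact ⟨b, Subtype.ext (funext fun c => (e c).injective ((e c).apply_symm_apply _ |>.trans (hb c)))⟩
  let E : B ≃ₐ[A] WRing F := AlgEquiv.ofBijective Ψ hbij
  obtain ⟨J, _, _, D, co, hco, hD, ⟨ei⟩⟩ := isIndZariski F
  exact ⟨J, inferInstance, inferInstance, D, co, hco, hD, ⟨ei ≪≫ Under.isoMk E.symm.toRingEquiv.toCommRingCatIso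
    (CommRingCat.hom_ext (RingHom.ext fun a => E.symm.commutes a))⟩⟩

end Groth.Agent.HenselLib.WLoc
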