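import Mathlib
import Groth.Agent.HenselLib.IndEtale

/-!
# Quotients by ideals generated by idempotents are ind-Zariski
-/

set_option autoImplicit false

open CategoryTheory Limits

universe u

namespace Groth.Agent.HenselLib.IndEt

theorem isLocalIso_quotient_idem {A : Type u} [CommRing A] {e : A} (he : IsIdempotentElem e) :
    Algebra.IsLocalIso A (A ⧸ Ideal.span {e}) := by
  haveI : IsLocalization.Away (1 - e) (A ⧸ Ideal.span {e}) :=
    IsLocalization.away_of_isIdempotentElem he.one_sub
      (by rw [Ideal.Quotient.algebraMap_eq, Ideal.mk_ker, sub_sub_cancel]) Ideal.Quotient.mk_surjective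
  haveI : Algebra.IsStandardOpenImmersion A (A ⧸ Ideal.span {e}) := ⟨⟨1 - e, inferInstance⟩⟩
  infer_instance

/-- A surjection whose kernel is a union of ideals generated by idempotents is ind-Zariski. -/
theorem indZariski_of_surjective {A B : Type u} [CommRing A] [CommRing B] [Algebra A B]
    (hsurj : Function.Surjective (algebraMap A B))
    (H : ∀ x : A, algebraMap A B x = 0 →
      ∃ e : A, IsIdempotentElem e ∧ algebraMap A B e = 0 ∧ x * e = x) :
    EtPBC.IsIndZariski A B := by
  obtain ⟨hc⟩ := idemCocone_isColimit hsurj (fun x hx => by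
    obtain ⟨e, he, he0, hxe⟩ := H x hx; exact ⟨⟨e, he, he0⟩, hxe⟩)
  refine ⟨_, inferInstance, inferInstance, _, _, hc, fun a => ?_, ⟨Iso.refl _⟩⟩
  have h := isLocalIso_quotient_idem a.idem
  letI : Algebra A ((idemDiag (algebraMap A B)).obj a).right := ((idemDiag (algebraMap A B)).obj a).hom.hom.toAlgebra
  exact Algebra.IsLocalIso.of_algEquiv
    ({ RingEquiv.refl _ with commutes' := fun r => rfl } : (A ⧸ Ideal.span {a.e}) ≃ₐ[A] ((idemDiag (algebraMap A B)).obj a).right)

/-- Membership in an ideal generated by idempotents is absorbed by one idempotent. -/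
theorem exists_idem_absorb {A : Type u} [CommRing A] {s : Set A} (hs : ∀ e ∈ s, IsIdempotentElem e)
    {x : A} (hx : x ∈ Ideal.span s) :
    ∃ e : A, IsIdempotentElem e ∧ e ∈ Ideal.span s ∧ x * e = x := by
  refine Submodule.span_induction ?_ ⟨0, IsIdempotentElem.zero, zero_mem _, mul_zero _⟩ ?_ ?_ hx
  · exact fun e he => ⟨e, hs e he, Ideal.subset_span he, (hs e he).eq⟩
  · rintro y z - - ⟨e, he, he0, hye⟩ ⟨f, hf, hf0, hzf⟩
    refine ⟨e + f - e * f, idem_join he hf,
      sub_mem (add_mem he0 hf0) (Ideal.mul_mem_right _ _ he0), ?_⟩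
    linear_combination (1 - f) * hye + (1 - e) * hzf
  · rintro r y - ⟨e, he, he0, hye⟩
    exact ⟨e, he, he0, by rw [smul_eq_mul, mul_assoc, hye]⟩

end Groth.Agent.HenselLib.IndEt
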