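import Mathlib
import Groth.Agent.HenselLib.WLocBasic
import Groth.Agent.HenselLib.WLocCanon

/-!
# The w-localization along a closed subset with profinite topology
-/

set_option autoImplicit false

open TopologicalSpace

universe u

namespace Groth.Agent.HenselLib.WLoc

variable {A : Type u} [CommRing A]

section general

variable {T : Type u} [TopologicalSpace T] [CompactSpace T] [T2Space T] [TotallyDisconnectedSpace T]
  (F : Fam A T)

/-- An element which is pointwise in `I Loc t` lies in `I W`. -/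
theorem mem_map_of_forall (I : Ideal A) (v : WRing F)
    (h : ∀ t, ev F t v ∈ I.map (algebraMap A (Loc F t))) : v ∈ I.map (algebraMap A (WRing F)) := by
  classical
  suffices H : ∃ (C : Set T) (hC : IsClopen C), Set.univ ⊆ C ∧ chi F hC * v ∈ I.map (algebraMap A (WRing F)) by
    obtain ⟨C, hC, hu, hmem⟩ := H
    have : chi F hC * v = v := ext_ev F fun t => by
      rw [map_mul, ev_chi_pos F hC (hu (Set.mem_univ t)), one_mul]
    rwa [this] at hmem
  refine (isCompact_univ (X := T)).induction_on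
    (p := fun K => ∃ (C : Set T) (hC : IsClopen C), K ⊆ C ∧ chi F hC * v ∈ I.map (algebraMap A (WRing F)))
    ?_ ?_ ?_ ?_
  · refine ⟨∅, isClopen_empty, subset_rfl, ?_⟩
    have : chi F (isClopen_empty (X := T)) * v = 0 := ext_ev F fun t => by
      rw [map_mul, ev_chi_neg F _ (Set.notMem_empty t), zero_mul, map_zero]
    rw [this]; exact zero_mem _
  · rintro K K' hK ⟨C, hC, h1, h2⟩
    exact ⟨C, hC, hK.trans h1, h2⟩
  · rintro K K' ⟨C, hC, h1, h2⟩ ⟨D, hD, h3, h4⟩
    refine ⟨C ∪ D, hC.union hD, Set.union_subset_union h1 h3, ?_⟩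
    have : chi F (hC.union hD) * v = chi F hC * v + (1 - chi F hC) * (chi F hD * v) := ext_ev F fun t => by
      by_cases hc : t ∈ C <;> by_cases hd : t ∈ D <;> simp [ev_chi_pos, ev_chi_neg, hc, hd]
    rw [this]
    exact add_mem h2 (Ideal.mul_mem_left _ _ h4)
  · intro t _
    obtain ⟨U, hU, htU, a, s, hUs⟩ := exists_frac_nhd F v t
    have ha : algebraMap A (Loc F t) a ∈ I.map (algebraMap A (Loc F t)) := by
      rw [← (hUs t htU).2]; exact Ideal.mul_mem_left _ _ (h t)
    obtain ⟨u, hu, hua⟩ := (IsLocalization.algebraMap_mem_map_algebraMap_iff (F.p t).asIdeal.primeCompl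
      (Loc F t) I a).1 ha
    obtain ⟨C, hC, htC, hCU⟩ := compact_exists_isClopen_in_isOpen (hU.inter (F.clopen u).isOpen) ⟨htU, hu⟩
    refine ⟨C, nhdsWithin_le_nhds (hC.isOpen.mem_nhds htC), C, hC, subset_rfl, ?_⟩
    have hs : ∀ x ∈ C, u * s ∉ (F.p x).asIdeal := fun x hx =>
      (F.p x).isPrime.mul_notMem (hCU hx).2 (hUs x (hCU hx).1).1
    have : chi F hC * v = algebraMap A (WRing F) (u * a) * frac F hC 1 (u * s) hs := ext_ev F fun x => by
      rw [map_mul, map_mul, (ev F x).commutes]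
      by_cases hx : x ∈ C
      · rw [ev_chi_pos F hC hx, one_mul, ev_frac_pos F hC hs hx, IsLocalization.mul_mk'_eq_mk'_of_mul,
          mul_one, IsLocalization.eq_mk'_iff_mul_eq]
        show ev F x v * algebraMap A (Loc F x) (u * s) = algebraMap A (Loc F x) (u * a)
        rw [map_mul, map_mul, ← (hUs x (hCU hx).1).2, ev_apply]
        ring
      · rw [ev_chi_neg F hC hx, ev_frac_neg F hC hs hx, zero_mul, mul_zero]
    rw [this]
    exact Ideal.mul_mem_right _ _ (Ideal.mem_map_of_mem _ hua)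

end general

variable (I : Ideal A)

theorem zeroLocus_map_eq_closedPoints [T1Space (PrimeSpectrum.zeroLocus (R := A) I)] :
    ProEtW.closedPoints (PrimeSpectrum (WRing (canonOn A I))) =
      PrimeSpectrum.zeroLocus (I.map (algebraMap A (WRing (canonOn A I)))) := by
  ext P
  refine (isClosed_singleton_iff _).trans ⟨fun h => ?_, fun h => ?_⟩
  · rw [h, PrimeSpectrum.mem_zeroLocus]
    intro w hw
    refine (Ideal.map_le_iff_le_comap.2 ?_ : _ ≤ (closedPt (canonOn A I) (pt _ P)).asIdeal) hw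
    intro a ha
    have h2 := (comap_closedPt (canonOn A I) (pt _ P))
    rw [PrimeSpectrum.ext_iff] at h2
    exact h2.symm.le ((pt (canonOn A I) P).2 ha)
  · let t := pt (canonOn A I) P
    let x : PrimeSpectrum A := PrimeSpectrum.comap (algebraMap A (WRing (canonOn A I))) P
    have hxI : x ∈ PrimeSpectrum.zeroLocus (I : Set A) := fun a ha => h (Ideal.mem_map_of_mem _ ha)
    have hle : x ≤ (canonOn A I).p t := by
      rw [← comap_closedPt (canonOn A I) t]
      exact Ideal.comap_mono (le_closedPt _ P)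
    have heq : (⟨x, hxI⟩ : PrimeSpectrum.zeroLocus (R := A) I) = ⟨(canonOn A I).p t, t.2⟩ :=
      ((subtype_specializes_iff _ _).2 ((PrimeSpectrum.le_iff_specializes _ _).1 hle)).eq
    refine le_antisymm (le_closedPt _ P) fun w hw => ?_
    obtain ⟨a, ⟨s, hs⟩, hz⟩ := IsLocalization.exists_mk'_eq ((canonOn A I).p t).asIdeal.primeCompl (ev _ t w)
    have hxt : x = (canonOn A I).p t := congrArg Subtype.val heq
    have ha : a ∈ x.asIdeal := by
      rw [hxt]
      by_contra ha
      refine (mem_closedPt _).1 hw ?_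
      rw [← hz]
      exact ((IsLocalization.AtPrime.isUnit_mk'_iff (Loc (canonOn A I) t) _ a ⟨s, hs⟩).2 ha)
    have h1 : algebraMap A (WRing (canonOn A I)) s * w ∈ P.asIdeal := by
      refine (mem_iff_of_pt _ P ?_).2 (show algebraMap A (WRing (canonOn A I)) a ∈ P.asIdeal from ha)
      rw [map_mul, AlgHom.commutes, AlgHom.commutes, ← hz]
      exact IsLocalization.mk'_spec' (Loc (canonOn A I) t) a (⟨s, hs⟩ : ((canonOn A I).p t).asIdeal.primeCompl)
    exact (P.isPrime.mem_or_mem h1).resolve_left fun hsP => hs (hxt ▸ (hsP : s ∈ x.asIdeal))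

theorem quotientMap_bijective (hI : ProEtW.IsProfinite (PrimeSpectrum.zeroLocus (R := A) I)) :
    Function.Bijective (Ideal.quotientMap (I.map (algebraMap A (WRing (canonOn A I))))
      (algebraMap A (WRing (canonOn A I))) Ideal.le_comap_map) := by
  classical
  obtain ⟨hIc, hIt2, -⟩ := hI
  have hmax : ∀ m : Ideal A, m.IsMaximal → I ≤ m → ∃ t : ZV A I, ((canonOn A I).p t).asIdeal = m :=
    fun m hm hIm => ⟨⟨WithTopology.toTopology _ ⟨m, hm.isPrime⟩, hIm⟩, rfl⟩
  refine ⟨(injective_iff_map_eq_zero _).2 fun q hq => ?_, fun q => ?_⟩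
  · obtain ⟨a, rfl⟩ := Ideal.Quotient.mk_surjective q
    rw [Ideal.quotientMap_mk, Ideal.Quotient.eq_zero_iff_mem] at hq
    rw [Ideal.Quotient.eq_zero_iff_mem]
    let J : Ideal A := Submodule.comap (LinearMap.toSpanSingleton A A a) I
    suffices J = ⊤ by
      have h1 : (1 : A) ∈ J := this ▸ Submodule.mem_top
      simpa [J] using h1
    by_contra hJ
    obtain ⟨m, hm, hJm⟩ := Ideal.exists_le_maximal J hJ
    obtain ⟨t, ht⟩ := hmax m hm fun i hi => hJm (show i • a ∈ I from Ideal.mul_mem_right _ _ hi)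
    have h1 : algebraMap A (Loc (canonOn A I) t) a ∈ I.map (algebraMap A (Loc (canonOn A I) t)) := by
      have := Ideal.mem_map_of_mem (ev (canonOn A I) t).toRingHom hq
      rw [Ideal.map_map, AlgHom.toRingHom_eq_coe, AlgHom.comp_algebraMap] at this
      simpa using this
    obtain ⟨s, hs, hsa⟩ := (IsLocalization.algebraMap_mem_map_algebraMap_iff
      ((canonOn A I).p t).asIdeal.primeCompl _ I a).1 h1
    exact hs (ht ▸ hJm (show s • a ∈ I from hsa))
  · obtain ⟨w, rfl⟩ := Ideal.Quotient.mk_surjective q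
    let W := WRing (canonOn A I)
    let J : Ideal A :=
      { carrier := {r | ∃ b : A, algebraMap A W r * w - algebraMap A W b ∈ I.map (algebraMap A W)}
        zero_mem' := ⟨0, by simp⟩
        add_mem' := by
          rintro r r' ⟨b, hb⟩ ⟨b', hb'⟩
          refine ⟨b + b', ?_⟩
          convert add_mem hb hb' using 1
          rw [map_add, map_add]; ring
        smul_mem' := by
          rintro c r ⟨b, hb⟩
          refine ⟨c * b, ?_⟩
          convert Ideal.mul_mem_left _ (algebraMap A W c) hb using 1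
          rw [smul_eq_mul, map_mul, map_mul]; ring }
    suffices hJ : J = ⊤ by
      obtain ⟨b, hb⟩ : (1 : A) ∈ J := hJ ▸ Submodule.mem_top
      refine ⟨Ideal.Quotient.mk I b, ?_⟩
      rw [Ideal.quotientMap_mk]
      refine (Ideal.Quotient.eq.2 ?_).symm
      simpa using hb
    by_contra hJ
    obtain ⟨m, hm, hJm⟩ := Ideal.exists_le_maximal J hJ
    have hIJ : I ≤ J := fun i hi => ⟨0, by
      rw [map_zero, sub_zero]; exact Ideal.mul_mem_right _ _ (Ideal.mem_map_of_mem _ hi)⟩
    obtain ⟨t, ht⟩ := hmax m hm (hIJ.trans hJm)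
    obtain ⟨U, hU, htU, a, s, hUs⟩ := exists_frac_nhd (canonOn A I) w t
    obtain ⟨C, hC, htC, hCU⟩ := compact_exists_isClopen_in_isOpen hU htU
    -- `C` is a Zariski neighbourhood of `t` in `V(I)`
    let e : ZV A I → PrimeSpectrum.zeroLocus (R := A) I := fun z => ⟨z.1.ofTopology, z.2⟩
    have hecont : Continuous e :=
      ((continuous_ofTopology A).comp continuous_subtype_val).subtype_mk _
    have hebij : Function.Bijective e :=
      ⟨fun z z' hzz' => Subtype.ext ((WithTopology.equiv _ _).injective (congrArg Subtype.val hzz')),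
        fun x => ⟨⟨WithTopology.toTopology _ x.1, x.2⟩, rfl⟩⟩
    let eh : ZV A I ≃ₜ PrimeSpectrum.zeroLocus (R := A) I :=
      hecont.homeoOfEquivCompactToT2 (f := Equiv.ofBijective e hebij)
    obtain ⟨V, hVo, hVC⟩ := isOpen_induced_iff.1 (eh.isOpen_image.2 hC.isOpen)
    have htV : (canonOn A I).p t ∈ V := by
      have : e t ∈ eh '' C := ⟨t, htC, rfl⟩
      rw [← hVC] at this
      exact this
    obtain ⟨_, ⟨f, rfl⟩, htf, hfV⟩ :=
      PrimeSpectrum.isTopologicalBasis_basic_opens.exists_subset_of_mem_open htV hVo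
    have hfC : ∀ z : ZV A I, f ∉ ((canonOn A I).p z).asIdeal → z ∈ C := fun z hz => by
      have : e z ∈ eh '' C := by rw [← hVC]; exact hfV hz
      obtain ⟨z', hz', hzz⟩ := this
      exact hebij.1 hzz ▸ hz'
    -- off `C` a fixed power of `f` lies in `I` locally
    have hpow : ∀ z ∈ Cᶜ, ∃ n : ℕ, ∃ r ∉ ((canonOn A I).p z).asIdeal, r * f ^ n ∈ I := by
      intro z hz
      by_contra hcon
      push Not at hcon
      let P := ((canonOn A I).p z).asIdeal.primeCompl ⊔ Submonoid.powers f
      obtain ⟨p, hp, hIp, hpd⟩ := Ideal.exists_le_prime_disjoint I P (Set.disjoint_right.2 fun x hx hxI => by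
        obtain ⟨r, hr, y, ⟨n, rfl⟩, rfl⟩ := Submonoid.mem_sup.1 hx
        exact hcon n r hr hxI)
      have hpz : p ≤ ((canonOn A I).p z).asIdeal := fun x hx => by
        by_contra hxz
        exact Set.disjoint_left.1 hpd hx (Submonoid.mem_sup_left hxz)
      haveI : T1Space (PrimeSpectrum.zeroLocus (R := A) I) := inferInstance
      have heq : (⟨⟨p, hp⟩, hIp⟩ : PrimeSpectrum.zeroLocus (R := A) I) = ⟨(canonOn A I).p z, z.2⟩ :=
        ((subtype_specializes_iff _ _).2
          ((PrimeSpectrum.le_iff_specializes (⟨p, hp⟩ : PrimeSpectrum A) _).1 hpz)).eq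
      have hfz : f ∈ ((canonOn A I).p z).asIdeal := by
        by_contra hfz; exact hz (hfC z hfz)
      have : p = ((canonOn A I).p z).asIdeal := congrArg (fun x => x.1.asIdeal) heq
      exact Set.disjoint_left.1 hpd (this ▸ hfz) (Submonoid.mem_sup_right ⟨1, pow_one f⟩)
    obtain ⟨N, hN⟩ : ∃ N : ℕ, ∀ z ∈ Cᶜ, ∃ r ∉ ((canonOn A I).p z).asIdeal, r * f ^ N ∈ I := by
      refine hC.compl.isClosed.isCompact.induction_on
        (p := fun K => ∃ N : ℕ, ∀ z ∈ K, ∃ r ∉ ((canonOn A I).p z).asIdeal, r * f ^ N ∈ I)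
        ⟨0, fun z hz => absurd hz (Set.notMem_empty z)⟩ (fun K K' hK ⟨N, hN⟩ => ⟨N, fun z hz => hN z (hK hz)⟩)
        ?_ ?_
      · rintro K K' ⟨N, hN⟩ ⟨N', hN'⟩
        refine ⟨N + N', fun z hz => ?_⟩
        rcases hz with hz | hz
        · obtain ⟨r, hr, h⟩ := hN z hz
          exact ⟨r, hr, by rw [pow_add, ← mul_assoc]; exact Ideal.mul_mem_right _ _ h⟩
        · obtain ⟨r, hr, h⟩ := hN' z hz
          exact ⟨r, hr, by rw [pow_add, mul_left_comm]; exact Ideal.mul_mem_left _ _ h⟩
      · intro z hz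
        obtain ⟨n, r, hr, h⟩ := hpow z hz
        exact ⟨_, nhdsWithin_le_nhds (((canonOn A I).clopen r).isOpen.mem_nhds hr), n, fun z' hz' => ⟨r, hz', h⟩⟩
    have hmem : f ^ N * s ∈ J := ⟨f ^ N * a, mem_map_of_forall _ I _ fun z => by
      rw [map_sub, map_mul, AlgHom.commutes, AlgHom.commutes]
      by_cases hz : z ∈ C
      · rw [map_mul, map_mul, mul_assoc, ev_apply, (hUs z (hCU hz)).2, sub_self]; exact zero_mem _
      · obtain ⟨r, hr, h⟩ := hN z hz
        have hfN : algebraMap A (Loc (canonOn A I) z) (f ^ N) ∈ I.map (algebraMap A _) :=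
          (IsLocalization.algebraMap_mem_map_algebraMap_iff ((canonOn A I).p z).asIdeal.primeCompl _ I _).2
            ⟨r, hr, h⟩
        rw [map_mul, map_mul]
        exact sub_mem (Ideal.mul_mem_right _ _ (Ideal.mul_mem_right _ _ hfN)) (Ideal.mul_mem_right _ _ hfN)⟩
    have hft : f ∉ ((canonOn A I).p t).asIdeal := htf
    exact ((canonOn A I).p t).isPrime.mul_notMem
      (fun h => hft (((canonOn A I).p t).isPrime.mem_of_pow_mem N h)) (hUs t htU).1 (ht ▸ hJm hmem)

end Groth.Agent.HenselLib.WLoc
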