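import Mathlib
import Groth.Prelude.Def_PBC
import Groth.Prelude.Def_ProEtW
import Groth.Agent.S0698
import Groth.Agent.S0737
import Groth.Agent.S7530
import Groth.Agent.S7566
import Groth.Agent.S7584
import Groth.Agent.HenselLib.AlgResidue
import Groth.Agent.HenselLib.IndZariskiEtale
import Groth.Agent.HenselLib.WLocIdent
import Groth.Agent.HenselLib.WLocRecover

/-!
# Retractions onto w-local rings with extremally disconnected components
-/

set_option autoImplicit false

open TopologicalSpace CategoryTheory Limits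

universe u

namespace Groth.Agent.HenselLib.WCtr

open WLoc

/-- Bijectivity of the local homomorphism at a prime. -/
def BijAt (A : Type u) {B : Type u} [CommRing A] [CommRing B] [Algebra A B] (q : PrimeSpectrum B) : Prop :=
  Function.Bijective
    (Localization.localRingHom (q.asIdeal.comap (algebraMap A B)) q.asIdeal (algebraMap A B) rfl)

theorem localRingHom_bijective_congr {A B : Type u} [CommRing A] [CommRing B] (f : A →+* B)
    {p p' : Ideal A} [p.IsPrime] [p'.IsPrime] {q : Ideal B} [q.IsPrime] (e : p = p')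
    (h : p = q.comap f) (h' : p' = q.comap f) (hb : Function.Bijective (Localization.localRingHom p q f h)) :
    Function.Bijective (Localization.localRingHom p' q f h') := by
  subst e; exact hb

theorem localRingHom_tower {A B C : Type u} [CommRing A] [CommRing B] [CommRing C] [Algebra A B] [Algebra B C]
    [Algebra A C] [IsScalarTower A B C] {p : Ideal A} [p.IsPrime] {q : Ideal C} [q.IsPrime]
    (h : p = q.comap (algebraMap A C)) (h' : p = (q.comap (algebraMap B C)).comap (algebraMap A B)) :
    Localization.localRingHom p q (algebraMap A C) h =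
      (Localization.localRingHom (q.comap (algebraMap B C)) q (algebraMap B C) rfl).comp
        (Localization.localRingHom p (q.comap (algebraMap B C)) (algebraMap A B) h') :=
  Localization.localRingHom_unique _ _ _ _ fun r => by
    simp only [RingHom.comp_apply, Localization.localRingHom_to_map]
    rw [← IsScalarTower.algebraMap_apply A B C]

theorem bijAt_comp {A B C : Type u} [CommRing A] [CommRing B] [CommRing C] [Algebra A B] [Algebra B C]
    [Algebra A C] [IsScalarTower A B C] {q : PrimeSpectrum C}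
    (h1 : BijAt A (PrimeSpectrum.comap (algebraMap B C) q)) (h2 : BijAt B q) : BijAt A q := by
  have e : (q.asIdeal.comap (algebraMap B C)).comap (algebraMap A B) = q.asIdeal.comap (algebraMap A C) := by
    rw [Ideal.comap_comap, ← IsScalarTower.algebraMap_eq]
  have h1' := localRingHom_bijective_congr (algebraMap A B) e rfl e.symm h1
  have h := h2.comp h1'
  unfold BijAt
  rw [localRingHom_tower (B := B) rfl e.symm, RingHom.coe_comp]
  exact h

/-- Localisations identify local rings. -/
theorem bijAt_of_isLocalization {A B : Type u} [CommRing A] [CommRing B] [Algebra A B] (M : Submonoid A)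
    [IsLocalization M B] (q : PrimeSpectrum B) : BijAt A q := by
  haveI : q.asIdeal.LiesOver (q.asIdeal.comap (algebraMap A B)) := ⟨rfl⟩
  letI := Localization.AtPrime.algebraOfLiesOver (q.asIdeal.comap (algebraMap A B)) q.asIdeal
  haveI := IsLocalization.isLocalization_isLocalization_atPrime_isLocalization (R := A) (S := B)
    (T := Localization.AtPrime q.asIdeal) M q.asIdeal
  let e := IsLocalization.algEquiv (q.asIdeal.comap (algebraMap A B)).primeCompl
    (Localization.AtPrime (q.asIdeal.comap (algebraMap A B))) (Localization.AtPrime q.asIdeal)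
  have : (e : _ → _) = Localization.localRingHom (q.asIdeal.comap (algebraMap A B)) q.asIdeal
      (algebraMap A B) rfl := by
    funext z
    obtain ⟨a, s, rfl⟩ := IsLocalization.exists_mk'_eq (q.asIdeal.comap (algebraMap A B)).primeCompl z
    rw [Localization.localRingHom_mk', show e (IsLocalization.mk' _ a s) = IsLocalization.mk' _ a s from
      IsLocalization.algEquiv_mk' a s, IsLocalization.mk'_eq_iff_eq_mul,
      IsScalarTower.algebraMap_apply A B (Localization.AtPrime q.asIdeal) a,
      IsScalarTower.algebraMap_apply A B (Localization.AtPrime q.asIdeal) s.1]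
    exact (IsLocalization.mk'_spec _ _ _).symm
  unfold BijAt
  rw [← this]
  exact e.bijective

/-- Local isomorphisms identify local rings. -/
theorem bijAt_of_isLocalIso (A B : Type u) [CommRing A] [CommRing B] [Algebra A B] [Algebra.IsLocalIso A B]
    (q : PrimeSpectrum B) : BijAt A q := by
  obtain ⟨g, hg, hstd⟩ := Algebra.IsLocalIso.exists_notMem_isStandardOpenImmersion (R := A) q.asIdeal
  obtain ⟨r, hr⟩ := Algebra.IsStandardOpenImmersion.exists_away A (Localization.Away g)
  obtain ⟨P, hP⟩ : q ∈ Set.range (PrimeSpectrum.comap (algebraMap B (Localization.Away g))) := by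
    rw [PrimeSpectrum.localization_away_comap_range (Localization.Away g) g]
    exact hg
  subst hP
  have h1 : BijAt B P := bijAt_of_isLocalization (Submonoid.powers g) P
  have h2 : BijAt A P := bijAt_of_isLocalization (Submonoid.powers r) P
  have e : (P.asIdeal.comap (algebraMap B (Localization.Away g))).comap (algebraMap A B) =
      P.asIdeal.comap (algebraMap A (Localization.Away g)) := by
    rw [Ideal.comap_comap, ← IsScalarTower.algebraMap_eq]
  have h3 := localRingHom_bijective_congr (algebraMap A (Localization.Away g)) e.symm rfl e h2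
  rw [localRingHom_tower (B := B) e rfl, RingHom.coe_comp] at h3
  exact Function.Bijective.of_comp_iff' h1 _ |>.1 h3

/-- Ind-Zariski algebras identify local rings. -/
theorem bijAt_of_isIndZariski {A B : Type u} [CommRing A] [CommRing B] [Algebra A B]
    (h : EtPBC.IsIndZariski A B) (q : PrimeSpectrum B) : BijAt A q := by
  obtain ⟨J, _, _, D, c, hc, hD, ⟨i⟩⟩ := h
  let σ : ∀ j, (D.obj j).right →+* B := fun j => (c.ι.app j ≫ i.hom).right.hom
  have hσ : ∀ (j : J) (a : A), σ j ((D.obj j).hom.hom a) = algebraMap A B a := fun j a =>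
    ConcreteCategory.congr_hom (Under.w (c.ι.app j ≫ i.hom)) a
  have hrep : ∀ b : B, ∃ (j : J) (y : (D.obj j).right), σ j y = b := fun b => by
    obtain ⟨j, y, hy⟩ := IndEt.exists_rep_under hc (i.inv.right.hom b)
    refine ⟨j, y, ?_⟩
    show i.hom.right.hom ((c.ι.app j).right.hom y) = b
    rw [hy]
    exact ConcreteCategory.congr_hom (congrArg (fun φ => φ.right) i.inv_hom_id) b
  have hinjσ : ∀ (j : J) (x y : (D.obj j).right), σ j x = σ j y →
      ∃ (k : J) (g : j ⟶ k), (D.map g).right.hom x = (D.map g).right.hom y := fun j x y hxy => by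
    have hxy' : (c.ι.app j).right.hom x = (c.ι.app j).right.hom y := by
      have := congrArg i.inv.right.hom hxy
      have hh : ∀ z, i.inv.right.hom (σ j z) = (c.ι.app j).right.hom z := fun z =>
        ConcreteCategory.congr_hom (congrArg (fun φ => φ.right) i.hom_inv_id) ((c.ι.app j).right.hom z)
      rwa [hh, hh] at this
    obtain ⟨k, g, g', hgg⟩ := Concrete.isColimit_exists_of_rep_eq (D ⋙ Under.forget _)
      (isColimitOfPreserves (Under.forget _) hc) (i := j) (j := j) x y hxy'
    refine ⟨IsFiltered.coeq g g', g ≫ IsFiltered.coeqHom g g', ?_⟩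
    have h2 := congrArg (D.map (IsFiltered.coeqHom g g')).right.hom hgg
    have hcomp : ∀ {l m n : J} (u : l ⟶ m) (v : m ⟶ n) (z : (D.obj l).right),
        (D.map (u ≫ v)).right.hom z = (D.map v).right.hom ((D.map u).right.hom z) := fun u v z =>
      ConcreteCategory.congr_hom (congrArg (fun φ => φ.right) (D.map_comp u v)) z
    rw [hcomp]
    refine Eq.trans h2 ?_
    have h3 := hcomp g' (IsFiltered.coeqHom g g') y
    rw [← IsFiltered.coeq_condition] at h3
    exact h3.symm
  have stage : ∀ j, letI := (D.obj j).hom.hom.toAlgebra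
      ∀ (Q : PrimeSpectrum (D.obj j).right), BijAt A Q := fun j => by
    letI := (D.obj j).hom.hom.toAlgebra
    haveI := hD j
    intro Q
    exact bijAt_of_isLocalIso A _ Q
  refine ⟨(injective_iff_map_eq_zero _).2 fun z hz => ?_, fun z => ?_⟩
  · obtain ⟨a, ⟨s, hs⟩, rfl⟩ := IsLocalization.exists_mk'_eq (q.asIdeal.comap (algebraMap A B)).primeCompl z
    rw [Localization.localRingHom_mk', IsLocalization.mk'_eq_zero_iff] at hz
    obtain ⟨⟨t, ht⟩, hta⟩ := hz
    obtain ⟨j, t', rfl⟩ := hrep t
    obtain ⟨k, g, hk⟩ := hinjσ j (t' * (D.obj j).hom.hom a) 0 (by rw [map_mul, hσ, map_zero]; exact hta)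
    letI := (D.obj k).hom.hom.toAlgebra
    have hga : (D.map g).right.hom ((D.obj j).hom.hom a) = algebraMap A (D.obj k).right a :=
      ConcreteCategory.congr_hom (Under.w (D.map g)) a
    have hgσ : ∀ w, σ k ((D.map g).right.hom w) = σ j w := fun w =>
      ConcreteCategory.congr_hom (congrArg (fun φ => (φ ≫ i.hom).right) (c.w g)) w
    rw [map_mul, hga, map_zero] at hk
    let Q := PrimeSpectrum.comap (σ k) q
    have hz : algebraMap (D.obj k).right (Localization.AtPrime Q.asIdeal) (algebraMap A _ a) = 0 :=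
      (IsLocalization.map_eq_zero_iff Q.asIdeal.primeCompl _ _).2
        ⟨⟨(D.map g).right.hom t', fun hmem => ht (by
          have : σ k ((D.map g).right.hom t') ∈ q.asIdeal := hmem
          rwa [hgσ] at this)⟩, hk⟩
    have he : Q.asIdeal.comap (algebraMap A (D.obj k).right) = q.asIdeal.comap (algebraMap A B) := by
      ext x
      show σ k ((D.obj k).hom.hom x) ∈ q.asIdeal ↔ _
      rw [hσ]; rfl
    have hzero : algebraMap A (Localization.AtPrime (Q.asIdeal.comap (algebraMap A (D.obj k).right))) a = 0 := by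
      refine (stage k Q).1 ?_
      rw [Localization.localRingHom_to_map, map_zero, hz]
    obtain ⟨⟨u, hu⟩, hua⟩ := (IsLocalization.map_eq_zero_iff
      (Q.asIdeal.comap (algebraMap A (D.obj k).right)).primeCompl _ _).1 hzero
    exact IsLocalization.mk'_eq_zero_iff _ _ |>.2 ⟨⟨u, fun h => hu (he.ge h)⟩, hua⟩
  · obtain ⟨b, ⟨t, ht⟩, rfl⟩ := IsLocalization.exists_mk'_eq q.asIdeal.primeCompl z
    obtain ⟨j₁, b', hb⟩ := hrep b
    obtain ⟨j₂, t', ht'⟩ := hrep t
    obtain ⟨k, g₁, g₂, -⟩ := IsFilteredOrEmpty.cocone_objs j₁ j₂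
    letI := (D.obj k).hom.hom.toAlgebra
    have hgσ : ∀ {j : J} (g : j ⟶ k) w, σ k ((D.map g).right.hom w) = σ j w := fun g w =>
      ConcreteCategory.congr_hom (congrArg (fun φ => (φ ≫ i.hom).right) (c.w g)) w
    let Q := PrimeSpectrum.comap (σ k) q
    have he : Q.asIdeal.comap (algebraMap A (D.obj k).right) = q.asIdeal.comap (algebraMap A B) := by
      ext x
      show σ k ((D.obj k).hom.hom x) ∈ q.asIdeal ↔ _
      rw [hσ]; rfl
    have htQ : (D.map g₂).right.hom t' ∉ Q.asIdeal := fun hmem => ht (by
      have : σ k ((D.map g₂).right.hom t') ∈ q.asIdeal := hmem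
      rwa [hgσ, ht'] at this)
    obtain ⟨w, hw⟩ := (stage k Q).2 (IsLocalization.mk' _ ((D.map g₁).right.hom b')
      (⟨_, htQ⟩ : Q.asIdeal.primeCompl))
    obtain ⟨a, ⟨s, hs⟩, rfl⟩ := IsLocalization.exists_mk'_eq
      (Q.asIdeal.comap (algebraMap A (D.obj k).right)).primeCompl w
    refine ⟨IsLocalization.mk' _ a (⟨s, fun h => hs (he.ge h)⟩ : (q.asIdeal.comap (algebraMap A B)).primeCompl), ?_⟩
    rw [Localization.localRingHom_mk', IsLocalization.mk'_eq_iff_eq] at hw ⊢
    obtain ⟨⟨v, hv⟩, hve⟩ := (IsLocalization.eq_iff_exists Q.asIdeal.primeCompl _).1 hw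
    refine (IsLocalization.eq_iff_exists q.asIdeal.primeCompl _).2 ⟨⟨σ k v, hv⟩, ?_⟩
    have := congrArg (σ k) hve
    simp only [map_mul] at this
    show σ k v * (t * algebraMap A B a) = σ k v * (algebraMap A B s * b)
    rw [hgσ, hgσ, hb, ht'] at this
    rw [show σ k ((algebraMap A (D.obj k).right) a) = algebraMap A B a from hσ k a,
      show σ k ((algebraMap A (D.obj k).right) s) = algebraMap A B s from hσ k s] at this
    exact this

variable {A : Type u} [CommRing A]

instance compactSpace_components : CompactSpace (_root_.ConnectedComponents (PrimeSpectrum A)) :=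
  Quotient.compactSpace

theorem t2Space_components : T2Space (_root_.ConnectedComponents (PrimeSpectrum A)) :=
  S7584.result _ fun x => S7566.result x

/-- The closed points of a w-local spectrum map bijectively to its components. -/
theorem cp_bijective (hA : ProEtW.IsWLocal (PrimeSpectrum A)) :
    Function.Bijective (fun c : CP A => ConnectedComponents.mk c.1) := by
  refine ⟨fun c c' h => closedPoint_eq_of_component hA h, fun x => ?_⟩
  obtain ⟨p, rfl⟩ := ConnectedComponents.surjective_coe x
  obtain ⟨y, ⟨hy, hpy⟩, -⟩ := hA.2.2 p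
  exact ⟨⟨y, hy⟩, ConnectedComponents.coe_eq_coe'.2
    (hpy.mem_closed isClosed_connectedComponent mem_connectedComponent)⟩

/-- The closed points of a w-local spectrum are the space of components. -/
noncomputable def cpHomeo (hA : ProEtW.IsWLocal (PrimeSpectrum A)) :
    CP A ≃ₜ _root_.ConnectedComponents (PrimeSpectrum A) :=
  haveI := compactSpace_CP hA
  haveI := t2Space_components (A := A)
  Continuous.homeoOfEquivCompactToT2 (f := Equiv.ofBijective _ (cp_bijective hA))
    (ConnectedComponents.continuous_coe.comp continuous_subtype_val)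

theorem extremallyDisconnected_homeo {X Y : Type u} [TopologicalSpace X] [TopologicalSpace Y]
    [ExtremallyDisconnected X] (e : X ≃ₜ Y) : ExtremallyDisconnected Y := by
  refine ⟨fun U hU => ?_⟩
  have : e '' closure (e ⁻¹' U) = closure U := by
    rw [e.image_closure, e.image_preimage]
  rw [← this]
  exact e.isOpenMap _ (ExtremallyDisconnected.open_closure _ (hU.preimage e.continuous))

/-- A closed subscheme of a w-local affine scheme is w-local. -/
theorem isWLocal_of_closedEmbedding {D : Type u} [CommRing D] [Algebra A D]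
    (hA : ProEtW.IsWLocal (PrimeSpectrum A))
    (he : Topology.IsClosedEmbedding (PrimeSpectrum.comap (algebraMap A D))) :
    ProEtW.IsWLocal (PrimeSpectrum D) ∧ ∀ d : PrimeSpectrum D,
      IsClosed ({d} : Set (PrimeSpectrum D)) ↔
        IsClosed ({PrimeSpectrum.comap (algebraMap A D) d} : Set (PrimeSpectrum A)) := by
  have hcl : ∀ d : PrimeSpectrum D, IsClosed ({d} : Set (PrimeSpectrum D)) ↔
      IsClosed ({PrimeSpectrum.comap (algebraMap A D) d} : Set (PrimeSpectrum A)) := fun d => by
    rw [he.isClosed_iff_image_isClosed, Set.image_singleton]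
  refine ⟨⟨inferInstance, ?_, fun d => ?_⟩, hcl⟩
  · simp only [hcl]
    exact hA.2.1.preimage he.continuous
  · obtain ⟨y, ⟨hy, hdy⟩, huniq⟩ := hA.2.2 (PrimeSpectrum.comap (algebraMap A D) d)
    obtain ⟨d', rfl⟩ := hdy.mem_closed he.isClosed_range (Set.mem_range_self d)
    refine ⟨d', ⟨(hcl d').2 hy, he.toIsInducing.specializes_iff.1 hdy⟩, fun d'' h'' => he.injective ?_⟩
    exact huniq _ ⟨(hcl d'').1 h''.1, h''.2.map he.continuous⟩

/-- A map to a w-local ring which is bijective on closed points and on local rings there is bijective. -/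
theorem bijective_of_closedPoints {D : Type u} [CommRing D] [Algebra A D]
    (hA : ProEtW.IsWLocal (PrimeSpectrum A))
    (hcl : ∀ d : PrimeSpectrum D, IsClosed ({d} : Set (PrimeSpectrum D)) ↔
        IsClosed ({PrimeSpectrum.comap (algebraMap A D) d} : Set (PrimeSpectrum A)))
    (hsurj : ∀ c : CP A, ∃ d, IsClosed ({d} : Set (PrimeSpectrum D)) ∧
      PrimeSpectrum.comap (algebraMap A D) d = c.1)
    (hinj : ∀ d d' : PrimeSpectrum D, IsClosed ({d} : Set (PrimeSpectrum D)) →
      IsClosed ({d'} : Set (PrimeSpectrum D)) →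
      PrimeSpectrum.comap (algebraMap A D) d = PrimeSpectrum.comap (algebraMap A D) d' → d = d')
    (hloc : ∀ d : PrimeSpectrum D, IsClosed ({d} : Set (PrimeSpectrum D)) → BijAt A d) :
    Function.Bijective (algebraMap A D) := by
  refine ⟨(injective_iff_map_eq_zero _).2 fun a ha => ?_, fun x => ?_⟩
  · refine Module.eq_of_localization_maximal (R := A) (M := A) (fun P _ => Localization.AtPrime P)
      (fun P _ => Algebra.linearMap A _) a 0 fun P _ => ?_
    obtain ⟨d, hd, hdP⟩ := hsurj ⟨⟨P, inferInstance⟩, (PrimeSpectrum.isClosed_singleton_iff_isMaximal _).2 ‹_›⟩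
    have hP : d.asIdeal.comap (algebraMap A D) = P := congrArg PrimeSpectrum.asIdeal hdP
    have h0 := localRingHom_bijective_congr (algebraMap A D) hP rfl hP.symm (hloc d hd)
    refine h0.1 ?_
    show Localization.localRingHom P d.asIdeal _ hP.symm (algebraMap A _ a) =
      Localization.localRingHom P d.asIdeal _ hP.symm (algebraMap A _ 0)
    rw [Localization.localRingHom_to_map, Localization.localRingHom_to_map, ha, map_zero (algebraMap A D)]
  let J : Ideal A :=
    { carrier := {a | ∃ y, algebraMap A D y = algebraMap A D a * x}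
      zero_mem' := ⟨0, by simp⟩
      add_mem' := fun {a b} ⟨y, hy⟩ ⟨z, hz⟩ => ⟨y + z, by rw [map_add, map_add, hy, hz, add_mul]⟩
      smul_mem' := fun r a ⟨y, hy⟩ => ⟨r * y, by rw [smul_eq_mul, map_mul, map_mul, hy, mul_assoc]⟩ }
  suffices hJ : J = ⊤ by
    obtain ⟨y, hy⟩ : (1 : A) ∈ J := hJ ▸ Submodule.mem_top
    exact ⟨y, by rw [hy, map_one, one_mul]⟩
  by_contra hJ
  obtain ⟨m, hm, hJm⟩ := Ideal.exists_le_maximal J hJ
  obtain ⟨d, hd, hdm⟩ := hsurj ⟨⟨m, hm.isPrime⟩, (PrimeSpectrum.isClosed_singleton_iff_isMaximal _).2 hm⟩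
  have hdm' : d.asIdeal.comap (algebraMap A D) = m := congrArg PrimeSpectrum.asIdeal hdm
  obtain ⟨z, hz⟩ := (hloc d hd).2 (algebraMap D _ x)
  obtain ⟨a, ⟨s, hs⟩, rfl⟩ := IsLocalization.exists_mk'_eq (d.asIdeal.comap (algebraMap A D)).primeCompl z
  rw [Localization.localRingHom_mk', IsLocalization.mk'_eq_iff_eq_mul, ← map_mul,
    IsLocalization.eq_iff_exists d.asIdeal.primeCompl] at hz
  obtain ⟨⟨u, hu⟩, hux⟩ := hz
  -- replace `u` by an element of the base
  obtain ⟨r, hr, hru⟩ : ∃ r : A, r ∉ m ∧ algebraMap A D r ∈ Ideal.span {u} := by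
    by_contra hcon
    push Not at hcon
    have hdisj : Disjoint (Ideal.span {u} : Set D)
        ((m.primeCompl.map (algebraMap A D) : Submonoid D) : Set D) := by
      rw [Set.disjoint_left]
      rintro _ hu' ⟨r, hr, rfl⟩
      exact hcon r hr hu'
    obtain ⟨P, hP, hPu, hPS⟩ := Ideal.exists_le_prime_disjoint _ _ hdisj
    obtain ⟨d', ⟨hd', hPd'⟩, -⟩ := (show ∀ x : PrimeSpectrum D, ∃ y,
        (IsClosed ({y} : Set (PrimeSpectrum D)) ∧ x ⤳ y) ∧ True from fun x => by
          obtain ⟨M, hM, hle⟩ := Ideal.exists_le_maximal x.asIdeal x.isPrime.ne_top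
          exact ⟨⟨M, hM.isPrime⟩, ⟨(PrimeSpectrum.isClosed_singleton_iff_isMaximal _).2 hM,
            (PrimeSpectrum.le_iff_specializes _ _).1 hle⟩, trivial⟩) ⟨P, hP⟩
    have hPm : (PrimeSpectrum.comap (algebraMap A D) ⟨P, hP⟩) ≤ (⟨m, hm.isPrime⟩ : PrimeSpectrum A) := by
      intro r hr
      by_contra hrm
      exact Set.disjoint_left.1 hPS hr ⟨r, hrm, rfl⟩
    have heq : PrimeSpectrum.comap (algebraMap A D) d' = ⟨m, hm.isPrime⟩ := by
      obtain ⟨y, -, huniq⟩ := hA.2.2 (PrimeSpectrum.comap (algebraMap A D) ⟨P, hP⟩)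
      rw [huniq _ ⟨(hcl d').1 hd', hPd'.map (PrimeSpectrum.continuous_comap _)⟩,
        huniq ⟨m, hm.isPrime⟩ ⟨(PrimeSpectrum.isClosed_singleton_iff_isMaximal _).2 hm,
          (PrimeSpectrum.le_iff_specializes _ _).1 hPm⟩]
    have hdd : d' = d := hinj d' d hd' hd (heq.trans hdm.symm)
    subst hdd
    exact hu ((PrimeSpectrum.le_iff_specializes _ _).2 hPd' (hPu (Ideal.mem_span_singleton_self u)))
  obtain ⟨w, hw⟩ := Ideal.mem_span_singleton'.1 hru
  refine hm.isPrime.mul_notMem hr (fun h => hs (hdm'.ge h)) (hJm ?_)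
  refine ⟨r * a, ?_⟩
  rw [map_mul, map_mul, ← hw]
  have hux' : u * algebraMap A D a = u * (x * algebraMap A D s) := hux
  linear_combination w * hux'

/-- The key criterion: retractions of faithfully flat algebras with bijective local rings at the closed
points over closed points. -/
theorem exists_retraction (hA : ProEtW.IsWLocal (PrimeSpectrum A))
    [ExtremallyDisconnected (_root_.ConnectedComponents (PrimeSpectrum A))]
    (B : Type u) [CommRing B] [Algebra A B] [Module.FaithfullyFlat A B]
    (halg : ProEtW.AlgebraicResidueExtensions A B)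
    (hloc : ∀ q : PrimeSpectrum B,
      IsClosed ({PrimeSpectrum.comap (algebraMap A B) q} : Set (PrimeSpectrum A)) →
      IsClosed ({q} : Set (PrimeSpectrum B)) → BijAt A q) :
    Nonempty (B →ₐ[A] A) := by
  classical
  let I : Ideal A := PrimeSpectrum.vanishingIdeal (ProEtW.closedPoints (PrimeSpectrum A))
  have hI0 : PrimeSpectrum.zeroLocus (R := A) I = ProEtW.closedPoints (PrimeSpectrum A) := by
    rw [PrimeSpectrum.zeroLocus_vanishingIdeal_eq_closure,
      IsClosed.closure_eq (show IsClosed (ProEtW.closedPoints (PrimeSpectrum A)) from hA.2.1)]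
  obtain ⟨hclB, C, _, _, _, _, hCz, hCq, hCl, hCmap, hCcl⟩ := S0737.result A B hA I
    (PrimeSpectrum.isRadical_vanishingIdeal _) hI0 halg
  have hclC : ∀ c : PrimeSpectrum C, IsClosed ({c} : Set (PrimeSpectrum C)) ↔
      IsClosed ({PrimeSpectrum.comap (algebraMap A C) c} : Set (PrimeSpectrum A)) := fun c =>
    Set.ext_iff.1 hCcl c
  haveI := compactSpace_CP hA
  haveI := t2Space_CP hA
  haveI := compactSpace_CP hCl
  haveI := t2Space_CP hCl
  haveI : ExtremallyDisconnected (CP A) := extremallyDisconnected_homeo (cpHomeo hA).symm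
  let π : CP C → CP A := fun c => ⟨PrimeSpectrum.comap (algebraMap A C) c.1, (hclC c.1).1 c.2⟩
  have hπ : Continuous π :=
    ((PrimeSpectrum.continuous_comap _).comp continuous_subtype_val).subtype_mk _
  have hπsurj : Function.Surjective π := by
    intro m
    obtain ⟨q, hq⟩ := PrimeSpectrum.comap_surjective_of_faithfullyFlat (A := A) (B := B) m.1
    have hqI : q ∈ PrimeSpectrum.zeroLocus (R := B) (I.map (algebraMap A B)) := by
      rw [PrimeSpectrum.mem_zeroLocus, SetLike.coe_subset_coe, Ideal.map_le_iff_le_comap]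
      have : m.1 ∈ PrimeSpectrum.zeroLocus (R := A) I := hI0.ge m.2
      rw [← hq] at this
      exact this
    obtain ⟨c, -, hcq⟩ := AlgRes.exists_lift_of_quotientMap_bijective hCq q hqI
    have hcm : PrimeSpectrum.comap (algebraMap A C) c = m.1 := by
      rw [IsScalarTower.algebraMap_eq A B C, PrimeSpectrum.comap_comp_apply, hcq, hq]
    exact ⟨⟨c, (hclC c).2 (hcm ▸ m.2)⟩, Subtype.ext hcm⟩
  obtain ⟨σ, hσ, hσπ⟩ := CompactT2.ExtremallyDisconnected.projective (A := CP A) continuous_id hπ hπsurj
  haveI := t2Space_components (A := C)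
  let T : Set (_root_.ConnectedComponents (PrimeSpectrum C)) :=
    Set.range fun m => ConnectedComponents.mk (σ m).1
  have hT : IsClosed T := (isCompact_range
    (ConnectedComponents.continuous_coe.comp (continuous_subtype_val.comp hσ))).isClosed
  obtain ⟨D, _, _, hDz, hDsurj, hDe, hDr⟩ := S0698.result C T hT
  letI : Algebra A D := ((algebraMap C D).comp (algebraMap A C)).toAlgebra
  haveI : IsScalarTower A C D := IsScalarTower.of_algebraMap_eq' rfl
  have hDe' := PrimeSpectrum.isClosedEmbedding_comap_of_surjective _ (algebraMap C D) hDsurj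
  obtain ⟨hDl, hclD⟩ := isWLocal_of_closedEmbedding hCl hDe'
  have hcomp : ∀ d, PrimeSpectrum.comap (algebraMap A D) d =
      PrimeSpectrum.comap (algebraMap A C) (PrimeSpectrum.comap (algebraMap C D) d) := fun d => rfl
  have hcl : ∀ d : PrimeSpectrum D, IsClosed ({d} : Set (PrimeSpectrum D)) ↔
      IsClosed ({PrimeSpectrum.comap (algebraMap A D) d} : Set (PrimeSpectrum A)) := fun d =>
    (hclD d).trans (hclC _)
  have himg : ∀ c : CP C, c.1 ∈ Set.range (PrimeSpectrum.comap (algebraMap C D)) ↔ c ∈ Set.range σ := by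
    intro c
    rw [hDr]
    constructor
    · rintro ⟨m, hm⟩
      exact ⟨m, closedPoint_eq_of_component hCl hm⟩
    · rintro ⟨m, rfl⟩
      exact ⟨m, rfl⟩
  have hσπ' : ∀ m, π (σ m) = m := fun m => congrFun hσπ m
  have hbij : Function.Bijective (algebraMap A D) := by
    refine bijective_of_closedPoints hA hcl (fun m => ?_) (fun d d' hd hd' h => ?_) fun d hd => ?_
    · obtain ⟨d, hd⟩ := (himg (σ m)).2 ⟨m, rfl⟩
      refine ⟨d, (hclD d).2 (hd ▸ (σ m).2), ?_⟩
      rw [hcomp, hd]
      exact congrArg Subtype.val (hσπ' m)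
    · let c : CP C := ⟨_, (hclD d).1 hd⟩
      let c' : CP C := ⟨_, (hclD d').1 hd'⟩
      obtain ⟨m, hm⟩ := (himg c).1 ⟨d, rfl⟩
      obtain ⟨m', hm'⟩ := (himg c').1 ⟨d', rfl⟩
      have hmm : m = m' := by
        rw [← hσπ' m, ← hσπ' m', hm, hm']
        exact Subtype.ext h
      exact hDe'.injective (congrArg Subtype.val (show c = c' by rw [← hm, ← hm', hmm]))
    · refine bijAt_comp (B := C) ?_ (bijAt_of_isIndZariski hDz d)
      refine bijAt_comp (B := B) ?_ (bijAt_of_isIndZariski hCz _)
      have hm : IsClosed ({PrimeSpectrum.comap (algebraMap A B)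
          (PrimeSpectrum.comap (algebraMap B C) (PrimeSpectrum.comap (algebraMap C D) d))} : Set (PrimeSpectrum A)) := by
        rw [← PrimeSpectrum.comap_comp_apply, ← IsScalarTower.algebraMap_eq]
        exact (hclC _).1 ((hclD d).1 hd)
      refine hloc _ hm (hclB ?_)
      rw [PrimeSpectrum.mem_zeroLocus, SetLike.coe_subset_coe, Ideal.map_le_iff_le_comap]
      exact hI0.ge hm
  let e := AlgEquiv.ofBijective (Algebra.ofId A D) hbij
  exact ⟨e.symm.toAlgHom.comp ((IsScalarTower.toAlgHom A C D).comp (IsScalarTower.toAlgHom A B C))⟩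

end Groth.Agent.HenselLib.WCtr
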