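import Mathlib
import Groth.Prelude.Def_EtBase
import Groth.Agent.S0696
import Groth.Agent.S1974
import Groth.Agent.HenselLib.WContract
import Groth.Agent.HenselLib.Olivier
import Groth.Agent.HenselLib.EtRetr
import Groth.Agent.HenselLib.WEtNoeth

/-!
# Characterisations of w-contractible rings
-/

set_option autoImplicit false

universe u

namespace Groth.Agent.HenselLib.WCtr

open WLoc

/-- Residue extensions of weakly etale algebras are algebraic. -/
theorem algebraicResidue_of_weaklyEtale (A B : Type u) [CommRing A] [CommRing B] [Algebra A B]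
    [Algebra.WeaklyEtale A B] : ProEtW.AlgebraicResidueExtensions A B := by
  intro q hq
  let p := q.comap (algebraMap A B)
  haveI : q.LiesOver p := ⟨rfl⟩
  letI : Algebra (Localization.AtPrime p) (Localization.AtPrime q) :=
    Localization.AtPrime.algebraOfLiesOver p q
  haveI := S1974.result A B p q
  letI : Algebra (A ⧸ p) q.ResidueField :=
    ((algebraMap p.ResidueField q.ResidueField).comp (algebraMap (A ⧸ p) p.ResidueField)).toAlgebra
  haveI : IsScalarTower (A ⧸ p) p.ResidueField q.ResidueField := IsScalarTower.of_algebraMap_eq' rfl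
  refine ⟨fun x => ?_⟩
  obtain ⟨b, rfl⟩ := Ideal.Quotient.mk_surjective x
  have h1 : IsAlgebraic p.ResidueField (algebraMap B q.ResidueField b) := Algebra.IsAlgebraic.isAlgebraic _
  have h2 : IsAlgebraic (A ⧸ p) (algebraMap B q.ResidueField b) :=
    (IsFractionRing.isAlgebraic_iff (A ⧸ p) p.ResidueField q.ResidueField).2 h1
  refine (isAlgebraic_algHom_iff
    ({ algebraMap (B ⧸ q) q.ResidueField with commutes' := fun r => ?_ } :
      B ⧸ q →ₐ[A ⧸ p] q.ResidueField) (Ideal.injective_algebraMap_quotient_residueField q)).1 ?_
  · obtain ⟨a, rfl⟩ := Ideal.Quotient.mk_surjective r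
    show algebraMap (B ⧸ q) q.ResidueField (Ideal.Quotient.mk q (algebraMap A B a)) = _
    rw [Ideal.algebraMap_quotient_residueField_mk, IsScalarTower.algebraMap_apply (A ⧸ p) p.ResidueField q.ResidueField,
      Ideal.algebraMap_quotient_residueField_mk, ← IsScalarTower.algebraMap_apply,
      ← IsScalarTower.algebraMap_apply]
  · exact h2

variable {A : Type u} [CommRing A]

/-- The three conditions imply w-contractibility. -/
theorem isWContractible_of (hA : ProEtW.IsWLocal (PrimeSpectrum A))
    [ExtremallyDisconnected (_root_.ConnectedComponents (PrimeSpectrum A))]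
    (hsh : ∀ (m : Ideal A) [m.IsMaximal], EtCoh.IsStrictlyHenselianLocalRing (Localization.AtPrime m)) :
    EtPBC.IsWContractible A := by
  intro B _ _ hff hwe
  haveI := hff
  haveI := hwe
  refine exists_retraction hA B (algebraicResidue_of_weaklyEtale A B) fun q hm _ => ?_
  let m := q.asIdeal.comap (algebraMap A B)
  haveI : m.IsMaximal := (PrimeSpectrum.isClosed_singleton_iff_isMaximal _).1 hm
  haveI : q.asIdeal.LiesOver m := ⟨rfl⟩
  letI : Algebra (Localization.AtPrime m) (Localization.AtPrime q.asIdeal) :=
    Localization.AtPrime.algebraOfLiesOver m q.asIdeal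
  haveI := WEtNoeth.weaklyEtale_atPrime (A := A) m q.asIdeal
  obtain ⟨h1, h2⟩ := hsh m
  haveI := h1
  haveI := h2
  haveI : IsLocalHom (algebraMap (Localization.AtPrime m) (Localization.AtPrime q.asIdeal)) := by
    rw [Localization.AtPrime.IsLiesOverAlgebra.algebraMap_eq (p := m) (P := q.asIdeal)]
    infer_instance
  have h := Olivier.bijective (A := Localization.AtPrime m) (B := Localization.AtPrime q.asIdeal)
  rw [Localization.AtPrime.IsLiesOverAlgebra.algebraMap_eq (p := m) (P := q.asIdeal)] at h
  exact h

/-- Ind-Zariski retractions exist under the first two conditions. -/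
theorem hasIndZariskiRetractions_of (hA : ProEtW.IsWLocal (PrimeSpectrum A))
    [ExtremallyDisconnected (_root_.ConnectedComponents (PrimeSpectrum A))] :
    ProEtW.HasIndZariskiRetractions A := by
  intro B _ _ hff hz
  haveI := hff
  exact exists_retraction hA B (AlgRes.of_isIndEtale (IndEt.indEtale_of_indZariski hz))
    fun q _ _ => bijAt_of_isIndZariski hz q

/-- The first two conditions follow from ind-Zariski retractions. -/
theorem wLocal_of_indZariskiRetractions (h : ProEtW.HasIndZariskiRetractions A) :
    ProEtW.IsWLocal (PrimeSpectrum A) ∧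
      ExtremallyDisconnected (_root_.ConnectedComponents (PrimeSpectrum A)) := by
  obtain ⟨B, _, _, hff, hz, hB, hext⟩ := S0696.result A
  obtain ⟨r⟩ := h B hff hz
  letI : Algebra B A := r.toRingHom.toAlgebra
  have hsurj : Function.Surjective (algebraMap B A) := fun a => ⟨algebraMap A B a, r.commutes a⟩
  have he := PrimeSpectrum.isClosedEmbedding_comap_of_surjective _ (algebraMap B A) hsurj
  refine ⟨(isWLocal_of_closedEmbedding (A := B) hB he).1, ?_⟩
  haveI := t2Space_components (A := A)
  haveI := t2Space_components (A := B)
  haveI := hext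
  refine CompactT2.Projective.extremallyDisconnected ?_
  intro Y Z _ _ _ _ _ _ f g hf hg hgs
  let i := (PrimeSpectrum.continuous_comap (algebraMap B A)).connectedComponentsMap
  let p := (PrimeSpectrum.continuous_comap (algebraMap A B)).connectedComponentsMap
  have hi : Continuous i := Continuous.connectedComponentsMap_continuous _
  have hp : Continuous p := Continuous.connectedComponentsMap_continuous _
  obtain ⟨l, hl, hlg⟩ := CompactT2.ExtremallyDisconnected.projective (hf.comp hp) hg hgs
  refine ⟨l ∘ i, hl.comp hi, funext fun x => ?_⟩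
  obtain ⟨x, rfl⟩ := ConnectedComponents.surjective_coe x
  have hpi : p (i (ConnectedComponents.mk x)) = ConnectedComponents.mk x := by
    show ConnectedComponents.mk (PrimeSpectrum.comap (algebraMap A B)
      (PrimeSpectrum.comap (algebraMap B A) x)) = _
    rw [← PrimeSpectrum.comap_comp_apply,
      show (algebraMap B A).comp (algebraMap A B) = RingHom.id A from RingHom.ext r.commutes]
    rfl
  have := congrFun hlg (i (ConnectedComponents.mk x))
  simp only [Function.comp_apply, hpi] at this ⊢
  exact this

theorem hasIndEtaleRetractions_of_wContractible (h : EtPBC.IsWContractible A) :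
    ProEtW.HasIndEtaleRetractions A :=
  fun B _ _ hff hind => h B hff (IndEt.weaklyEtale A B hind)

theorem of_indEtaleRetractions (h : ProEtW.HasIndEtaleRetractions A) :
    ProEtW.IsWLocal (PrimeSpectrum A) ∧
      ExtremallyDisconnected (_root_.ConnectedComponents (PrimeSpectrum A)) ∧
      ∀ (m : Ideal A) [m.IsMaximal], EtCoh.IsStrictlyHenselianLocalRing (Localization.AtPrime m) := by
  obtain ⟨h1, h2⟩ := wLocal_of_indZariskiRetractions (A := A)
    fun B _ _ hff hz => h B hff (IndEt.indEtale_of_indZariski hz)
  have het : ProEtW.HasEtaleRetractions A := fun B _ _ hff het => h B hff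
    ((IndEt.isIndEtale_iff_ind A B).2 (CategoryTheory.MorphismProperty.le_ind _ _ (RingHom.etale_algebraMap.2 het)))
  exact ⟨h1, h2, fun m _ => ⟨(EtRetr.strictlyHenselian_atPrime het m).1, (EtRetr.strictlyHenselian_atPrime het m).2⟩⟩

theorem isWContractible_iff :
    EtPBC.IsWContractible A ↔
      (ProEtW.IsWLocal (PrimeSpectrum A) ∧
        ExtremallyDisconnected (_root_.ConnectedComponents (PrimeSpectrum A)) ∧
        ∀ (m : Ideal A) [m.IsMaximal], EtCoh.IsStrictlyHenselianLocalRing (Localization.AtPrime m)) :=
  ⟨fun h => of_indEtaleRetractions (hasIndEtaleRetractions_of_wContractible h),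
    fun ⟨h1, h2, h3⟩ => haveI := h2; isWContractible_of h1 h3⟩

theorem isWContractible_iff_indEtale :
    EtPBC.IsWContractible A ↔ ProEtW.HasIndEtaleRetractions A :=
  ⟨hasIndEtaleRetractions_of_wContractible, fun h => isWContractible_iff.2 (of_indEtaleRetractions h)⟩

end Groth.Agent.HenselLib.WCtr
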