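import Mathlib
import Groth.Prelude.Def_ProEtW
import Groth.Agent.HenselLib.IndEtale

/-!
# Large ind-etale covers
-/

set_option autoImplicit false

open CategoryTheory Limits TensorProduct

universe u

namespace Groth.Agent.HenselLib.EtCover

open IndEt

/-- A geometric point extends to an etale algebra whose image contains it. -/
theorem exists_point_field {R B : Type u} [CommRing R] [CommRing B] [Algebra R B] [Algebra.Etale R B]
    {Ω : Type u} [Field Ω] [IsAlgClosed Ω] (φ : R →+* Ω) (q : Ideal B) [q.IsPrime]
    (hq : q.comap (algebraMap R B) = RingHom.ker φ) :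
    ∃ ψ : B →+* Ω, ψ.comp (algebraMap R B) = φ := by
  let p : Ideal R := RingHom.ker φ
  haveI : p.IsPrime := RingHom.ker_isPrime φ
  haveI : q.LiesOver p := ⟨hq.symm⟩
  have hunit : p.primeCompl ≤ (IsUnit.submonoid Ω).comap φ := fun x hx =>
    isUnit_iff_ne_zero.2 hx
  letI : Algebra (Localization.AtPrime p) (Localization.AtPrime q) :=
    Localization.AtPrime.algebraOfLiesOver p q
  letI : Algebra p.ResidueField Ω := (Ideal.ResidueField.lift p φ le_rfl hunit).toAlgebra
  let σ : q.ResidueField →ₐ[p.ResidueField] Ω := IsAlgClosed.lift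
  refine ⟨σ.toRingHom.comp (algebraMap B q.ResidueField), RingHom.ext fun r => ?_⟩
  show σ (algebraMap B q.ResidueField (algebraMap R B r)) = φ r
  rw [← IsScalarTower.algebraMap_apply R B q.ResidueField,
    IsScalarTower.algebraMap_apply R p.ResidueField q.ResidueField, σ.commutes]
  exact Ideal.ResidueField.lift_algebraMap _ _ _ _ r

/-- The kernel of the point of a prime. -/
theorem ker_residuePoint {A : Type u} [CommRing A] (p : PrimeSpectrum A) :
    RingHom.ker ((algebraMap p.asIdeal.ResidueField (AlgebraicClosure p.asIdeal.ResidueField)).comp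
      (algebraMap A p.asIdeal.ResidueField)) = p.asIdeal := by
  rw [RingHom.ker_eq_comap_bot, ← Ideal.comap_comap, Ideal.comap_bot_of_injective _
    (algebraMap p.asIdeal.ResidueField (AlgebraicClosure p.asIdeal.ResidueField)).injective,
    ← RingHom.ker_eq_comap_bot, Ideal.ker_algebraMap_residueField]

/-- The image of an etale base change is the preimage of the image. -/
theorem mem_range_baseChange {R S T : Type u} [CommRing R] [CommRing S] [CommRing T] [Algebra R S]
    [Algebra R T] [Algebra.Etale R T] (P : PrimeSpectrum S)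
    (hP : PrimeSpectrum.comap (algebraMap R S) P ∈ Set.range (PrimeSpectrum.comap (algebraMap R T))) :
    P ∈ Set.range (PrimeSpectrum.comap (algebraMap S (S ⊗[R] T))) := by
  let φ := (algebraMap P.asIdeal.ResidueField (AlgebraicClosure P.asIdeal.ResidueField)).comp
    (algebraMap S P.asIdeal.ResidueField)
  obtain ⟨q, hq⟩ := hP
  obtain ⟨ψ, hψ⟩ := exists_point_field (φ.comp (algebraMap R S)) q.asIdeal (by
    rw [← RingHom.comap_ker, ker_residuePoint P]
    exact congrArg PrimeSpectrum.asIdeal hq)
  letI : Algebra R (AlgebraicClosure P.asIdeal.ResidueField) := (φ.comp (algebraMap R S)).toAlgebra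
  let ω : S ⊗[R] T →ₐ[R] AlgebraicClosure P.asIdeal.ResidueField := Algebra.TensorProduct.lift
    { φ with commutes' := fun r => rfl } { ψ with commutes' := RingHom.congr_fun hψ }
    (fun _ _ => Commute.all _ _)
  refine ⟨⟨RingHom.ker ω.toRingHom, RingHom.ker_isPrime _⟩, PrimeSpectrum.ext ?_⟩
  have h : ω.toRingHom.comp (algebraMap S (S ⊗[R] T)) = φ := RingHom.ext fun x => by
    show ω (x ⊗ₜ[R] (1 : T)) = φ x
    simp [ω]
  rw [PrimeSpectrum.comap_asIdeal, RingHom.comap_ker, h, ker_residuePoint P]

instance : (etaleMP.{u}).ContainsIdentities :=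
  ⟨fun X => RingHom.Etale.of_bijective (f := RingHom.id X) Function.bijective_id⟩

instance : (etaleMP.{u}).HasOfPrecompProperty etaleMP where
  of_precomp {X Y Z} f g (hf : f.hom.Etale) (hfg : (g.hom.comp f.hom).Etale) := by
    show g.hom.Etale
    algebraize [f.hom, g.hom, g.hom.comp f.hom]
    exact Algebra.Etale.of_restrictScalars (R := X) (A := Y) (B := Z)

variable (R : CommRingCat.{u})

/-- Presentations of faithfully flat etale algebras. -/
def Idx : Type u :=
  {P : Σ n : ℕ, Ideal (MvPolynomial (Fin n) R) //
    Algebra.Etale R (MvPolynomial (Fin P.1) R ⧸ P.2) ∧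
      Function.Surjective (PrimeSpectrum.comap (algebraMap R (MvPolynomial (Fin P.1) R ⧸ P.2)))}

/-- The algebra of a presentation. -/
abbrev IdxAlg (P : Idx R) : Type u := MvPolynomial (Fin P.1.1) R ⧸ P.1.2

/-- The algebra of a presentation, in the category of etale algebras. -/
noncomputable def idxObj (P : Idx R) : etaleMP.Under ⊤ R :=
  MorphismProperty.Under.mk ⊤ (CommRingCat.ofHom (algebraMap R (IdxAlg R P)))
    (RingHom.etale_algebraMap.2 P.2.1)

/-- The family of all faithfully flat etale algebras, in `Under R`. -/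
noncomputable def idxUnder (P : Idx R) : Under R :=
  (MorphismProperty.Under.forget etaleMP ⊤ R).obj (idxObj R P)

/-- The coproduct of all faithfully flat etale algebras, as a filtered colimit. -/
noncomputable def cover : Under R :=
  colimit (CoproductsFromFiniteFiltered.liftToFinsetObj (Discrete.functor (idxUnder R)))

theorem cover_isIndEtale :
    letI := (cover R).hom.hom.toAlgebra
    EtPBC.IsIndEtale R (cover R).right := by
  classical
  refine ⟨_, inferInstance, inferInstance, _, colimit.cocone _, colimit.isColimit _, fun s => ?_,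
    ⟨Iso.refl _⟩⟩
  let F := MorphismProperty.Under.forget etaleMP ⊤ R
  let X := fun x : {x // x ∈ s} => idxObj R x.1.as
  let e : F.obj (∐ X) ≅ ∐ fun x => F.obj (X x) := PreservesCoproduct.iso F X
  have he : etaleMP ((∐ fun x => F.obj (X x)).hom) := by
    haveI : IsIso e.hom.right := inferInstanceAs (IsIso ((Under.forget R).map e.hom))
    rw [← Under.w e.hom]
    exact (MorphismProperty.cancel_right_of_respectsIso etaleMP _ _).2 (∐ X).prop
  exact he

/-- The inclusion of one algebra into the cover. -/
noncomputable def coverIncl (P : Idx R) : idxUnder R P ⟶ cover R :=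
  (CoproductsFromFiniteFiltered.liftToFinsetColimitCocone
    (Discrete.functor (idxUnder R))).cocone.ι.app ⟨P⟩

/-- Maps out of the cover. -/
noncomputable def coverDesc {Y : Under R} (f : ∀ P, idxUnder R P ⟶ Y) : cover R ⟶ Y :=
  (CoproductsFromFiniteFiltered.liftToFinsetColimitCocone
    (Discrete.functor (idxUnder R))).isColimit.desc (Cofan.mk Y f)

/-- Every faithfully flat etale algebra maps to the cover. -/
theorem cover_hom (B : Type u) [CommRing B] [Algebra R B] [Algebra.Etale R B]
    (hB : Function.Surjective (PrimeSpectrum.comap (algebraMap R B))) :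
    Nonempty (Under.mk (CommRingCat.ofHom (algebraMap R B)) ⟶ cover R) := by
  obtain ⟨n, f, hf, -⟩ := Algebra.FinitePresentation.out (R := R) (A := B)
  let e : (MvPolynomial (Fin n) R ⧸ RingHom.ker f.toRingHom) ≃ₐ[R] B :=
    Ideal.quotientKerAlgEquivOfSurjective hf
  have h2 : Function.Surjective (PrimeSpectrum.comap
      (algebraMap R (MvPolynomial (Fin n) R ⧸ RingHom.ker f.toRingHom))) := fun p => by
    obtain ⟨q, hq⟩ := hB p
    refine ⟨PrimeSpectrum.comap e.toAlgHom.toRingHom q, ?_⟩
    exact (PrimeSpectrum.comap_comp_apply _ _ q).symm.trans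
      ((congrArg (fun φ => PrimeSpectrum.comap φ q) e.toAlgHom.comp_algebraMap).trans hq)
  let P : Idx R := ⟨⟨n, RingHom.ker f.toRingHom⟩, Algebra.Etale.of_equiv e.symm, h2⟩
  exact ⟨(Under.homMk (CommRingCat.ofHom e.symm.toRingHom)
    (CommRingCat.hom_ext (RingHom.ext fun r => e.symm.commutes r)) :
      Under.mk (CommRingCat.ofHom (algebraMap R B)) ⟶ idxUnder R P) ≫ coverIncl R P⟩

/-- Every geometric point extends to the cover. -/
theorem cover_point {Ω : Type u} [Field Ω] [IsAlgClosed Ω] (φ : R →+* Ω) :
    ∃ ψ : (cover R).right →+* Ω, ψ.comp (cover R).hom.hom = φ := by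
  have h : ∀ P : Idx R, ∃ g : IdxAlg R P →+* Ω, g.comp (algebraMap R (IdxAlg R P)) = φ := fun P => by
    haveI := P.2.1
    haveI := RingHom.ker_isPrime φ
    obtain ⟨q, hq⟩ := P.2.2 ⟨RingHom.ker φ, inferInstance⟩
    exact exists_point_field φ q.asIdeal (congrArg PrimeSpectrum.asIdeal hq)
  choose g hg using h
  let t := coverDesc R (Y := Under.mk (CommRingCat.ofHom φ))
    (fun P => Under.homMk (CommRingCat.ofHom (g P)) (CommRingCat.hom_ext (hg P)))
  exact ⟨t.right.hom, congrArg CommRingCat.Hom.hom (Under.w t)⟩

section Tower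

set_option backward.isDefEq.respectTransparency false
set_option backward.isDefEq.respectTransparency.types false

variable (A : CommRingCat.{u})

/-- The iterated covers. -/
noncomputable def stage : ℕ → CommRingCat.{u}
  | 0 => A
  | n + 1 => (cover (stage n)).right

/-- The transition maps. -/
noncomputable def step (n : ℕ) : stage A n ⟶ stage A (n + 1) := (cover (stage A n)).hom

/-- The tower. -/
noncomputable def tower : ℕ ⥤ CommRingCat.{u} := Functor.ofSequence (step A)

theorem tower_succ (n : ℕ) : (tower A).map (homOfLE (Nat.le_succ n)) = step A n :=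
  Functor.ofSequence_map_homOfLE_succ _ n

/-- The tower indexed by a small type. -/
noncomputable def tower' : ULift.{u} ℕ ⥤ CommRingCat.{u} :=
  (show Monotone (ULift.down : ULift.{u} ℕ → ℕ) from fun _ _ h => h).functor ⋙ tower A

/-- The limit of the tower. -/
noncomputable def top : CommRingCat.{u} := colimit (tower' A)

/-- The maps of the stages to the limit. -/
noncomputable def incl (n : ℕ) : stage A n ⟶ top A := colimit.ι (tower' A) ⟨n⟩

theorem incl_map {i j : ℕ} (h : i ≤ j) : (tower A).map (homOfLE h) ≫ incl A j = incl A i :=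
  colimit.w (tower' A) (homOfLE (show (⟨i⟩ : ULift.{u} ℕ) ≤ ⟨j⟩ from h))

theorem exists_incl (x : top A) : ∃ (n : ℕ) (y : stage A n), (incl A n).hom y = x := by
  obtain ⟨⟨n⟩, y, hy⟩ := Concrete.isColimit_exists_rep (tower' A) (colimit.isColimit (tower' A)) x
  exact ⟨n, y, hy⟩

theorem incl_eq {n : ℕ} {x y : stage A n} (h : (incl A n).hom x = (incl A n).hom y) :
    ∃ (m : ℕ) (hm : n ≤ m), ((tower A).map (homOfLE hm)).hom x = ((tower A).map (homOfLE hm)).hom y := by
  obtain ⟨⟨m⟩, a, b, hab⟩ := Concrete.isColimit_exists_of_rep_eq (tower' A)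
    (colimit.isColimit (tower' A)) (i := ⟨n⟩) (j := ⟨n⟩) x y h
  exact ⟨m, (leOfHom a : (⟨n⟩ : ULift.{u} ℕ) ≤ ⟨m⟩), hab⟩

/-- The map from the base to a stage. -/
noncomputable def fromBase (n : ℕ) : A ⟶ stage A n := (tower A).map (homOfLE (Nat.zero_le n))

theorem fromBase_zero : fromBase A 0 = 𝟙 A := (tower A).map_id 0

theorem fromBase_succ (n : ℕ) : fromBase A (n + 1) = fromBase A n ≫ step A n := by
  rw [← tower_succ]
  exact (tower A).map_comp (homOfLE (Nat.zero_le n)) (homOfLE (Nat.le_succ n))

theorem stage_isIndEtale : ∀ n : ℕ,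
    letI := (fromBase A n).hom.toAlgebra
    EtPBC.IsIndEtale A (stage A n)
  | 0 => by
    have h : (fromBase A 0).hom.toAlgebra = Algebra.id A :=
      Algebra.algebra_ext _ _ fun r => ConcreteCategory.congr_hom (fromBase_zero A) r
    show @EtPBC.IsIndEtale A A _ _ (fromBase A 0).hom.toAlgebra
    rw [h]
    exact refl A
  | n + 1 => by
    letI := (fromBase A n).hom.toAlgebra
    letI : Algebra A (stage A (n + 1)) := (fromBase A (n + 1)).hom.toAlgebra
    letI : Algebra (stage A n) (stage A (n + 1)) := (step A n).hom.toAlgebra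
    haveI : IsScalarTower A (stage A n) (stage A (n + 1)) :=
      IsScalarTower.of_algebraMap_eq fun r => ConcreteCategory.congr_hom (fromBase_succ A n) r
    exact trans A (stage A n) (stage A (n + 1)) (stage_isIndEtale n) (cover_isIndEtale (stage A n))

/-- The structure map of the limit. -/
noncomputable def topHom : A ⟶ top A := incl A 0

/-- The diagram of stages under the base. -/
noncomputable def underTower : ULift.{u} ℕ ⥤ Under A where
  obj n := Under.mk (Y := (tower' A).obj n) (fromBase A n.down)
  map {i j} h := Under.homMk ((tower' A).map h)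
    ((tower A).map_comp (homOfLE (Nat.zero_le i.down))
      (homOfLE (show i.down ≤ j.down from (leOfHom h : i ≤ j)))).symm
  map_id n := Under.UnderMorphism.ext ((tower' A).map_id n)
  map_comp f g := Under.UnderMorphism.ext ((tower' A).map_comp f g)

/-- The cocone of stages. -/
noncomputable def underCocone : Cocone (underTower A) where
  pt := Under.mk (topHom A)
  ι :=
    { app := fun n => Under.homMk (colimit.ι (tower' A) n) (incl_map A (Nat.zero_le n.down))
      naturality := fun i j h => Under.UnderMorphism.ext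
        ((colimit.w (tower' A) h).trans (Category.comp_id _).symm) }

theorem underCocone_isColimit : Nonempty (IsColimit (underCocone A)) := by
  have h0 : (tower A).map (homOfLE (Nat.zero_le 0)) = 𝟙 ((tower A).obj 0) := by
    rw [← (tower A).map_id]; rfl
  let d : ∀ s : Cocone (underTower A), top A ⟶ s.pt.right := fun s =>
    colimit.desc (tower' A) { pt := s.pt.right
                              ι := { app := fun n => (s.ι.app n).right
                                     naturality := fun i j h =>
                                       (congrArg (fun f => f.right) (s.w h)).trans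
                                         (Category.comp_id _).symm } }
  have hd : ∀ (s : Cocone (underTower A)) (n : ℕ), incl A n ≫ d s = (s.ι.app ⟨n⟩).right :=
    fun s n => colimit.ι_desc _ _
  refine ⟨{ desc := fun s => Under.homMk (d s) ?_, fac := fun s n => ?_, uniq := fun s m hm => ?_ }⟩
  · refine (hd s 0).trans ?_
    have := Under.w (s.ι.app ⟨0⟩)
    refine Eq.trans ?_ this
    show (s.ι.app ⟨0⟩).right = (tower A).map (homOfLE (Nat.zero_le 0)) ≫ (s.ι.app ⟨0⟩).right
    rw [h0]
    exact (Category.id_comp _).symm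
  · exact Under.UnderMorphism.ext (hd s n.down)
  · refine Under.UnderMorphism.ext (colimit.hom_ext fun n => ?_)
    exact (congrArg (fun f => f.right) (hm n)).trans (hd s n.down).symm

theorem top_isIndEtale :
    letI := (topHom A).hom.toAlgebra
    EtPBC.IsIndEtale A (top A) := by
  letI := (topHom A).hom.toAlgebra
  exact of_isColimit A (top A) (underTower A) (fun n => (stage_isIndEtale A n.down :)) (underCocone A)
    (underCocone_isColimit A).some (Iso.refl _)

/-- A compatible family of geometric points on the stages. -/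
theorem top_point {Ω : Type u} [Field Ω] [IsAlgClosed Ω] (φ : A →+* Ω) :
    ∃ ψ : top A →+* Ω, ψ.comp (topHom A).hom = φ := by
  let g : ∀ n, stage A n →+* Ω := fun n => Nat.rec (motive := fun n => stage A n →+* Ω) φ
    (fun m f => (cover_point (stage A m) f).choose) n
  have hg : ∀ n, (g (n + 1)).comp (step A n).hom = g n := fun n =>
    (cover_point (stage A n) (g n)).choose_spec
  let t : tower A ⟶ (Functor.const ℕ).obj (CommRingCat.of Ω) := NatTrans.ofSequence
    (fun n => CommRingCat.ofHom (g n)) fun n => by
      rw [tower_succ]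
      exact (CommRingCat.hom_ext (hg n)).trans (Category.comp_id _).symm
  let c : Cocone (tower' A) :=
    { pt := CommRingCat.of Ω
      ι :=
        { app := fun n => t.app n.down
          naturality := fun i j h =>
            t.naturality (homOfLE (show i.down ≤ j.down from (leOfHom h : i ≤ j))) } }
  exact ⟨(colimit.desc (tower' A) c).hom, congrArg CommRingCat.Hom.hom (colimit.ι_desc c ⟨0⟩)⟩

theorem top_hasEtaleRetractions : ProEtW.HasEtaleRetractions (top A) := by
  intro B _ _ hff het
  haveI : MorphismProperty.PreIndSpreads.{u} etaleMP.{u} := inferInstance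
  obtain ⟨⟨j⟩, T', f', g, hpo, hf'⟩ := MorphismProperty.PreIndSpreads.exists_isPushout
    (P := etaleMP.{u}) (colimit.isColimit (tower' A))
    (CommRingCat.ofHom (algebraMap (top A) B) : top A ⟶ CommRingCat.of B)
    (show (algebraMap (top A) B).Etale from RingHom.etale_algebraMap.2 het)
  letI : Algebra (stage A j) T' := f'.hom.toAlgebra
  haveI : Algebra.Etale (stage A j) T' := hf'
  let U : Set (PrimeSpectrum (stage A j)) := Set.range (PrimeSpectrum.comap f'.hom)
  haveI : Module.Flat (stage A j) T' := Algebra.Smooth.flat _ _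
  have hU : IsOpen U := (PrimeSpectrum.isOpenMap_comap_of_hasGoingDown_of_finitePresentation
    (R := stage A j) (S := T')).isOpen_range
  obtain ⟨I, hI⟩ := (PrimeSpectrum.isClosed_iff_zeroLocus_ideal _).1 hU.isClosed_compl
  have hw : (incl A j).hom.comp (RingHom.id _) = (incl A j).hom := rfl
  -- the ideal of the complement generates everything in the limit
  have htop : Ideal.map (incl A j).hom I = ⊤ := by
    by_contra hne
    obtain ⟨m, hm, hle⟩ := Ideal.exists_le_maximal _ hne
    haveI := hm
    obtain ⟨r, hr⟩ := PrimeSpectrum.comap_surjective_of_faithfullyFlat (A := top A) (B := B)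
      ⟨m, inferInstance⟩
    have hmem : PrimeSpectrum.comap (incl A j).hom ⟨m, inferInstance⟩ ∈ Uᶜ := by
      rw [hI, PrimeSpectrum.mem_zeroLocus]
      exact Ideal.map_le_iff_le_comap.1 hle
    refine hmem ⟨PrimeSpectrum.comap g.hom r, ?_⟩
    rw [← hr]
    show PrimeSpectrum.comap f'.hom (PrimeSpectrum.comap g.hom r) =
      PrimeSpectrum.comap (incl A j).hom (PrimeSpectrum.comap (algebraMap (top A) B) r)
    rw [← PrimeSpectrum.comap_comp_apply, ← PrimeSpectrum.comap_comp_apply]
    exact congrArg (fun φ => PrimeSpectrum.comap φ r) (congrArg CommRingCat.Hom.hom hpo.w).symm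
  -- it does so at a finite stage
  have key : ∀ x ∈ Ideal.map (incl A j).hom I, ∃ (k : ℕ) (hk : j ≤ k) (y : stage A k),
      y ∈ Ideal.map ((tower A).map (homOfLE hk)).hom I ∧ (incl A k).hom y = x := by
    have hcomp : ∀ {a b : ℕ} (ha : j ≤ a) (hab : a ≤ b),
        ((tower A).map (homOfLE (ha.trans hab))).hom =
          ((tower A).map (homOfLE hab)).hom.comp ((tower A).map (homOfLE ha)).hom := fun ha hab => by
      rw [← CommRingCat.hom_comp, ← Functor.map_comp]; rfl
    intro x hx
    refine Submodule.span_induction ?_ ⟨j, le_rfl, 0, Ideal.zero_mem _, map_zero _⟩ ?_ ?_ hx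
    · rintro _ ⟨a, ha, rfl⟩
      refine ⟨j, le_rfl, _, Ideal.mem_map_of_mem _ ha, ?_⟩
      exact ConcreteCategory.congr_hom (incl_map A le_rfl) a
    · rintro x₁ x₂ - - ⟨k₁, hk₁, y₁, hy₁, rfl⟩ ⟨k₂, hk₂, y₂, hy₂, rfl⟩
      let k := max k₁ k₂
      refine ⟨k, hk₁.trans (le_max_left _ _),
        ((tower A).map (homOfLE (le_max_left k₁ k₂))).hom y₁ +
          ((tower A).map (homOfLE (le_max_right k₁ k₂))).hom y₂, Ideal.add_mem _ ?_ ?_, ?_⟩
      · rw [hcomp hk₁ (le_max_left k₁ k₂), ← Ideal.map_map]
        exact Ideal.mem_map_of_mem _ hy₁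
      · rw [show (hk₁.trans (le_max_left k₁ k₂)) = hk₂.trans (le_max_right k₁ k₂) from rfl,
          hcomp hk₂ (le_max_right k₁ k₂), ← Ideal.map_map]
        exact Ideal.mem_map_of_mem _ hy₂
      · rw [map_add]
        exact congrArg₂ (· + ·) (ConcreteCategory.congr_hom (incl_map A (le_max_left k₁ k₂)) y₁)
          (ConcreteCategory.congr_hom (incl_map A (le_max_right k₁ k₂)) y₂)
    · rintro c x₁ - ⟨k₁, hk₁, y₁, hy₁, rfl⟩
      obtain ⟨k₂, z, hz⟩ := exists_incl A c
      refine ⟨max k₁ k₂, hk₁.trans (le_max_left _ _),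
        ((tower A).map (homOfLE (le_max_right k₁ k₂))).hom z *
          ((tower A).map (homOfLE (le_max_left k₁ k₂))).hom y₁, Ideal.mul_mem_left _ _ ?_, ?_⟩
      · rw [hcomp hk₁ (le_max_left k₁ k₂), ← Ideal.map_map]
        exact Ideal.mem_map_of_mem _ hy₁
      · rw [map_mul, smul_eq_mul, ← hz]
        exact congrArg₂ (· * ·) (ConcreteCategory.congr_hom (incl_map A (le_max_right k₁ k₂)) z)
          (ConcreteCategory.congr_hom (incl_map A (le_max_left k₁ k₂)) y₁)
  obtain ⟨k₀, hk₀, y, hy, hy1⟩ := key 1 (htop ▸ Submodule.mem_top)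
  obtain ⟨k, hk, hky⟩ := incl_eq A (x := y) (y := (1 : stage A k₀)) (hy1.trans (map_one _).symm)
  have hIk : Ideal.map ((tower A).map (homOfLE (hk₀.trans hk))).hom I = ⊤ := by
    rw [Ideal.eq_top_iff_one]
    have h1 : ((tower A).map (homOfLE (hk₀.trans hk))).hom =
        ((tower A).map (homOfLE hk)).hom.comp ((tower A).map (homOfLE hk₀)).hom := by
      rw [← CommRingCat.hom_comp, ← Functor.map_comp]; rfl
    rw [h1, ← Ideal.map_map]
    have := Ideal.mem_map_of_mem ((tower A).map (homOfLE hk)).hom hy
    rwa [hky, map_one] at this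
  -- so the base change to that stage is faithfully flat, hence split one stage later
  letI : Algebra (stage A j) (stage A k) := ((tower A).map (homOfLE (hk₀.trans hk))).hom.toAlgebra
  have hsurj : Function.Surjective
      (PrimeSpectrum.comap (algebraMap (stage A k) (stage A k ⊗[stage A j] T'))) := by
    intro P
    have hPU : PrimeSpectrum.comap (algebraMap (stage A j) (stage A k)) P ∈ U := by
      by_contra hnot
      have hmem : PrimeSpectrum.comap (algebraMap (stage A j) (stage A k)) P ∈ Uᶜ := hnot
      rw [hI, PrimeSpectrum.mem_zeroLocus] at hmem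
      have : Ideal.map (algebraMap (stage A j) (stage A k)) I ≤ P.asIdeal :=
        Ideal.map_le_iff_le_comap.2 hmem
      rw [RingHom.algebraMap_toAlgebra, hIk] at this
      exact P.isPrime.ne_top (top_le_iff.1 this)
    exact mem_range_baseChange P hPU
  obtain ⟨h⟩ := cover_hom (stage A k) (stage A k ⊗[stage A j] T') hsurj
  let v : T' ⟶ top A :=
    CommRingCat.ofHom (Algebra.TensorProduct.includeRight (R := stage A j) (A := stage A k)).toRingHom ≫
      h.right ≫ incl A (k + 1)
  have hv : incl A j ≫ 𝟙 (top A) = f' ≫ v := by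
    rw [Category.comp_id]
    refine CommRingCat.hom_ext (RingHom.ext fun x => ?_)
    show _ = (incl A (k + 1)).hom (h.right.hom ((1 : stage A k) ⊗ₜ[stage A j] algebraMap (stage A j) T' x))
    rw [Algebra.algebraMap_eq_smul_one, TensorProduct.tmul_smul, TensorProduct.smul_tmul',
      ← Algebra.algebraMap_eq_smul_one]
    have h2 := ConcreteCategory.congr_hom (Under.w h) (algebraMap (stage A j) (stage A k) x)
    refine Eq.trans ?_ (congrArg (incl A (k + 1)).hom h2).symm
    have h3 : incl A j = (tower A).map (homOfLE (hk₀.trans hk)) ≫ step A k ≫ incl A (k + 1) := by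
      rw [← tower_succ, incl_map, incl_map]
    exact ConcreteCategory.congr_hom h3 x
  let r : CommRingCat.of B ⟶ top A := hpo.desc (𝟙 _) v hv
  exact ⟨{ r.hom with commutes' := fun x => ConcreteCategory.congr_hom (hpo.inl_desc (𝟙 _) v hv) x }⟩

end Tower

/-- Every ring has a faithfully flat ind-etale extension with etale retractions. -/
theorem exists_indEtale_retractions (A : Type u) [CommRing A] :
    ∃ (C : Type u) (_ : CommRing C) (_ : Algebra A C),
      Module.FaithfullyFlat A C ∧ EtPBC.IsIndEtale A C ∧ ProEtW.HasEtaleRetractions C := by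
  let A' := CommRingCat.of A
  letI : Algebra A (top A') := (topHom A').hom.toAlgebra
  have hind : EtPBC.IsIndEtale A (top A') := top_isIndEtale A'
  haveI := flat A (top A') hind
  refine ⟨top A', inferInstance, inferInstance,
    Module.FaithfullyFlat.of_comap_surjective fun p => ?_, hind, top_hasEtaleRetractions A'⟩
  let Ω := AlgebraicClosure p.asIdeal.ResidueField
  let φ : A →+* Ω := (algebraMap p.asIdeal.ResidueField Ω).comp (algebraMap A p.asIdeal.ResidueField)
  obtain ⟨ψ, hψ⟩ := top_point A' φ
  refine ⟨⟨RingHom.ker ψ, RingHom.ker_isPrime ψ⟩, PrimeSpectrum.ext ?_⟩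
  show Ideal.comap (topHom A').hom (RingHom.ker ψ) = p.asIdeal
  rw [RingHom.comap_ker, hψ]
  exact ker_residuePoint p

end Groth.Agent.HenselLib.EtCover
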