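import Mathlib
import Groth.Prelude.Def_ProEtW
import Groth.Prelude.Def_EtBase
import Groth.Agent.HenselLib.WLocBasic

/-!
# Local rings of the w-localisation at its closed points
-/

set_option autoImplicit false

universe u

namespace Groth.Agent.HenselLib.WLoc

variable {A : Type u} [CommRing A] {T : Type u} [TopologicalSpace T] [CompactSpace T] [T2Space T]
  [TotallyDisconnectedSpace T] (F : Fam A T)

theorem isLocalization_closedPt (t : T) :
    letI := (ev F t).toRingHom.toAlgebra
    IsLocalization (closedPt F t).asIdeal.primeCompl (Loc F t) := by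
  letI := (ev F t).toRingHom.toAlgebra
  rw [isLocalization_iff]
  refine ⟨?_, ?_, ?_⟩
  · rintro ⟨w, hw⟩
    exact not_not.1 (fun h => hw ((mem_closedPt F).2 h))
  · intro z
    obtain ⟨w, hw⟩ := ev_surjective F t z
    refine ⟨(w, 1), ?_⟩
    rw [OneMemClass.coe_one, map_one, mul_one]
    exact hw.symm
  · intro v w h
    have h0 : ev F t (v - w) = 0 := by rw [map_sub, sub_eq_zero]; exact h
    obtain ⟨C, hC, htC, hCU⟩ := compact_exists_isClopen_in_isOpen (isOpen_ev_eq_zero F (v - w)) h0
    refine ⟨⟨chi F hC, fun hmem => (mem_closedPt F).1 hmem ?_⟩, ext_ev F fun x => ?_⟩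
    · rw [ev_chi_pos F hC htC]; exact isUnit_one
    · rw [map_mul, map_mul]
      by_cases hx : x ∈ C
      · have : ev F x (v - w) = 0 := hCU hx
        rw [map_sub, sub_eq_zero] at this
        rw [this]
      · rw [ev_chi_neg F hC hx, zero_mul, zero_mul]

/-- The local ring at a closed point. -/
noncomputable def closedPtEquiv (t : T) :
    Loc F t ≃+* Localization.AtPrime (closedPt F t).asIdeal :=
  letI := (ev F t).toRingHom.toAlgebra
  haveI := isLocalization_closedPt F t
  (IsLocalization.algEquiv (closedPt F t).asIdeal.primeCompl (Loc F t)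
    (Localization.AtPrime (closedPt F t).asIdeal)).toRingEquiv

theorem strictlyHenselian_of_equiv {R S : Type u} [CommRing R] [CommRing S] (e : R ≃+* S)
    (h : EtCoh.IsStrictlyHenselianLocalRing R) : EtCoh.IsStrictlyHenselianLocalRing S := by
  obtain ⟨hR, hsep⟩ := h
  haveI : IsLocalRing S := e.isLocalRing
  have hmax : ∀ x : R, e x ∈ IsLocalRing.maximalIdeal S ↔ x ∈ IsLocalRing.maximalIdeal R := fun x => by
    simp only [IsLocalRing.mem_maximalIdeal, mem_nonunits_iff]
    exact not_congr (isUnit_map_iff e x)
  refine ⟨{ is_henselian := fun f hf a₀ h1 h2 => ?_ }, ?_⟩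
  · have he : ∀ (P : Polynomial S) (x : R),
        e ((P.map e.symm.toRingHom).eval x) = P.eval (e x) := fun P x => by
      rw [← RingEquiv.coe_toRingHom, ← Polynomial.eval_map_apply, Polynomial.map_map]
      simp
    obtain ⟨a, ha, haa⟩ := hR.is_henselian (f.map e.symm.toRingHom) (hf.map _) (e.symm a₀)
      (by rw [← hmax, he, e.apply_symm_apply]; exact h1)
      (by rw [← isUnit_map_iff e, Polynomial.derivative_map, he, e.apply_symm_apply]; exact h2)
    refine ⟨e a, ?_, ?_⟩
    · show f.eval (e a) = 0
      rw [← he, ha.eq_zero, map_zero]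
    · rw [← e.apply_symm_apply a₀, ← map_sub, hmax]
      exact haa
  · haveI := hsep
    refine IsSepClosed.of_exists_root _ fun p hm hirr hsep' => ?_
    let ε := IsLocalRing.ResidueField.mapEquiv e
    have hd : (p.map ε.symm.toRingHom).degree ≠ 0 := by
      rw [Polynomial.degree_map]; exact hirr.degree_pos.ne'
    obtain ⟨x, hx⟩ := IsSepClosed.exists_root (p.map ε.symm.toRingHom) hd hsep'.map
    refine ⟨ε x, ?_⟩
    have := congrArg ε hx
    rw [map_zero, ← RingEquiv.coe_toRingHom, ← Polynomial.eval_map_apply, Polynomial.map_map] at this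
    simpa using this

end Groth.Agent.HenselLib.WLoc
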