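import Mathlib
import Groth.Agent.HenselLib.IndZariskiQuot
import Groth.Agent.CAlgH.UnderColimit
import Groth.Agent.S0703
import Groth.Agent.S7566
import Groth.Agent.S7584

/-!
# The ind-Zariski cover attached to a profinite set over `π₀`

The spectrum of the ring of locally constant functions `T → A` is `Spec A × T`; quotients of this ring by
ideals generated by idempotents are ind-Zariski over `A`.
-/

set_option autoImplicit false

open CategoryTheory Limits

universe u

namespace Groth.Agent.HenselLib.ProfCov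

variable (A : Type u) [CommRing A] (T : Type u) [TopologicalSpace T]

/-- locally constant functions -/
abbrev LC : Type u := LocallyConstant T A

variable {A T}

noncomputable def evalT (t : T) : LC A T →ₐ[A] A := LocallyConstant.evalₐ A t

@[simp] theorem evalT_apply (t : T) (f : LC A T) : evalT t f = f t := rfl

theorem algebraMap_apply (a : A) (t : T) : algebraMap A (LC A T) a t = a :=
  (evalT t).commutes a

section

variable [CompactSpace T] [T2Space T] [TotallyDisconnectedSpace T]

/-- The closed sets containing the point of a prime. -/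
theorem exists_point (P : PrimeSpectrum (LC A T)) :
    ∃ t : T, ∀ f : LC A T, f ∈ P.asIdeal ↔ algebraMap A (LC A T) (f t) ∈ P.asIdeal := by
  classical
  let 𝒰 : Set (Set T) := {U | ∃ h : IsClopen U, LocallyConstant.charFn A h ∉ P.asIdeal}
  have hinter : ∀ U ∈ 𝒰, ∀ V ∈ 𝒰, U ∩ V ∈ 𝒰 := by
    rintro U ⟨hU, hU'⟩ V ⟨hV, hV'⟩
    refine ⟨hU.inter hV, ?_⟩
    have : LocallyConstant.charFn A (hU.inter hV) =
        LocallyConstant.charFn A hU * LocallyConstant.charFn A hV := by
      ext t; simp [LocallyConstant.coe_charFn, Set.indicator_apply]; split_ifs <;> simp_all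
    rw [this]
    exact fun h => (P.isPrime.mem_or_mem h).elim hU' hV'
  have huniv : (Set.univ : Set T) ∈ 𝒰 := by
    refine ⟨isClopen_univ, ?_⟩
    have : LocallyConstant.charFn A (isClopen_univ (X := T)) = 1 := by
      ext t; simp [LocallyConstant.coe_charFn]
    rw [this]; exact P.isPrime.one_notMem
  have hne : ∀ U ∈ 𝒰, U.Nonempty := by
    rintro U ⟨hU, hU'⟩
    by_contra h
    rw [Set.not_nonempty_iff_eq_empty] at h
    subst h
    apply hU'
    have : LocallyConstant.charFn A hU = 0 := by ext t; simp [LocallyConstant.coe_charFn]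
    rw [this]; exact zero_mem _
  haveI : Nonempty 𝒰 := ⟨⟨_, huniv⟩⟩
  obtain ⟨t, ht⟩ := IsCompact.nonempty_iInter_of_directed_nonempty_isCompact_isClosed
    (fun U : 𝒰 => (U : Set T))
    (fun U V => ⟨⟨U.1 ∩ V.1, hinter U.1 U.2 V.1 V.2⟩, Set.inter_subset_left, Set.inter_subset_right⟩)
    (fun U => hne U.1 U.2) (fun U => U.2.choose.isClosed.isCompact) (fun U => U.2.choose.isClosed)
  refine ⟨t, fun f => ?_⟩
  have hU : IsClopen (f ⁻¹' {f t}) :=
    ⟨f.isLocallyConstant.isClosed_fiber _, f.isLocallyConstant.isOpen_fiber _⟩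
  have hχ : LocallyConstant.charFn A hU ∉ P.asIdeal := by
    intro h
    have hc : LocallyConstant.charFn A hU + LocallyConstant.charFn A hU.compl = 1 := by
      ext s; simp [LocallyConstant.coe_charFn, Set.indicator_apply]; split_ifs <;> simp_all
    have : (f ⁻¹' {f t})ᶜ ∈ 𝒰 := ⟨hU.compl, fun h' => P.isPrime.one_notMem (hc ▸ add_mem h h')⟩
    exact Set.mem_iInter.1 ht ⟨_, this⟩ rfl
  have h0 : (f - algebraMap A (LC A T) (f t)) * LocallyConstant.charFn A hU = 0 := by
    ext s
    simp [LocallyConstant.coe_charFn, Set.indicator_apply, algebraMap_apply]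
    intro h
    rw [LocallyConstant.sub_apply, algebraMap_apply, h, sub_self]
  have hsub : f - algebraMap A (LC A T) (f t) ∈ P.asIdeal :=
    ((P.isPrime.mem_or_mem (h0 ▸ zero_mem _)).resolve_right hχ)
  exact ⟨fun hf => by simpa using sub_mem hf hsub, fun hf => by simpa using add_mem hsub hf⟩

noncomputable def pt (P : PrimeSpectrum (LC A T)) : T := (exists_point P).choose

theorem pt_spec (P : PrimeSpectrum (LC A T)) (f : LC A T) :
    f ∈ P.asIdeal ↔ f (pt P) ∈ (PrimeSpectrum.comap (algebraMap A (LC A T)) P).asIdeal :=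
  (exists_point P).choose_spec f

/-- The map `Spec LC(T, A) → Spec A × T`. -/
noncomputable def toProd (P : PrimeSpectrum (LC A T)) : PrimeSpectrum A × T :=
  (PrimeSpectrum.comap (algebraMap A (LC A T)) P, pt P)

theorem pt_eq_iff {P : PrimeSpectrum (LC A T)} {U : Set T} (hU : IsClopen U) :
    pt P ∈ U ↔ LocallyConstant.charFn A hU ∉ P.asIdeal := by
  rw [pt_spec P]
  by_cases h : pt P ∈ U
  · simp [h, LocallyConstant.coe_charFn, P.isPrime.one_notMem,
      (PrimeSpectrum.comap (algebraMap A (LC A T)) P).isPrime.one_notMem]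
  · simp [h, LocallyConstant.coe_charFn]

theorem toProd_bijective : Function.Bijective (toProd : PrimeSpectrum (LC A T) → _) := by
  refine ⟨fun P Q h => ?_, fun ⟨p, t⟩ => ?_⟩
  · simp only [toProd, Prod.mk.injEq] at h
    ext f
    rw [pt_spec P, pt_spec Q, h.1, h.2]
  · let P : PrimeSpectrum (LC A T) := PrimeSpectrum.comap (evalT t).toRingHom p
    have h1 : PrimeSpectrum.comap (algebraMap A (LC A T)) P = p := by
      ext a
      show evalT t (algebraMap A (LC A T) a) ∈ p.asIdeal ↔ _
      rw [(evalT t).commutes]; rfl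
    refine ⟨P, Prod.ext h1 ?_⟩
    by_contra hne
    obtain ⟨U, hU, hxU, htU⟩ := exists_isClopen_of_totally_separated (Ne.symm hne)
    have h2 : LocallyConstant.charFn A hU ∉ P.asIdeal := by
      show ¬ (evalT t (LocallyConstant.charFn A hU) ∈ p.asIdeal)
      simp [LocallyConstant.coe_charFn, hxU, p.isPrime.one_notMem]
    exact htU ((pt_eq_iff hU).2 h2)

theorem toProd_isEmbedding : Topology.IsEmbedding (toProd : PrimeSpectrum (LC A T) → _) := by
  have hc : Continuous (toProd : PrimeSpectrum (LC A T) → _) := by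
    refine (PrimeSpectrum.continuous_comap _).prodMk ?_
    rw [loc_compact_Haus_tot_disc_of_zero_dim.continuous_iff]
    intro U hU
    have : pt ⁻¹' U = (PrimeSpectrum.basicOpen (LocallyConstant.charFn A hU) : Set (PrimeSpectrum (LC A T))) := by
      ext P
      exact pt_eq_iff hU
    rw [this]
    exact (PrimeSpectrum.basicOpen _).isOpen
  refine ⟨⟨le_antisymm (continuous_iff_le_induced.1 hc) ?_⟩, toProd_bijective.1⟩
  conv_rhs => rw [PrimeSpectrum.isTopologicalBasis_basic_opens.eq_generateFrom]
  refine le_generateFrom ?_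
  rintro _ ⟨f, rfl⟩
  refine ⟨⋃ s : T, (PrimeSpectrum.basicOpen (f s) : Set (PrimeSpectrum A)) ×ˢ (f ⁻¹' {f s}),
    isOpen_iUnion fun s => (PrimeSpectrum.basicOpen _).isOpen.prod (f.isLocallyConstant.isOpen_fiber _), ?_⟩
  ext P
  simp only [Set.preimage_iUnion, Set.mem_iUnion, Set.mem_preimage, Set.mem_prod, toProd,
    SetLike.mem_coe, PrimeSpectrum.mem_basicOpen, Set.mem_singleton_iff]
  refine ⟨?_, fun h => ⟨pt P, fun h' => h ((pt_spec P f).2 h'), rfl⟩⟩
  rintro ⟨s, hs, hPs⟩ h
  exact hs (hPs ▸ (pt_spec P f).1 h)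

/-! ### Quotients by idempotents are ind-Zariski over `A` -/

variable (s : Set (LC A T))

/-- precomposition with a discrete quotient -/
noncomputable def pull (S : DiscreteQuotient T) : (S → A) →ₐ[A] LC A T where
  toFun h := ⟨h ∘ S.proj, S.proj_isLocallyConstant.comp h⟩
  map_one' := rfl
  map_mul' _ _ := rfl
  map_zero' := rfl
  map_add' _ _ := rfl
  commutes' a := by ext t; exact (algebraMap_apply a t).symm

theorem exists_pull (f : LC A T) (S₀ : DiscreteQuotient T) :
    ∃ (S : DiscreteQuotient T) (_ : S ≤ S₀) (h : S → A), pull S h = f :=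
  ⟨f.discreteQuotient ⊓ S₀, inf_le_right, f.lift ∘ DiscreteQuotient.ofLE inf_le_left, by
    ext t
    show f.lift (DiscreteQuotient.ofLE inf_le_left ((f.discreteQuotient ⊓ S₀).proj t)) = f t
    rw [DiscreteQuotient.ofLE_proj]
    rfl⟩

theorem pull_injective (S : DiscreteQuotient T) : Function.Injective (pull (A := A) S) := fun h h' e => by
  funext c
  obtain ⟨t, rfl⟩ := S.proj_surjective c
  exact congrArg (fun f : LC A T => f t) e

/-- refinement maps -/
noncomputable def refineMap {S S' : DiscreteQuotient T} (h : S' ≤ S) : (S → A) →ₐ[A] (S' → A) :=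
  Pi.algHom A (fun _ => A) fun c => Pi.evalAlgHom A (fun _ => A) (DiscreteQuotient.ofLE h c)

theorem pull_refineMap {S S' : DiscreteQuotient T} (h : S' ≤ S) (x : S → A) :
    pull S' (refineMap h x) = pull S x := by
  ext t
  show x (DiscreteQuotient.ofLE h (S'.proj t)) = x (S.proj t)
  rw [DiscreteQuotient.ofLE_proj]

/-- index type -/
structure Idx : Type u where
  S : DiscreteQuotient T
  e : S → A
  idem : IsIdempotentElem e
  mem : pull S e ∈ Ideal.span s

variable {s}

instance : Preorder (Idx s) where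
  le i j := ∃ h : j.S ≤ i.S, refineMap h i.e * j.e = refineMap h i.e
  le_refl i := ⟨le_rfl, by
    have : refineMap (le_refl i.S) i.e = i.e := by
      apply pull_injective; exact pull_refineMap _ _
    rw [this]; exact i.idem.eq⟩
  le_trans i j k := by
    rintro ⟨h, e1⟩ ⟨h', e2⟩
    refine ⟨h'.trans h, pull_injective _ ?_⟩
    have f1 := congrArg (pull j.S) e1
    have f2 := congrArg (pull k.S) e2
    simp only [map_mul, pull_refineMap] at f1 f2 ⊢
    rw [← f1, mul_assoc, f2]

theorem exists_ge {S : DiscreteQuotient T} (ε : LC A T) (hε : IsIdempotentElem ε)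
    (hεs : ε ∈ Ideal.span s) : ∃ i : Idx s, i.S ≤ S ∧ pull i.S i.e = ε := by
  obtain ⟨S', hS', h, rfl⟩ := exists_pull ε S
  exact ⟨⟨S', h, pull_injective _ (by rw [map_mul]; exact hε.eq), hεs⟩, hS', rfl⟩

theorem le_iff' {i j : Idx s} (h : j.S ≤ i.S) (he : pull i.S i.e * pull j.S j.e = pull i.S i.e) : i ≤ j :=
  ⟨h, pull_injective _ (by simp only [map_mul, pull_refineMap]; exact he)⟩

instance : Nonempty (Idx s) := ⟨⟨⊤, 0, IsIdempotentElem.zero, by rw [map_zero]; exact zero_mem _⟩⟩

instance : IsDirected (Idx s) (· ≤ ·) := ⟨fun i j => by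
  obtain ⟨k, hk, hke⟩ := exists_ge (s := s) (S := i.S ⊓ j.S) _
    (IndEt.idem_join (i.idem.map (pull i.S)) (j.idem.map (pull j.S)))
    (sub_mem (add_mem i.mem j.mem) (Ideal.mul_mem_right _ _ i.mem))
  refine ⟨k, le_iff' (hk.trans inf_le_left) ?_, le_iff' (hk.trans inf_le_right) ?_⟩
  · rw [hke]; linear_combination (1 - pull j.S j.e) * (i.idem.map (pull i.S)).eq
  · rw [hke]; linear_combination (1 - pull i.S i.e) * (j.idem.map (pull j.S)).eq⟩

theorem span_le (i : Idx s) : Ideal.span {i.e} ≤ (Ideal.span s).comap (pull i.S) := by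
  rw [Ideal.span_le, Set.singleton_subset_iff]; exact i.mem

/-- stages -/
abbrev Stage (i : Idx s) : Type u := (i.S → A) ⧸ Ideal.span {i.e}

noncomputable def stageHom (i : Idx s) : Stage i →ₐ[A] LC A T ⧸ Ideal.span s :=
  Ideal.quotientMapₐ _ (pull i.S) (span_le i)

theorem trans_le {i j : Idx s} (h : i ≤ j) :
    Ideal.span {i.e} ≤ (Ideal.span {j.e}).comap (refineMap h.choose) := by
  rw [Ideal.span_le, Set.singleton_subset_iff, SetLike.mem_coe, Ideal.mem_comap, IndEt.mem_span_idem j.idem]
  exact h.choose_spec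

noncomputable def stageTrans (i j : Idx s) (h : i ≤ j) : Stage i →ₐ[A] Stage j :=
  Ideal.quotientMapₐ _ (refineMap h.choose) (trans_le h)

theorem stageTrans_mk {i j : Idx s} (h : i ≤ j) (x : i.S → A) :
    stageTrans i j h (Ideal.Quotient.mk _ x) = Ideal.Quotient.mk _ (refineMap h.choose x) := rfl

theorem stageHom_mk (i : Idx s) (x : i.S → A) :
    stageHom i (Ideal.Quotient.mk _ x) = Ideal.Quotient.mk _ (pull i.S x) := rfl

theorem isLocalIso_stage (i : Idx s) : Algebra.IsLocalIso A (Stage i) := by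
  haveI : Algebra.IsLocalIso A (i.S → A) := Algebra.IsLocalIso.pi_of_finite A fun _ => A
  haveI : Algebra.IsLocalIso (i.S → A) (Stage i) := IndEt.isLocalIso_quotient_idem i.idem
  exact Algebra.IsLocalIso.trans A (i.S → A) (Stage i)

theorem isIndZariski_quotient (hs : ∀ e ∈ s, IsIdempotentElem e) :
    EtPBC.IsIndZariski A (LC A T ⧸ Ideal.span s) := by
  classical
  obtain ⟨D, c, hc, hobj, -, ⟨e⟩⟩ := CAlgH.under_colimit (R := A) (fun i : Idx s => Stage i) stageTrans
    (fun i => AlgHom.ext fun x => by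
      obtain ⟨x, rfl⟩ := Ideal.Quotient.mk_surjective x
      rw [stageTrans_mk]
      exact congrArg _ (pull_injective _ (pull_refineMap _ _)))
    (fun i j k h1 h2 => AlgHom.ext fun x => by
      obtain ⟨x, rfl⟩ := Ideal.Quotient.mk_surjective x
      rw [AlgHom.comp_apply, stageTrans_mk, stageTrans_mk, stageTrans_mk]
      exact congrArg _ (pull_injective _ (by rw [pull_refineMap, pull_refineMap, pull_refineMap])))
    (fun i => stageHom i)
    (fun i j h => AlgHom.ext fun x => by
      obtain ⟨x, rfl⟩ := Ideal.Quotient.mk_surjective x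
      rw [AlgHom.comp_apply, stageTrans_mk, stageHom_mk, stageHom_mk, pull_refineMap])
    (fun b => by
      obtain ⟨f, rfl⟩ := Ideal.Quotient.mk_surjective b
      obtain ⟨S, -, h, rfl⟩ := exists_pull f ⊤
      exact ⟨⟨S, 0, IsIdempotentElem.zero, by rw [map_zero]; exact zero_mem _⟩, Ideal.Quotient.mk _ h, rfl⟩)
    (fun i x hx => by
      obtain ⟨x, rfl⟩ := Ideal.Quotient.mk_surjective x
      rw [stageHom_mk, Ideal.Quotient.eq_zero_iff_mem] at hx
      obtain ⟨ε, hε, hεs, hxε⟩ := IndEt.exists_idem_absorb hs hx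
      have hi := i.idem.map (pull i.S)
      obtain ⟨j, hj, hje⟩ := exists_ge (s := s) (S := i.S) _ (IndEt.idem_join hi hε)
        (sub_mem (add_mem i.mem hεs) (Ideal.mul_mem_right _ _ i.mem))
      have hle : i ≤ j := le_iff' hj (by rw [hje]; linear_combination (1 - ε) * hi.eq)
      refine ⟨j, hle, ?_⟩
      rw [stageTrans_mk, Ideal.Quotient.eq_zero_iff_mem, IndEt.mem_span_idem j.idem]
      apply pull_injective
      rw [map_mul, pull_refineMap, hje]
      linear_combination (1 - pull i.S i.e) * hxε)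
  refine ⟨Idx s, inferInstance, inferInstance, D, c, hc, fun i => ?_, ⟨e⟩⟩
  rw [hobj i]
  haveI := isLocalIso_stage i
  letI : Algebra A ((CommRingCat.of A).mkUnder (Stage i)).right :=
    ((CommRingCat.of A).mkUnder (Stage i)).hom.hom.toAlgebra
  exact Algebra.IsLocalIso.of_algEquiv
    ({ RingEquiv.refl _ with commutes' := fun r => rfl } :
      Stage i ≃ₐ[A] ((CommRingCat.of A).mkUnder (Stage i)).right)

end

end Groth.Agent.HenselLib.ProfCov
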