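import Groth.Agent.S0504
import Groth.Agent.HenselLib.LocalInt
import Mathlib.RingTheory.QuasiFinite.Basic

/-!
# Quasi-finite local rings over henselian local rings
-/

set_option autoImplicit false
set_option linter.all false

universe u

open IsLocalRing

namespace Groth.Agent.HenselLib.QFLocal

variable (A : Type u) [CommRing A] [HenselianLocalRing A] {T : Type u} [CommRing T] [Algebra A T]
  [Algebra.FiniteType A T] (Q : Ideal T) [Q.IsPrime]

theorem surjective_and_finite [Algebra.QuasiFiniteAt A Q]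
    (hQ : Q.comap (algebraMap A T) = maximalIdeal A) :
    Function.Surjective (algebraMap T (Localization.AtPrime Q)) ∧
      Module.Finite A (Localization.AtPrime Q) := by
  obtain ⟨e, he, hfin, hnot⟩ := Groth.Agent.S0504.result A T
  have heQ : e ∉ Q := by
    intro h
    let π := Ideal.Quotient.mk (Ideal.span ({e} : Set T))
    have hle : Ideal.span ({e} : Set T) ≤ Q := (Ideal.span_singleton_le_iff_mem _).mpr h
    have hker : RingHom.ker π ≤ Q := by rw [Ideal.mk_ker]; exact hle
    have : (Q.map π).IsPrime := Ideal.map_isPrime_of_surjective Ideal.Quotient.mk_surjective hker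
    have hcomap : (Q.map π).comap π = Q := by
      rw [Ideal.comap_map_of_surjective π Ideal.Quotient.mk_surjective,
        ← RingHom.ker_eq_comap_bot, sup_eq_left.mpr hker]
    have : (Q.map π).LiesOver Q := ⟨hcomap.symm⟩
    refine hnot (Q.map π) ⟨?_⟩ (Algebra.QuasiFiniteAt.of_surjectiveOnStalks_of_liesOver Q
      (RingHom.surjectiveOnStalks_of_surjective Ideal.Quotient.mk_surjective) (Q.map π))
    show maximalIdeal A = (Q.map π).comap (π.comp (algebraMap A T))
    rw [← Ideal.comap_comap, hcomap, hQ]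
  have h1e : (1 : T) - e ∈ Q := ((inferInstance : Q.IsPrime).mem_or_mem
    (show e * (1 - e) ∈ Q by rw [mul_sub, mul_one, he.eq, sub_self]; exact zero_mem _)
    ).resolve_left heQ
  let π₁ := Ideal.Quotient.mk (Ideal.span ({1 - e} : Set T))
  have hker₁ : RingHom.ker π₁ ≤ Q := by
    rw [Ideal.mk_ker]; exact (Ideal.span_singleton_le_iff_mem _).mpr h1e
  let Q₁ := Q.map π₁
  have hcomap₁ : Q₁.comap π₁ = Q := by
    rw [Ideal.comap_map_of_surjective π₁ Ideal.Quotient.mk_surjective,
      ← RingHom.ker_eq_comap_bot, sup_eq_left.mpr hker₁]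
  have : Q₁.IsPrime := Ideal.map_isPrime_of_surjective Ideal.Quotient.mk_surjective hker₁
  have : Q₁.IsMaximal := Ideal.isMaximal_of_isIntegral_of_isMaximal_comap (R := A) Q₁ (by
    show ((Q₁.comap (π₁.comp (algebraMap A T)))).IsMaximal
    rw [← Ideal.comap_comap, hcomap₁, hQ]
    exact maximalIdeal.isMaximal A)
  have hmem : ∀ u : T, u ∉ Q → π₁ u ∈ Q₁.primeCompl := fun u hu h => hu (hcomap₁.le h)
  have hsurj : Function.Surjective (algebraMap T (Localization.AtPrime Q)) := by
    intro x
    obtain ⟨t, ⟨s, hs⟩, rfl⟩ := IsLocalization.exists_mk'_eq Q.primeCompl x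
    obtain ⟨y, hy⟩ := LocalInt.surjective_algebraMap_localization A Q₁
      (IsLocalization.mk' (Localization.AtPrime Q₁) (π₁ t) ⟨π₁ s, hmem s hs⟩)
    obtain ⟨y, rfl⟩ := Ideal.Quotient.mk_surjective y
    refine ⟨y, ?_⟩
    rw [IsLocalization.eq_mk'_iff_mul_eq, ← map_mul, IsLocalization.eq_iff_exists Q₁.primeCompl] at hy
    obtain ⟨⟨c, hc⟩, hc'⟩ := hy
    obtain ⟨c, rfl⟩ := Ideal.Quotient.mk_surjective c
    rw [IsLocalization.eq_mk'_iff_mul_eq, ← map_mul, IsLocalization.eq_iff_exists Q.primeCompl]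
    change π₁ c * (π₁ y * π₁ s) = π₁ c * π₁ t at hc'
    rw [← map_mul, ← map_mul, ← map_mul, Ideal.Quotient.eq, Ideal.mem_span_singleton] at hc'
    obtain ⟨d, hd⟩ := hc'
    have hcQ : c ∉ Q := fun h => hc (Ideal.mem_map_of_mem _ h)
    refine ⟨⟨e * c, fun h => ((inferInstance : Q.IsPrime).mem_or_mem h).elim heQ hcQ⟩, ?_⟩
    show e * c * (y * s) = e * c * t
    linear_combination e * hd - d * he.eq
  refine ⟨hsurj, ?_⟩
  let l : T ⧸ Ideal.span ({1 - e} : Set T) →ₐ[A] Localization.AtPrime Q :=
    Ideal.Quotient.liftₐ _ (IsScalarTower.toAlgHom A T (Localization.AtPrime Q)) fun a ha => by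
      obtain ⟨d, rfl⟩ := Ideal.mem_span_singleton.mp ha
      show algebraMap T (Localization.AtPrime Q) ((1 - e) * d) = 0
      rw [IsLocalization.map_eq_zero_iff Q.primeCompl]
      exact ⟨⟨e, heQ⟩, by show e * ((1 - e) * d) = 0; linear_combination -d * he.eq⟩
  exact Module.Finite.of_surjective l.toLinearMap fun x => by
    obtain ⟨y, rfl⟩ := hsurj x; exact ⟨Ideal.Quotient.mk _ y, rfl⟩

theorem henselianLocalRing_localization [Algebra.QuasiFiniteAt A Q]
    (hQ : Q.comap (algebraMap A T) = maximalIdeal A) :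
    HenselianLocalRing (Localization.AtPrime Q) := by
  have := (surjective_and_finite A Q hQ).2
  exact henselianLocalRing_of_isIntegral A _

end Groth.Agent.HenselLib.QFLocal
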