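import Groth.Agent.HenselLib.FormalClopen
import Mathlib.AlgebraicGeometry.Morphisms.Proper
import Mathlib.Topology.NoetherianSpace
import Mathlib.Topology.Connected.LocallyConnected

/-!
# Proper schemes over Noetherian henselian pairs give henselian couples
-/

set_option autoImplicit false
set_option linter.all false

universe u

open CategoryTheory CategoryTheory.Limits AlgebraicGeometry

namespace Groth.Agent.HenselLib.ProperCouple

variable {A : Type u} [CommRing A] (I : Ideal A)

theorem range_SpecMap_mk :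
    Set.range (Spec.map (CommRingCat.ofHom (Ideal.Quotient.mk I))) = PrimeSpectrum.zeroLocus (I : Set A) := by
  show Set.range (PrimeSpectrum.comap (Ideal.Quotient.mk I)) = _
  rw [range_comap_of_surjective _ _ Ideal.Quotient.mk_surjective, Ideal.mk_ker]

theorem isClosedImmersion_mk : IsClosedImmersion (Spec.map (CommRingCat.ofHom (Ideal.Quotient.mk I))) :=
  IsClosedImmersion.spec_of_surjective _ Ideal.Quotient.mk_surjective

variable {X : Scheme.{u}}

theorem range_fst (f : X ⟶ Spec (CommRingCat.of A)) :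
    Set.range (pullback.fst f (Spec.map (CommRingCat.ofHom (Ideal.Quotient.mk I)))) =
      f ⁻¹' PrimeSpectrum.zeroLocus (I : Set A) := by
  rw [Scheme.Pullback.range_fst, range_SpecMap_mk]

variable [IsNoetherianRing A] [HenselianRing A I]

/-- The henselian couple. -/
theorem couple (f : X ⟶ Spec (CommRingCat.of A)) [IsProper f] {X₀ : Scheme.{u}} (i : X₀ ⟶ X)
    [IsClosedImmersion i] (hi : Set.range i = f ⁻¹' PrimeSpectrum.zeroLocus (I : Set A))
    (Y : Scheme.{u}) (g : Y ⟶ X) (hg : IsFinite g) (V : Set ↥(pullback g i)) (hV : IsClopen V) :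
    ∃! U : Set ↥Y, IsClopen U ∧ (pullback.fst g i).base ⁻¹' U = V := by
  refine (ClopenLift.lifts_iff_of_isEmbedding _ (pullback.fst g i).isClosedEmbedding.isEmbedding
    ((g ≫ f) ⁻¹' PrimeSpectrum.zeroLocus (I : Set A)) ?_).mpr
    (FormalClopen.lifts_preimage_zeroLocus I (g ≫ f)) V hV
  rw [Scheme.Pullback.range_fst, hi]
  rfl

omit [HenselianRing A I] in
/-- Connected components of schemes of finite type over Noetherian rings are open. -/
theorem isOpen_connectedComponent {Z : Scheme.{u}} [AlgebraicGeometry.IsNoetherian Z] (z : Z) :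
    IsOpen (connectedComponent z) := by
  classical
  let S := {T ∈ irreducibleComponents Z | ¬ T ⊆ connectedComponent z}
  have hS : S.Finite := TopologicalSpace.NoetherianSpace.finite_irreducibleComponents.subset fun T hT => hT.1
  have hc : IsClosed (⋃ T ∈ S, T) :=
    hS.isClosed_biUnion fun T hT => isClosed_of_mem_irreducibleComponents T hT.1
  convert hc.isOpen_compl using 1
  ext x
  constructor
  · intro hx hmem
    obtain ⟨T, ⟨hT, hT'⟩, hxT⟩ := Set.mem_iUnion₂.mp hmem
    exact hT' (connectedComponent_eq hx ▸ (IsIrreducible.isConnected hT.1).isPreconnected.subset_connectedComponent hxT)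
  · intro hx
    by_contra h
    exact hx (Set.mem_iUnion₂.mpr ⟨irreducibleComponent x,
      ⟨irreducibleComponent_mem_irreducibleComponents x, fun hle => h (hle mem_irreducibleComponent)⟩,
      mem_irreducibleComponent⟩)

theorem connectedComponentsMap_bijective (f : X ⟶ Spec (CommRingCat.of A)) [IsProper f] :
    Function.Bijective (Continuous.connectedComponentsMap
      (pullback.fst f (Spec.map (CommRingCat.ofHom (Ideal.Quotient.mk I)))).continuous) := by
  have := isClosedImmersion_mk I
  set i := pullback.fst f (Spec.map (CommRingCat.ofHom (Ideal.Quotient.mk I)))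
  have hlft : LocallyOfFiniteType f := inferInstance
  have : IsLocallyNoetherian X := LocallyOfFiniteType.isLocallyNoetherian f
  have : CompactSpace X := QuasiCompact.compactSpace_of_compactSpace f
  have : IsLocallyNoetherian (Limits.pullback f (Spec.map (CommRingCat.ofHom (Ideal.Quotient.mk I)))) :=
    LocallyOfFiniteType.isLocallyNoetherian i
  have : CompactSpace ↥(Limits.pullback f (Spec.map (CommRingCat.ofHom (Ideal.Quotient.mk I)))) :=
    QuasiCompact.compactSpace_of_compactSpace i
  have : AlgebraicGeometry.IsNoetherian (Limits.pullback f (Spec.map (CommRingCat.ofHom (Ideal.Quotient.mk I)))) := {}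
  have hlift : ∀ V : Set _, IsClopen V → ∃! U : Set ↥X, IsClopen U ∧ i ⁻¹' U = V :=
    (ClopenLift.lifts_iff_of_isEmbedding _ i.isClosedEmbedding.isEmbedding _ (range_fst I f)).mpr
      (FormalClopen.lifts_preimage_zeroLocus I f)
  refine ⟨fun a b hab => ?_, fun c => ?_⟩
  · obtain ⟨x, rfl⟩ := ConnectedComponents.surjective_coe a
    obtain ⟨y, rfl⟩ := ConnectedComponents.surjective_coe b
    rw [ConnectedComponents.coe_eq_coe']
    obtain ⟨U, ⟨hU, hUV⟩, -⟩ := hlift (connectedComponent y)
      ⟨isClosed_connectedComponent, isOpen_connectedComponent y⟩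
    have hiy : i y ∈ U := by
      have : y ∈ i ⁻¹' U := hUV ▸ mem_connectedComponent
      exact this
    have h1 : i x ∈ connectedComponent (i y) := ConnectedComponents.coe_eq_coe'.mp hab
    have h2 : x ∈ i ⁻¹' U := hU.connectedComponent_subset hiy h1
    rwa [hUV] at h2
  · obtain ⟨x, rfl⟩ := ConnectedComponents.surjective_coe c
    letI : X.Over (Spec (CommRingCat.of A)) := ⟨f⟩
    haveI : IsProper (X ↘ Spec (CommRingCat.of A)) := ‹IsProper f›
    obtain ⟨y, hy, hyz⟩ := FormalClopen.closed_meets (X := X) I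
      (isClosed_connectedComponent (x := x)) ⟨x, mem_connectedComponent⟩
    have : y ∈ Set.range i := by
      rw [range_fst]
      intro a ha
      have h1 := hyz a ha
      by_contra h2
      apply h1
      show y ∈ X.basicOpen (Coh.toGlobal f a)
      rw [show X.basicOpen (Coh.toGlobal f a) = f ⁻¹ᵁ ((Spec (CommRingCat.of A)).basicOpen
        ((Scheme.ΓSpecIso (CommRingCat.of A)).inv a)) from (Scheme.preimage_basicOpen_top _ _).symm,
        basicOpen_eq_of_affine]
      exact h2
    obtain ⟨y₀, rfl⟩ := this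
    refine ⟨ConnectedComponents.mk y₀, ?_⟩
    exact ConnectedComponents.coe_eq_coe'.mpr hy

end Groth.Agent.HenselLib.ProperCouple

namespace Groth.Agent.HenselLib.ProperCouple

theorem finite_baseHom {A : Type u} [CommRing A] [IsNoetherianRing A] {X : Scheme.{u}}
    (f : X ⟶ Spec (CommRingCat.of A)) [IsProper f] :
    RingHom.Finite (show A →+* Γ(X, ⊤) from Coh.toGlobal f) := by
  letI : X.Over (Spec (CommRingCat.of A)) := ⟨f⟩
  haveI : IsProper (X ↘ Spec (CommRingCat.of A)) := ‹IsProper f›
  have : IsLocallyNoetherian X := LocallyOfFiniteType.isLocallyNoetherian f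
  letI : Algebra A Γ(X, ⊤) := RingHom.toAlgebra (Coh.toGlobal f)
  haveI := Coherent.finite_HH (A := A) (Coherent.isCoh_structureModule X) 0
  haveI : Module.Finite A (Coherent.GA (Coherent.baseHom A X) (Coh.structureModule X)) :=
    Module.Finite.equiv (FormalClopen.phi (A := A) (Coh.structureModule X)).symm
  exact (RingHom.finite_algebraMap (A := A) (B := Γ(X, ⊤))).mpr
    (Module.Finite.of_surjective
      ({ toFun := fun s => s, map_add' := fun _ _ => rfl, map_smul' := fun _ _ => rfl } :
        Coherent.GA (Coherent.baseHom A X) (Coh.structureModule X) →ₗ[A] Γ(X, ⊤)) fun s => ⟨s, rfl⟩)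

theorem toSpecΓ_toGlobal {A : Type u} [CommRing A] {X : Scheme.{u}}
    (f : X ⟶ Spec (CommRingCat.of A)) :
    X.toSpecΓ ≫ Spec.map (CommRingCat.ofHom (show A →+* Γ(X, ⊤) from Coh.toGlobal f)) = f := by
  have : CommRingCat.ofHom (show A →+* Γ(X, ⊤) from Coh.toGlobal f) =
      (Scheme.ΓSpecIso (CommRingCat.of A)).inv ≫ f.appTop := rfl
  rw [this, Spec.map_comp, ← Scheme.toSpecΓ_naturality_assoc, ← SpecMap_ΓSpecIso_hom,
    ← Spec.map_comp, Iso.inv_hom_id, Spec.map_id, Category.comp_id]

/-- Proper schemes over Noetherian rings with henselian ring of global functions give couples. -/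
theorem couple_of_globalSections {A : Type u} [CommRing A] [IsNoetherianRing A] (I : Ideal A)
    {X : Scheme.{u}} (f : X ⟶ Spec (CommRingCat.of A)) [IsProper f]
    (h : HenselianRing (Γ(X, ⊤) : Type u)
      (RingHom.ker (pullback.fst f (Spec.map (CommRingCat.ofHom (Ideal.Quotient.mk I)))).appTop.hom))
    (Y : Scheme.{u}) (g : Y ⟶ X) (hg : IsFinite g)
    (V : Set ↥(pullback g (pullback.fst f (Spec.map (CommRingCat.ofHom (Ideal.Quotient.mk I))))))
    (hV : IsClopen V) :
    ∃! U : Set ↥Y, IsClopen U ∧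
      (pullback.fst g (pullback.fst f (Spec.map (CommRingCat.ofHom (Ideal.Quotient.mk I))))).base ⁻¹' U = V := by
  have := isClosedImmersion_mk I
  have hfin := finite_baseHom f
  let ρ : CommRingCat.of A ⟶ Γ(X, ⊤) := CommRingCat.ofHom (show A →+* Γ(X, ⊤) from Coh.toGlobal f)
  have : IsProper (X.toSpecΓ ≫ Spec.map ρ) := by rw [toSpecΓ_toGlobal]; infer_instance
  have : IsSeparated (Spec.map ρ) := inferInstance
  have : IsProper X.toSpecΓ := IsProper.of_comp X.toSpecΓ (Spec.map ρ)
  haveI : IsNoetherianRing Γ(X, ⊤) := by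
    letI : Algebra A Γ(X, ⊤) := RingHom.toAlgebra (Coh.toGlobal f)
    haveI : Module.Finite A Γ(X, ⊤) := (RingHom.finite_algebraMap (A := A) (B := Γ(X, ⊤))).mp hfin
    exact IsNoetherianRing.of_finite A _
  haveI : IsProper (Y := Spec (CommRingCat.of (Γ(X, ⊤) : Type u))) X.toSpecΓ := ‹IsProper X.toSpecΓ›
  haveI : IsNoetherianRing ((Γ(X, ⊤) : CommRingCat) : Type u) := inferInstance
  refine couple (A := (Γ(X, ⊤) : Type u))
    (RingHom.ker (pullback.fst f (Spec.map (CommRingCat.ofHom (Ideal.Quotient.mk I)))).appTop.hom)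
    X.toSpecΓ _ ?_ Y g hg V hV
  set i := pullback.fst f (Spec.map (CommRingCat.ofHom (Ideal.Quotient.mk I))) with hidef
  have hr := range_fst I f
  rw [← hidef] at hr
  ext x
  constructor
  · rintro ⟨x₀, rfl⟩ s hs
    by_contra hns
    have h1 : i x₀ ∈ X.toSpecΓ ⁻¹ᵁ (PrimeSpectrum.basicOpen s) := hns
    rw [Scheme.toSpecΓ_preimage_basicOpen] at h1
    have h2 : x₀ ∈ i ⁻¹ᵁ X.basicOpen s := h1
    rw [Scheme.preimage_basicOpen_top, show i.appTop s = 0 from hs, Scheme.basicOpen_zero] at h2
    exact h2
  · intro hx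
    rw [hr]
    intro a ha
    have hcomp : (pullback.snd f (Spec.map (CommRingCat.ofHom (Ideal.Quotient.mk I)))) ≫
        Spec.map (CommRingCat.ofHom (Ideal.Quotient.mk I)) = i ≫ f := pullback.condition.symm
    have hmem : Coh.toGlobal f a ∈ RingHom.ker i.appTop.hom := by
      show i.appTop (f.appTop ((Scheme.ΓSpecIso (CommRingCat.of A)).inv a)) = 0
      have hc := congrArg (fun k => Scheme.Hom.appTop k ((Scheme.ΓSpecIso (CommRingCat.of A)).inv a)) hcomp
      simp only [Scheme.Hom.comp_appTop, CommRingCat.comp_apply] at hc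
      rw [← hc]
      have hz : (Spec.map (CommRingCat.ofHom (Ideal.Quotient.mk I))).appTop
          ((Scheme.ΓSpecIso (CommRingCat.of A)).inv a) = 0 := by
        refine (congrArg (fun k : CommRingCat.of A ⟶ Γ(Spec (CommRingCat.of (A ⧸ I)), ⊤) => k a)
          (Scheme.ΓSpecIso_inv_naturality (CommRingCat.ofHom (Ideal.Quotient.mk I))).symm).trans ?_
        show (Scheme.ΓSpecIso (CommRingCat.of (A ⧸ I))).inv (Ideal.Quotient.mk I a) = 0
        rw [Ideal.Quotient.eq_zero_iff_mem.mpr ha]
        exact map_zero _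
      rw [hz, map_zero]
    have h1 : Coh.toGlobal f a ∈ (X.toSpecΓ x).asIdeal := hx hmem
    by_contra h2
    have h3 : x ∈ f ⁻¹ᵁ (Spec (CommRingCat.of A)).basicOpen ((Scheme.ΓSpecIso (CommRingCat.of A)).inv a) := by
      rw [basicOpen_eq_of_affine]
      exact h2
    rw [Scheme.preimage_basicOpen_top] at h3
    have h4 : x ∈ X.toSpecΓ ⁻¹ᵁ (PrimeSpectrum.basicOpen (show Γ(X, ⊤) from Coh.toGlobal f a)) := by
      rw [Scheme.toSpecΓ_preimage_basicOpen]; exact h3
    exact h4 h1

end Groth.Agent.HenselLib.ProperCouple
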