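import Groth.Agent.S0504
import Mathlib.AlgebraicGeometry.ZariskisMainTheorem
import Mathlib.AlgebraicGeometry.Morphisms.QuasiFinite
import Mathlib.AlgebraicGeometry.PullbackCarrier

/-!
# Finite parts of quasi-finite separated schemes over henselian local rings
-/

set_option autoImplicit false
set_option linter.all false
set_option backward.isDefEq.respectTransparency.types false

universe u

open CategoryTheory CategoryTheory.Limits AlgebraicGeometry

namespace Groth.Agent.HenselLib.SchemeFinite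

theorem finite_away_of_idempotent (R S : Type u) [CommRing R] [CommRing S] [Algebra R S] (e : S)
    (he : IsIdempotentElem e) [Module.Finite R (S ⧸ Ideal.span ({1 - e} : Set S))] :
    Module.Finite R (Localization.Away e) := by
  let π := Algebra.ofId S (Localization.Away e)
  have h1 : algebraMap S (Localization.Away e) e = 1 := by
    have hu := IsLocalization.Away.algebraMap_isUnit (S := Localization.Away e) e
    exact hu.mul_left_cancel (by rw [← map_mul, he.eq, mul_one])
  have hsurj : Function.Surjective (algebraMap S (Localization.Away e)) := fun z => by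
    obtain ⟨n, s, hs⟩ := IsLocalization.Away.surj e z
    exact ⟨s, by rw [← hs, h1, one_pow, mul_one]⟩
  have hle : ∀ a ∈ Ideal.span ({1 - e} : Set S), IsScalarTower.toAlgHom R S (Localization.Away e) a = 0 := by
    intro a ha
    obtain ⟨c, rfl⟩ := Ideal.mem_span_singleton'.mp ha
    show algebraMap S (Localization.Away e) (c * (1 - e)) = 0
    rw [map_mul, map_sub, map_one, h1, sub_self, mul_zero]
  let g := Ideal.Quotient.liftₐ (Ideal.span ({1 - e} : Set S))
    (IsScalarTower.toAlgHom R S (Localization.Away e)) hle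
  exact Module.Finite.of_surjective g.toLinearMap fun z => by
    obtain ⟨s, rfl⟩ := hsurj z
    exact ⟨Ideal.Quotient.mk _ s, rfl⟩

section Affine

variable {R : Type u} [CommRing R] [HenselianLocalRing R]

/-- Around a quasi-finite point of the closed fibre there is an open subscheme finite over the base. -/
theorem exists_finite_open {X : Scheme.{u}} (f : X ⟶ Spec (CommRingCat.of R))
    [LocallyQuasiFinite f] [LocallyOfFiniteType f] (U : X.Opens) (hU : IsAffineOpen U) (x : X)
    (hxU : x ∈ U) (hx : f x = IsLocalRing.closedPoint R) :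
    ∃ V : X.Opens, V ≤ U ∧ x ∈ V ∧ IsFinite (V.ι ≫ f) := by
  obtain ⟨φ, hφ⟩ := Spec.map_surjective (hU.fromSpec ≫ f)
  have hft : φ.hom.FiniteType := (HasRingHomProperty.Spec_iff (P := @LocallyOfFiniteType)).mp
    (hφ ▸ inferInstance)
  have hqf : φ.hom.QuasiFinite := (HasRingHomProperty.Spec_iff (P := @LocallyQuasiFinite)).mp
    (hφ ▸ inferInstance)
  algebraize [φ.hom]
  obtain ⟨e, he, hfin, hnot⟩ := Groth.Agent.S0504.result R Γ(X, U)
  let q := (hU.primeIdealOf ⟨x, hxU⟩).asIdeal
  have hqx : (Spec.map φ) (hU.primeIdealOf ⟨x, hxU⟩) = IsLocalRing.closedPoint R := by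
    rw [hφ, Scheme.Hom.comp_apply, hU.fromSpec_primeIdealOf ⟨x, hxU⟩, hx]
  have hqm : q.LiesOver (IsLocalRing.maximalIdeal R) := ⟨(congrArg PrimeSpectrum.asIdeal hqx).symm⟩
  have heq : e ∉ q := fun hq => by
    have hker : RingHom.ker (Ideal.Quotient.mk (Ideal.span ({e} : Set Γ(X, U)))) ≤ q := by
      rw [Ideal.mk_ker]; exact (Ideal.span_singleton_le_iff_mem _).mpr hq
    let q' := q.map (Ideal.Quotient.mk (Ideal.span ({e} : Set Γ(X, U))))
    have hq' : q'.IsPrime := Ideal.map_isPrime_of_surjective Ideal.Quotient.mk_surjective hker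
    have hcomap : q = q'.comap (Ideal.Quotient.mkₐ R (Ideal.span ({e} : Set Γ(X, U)))).toRingHom :=
      ((Ideal.comap_map_of_surjective _ Ideal.Quotient.mk_surjective q).trans
        (sup_eq_left.mpr hker)).symm
    refine hnot q' ⟨?_⟩ ?_
    · rw [show IsLocalRing.maximalIdeal R = q.comap (algebraMap R Γ(X, U)) from hqm.over, hcomap]
      rfl
    · exact Algebra.QuasiFiniteAt.of_surjectiveOnStalks q
        (Ideal.Quotient.mkₐ R (Ideal.span ({e} : Set Γ(X, U))))
        (RingHom.surjectiveOnStalks_of_surjective Ideal.Quotient.mk_surjective) q' hcomap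
  haveI := finite_away_of_idempotent R Γ(X, U) e he
  let j : Spec (.of (Localization.Away e)) ⟶ X :=
    Spec.map (CommRingCat.ofHom (algebraMap Γ(X, U) (Localization.Away e))) ≫ hU.fromSpec
  refine ⟨j.opensRange, ?_, ?_, ?_⟩
  · refine (Scheme.Hom.opensRange_comp _ _).trans_le ?_
    exact (Scheme.Hom.image_le_opensRange _ _).trans hU.opensRange_fromSpec.le
  · have hmem : hU.primeIdealOf ⟨x, hxU⟩ ∈
        Set.range (PrimeSpectrum.comap (algebraMap Γ(X, U) (Localization.Away e))) := by
      rw [PrimeSpectrum.localization_away_comap_range (Localization.Away e) e]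
      exact heq
    obtain ⟨p, hp⟩ := hmem
    refine ⟨p, ?_⟩
    show hU.fromSpec (Spec.map (CommRingCat.ofHom (algebraMap Γ(X, U) (Localization.Away e))) p) = x
    rw [show Spec.map (CommRingCat.ofHom (algebraMap Γ(X, U) (Localization.Away e))) p =
      hU.primeIdealOf ⟨x, hxU⟩ from hp]
    exact hU.fromSpec_primeIdealOf ⟨x, hxU⟩
  · rw [← MorphismProperty.cancel_left_of_respectsIso @IsFinite (Scheme.Hom.isoOpensRange j).hom,
      ← Category.assoc, Scheme.Hom.isoOpensRange_hom_ι]
    rw [Category.assoc, ← hφ, ← Spec.map_comp, IsFinite.SpecMap_iff]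
    exact (RingHom.finite_algebraMap (A := R) (B := Localization.Away e)).mpr inferInstance

variable {X : Scheme.{u}} (f : X ⟶ Spec (CommRingCat.of R))

theorem isFinite_sup [LocallyQuasiFinite f] [LocallyOfFiniteType f] [IsSeparated f] (V W : X.Opens)
    [IsFinite (V.ι ≫ f)] [IsFinite (W.ι ≫ f)] : IsFinite ((V ⊔ W).ι ≫ f) := by
  let p := coprod.desc (X.homOfLE (le_sup_left : V ≤ V ⊔ W)) (X.homOfLE (le_sup_right : W ≤ V ⊔ W))
  haveI : Surjective p := ⟨fun z => by
    rcases z.2 with h | h
    · refine ⟨(coprod.inl : (V : Scheme) ⟶ _) ⟨z.1, h⟩, ?_⟩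
      rw [← Scheme.Hom.comp_apply, coprod.inl_desc]
      apply Subtype.ext; simp
    · refine ⟨(coprod.inr : (W : Scheme) ⟶ _) ⟨z.1, h⟩, ?_⟩
      rw [← Scheme.Hom.comp_apply, coprod.inr_desc]
      apply Subtype.ext; simp⟩
  haveI : UniversallyClosed (p ≫ (V ⊔ W).ι ≫ f) := by
    rw [show p ≫ (V ⊔ W).ι ≫ f = coprod.desc (V.ι ≫ f) (W.ι ≫ f) by ext <;> simp [p]]
    infer_instance
  haveI : UniversallyClosed ((V ⊔ W).ι ≫ f) := UniversallyClosed.of_comp_surjective p _
  haveI : IsProper ((V ⊔ W).ι ≫ f) := ⟨⟩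
  exact IsFinite.of_isProper_of_locallyQuasiFinite _

theorem isClosed_of_isFinite [IsSeparated f] (W : X.Opens) [IsFinite (W.ι ≫ f)] :
    IsClosed (W : Set X) := by
  haveI : IsFinite W.ι := .of_comp W.ι f
  have := W.ι.isClosedMap.isClosed_range
  simpa using this

/-- A closed subset inside a piece proper over the base with no point in the closed fibre is empty. -/
theorem eq_empty_of_forall {Q : Scheme.{u}} (j : Q ⟶ X) [UniversallyClosed (j ≫ f)] (C : Set X)
    (hC : IsClosed C) (hCj : C ⊆ Set.range j)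
    (h : ∀ x ∈ C, f x ≠ IsLocalRing.closedPoint R) : C = ∅ := by
  by_contra hne
  obtain ⟨x, hx⟩ := Set.nonempty_iff_ne_empty.mpr hne
  obtain ⟨y, rfl⟩ := hCj hx
  have himg : IsClosed ((j ≫ f) '' (j ⁻¹' C)) :=
    (j ≫ f).isClosedMap _ (hC.preimage j.continuous)
  have hmem : IsLocalRing.closedPoint R ∈ (j ≫ f) '' (j ⁻¹' C) :=
    (IsLocalRing.specializes_closedPoint _).mem_closed himg ⟨y, hx, rfl⟩
  obtain ⟨z, hz, hz'⟩ := hmem
  exact h (j z) hz hz'

theorem exists_finitePart [LocallyQuasiFinite f] [LocallyOfFiniteType f] [QuasiCompact f]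
    [IsSeparated f] :
    ∃ W : X.Opens, IsClosed (W : Set X) ∧ IsFinite (W.ι ≫ f) ∧
      ∀ x : X, f x = IsLocalRing.closedPoint R → x ∈ W := by
  have hfin := f.finite_preimage_singleton (IsLocalRing.closedPoint R)
  suffices ∀ s : Set X, s.Finite → s ⊆ f ⁻¹' {IsLocalRing.closedPoint R} →
      ∃ W : X.Opens, IsFinite (W.ι ≫ f) ∧ s ⊆ W by
    obtain ⟨W, hW, hs⟩ := this _ hfin le_rfl
    exact ⟨W, isClosed_of_isFinite f W, hW, fun x hx => hs hx⟩
  intro s hs hsub
  induction s, hs using Set.Finite.induction_on with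
  | empty =>
    refine ⟨⊥, ?_, Set.empty_subset _⟩
    haveI : IsEmpty ((⊥ : X.Opens) : Scheme) := ⟨fun z => z.2.elim⟩
    infer_instance
  | @insert a t _ _ ih =>
    obtain ⟨W, hW, htW⟩ := ih ((Set.subset_insert _ _).trans hsub)
    obtain ⟨U, hU, haU, -⟩ := exists_isAffineOpen_mem_and_subset (x := a) (U := ⊤) trivial
    obtain ⟨V, -, haV, hV⟩ := exists_finite_open f U hU a haU (hsub (Set.mem_insert a t))
    refine ⟨V ⊔ W, isFinite_sup f V W, ?_⟩
    exact Set.insert_subset (Or.inl haV) (htW.trans fun z hz => Or.inr hz)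

theorem finitePart_unique (W W' : X.Opens) [IsFinite (W.ι ≫ f)]
    (hW'c : ∀ x : X, f x = IsLocalRing.closedPoint R → x ∈ W') (hWc : IsClosed (W : Set X)) :
    W ≤ W' := by
  have := eq_empty_of_forall f W.ι ((W : Set X) \ W') (hWc.sdiff W'.isOpen)
    (by rw [Scheme.Opens.range_ι]; exact Set.sdiff_subset)
    fun x hx hxm => hx.2 (hW'c x hxm)
  exact Set.sdiff_eq_empty.mp this

end Affine

end Groth.Agent.HenselLib.SchemeFinite
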