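import Groth.Agent.FlatLocal.FlatAt
import Mathlib.RingTheory.Unramified.LocalRing
import Mathlib.RingTheory.Unramified.LocalStructure
import Mathlib.RingTheory.EssentialFiniteness
import Mathlib.RingTheory.Smooth.Flat
import Mathlib.RingTheory.Localization.AtPrime.Basic

/-!
# Local structure of etale and unramified maps of local rings
-/

set_option autoImplicit false
set_option linter.all false

universe u

open IsLocalRing Function

namespace Groth.Agent.HenselLib.LocalEtale

theorem flat_localization_of_isEtaleAt (A B : Type u) [CommRing A] [CommRing B] [Algebra A B]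
    [Algebra.FinitePresentation A B] (q : Ideal B) [q.IsPrime] [Algebra.IsEtaleAt A q] :
    Module.Flat A (Localization.AtPrime q) := by
  obtain ⟨f, hf, _⟩ := Algebra.exists_etale_of_isEtaleAt (R := A) q
  haveI : Module.Flat A (Localization.Away f) := Algebra.Smooth.flat A _
  have hle : Submonoid.powers f ≤ q.primeCompl := Submonoid.powers_le.mpr hf
  letI : Algebra (Localization.Away f) (Localization.AtPrime q) :=
    IsLocalization.localizationAlgebraOfSubmonoidLe (Localization.Away f) (Localization.AtPrime q) _ _ hle
  haveI : IsScalarTower B (Localization.Away f) (Localization.AtPrime q) :=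
    IsLocalization.localization_isScalarTower_of_submonoid_le _ _ _ _ hle
  haveI : IsScalarTower A (Localization.Away f) (Localization.AtPrime q) :=
    IsScalarTower.of_algebraMap_eq fun a => by
      rw [IsScalarTower.algebraMap_apply A B (Localization.AtPrime q),
        IsScalarTower.algebraMap_apply B (Localization.Away f) (Localization.AtPrime q),
        ← IsScalarTower.algebraMap_apply A B (Localization.Away f)]
  haveI := IsLocalization.isLocalization_of_submonoid_le (Localization.Away f) (Localization.AtPrime q)
    (Submonoid.powers f) q.primeCompl hle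
  haveI : Module.Flat (Localization.Away f) (Localization.AtPrime q) :=
    IsLocalization.flat _ (q.primeCompl.map (algebraMap B (Localization.Away f)))
  exact Module.Flat.trans A (Localization.Away f) _

section Data

variable (A B : Type u) [CommRing A] [CommRing B] [IsLocalRing B] [Algebra A B]

/-- An essentially finite type local algebra is a localization at a prime of a finite type algebra. -/
theorem exists_model [Algebra.EssFiniteType A B] :
    ∃ (C : Subalgebra A B), Algebra.FiniteType A C ∧
      IsLocalization.AtPrime B ((maximalIdeal B).comap (algebraMap C B)) := by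
  refine ⟨Algebra.EssFiniteType.subalgebra A B, inferInstance, ?_⟩
  have h : Algebra.EssFiniteType.submonoid A B =
      ((maximalIdeal B).comap (algebraMap (Algebra.EssFiniteType.subalgebra A B) B)).primeCompl := by
    ext x
    show IsUnit _ ↔ ¬ _ ∈ maximalIdeal B
    rw [mem_maximalIdeal, mem_nonunits_iff, not_not]
  show IsLocalization ((maximalIdeal B).comap _).primeCompl B
  rw [← h]
  infer_instance

variable {A B}

/-- Transfer an away localization along to the local ring. -/
theorem exists_map_away {C : Type u} [CommRing C] [Algebra A C] [Algebra C B] [IsScalarTower A C B]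
    [IsLocalization.AtPrime B ((maximalIdeal B).comap (algebraMap C B))] (f : C)
    (hf : f ∉ (maximalIdeal B).comap (algebraMap C B)) :
    ∃ ψ : Localization.Away f →ₐ[A] B,
      (∀ c : C, ψ (algebraMap C (Localization.Away f) c) = algebraMap C B c) ∧
      (∀ b : B, ∃ x s, IsUnit (ψ s) ∧ b * ψ s = ψ x) ∧
      (∀ x, ψ x = 0 → ∃ t, IsUnit (ψ t) ∧ t * x = 0) := by
  have hu : ∀ y : Submonoid.powers f, IsUnit (IsScalarTower.toAlgHom A C B y) := by
    rintro ⟨_, n, rfl⟩
    simp only [map_pow]
    refine IsUnit.pow n ?_
    exact not_not.mp fun h => hf (show algebraMap C B f ∈ maximalIdeal B from h)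
  refine ⟨IsLocalization.liftAlgHom (S := Localization.Away f) hu, fun c => IsLocalization.lift_eq _ c,
    fun b => ?_, fun x hx => ?_⟩
  · obtain ⟨⟨c, s⟩, h⟩ := IsLocalization.surj ((maximalIdeal B).comap (algebraMap C B)).primeCompl b
    have e : ∀ c : C, IsLocalization.liftAlgHom (S := Localization.Away f) hu
        (algebraMap C _ c) = algebraMap C B c := fun c => IsLocalization.lift_eq _ c
    refine ⟨algebraMap C _ c, algebraMap C _ (s : C), ?_, by rw [e, e]; exact h⟩
    rw [e]
    exact IsLocalization.map_units B s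
  · obtain ⟨⟨c, m⟩, h⟩ := IsLocalization.surj (Submonoid.powers f) x
    have e : ∀ c : C, IsLocalization.liftAlgHom (S := Localization.Away f) hu
        (algebraMap C _ c) = algebraMap C B c := fun c => IsLocalization.lift_eq _ c
    have hc : algebraMap C B c = 0 := by rw [← e, ← h, map_mul, hx, zero_mul]
    obtain ⟨t, ht⟩ := (IsLocalization.map_eq_zero_iff
      ((maximalIdeal B).comap (algebraMap C B)).primeCompl B c).mp hc
    refine ⟨algebraMap C _ (t : C), by rw [e]; exact IsLocalization.map_units B t, ?_⟩
    refine (IsLocalization.map_units (Localization.Away f) m).mul_left_eq_zero.mp ?_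
    rw [mul_assoc, h, ← map_mul, ht, map_zero]

theorem bijective_lift {P : Type u} [CommRing P] [Algebra A P] (g : P →ₐ[A] B)
    (hs : ∀ b : B, ∃ x s, IsUnit (g s) ∧ b * g s = g x) :
    ∃ (G : Localization.AtPrime ((maximalIdeal B).comap g.toRingHom) →ₐ[A] B), Surjective G ∧
      ((∀ x, g x = 0 → ∃ t, IsUnit (g t) ∧ t * x = 0) → Injective G) := by
  set 𝔮 := (maximalIdeal B).comap g.toRingHom
  have hmem : ∀ s : P, s ∈ 𝔮.primeCompl ↔ IsUnit (g s) := fun s => by
    show ¬ _ ∈ maximalIdeal B ↔ _
    rw [mem_maximalIdeal, mem_nonunits_iff, not_not]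
    rfl
  let G := IsLocalization.liftAlgHom (M := 𝔮.primeCompl) (S := Localization.AtPrime 𝔮) (f := g)
    fun y => (hmem y).mp y.2
  have e : ∀ x : P, G (algebraMap P _ x) = g x := fun x => IsLocalization.lift_eq _ x
  refine ⟨G, fun b => ?_, fun hz => ?_⟩
  · obtain ⟨x, s, hsu, h⟩ := hs b
    refine ⟨IsLocalization.mk' _ x (⟨s, (hmem s).mpr hsu⟩ : 𝔮.primeCompl), ?_⟩
    refine hsu.mul_left_injective ?_
    show G _ * g s = b * g s
    rw [h]
    have : G (IsLocalization.mk' _ x (⟨s, (hmem s).mpr hsu⟩ : 𝔮.primeCompl) * algebraMap P _ s) =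
        G (algebraMap P (Localization.AtPrime 𝔮) x) := congrArg G (IsLocalization.mk'_spec _ _ _)
    rwa [map_mul, e, e] at this
  · rw [injective_iff_map_eq_zero]
    intro y hy
    obtain ⟨x, s, rfl⟩ := IsLocalization.exists_mk'_eq 𝔮.primeCompl y
    have hx : g x = 0 := by
      rw [← e, ← IsLocalization.mk'_spec (Localization.AtPrime 𝔮) x s, map_mul, hy, zero_mul]
    obtain ⟨t, ht, htx⟩ := hz x hx
    rw [IsLocalization.mk'_eq_zero_iff]
    exact ⟨⟨t, (hmem t).mpr ht⟩, htx⟩

theorem isUnramifiedAt_model {C : Type u} [CommRing C] [Algebra A C] [Algebra C B] [IsScalarTower A C B]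
    [IsLocalization.AtPrime B ((maximalIdeal B).comap (algebraMap C B))]
    [Algebra.FormallyUnramified A B] :
    Algebra.IsUnramifiedAt A ((maximalIdeal B).comap (algebraMap C B)) :=
  Algebra.FormallyUnramified.of_equiv
    ((IsLocalization.algEquiv ((maximalIdeal B).comap (algebraMap C B)).primeCompl B
      (Localization.AtPrime ((maximalIdeal B).comap (algebraMap C B)))).restrictScalars A)

variable (A B)

/-- An unramified local algebra is a quotient of a localized standard etale algebra. -/
theorem exists_standardEtale_surjective [Algebra.EssFiniteType A B]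
    [Algebra.FormallyUnramified A B] :
    ∃ (P : StandardEtalePair A) (𝔮 : Ideal P.Ring) (_ : 𝔮.IsPrime)
      (G : Localization.AtPrime 𝔮 →ₐ[A] B), Surjective G := by
  obtain ⟨C, _, _⟩ := exists_model A B
  haveI := isUnramifiedAt_model (A := A) (B := B) (C := C)
  obtain ⟨f, hf, P, φ, hφ⟩ := Algebra.IsUnramifiedAt.exists_hasStandardEtaleSurjectionOn (R := A)
    ((maximalIdeal B).comap (algebraMap C B))
  obtain ⟨ψ, -, hsurj, -⟩ := exists_map_away (A := A) f hf
  obtain ⟨G, hG, -⟩ := bijective_lift (ψ.comp φ) fun b => by
    obtain ⟨x, s, hs, h⟩ := hsurj b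
    obtain ⟨x', rfl⟩ := hφ x
    obtain ⟨s', rfl⟩ := hφ s
    exact ⟨x', s', hs, h⟩
  exact ⟨P, _, inferInstance, G, hG⟩

/-- A flat unramified local algebra over a noetherian ring is a localized standard etale algebra. -/
theorem exists_standardEtale_equiv [IsNoetherianRing A] [Algebra.EssFiniteType A B] [Module.Flat A B]
    [Algebra.FormallyUnramified A B] :
    ∃ (P : StandardEtalePair A) (𝔮 : Ideal P.Ring) (_ : 𝔮.IsPrime),
      Nonempty (B ≃ₐ[A] Localization.AtPrime 𝔮) := by
  obtain ⟨C, _, _⟩ := exists_model A B
  haveI := isUnramifiedAt_model (A := A) (B := B) (C := C)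
  haveI : Algebra.FinitePresentation A C := Algebra.FinitePresentation.of_finiteType.mp ‹_›
  haveI : Module.Flat A (Localization.AtPrime ((maximalIdeal B).comap (algebraMap C B))) :=
    Module.Flat.of_linearEquiv ((IsLocalization.algEquiv ((maximalIdeal B).comap (algebraMap C B)).primeCompl
      (Localization.AtPrime ((maximalIdeal B).comap (algebraMap C B))) B).restrictScalars A).toLinearEquiv
  haveI := FlatLocal.isEtaleAt_of_flatAt (R := A) ((maximalIdeal B).comap (algebraMap C B))
  obtain ⟨f, hf, _⟩ := Algebra.IsEtaleAt.exists_isStandardEtale (R := A)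
    ((maximalIdeal B).comap (algebraMap C B))
  obtain ⟨ψ, -, hsurj, hz⟩ := exists_map_away (A := A) f hf
  let P := (Algebra.IsStandardEtale.nonempty_standardEtalePresentation
    (R := A) (S := Localization.Away f)).some
  let φ := P.equivRing
  obtain ⟨G, hG, hG'⟩ := bijective_lift (ψ.comp φ.symm.toAlgHom) fun b => by
    obtain ⟨x, s, hs, h⟩ := hsurj b
    exact ⟨φ x, φ s, by simpa using hs, by simpa using h⟩
  refine ⟨P.P, _, inferInstance, ⟨(AlgEquiv.ofBijective G ⟨hG' fun x hx => ?_, hG⟩).symm⟩⟩
  obtain ⟨t, ht, htx⟩ := hz (φ.symm x) hx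
  exact ⟨φ t, by simpa using ht, φ.symm.injective (by simpa using htx)⟩

end Data

end Groth.Agent.HenselLib.LocalEtale
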