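import Groth.Agent.HenselLib.PairQuot
import Groth.Agent.HenselLib.HullFlat
import Mathlib.RingTheory.Smooth.Basic
import Mathlib.RingTheory.Etale.Basic
import Mathlib.RingTheory.TensorProduct.Quotient

/-!
# h-etale and h-smooth algebras: truncations
-/

set_option autoImplicit false
set_option linter.all false

universe u

open TensorProduct

namespace Groth.Agent.HenselLib

variable {A : Type u} [CommRing A] {I : Ideal A} {R : Type u} [CommRing R] [Algebra A R]
  {B : Type u} [CommRing B] [Algebra R B] [Algebra A B] [IsScalarTower A R B]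

theorem flat_of_isPairHull [Module.Flat A R] (hB : IsPairHull R (I.map (algebraMap A R)) B) :
    Module.Flat A B := by
  obtain ⟨e⟩ := hB.equiv_pairH
  haveI : Module.Flat R B := Module.Flat.of_linearEquiv (e.symm.toLinearEquiv)
  exact Module.Flat.trans A R B

/-- Truncations of a henselization are base changes of the original algebra. -/
theorem exists_equiv_quotient_pow (hB : IsPairHull R (I.map (algebraMap A R)) B) (r : ℕ) :
    Nonempty (((A ⧸ I ^ r) ⊗[A] R) ≃ₐ[A ⧸ I ^ r] (B ⧸ (I ^ r).map (algebraMap A B))) := by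
  let J := I ^ r
  have hJ : J.map (algebraMap A B) = ((I.map (algebraMap A R)) ^ r).map (algebraMap R B) := by
    rw [← Ideal.map_pow, Ideal.map_map, ← IsScalarTower.algebraMap_eq]
  let f0 : A ⧸ J →ₐ[A ⧸ J] B ⧸ J.map (algebraMap A B) := Algebra.ofId _ _
  let f : (A ⧸ J) ⊗[A] R →ₐ[A ⧸ J] B ⧸ J.map (algebraMap A B) :=
    Algebra.TensorProduct.lift f0 (IsScalarTower.toAlgHom A R (B ⧸ J.map (algebraMap A B)))
      (fun _ _ => Commute.all _ _)
  have hv : ∀ x : R, f (1 ⊗ₜ x) = Ideal.Quotient.mk _ (algebraMap R B x) := fun x => by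
    simp only [f, Algebra.TensorProduct.lift_tmul, map_one, one_mul]
    exact IsScalarTower.algebraMap_apply R B (B ⧸ J.map (algebraMap A B)) x
  have hgen : ∀ z : (A ⧸ J) ⊗[A] R, ∃ x : R, z = 1 ⊗ₜ x := fun z => by
    induction z using TensorProduct.induction_on with
    | zero => exact ⟨0, by simp⟩
    | tmul a x =>
      obtain ⟨a, rfl⟩ := Ideal.Quotient.mk_surjective a
      exact ⟨a • x, by rw [TensorProduct.tmul_smul, TensorProduct.smul_tmul']; congr 1; simp [Algebra.smul_def]⟩
    | add x y hx hy =>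
      obtain ⟨x, rfl⟩ := hx
      obtain ⟨y, rfl⟩ := hy
      exact ⟨x + y, by rw [TensorProduct.tmul_add]⟩
  have hq := IsPairHull.bijective_quotientMap hB r
  refine ⟨AlgEquiv.ofBijective f ⟨(injective_iff_map_eq_zero f).mpr fun z hz => ?_, fun b => ?_⟩⟩
  · obtain ⟨x, rfl⟩ := hgen z
    rw [hv, Ideal.Quotient.eq_zero_iff_mem, hJ] at hz
    have hx : x ∈ (I.map (algebraMap A R)) ^ r := by
      rw [← Ideal.Quotient.eq_zero_iff_mem]
      refine hq.1 ?_
      rw [Ideal.quotientMap_mk, map_zero, Ideal.Quotient.eq_zero_iff_mem]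
      exact hz
    rw [← Ideal.map_pow] at hx
    let e := Algebra.TensorProduct.quotIdealMapEquivQuotTensor R J
    have he := e.map_eq_zero_iff (x := Ideal.Quotient.mk _ x)
    exact (by simpa [e] using he.mpr (Ideal.Quotient.eq_zero_iff_mem.mpr hx))
  · obtain ⟨b, rfl⟩ := Ideal.Quotient.mk_surjective b
    obtain ⟨x, hx⟩ := hq.2 (Ideal.Quotient.mk _ b)
    obtain ⟨x, rfl⟩ := Ideal.Quotient.mk_surjective x
    refine ⟨1 ⊗ₜ x, ?_⟩
    rw [hv, Ideal.Quotient.eq]
    rw [Ideal.quotientMap_mk, Ideal.Quotient.eq] at hx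
    rwa [hJ]

theorem etale_quotient_pow [Algebra.Etale A R] (hB : IsPairHull R (I.map (algebraMap A R)) B) (r : ℕ) :
    Algebra.Etale (A ⧸ I ^ r) (B ⧸ (I ^ r).map (algebraMap A B)) := by
  obtain ⟨e⟩ := exists_equiv_quotient_pow hB r
  exact Algebra.Etale.of_equiv e

theorem smooth_quotient_pow [Algebra.Smooth A R] (hB : IsPairHull R (I.map (algebraMap A R)) B) (r : ℕ) :
    Algebra.Smooth (A ⧸ I ^ r) (B ⧸ (I ^ r).map (algebraMap A B)) := by
  obtain ⟨e⟩ := exists_equiv_quotient_pow hB r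
  exact Algebra.Smooth.of_equiv e

end Groth.Agent.HenselLib
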