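import Groth.Prelude.Def_EtRam
import Mathlib.RingTheory.Valuation.LocalSubring
import Mathlib.RingTheory.Flat.TorsionFree
import Mathlib.RingTheory.TensorProduct.Nontrivial
import Mathlib.RingTheory.Ideal.MinimalPrime.Localization
import Mathlib.RingTheory.Flat.Stability
import Mathlib.RingTheory.Algebraic.Integral
import Mathlib.RingTheory.Localization.Integral

/-!
# Extending valuation subrings to a compositum
-/

set_option autoImplicit false
set_option linter.all false

universe u

open TensorProduct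

namespace Groth.Agent.HenselLib.ExtValuation

theorem flat_of_injective (B R : Type u) [CommRing B] [IsDomain B] [IsBezout B] [CommRing R]
    [IsDomain R] [Algebra B R] (h : Function.Injective (algebraMap B R)) : Module.Flat B R := by
  rw [Module.Flat.flat_iff_torsion_eq_bot_of_isBezout, Submodule.eq_bot_iff]
  rintro x ⟨⟨a, ha⟩, hax⟩
  rw [Submonoid.smul_def, Algebra.smul_def] at hax
  exact (mul_eq_zero.mp hax).resolve_left ((map_ne_zero_iff _ h).mpr (nonZeroDivisors.ne_zero ha))

theorem comap_eq_bot_of_algebraic {B R : Type u} [CommRing B] [CommRing R] [IsDomain R] [Algebra B R]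
    [Algebra.IsAlgebraic B R] (Q : Ideal R) (h : Q.comap (algebraMap B R) = ⊥) : Q = ⊥ := by
  rw [Submodule.eq_bot_iff]
  intro x hx
  by_contra hx0
  obtain ⟨y, hy0, hy⟩ := (Algebra.IsAlgebraic.isAlgebraic (R := B) x).exists_nonzero_dvd
    (mem_nonZeroDivisors_of_ne_zero hx0)
  have : y ∈ Q.comap (algebraMap B R) := Q.mem_of_dvd hy hx
  rw [h] at this
  exact hy0 this

variable {B C L M₀ M : Type u} [CommRing B] [IsDomain B] [IsDiscreteValuationRing B]
  [CommRing C] [IsDomain C] [IsDiscreteValuationRing C] [Algebra B C] [IsLocalHom (algebraMap B C)]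
  [Field L] [Field M₀] [Field M] [Algebra B L] [IsFractionRing B L] [Algebra C M₀] [IsFractionRing C M₀]
  [Algebra L M₀] [Algebra L M] [Algebra B M₀] [IsScalarTower B C M₀] [IsScalarTower B L M₀]

/-- A valuation subring dominating `B` in an algebraic extension `M` of `L = Frac B` extends to a
compositum of `M` and `M₀ = Frac C` dominating `C`. -/
theorem exists_compositum (hinj : Function.Injective (algebraMap B C))
    {S : Set M} (hgen : Algebra.adjoin L S = ⊤) [Algebra.IsAlgebraic L M] (W : ValuationSubring M)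
    (hW : EtRam.Dominates B ((algebraMap L M).comp (algebraMap B L)) W) :
    ∃ (M' : Type u) (_ : Field M') (i : M₀ →+* M') (j : M →+* M') (W' : ValuationSubring M'),
      i.comp (algebraMap L M₀) = j.comp (algebraMap L M) ∧
      (letI := i.toAlgebra; Algebra.adjoin M₀ (j '' S) = ⊤) ∧
      EtRam.Dominates C (i.comp (algebraMap C M₀)) W' ∧ W'.comap j = W := by
  classical
  letI algW : Algebra B W := (RingHom.codRestrict ((algebraMap L M).comp (algebraMap B L)) W hW.1).toAlgebra
  letI algBM : Algebra B M := ((algebraMap L M).comp (algebraMap B L)).toAlgebra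
  haveI : IsScalarTower B W M := .of_algebraMap_eq fun _ => rfl
  haveI : IsScalarTower B L M := .of_algebraMap_eq fun _ => rfl
  haveI : IsLocalHom (algebraMap B W) := ⟨fun b hb => by
    by_contra hu
    have h1 := hW.2 b ((IsLocalRing.mem_maximalIdeal b).mpr hu)
    exact (W.valuation_lt_one_iff _).mpr h1 |> fun h => (IsLocalRing.mem_maximalIdeal _).mp h hb⟩
  have hBW : Function.Injective (algebraMap B W) := fun a b h =>
    IsFractionRing.injective B L ((algebraMap L M).injective (congrArg Subtype.val h))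
  haveI := flat_of_injective B C hinj
  haveI := flat_of_injective B W hBW
  haveI : Algebra.IsAlgebraic B M := by
    exact (IsFractionRing.comap_isAlgebraic_iff (A := B) (K := L) (C := M)).mpr inferInstance
  haveI : Algebra.IsAlgebraic B W := ⟨fun x =>
    (isAlgebraic_algHom_iff (IsScalarTower.toAlgHom B W M) Subtype.val_injective).mp
      (Algebra.IsAlgebraic.isAlgebraic _)⟩
  let T := C ⊗[B] W
  let κ := IsLocalRing.ResidueField B
  obtain ⟨N, hN⟩ := Ideal.exists_maximal (IsLocalRing.ResidueField C ⊗[κ] IsLocalRing.ResidueField W)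
  let Z := (IsLocalRing.ResidueField C ⊗[κ] IsLocalRing.ResidueField W) ⧸ N
  let fC : C →ₐ[B] Z := ((Ideal.Quotient.mkₐ κ N).restrictScalars B).comp
    (((Algebra.TensorProduct.includeLeft (R := κ) (S := κ) (A := IsLocalRing.ResidueField C) (B := IsLocalRing.ResidueField W)).restrictScalars B).comp (IsScalarTower.toAlgHom B C _))
  let fW : W →ₐ[B] Z := ((Ideal.Quotient.mkₐ κ N).restrictScalars B).comp
    (((Algebra.TensorProduct.includeRight (R := κ) (A := IsLocalRing.ResidueField C) (B := IsLocalRing.ResidueField W)).restrictScalars B).comp (IsScalarTower.toAlgHom B W _))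
  let φ : T →ₐ[B] Z := Algebra.TensorProduct.lift fC fW fun _ _ => Commute.all _ _
  let q : Ideal T := RingHom.ker φ.toRingHom
  haveI : Nontrivial Z := Ideal.Quotient.nontrivial_iff.mpr hN.ne_top
  haveI : IsDomain Z := Ideal.Quotient.isDomain N
  haveI hqp : q.IsPrime := RingHom.ker_isPrime _
  obtain ⟨P, hP, hPq⟩ := Ideal.exists_minimalPrimes_le (I := (⊥ : Ideal T)) (J := q) bot_le
  haveI hPp : P.IsPrime := hP.1.1
  let D := T ⧸ P
  let M' := FractionRing D
  let g : T →+* M' := (algebraMap D M').comp (Ideal.Quotient.mk P)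
  have hgker : ∀ t, g t = 0 ↔ t ∈ P := fun t => by
    rw [RingHom.comp_apply, map_eq_zero_iff _ (IsFractionRing.injective D M'),
      Ideal.Quotient.eq_zero_iff_mem]
  have hPB : ∀ b : B, algebraMap B T b ∈ P → b = 0 := by
    intro b hb
    by_contra hb0
    refine Set.disjoint_left.mp (Ideal.disjoint_nonZeroDivisors_of_mem_minimalPrimes hP) hb ?_
    rw [SetLike.mem_coe, mem_nonZeroDivisors_iff_right]
    intro t ht
    have : t ∈ Submodule.torsion B T := ⟨⟨b, mem_nonZeroDivisors_of_ne_zero hb0⟩, by
      rw [Submonoid.smul_def, Algebra.smul_def, mul_comm]; exact ht⟩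
    rwa [Module.Flat.torsion_eq_bot, Submodule.mem_bot] at this
  let gC : C →+* M' := g.comp Algebra.TensorProduct.includeLeftRingHom
  let gW : W →+* M' := g.comp (Algebra.TensorProduct.includeRight : W →ₐ[B] T).toRingHom
  have hgB : ∀ b, gW (algebraMap B W b) = gC (algebraMap B C b) := fun b => by
    show g ((Algebra.TensorProduct.includeRight : W →ₐ[B] T) (algebraMap B W b)) =
      g ((Algebra.TensorProduct.includeLeft : C →ₐ[B] T) (algebraMap B C b))
    rw [AlgHom.commutes, AlgHom.commutes]
  have hgC : Function.Injective gC := by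
    rw [RingHom.injective_iff_ker_eq_bot]
    by_contra h
    haveI : (RingHom.ker gC).IsPrime := RingHom.ker_isPrime _
    have hmax := IsLocalRing.eq_maximalIdeal ((RingHom.ker_isPrime gC).isMaximal h)
    obtain ⟨π, hπ⟩ := IsDiscreteValuationRing.exists_irreducible B
    refine hπ.ne_zero (hPB π ((hgker _).mp ?_))
    have : algebraMap B C π ∈ RingHom.ker gC := hmax ▸ (IsLocalRing.mem_maximalIdeal _).mpr
      fun hu => hπ.not_isUnit ((isUnit_map_iff (algebraMap B C) π).mp hu)
    exact this
  have hgW : Function.Injective gW := by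
    rw [RingHom.injective_iff_ker_eq_bot]
    refine comap_eq_bot_of_algebraic (B := B) _ ?_
    rw [Submodule.eq_bot_iff]
    intro b hb
    refine hPB b ((hgker _).mp ?_)
    exact (hgB b).symm.trans hb
  let i : M₀ →+* M' := IsFractionRing.lift hgC
  let j : M →+* M' := IsFractionRing.lift hgW
  have hiC : ∀ c, i (algebraMap C M₀ c) = gC c := IsFractionRing.lift_algebraMap hgC
  have hjW : ∀ w : W, j (w : M) = gW w := IsFractionRing.lift_algebraMap hgW
  have hij : i.comp (algebraMap L M₀) = j.comp (algebraMap L M) := by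
    refine IsLocalization.ringHom_ext (nonZeroDivisors B) (RingHom.ext fun b => ?_)
    rw [RingHom.comp_apply, RingHom.comp_apply, RingHom.comp_apply, RingHom.comp_apply,
      ← IsScalarTower.algebraMap_apply B L M₀, IsScalarTower.algebraMap_apply B C M₀, hiC, ← hgB,
      ← hjW]
    rfl
  -- the valuation subring
  let I : Ideal g.range := q.map g.rangeRestrict
  have hI : I ≠ ⊤ := by
    intro h
    obtain ⟨t, ht, ht1⟩ := (Ideal.mem_map_iff_of_surjective _ g.rangeRestrict_surjective).mp
      ((Ideal.eq_top_iff_one _).mp h)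
    have : g (t - 1) = 0 := by
      rw [map_sub, map_one, sub_eq_zero]; exact congrArg Subtype.val ht1
    refine hqp.ne_top ((Ideal.eq_top_iff_one q).mpr ?_)
    simpa using q.sub_mem ht (hPq ((hgker _).mp this))
  obtain ⟨W', hle, hnu⟩ := Ideal.image_subset_nonunits_valuationSubring I hI
  have hmem : ∀ t : T, g t ∈ W' := fun t => hle ⟨t, rfl⟩
  have hsmall : ∀ t ∈ q, g t ∈ W'.nonunits := fun t ht =>
    hnu ⟨g.rangeRestrict t, Ideal.mem_map_of_mem _ ht, rfl⟩
  refine ⟨M', inferInstance, i, j, W', hij, ?_, ⟨fun c => ?_, fun c hc => ?_⟩, ?_⟩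
  · letI := i.toAlgebra
    let U := Algebra.adjoin M₀ (j '' S)
    have hjU : ∀ m : M, j m ∈ U := by
      intro m
      have hm : m ∈ Algebra.adjoin L S := hgen ▸ Algebra.mem_top
      induction hm using Algebra.adjoin_induction with
      | mem x hx => exact Algebra.subset_adjoin ⟨x, hx, rfl⟩
      | algebraMap l =>
        rw [← RingHom.comp_apply, ← hij, RingHom.comp_apply]
        exact U.algebraMap_mem _
      | add x y _ _ hx hy => rw [map_add]; exact U.add_mem hx hy
      | mul x y _ _ hx hy => rw [map_mul]; exact U.mul_mem hx hy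
    have hgU : ∀ t, g t ∈ U := by
      intro t
      induction t using TensorProduct.induction_on with
      | zero => rw [map_zero]; exact U.zero_mem
      | tmul c w =>
        have hcw : (c ⊗ₜ[B] w : T) = (c ⊗ₜ[B] 1) * ((1 : C) ⊗ₜ[B] w) := by
          rw [Algebra.TensorProduct.tmul_mul_tmul, mul_one, one_mul]
        rw [hcw, map_mul]
        refine U.mul_mem ?_ ?_
        · rw [show g (c ⊗ₜ[B] 1) = algebraMap M₀ M' (algebraMap C M₀ c) from (hiC c).symm]
          exact U.algebraMap_mem _
        · rw [show g ((1 : C) ⊗ₜ[B] w) = j w from (hjW w).symm]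
          exact hjU w
      | add x y hx hy => rw [map_add]; exact U.add_mem hx hy
    have halg : ∀ x ∈ j '' S, IsIntegral M₀ x := by
      rintro _ ⟨x, -, rfl⟩
      obtain ⟨p, hp, hpx⟩ := (Algebra.IsIntegral.isIntegral (R := L) x)
      refine ⟨p.map (algebraMap L M₀), hp.map _, ?_⟩
      rw [Polynomial.eval₂_map, show (algebraMap M₀ M').comp (algebraMap L M₀) = j.comp (algebraMap L M)
        from hij, ← Polynomial.hom_eval₂, hpx, map_zero]
    haveI : Algebra.IsIntegral M₀ U := Algebra.IsIntegral.adjoin halg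
    have hfield : IsField U := isField_of_isIntegral_of_isField' (R := M₀) (Field.toIsField M₀)
    rw [eq_top_iff]
    intro x _
    obtain ⟨a, b, hb, rfl⟩ := IsFractionRing.div_surjective D x
    obtain ⟨a, rfl⟩ := Ideal.Quotient.mk_surjective a
    obtain ⟨b, rfl⟩ := Ideal.Quotient.mk_surjective b
    have hb0 : g b ≠ 0 := (map_ne_zero_iff _ (IsFractionRing.injective D M')).mpr (nonZeroDivisors.ne_zero hb)
    obtain ⟨b', hb'⟩ := hfield.mul_inv_cancel (a := (⟨g b, hgU b⟩ : U))
      (fun h => hb0 (congrArg Subtype.val h))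
    show g a / g b ∈ U
    rw [div_eq_mul_inv, inv_eq_of_mul_eq_one_right (congrArg Subtype.val hb')]
    exact U.mul_mem (hgU a) b'.2
  · rw [RingHom.comp_apply, hiC]; exact hmem _
  · rw [RingHom.comp_apply, hiC, ← ValuationSubring.mem_nonunits_iff]
    refine hsmall _ ?_
    show φ (c ⊗ₜ[B] 1) = 0
    have : (IsLocalRing.residue C c) = 0 := (IsLocalRing.residue_eq_zero_iff c).mpr hc
    show φ (c ⊗ₜ[B] (1 : W)) = 0
    rw [Algebra.TensorProduct.lift_tmul, map_one, mul_one]
    show Ideal.Quotient.mk N (IsLocalRing.residue C c ⊗ₜ[κ] (1 : IsLocalRing.ResidueField W)) = 0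
    rw [this, TensorProduct.zero_tmul, map_zero]
  · refine SetLike.ext fun x => ⟨fun hx => ?_, fun hx => ?_⟩
    · by_contra hxW
      have hx0 : x ≠ 0 := fun h => hxW (h ▸ zero_mem W)
      have hinv : x⁻¹ ∈ W := (W.mem_or_inv_mem x).resolve_left hxW
      have hm : (⟨x⁻¹, hinv⟩ : W) ∈ IsLocalRing.maximalIdeal W := by
        rw [← ValuationSubring.coe_mem_nonunits_iff, ValuationSubring.mem_nonunits_iff_or]
        exact Or.inr (by rwa [inv_inv])
      have hq : (Algebra.TensorProduct.includeRight : W →ₐ[B] T) ⟨x⁻¹, hinv⟩ ∈ q := by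
        show φ ((1 : C) ⊗ₜ[B] (⟨x⁻¹, hinv⟩ : W)) = 0
        have : IsLocalRing.residue W ⟨x⁻¹, hinv⟩ = 0 := (IsLocalRing.residue_eq_zero_iff _).mpr hm
        show φ ((1 : C) ⊗ₜ[B] (⟨x⁻¹, hinv⟩ : W)) = 0
        rw [Algebra.TensorProduct.lift_tmul, map_one, one_mul]
        show Ideal.Quotient.mk N ((1 : IsLocalRing.ResidueField C) ⊗ₜ[κ] IsLocalRing.residue W ⟨x⁻¹, hinv⟩) = 0
        rw [this, TensorProduct.tmul_zero, map_zero]
      have h2 := hsmall _ hq
      rw [show g ((Algebra.TensorProduct.includeRight : W →ₐ[B] T) ⟨x⁻¹, hinv⟩) = j x⁻¹ from (hjW _).symm,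
        map_inv₀, ValuationSubring.mem_nonunits_iff_or, inv_inv] at h2
      rcases h2 with h2 | h2
      · exact hx0 ((map_eq_zero j).mp (inv_eq_zero.mp h2))
      · exact h2 hx
    · show j x ∈ W'
      rw [show j x = gW ⟨x, hx⟩ from hjW ⟨x, hx⟩]
      exact hmem _

end Groth.Agent.HenselLib.ExtValuation
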