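import Mathlib.RingTheory.Artinian.Ring
import Mathlib.RingTheory.HopkinsLevitzki
import Mathlib.RingTheory.Spectrum.Prime.Topology
import Mathlib.RingTheory.Localization.Away.Basic
import Mathlib.RingTheory.Etale.Basic
import Mathlib.RingTheory.Etale.Pi
import Mathlib.RingTheory.Idempotents
import Mathlib.RingTheory.Polynomial.Cyclotomic.Roots
import Mathlib.RingTheory.AdjoinRoot
import Mathlib.NumberTheory.Wilson
import Mathlib.NumberTheory.RamificationInertia.Ramification
import Mathlib.RingTheory.DiscreteValuationRing.Basic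
import Mathlib.FieldTheory.PurelyInseparable.Basic
import Mathlib.RingTheory.LocalRing.ResidueField.Basic
import Mathlib.LinearAlgebra.Dimension.Localization
import Mathlib.Tactic.LinearCombination

/-!
# Miscellaneous: Artinian unions, idempotent lifting, ramification of DVR extensions
-/

set_option autoImplicit false
set_option linter.all false

universe u v

namespace Groth.Agent.HenselLib.MiscB

open Function

theorem isArtinianRing_union (B : Type u) [CommRing B] [IsNoetherianRing B]
    {ι : Type v} [Nonempty ι] (C : ι → Subring B)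
    (hart : ∀ i, IsArtinianRing ↥(C i)) (hcov : ∀ b : B, ∃ i, b ∈ C i) : IsArtinianRing B := by
  refine isArtinianRing_iff_isNoetherianRing_krullDimLE_zero.mpr ⟨inferInstance, ?_⟩
  refine Ring.KrullDimLE.mk₀ fun P hP => ?_
  rw [Ideal.isMaximal_iff]
  refine ⟨fun h => hP.ne_top (P.eq_top_iff_one.mpr h), fun J x hPJ hxP hxJ => ?_⟩
  obtain ⟨i, hi⟩ := hcov x
  haveI := hart i
  obtain ⟨n, ⟨y, hy⟩⟩ := IsArtinian.exists_pow_succ_smul_dvd (⟨x, hi⟩ : C i) (1 : C i)
  have h : x ^ (n + 1) * (y : B) = x ^ n := by simpa [smul_eq_mul] using congrArg Subtype.val hy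
  have h0 : x ^ n * (1 - x * y) ∈ P := by
    rw [show x ^ n * (1 - x * (y : B)) = x ^ n - x ^ (n + 1) * y by ring, h, sub_self]
    exact zero_mem _
  have := add_mem (hPJ ((hP.mem_or_mem h0).resolve_left fun hx => hxP (hP.mem_of_pow_mem n hx)))
    (J.mul_mem_right (y : B) hxJ)
  simpa using this

section Lifts

variable {A : Type u} [CommRing A] (I : Ideal A)

theorem exists_etale_lift_unit (u : (A ⧸ I)ˣ) :
    ∃ (A' : Type u) (_ : CommRing A') (_ : Algebra A A'), Algebra.Etale A A' ∧
      Bijective (Ideal.quotientMap (Ideal.map (algebraMap A A') I) (algebraMap A A')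
        Ideal.le_comap_map) ∧
      ∃ u' : A'ˣ, Ideal.Quotient.mk (Ideal.map (algebraMap A A') I) (u' : A') =
        Ideal.quotientMap (Ideal.map (algebraMap A A') I) (algebraMap A A') Ideal.le_comap_map
          (u : A ⧸ I) := by
  obtain ⟨a, ha⟩ := Ideal.Quotient.mk_surjective (u : A ⧸ I)
  let Aa := Localization.Away a
  haveI : Algebra.Etale A Aa := Algebra.Etale.of_isLocalizationAway a
  let τ : Aa →+* A ⧸ I := IsLocalization.Away.lift a (g := Ideal.Quotient.mk I) (ha ▸ u.isUnit)
  have hτ : ∀ x, τ (algebraMap A Aa x) = Ideal.Quotient.mk I x := fun x =>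
    IsLocalization.Away.lift_eq a _ x
  have hτI : Ideal.map (algebraMap A Aa) I ≤ RingHom.ker τ := by
    rw [Ideal.map_le_iff_le_comap]
    intro x hx
    rw [Ideal.mem_comap, RingHom.mem_ker, hτ]
    exact Ideal.Quotient.eq_zero_iff_mem.mpr hx
  refine ⟨Aa, inferInstance, inferInstance, inferInstance, ⟨?_, ?_⟩,
    (IsLocalization.Away.algebraMap_isUnit a).unit, ?_⟩
  · rw [injective_iff_map_eq_zero]
    intro x hx
    obtain ⟨x, rfl⟩ := Ideal.Quotient.mk_surjective x
    rw [Ideal.quotientMap_mk, Ideal.Quotient.eq_zero_iff_mem] at hx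
    rw [← hτ]
    exact hτI hx
  · intro y
    obtain ⟨y, rfl⟩ := Ideal.Quotient.mk_surjective y
    obtain ⟨x, hx⟩ := Ideal.Quotient.mk_surjective (τ y)
    refine ⟨Ideal.Quotient.mk I x, ?_⟩
    obtain ⟨n, c, hc⟩ := IsLocalization.Away.surj a y
    have hm : Ideal.Quotient.mk I (x * a ^ n - c) = 0 := by
      rw [map_sub, map_mul, hx, ← hτ (a ^ n), ← hτ c, ← map_mul, ← hc, map_pow, sub_self]
    rw [Ideal.quotientMap_mk, Ideal.Quotient.eq,
      ← Ideal.mul_unit_mem_iff_mem _ ((IsLocalization.Away.algebraMap_isUnit (S := Aa) a).pow n),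
      sub_mul, hc, ← map_pow, ← map_mul, ← map_sub]
    exact Ideal.mem_map_of_mem _ (Ideal.Quotient.eq_zero_iff_mem.mp hm)
  · rw [IsUnit.unit_spec, ← ha, Ideal.quotientMap_mk]

theorem exists_etale_lift_idempotents (n : ℕ) (e : Fin n → A ⧸ I)
    (he : CompleteOrthogonalIdempotents e) :
    ∃ (A' : Type u) (_ : CommRing A') (_ : Algebra A A'), Algebra.Etale A A' ∧
      Bijective (Ideal.quotientMap (Ideal.map (algebraMap A A') I) (algebraMap A A')
        Ideal.le_comap_map) ∧
      ∃ e' : Fin n → A', CompleteOrthogonalIdempotents e' ∧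
        ∀ j, Ideal.Quotient.mk (Ideal.map (algebraMap A A') I) (e' j) =
          Ideal.quotientMap (Ideal.map (algebraMap A A') I) (algebraMap A A') Ideal.le_comap_map
            (e j) := by
  classical
  choose a ha using fun j => Ideal.Quotient.mk_surjective (e j)
  let A' := ∀ j, Localization.Away (a j)
  haveI : ∀ j, Algebra.Etale A (Localization.Away (a j)) := fun j =>
    Algebra.Etale.of_isLocalizationAway (a j)
  haveI hfe : Algebra.FormallyEtale A A' := (Algebra.FormallyEtale.pi_iff _).mpr fun j => inferInstance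
  haveI : Algebra.Etale A A' := ⟨hfe, inferInstance⟩
  let Φ := RingHom.pi fun j => Ideal.Quotient.mk (Ideal.span {1 - e j})
  have hΦ : Bijective Φ := he.bijective_pi
  have hmk : ∀ j, Ideal.Quotient.mk (Ideal.span {1 - e j}) (e j) = 1 := fun j => by
    rw [← map_one (Ideal.Quotient.mk (Ideal.span {1 - e j})), eq_comm, Ideal.Quotient.eq]
    exact Ideal.mem_span_singleton_self _
  let τ₀ : ∀ j, Localization.Away (a j) →+* (A ⧸ I) ⧸ Ideal.span {1 - e j} := fun j =>
    IsLocalization.Away.lift (a j)
      (g := (Ideal.Quotient.mk (Ideal.span {1 - e j})).comp (Ideal.Quotient.mk I))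
      (by rw [RingHom.comp_apply, ha, hmk]; exact isUnit_one)
  let τ : A' →+* A ⧸ I := (RingEquiv.ofBijective Φ hΦ).symm.toRingHom.comp
    (RingHom.pi fun j => (τ₀ j).comp (Pi.evalRingHom _ j))
  have hτ : ∀ x, τ (algebraMap A A' x) = Ideal.Quotient.mk I x := fun x => by
    change (RingEquiv.ofBijective Φ hΦ).symm _ = _
    rw [RingEquiv.symm_apply_eq]
    funext j
    change τ₀ j (algebraMap A (Localization.Away (a j)) x) = _
    simp [τ₀, IsLocalization.Away.lift_eq, Φ]
  have hτI : Ideal.map (algebraMap A A') I ≤ RingHom.ker τ := by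
    rw [Ideal.map_le_iff_le_comap]
    intro x hx
    rw [Ideal.mem_comap, RingHom.mem_ker, hτ]
    exact Ideal.Quotient.eq_zero_iff_mem.mpr hx
  have key : ∀ y : A', ∀ x : A, τ y = Ideal.Quotient.mk I x →
      y - algebraMap A A' x ∈ Ideal.map (algebraMap A A') I := by
    intro y x hyx
    have hj : ∀ j, y j - algebraMap A (Localization.Away (a j)) x ∈
        I • (⊤ : Submodule A (Localization.Away (a j))) := by
      intro j
      obtain ⟨m, c, hc⟩ := IsLocalization.Away.surj (a j) (y j)
      have h0 : τ₀ j (y j) = Ideal.Quotient.mk (Ideal.span {1 - e j}) (Ideal.Quotient.mk I x) := by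
        have := congrArg (RingEquiv.ofBijective Φ hΦ) hyx
        change (RingEquiv.ofBijective Φ hΦ) ((RingEquiv.ofBijective Φ hΦ).symm _) = _ at this
        rw [RingEquiv.apply_symm_apply] at this
        exact congrFun this j
      have h1 := congrArg (τ₀ j) hc
      simp only [map_mul, map_pow, h0] at h1
      simp only [τ₀, IsLocalization.Away.lift_eq, RingHom.comp_apply, ha, hmk, one_pow, mul_one] at h1
      rw [Ideal.Quotient.eq, Ideal.mem_span_singleton'] at h1
      obtain ⟨q, hq⟩ := h1
      have h2 : Ideal.Quotient.mk I ((x * a j ^ m - c) * a j) = 0 := by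
        have hm1 : e j ^ (m + 1) = e j := (he.idem j).pow_succ_eq _
        have hee : e j * e j = e j := he.idem j
        simp only [map_mul, map_sub, map_pow, ha]
        linear_combination (Ideal.Quotient.mk I x) * hm1 - e j * hq - q * hee
      rw [Ideal.smul_top_eq_map, Submodule.restrictScalars_mem,
        ← Ideal.mul_unit_mem_iff_mem _ (((IsLocalization.Away.algebraMap_isUnit (a j)).pow (m + 1)))]
      rw [sub_mul, pow_succ, ← mul_assoc, hc, ← map_pow, ← map_mul, ← map_mul, ← map_mul, ← map_sub,
        show c * a j - x * (a j ^ m * a j) = -((x * a j ^ m - c) * a j) by ring]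
      exact Ideal.mem_map_of_mem _ (I.neg_mem (Ideal.Quotient.eq_zero_iff_mem.mp h2))
    have hmem : y - algebraMap A A' x ∈ I • (⊤ : Submodule A A') := by
      rw [← Finset.univ_sum_single (y - algebraMap A A' x)]
      refine Submodule.sum_mem _ fun j _ => ?_
      have := Submodule.mem_map_of_mem (f := LinearMap.single A (fun j => Localization.Away (a j)) j)
        (hj j)
      rw [Submodule.map_smul''] at this
      exact Submodule.smul_mono le_rfl le_top this
    rwa [Ideal.smul_top_eq_map, Submodule.restrictScalars_mem] at hmem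
  refine ⟨A', inferInstance, inferInstance, inferInstance, ⟨?_, ?_⟩,
    fun j => Pi.single j 1, CompleteOrthogonalIdempotents.single _, fun j => ?_⟩
  · rw [injective_iff_map_eq_zero]
    intro x hx
    obtain ⟨x, rfl⟩ := Ideal.Quotient.mk_surjective x
    rw [Ideal.quotientMap_mk, Ideal.Quotient.eq_zero_iff_mem] at hx
    rw [← hτ]
    exact hτI hx
  · intro y
    obtain ⟨y, rfl⟩ := Ideal.Quotient.mk_surjective y
    obtain ⟨x, hx⟩ := Ideal.Quotient.mk_surjective (τ y)
    refine ⟨Ideal.Quotient.mk I x, ?_⟩
    rw [Ideal.quotientMap_mk, eq_comm, Ideal.Quotient.eq]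
    exact key y x hx.symm
  · rw [← ha j, Ideal.quotientMap_mk, Ideal.Quotient.eq]
    refine key _ _ ?_
    rw [ha]
    change (RingEquiv.ofBijective Φ hΦ).symm _ = _
    rw [RingEquiv.symm_apply_eq]
    funext i
    change τ₀ i ((Pi.single j (1 : Localization.Away (a j)) : A') i) = Ideal.Quotient.mk _ (e j)
    rcases eq_or_ne i j with rfl | hij
    · rw [Pi.single_eq_same, map_one, hmk]
    · rw [Pi.single_eq_of_ne hij, map_zero, eq_comm, Ideal.Quotient.eq_zero_iff_mem,
        Ideal.mem_span_singleton']
      exact ⟨e j, by rw [mul_sub, mul_one, he.ortho (Ne.symm hij), sub_zero]⟩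

end Lifts

section DVR

variable (A B K L : Type u) [CommRing A] [IsDomain A]
    [IsDiscreteValuationRing A] [CommRing B] [IsDomain B] [IsDiscreteValuationRing B] [Algebra A B]
    [IsLocalHom (algebraMap A B)]
    [Field K] [Field L] [Algebra A K] [IsFractionRing A K] [Algebra B L] [IsFractionRing B L]
    [Algebra K L] [Algebra A L] [IsScalarTower A K L] [IsScalarTower A B L]

open IsLocalRing

/-- The ramification index, together with its defining equation. -/
theorem exists_ramification (hinj : Injective (algebraMap A B)) {ϖ : A} (hϖ : Irreducible ϖ)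
    {π : B} (hπ : Irreducible π) :
    ∃ e : ℕ, 0 < e ∧ Ideal.ramificationIdx' (maximalIdeal A) (maximalIdeal B) = e ∧
      ∃ u : Bˣ, algebraMap A B ϖ = u * π ^ e := by
  have hne : algebraMap A B ϖ ≠ 0 := (map_ne_zero_iff _ hinj).mpr hϖ.ne_zero
  obtain ⟨e, u, hu⟩ := IsDiscreteValuationRing.eq_unit_mul_pow_irreducible hne hπ
  refine ⟨e, Nat.pos_of_ne_zero fun h => ?_, Ideal.ramificationIdx'_spec ?_ ?_, u, hu⟩
  · rw [h, pow_zero, mul_one] at hu
    exact hϖ.not_isUnit (isUnit_of_map_unit (algebraMap A B) ϖ (hu ▸ u.isUnit))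
  · rw [hϖ.maximalIdeal_eq, Ideal.map_span, Set.image_singleton, hπ.maximalIdeal_eq,
      Ideal.span_singleton_pow, Ideal.span_singleton_le_span_singleton, hu]
    exact Dvd.intro_left _ rfl
  · rw [hϖ.maximalIdeal_eq, Ideal.map_span, Set.image_singleton, hπ.maximalIdeal_eq,
      Ideal.span_singleton_pow, Ideal.span_singleton_le_span_singleton, hu, Units.dvd_mul_left,
      pow_dvd_pow_iff hπ.ne_zero hπ.not_isUnit]
    omega

theorem ramificationIdx_eq_pow (hinj : Injective (algebraMap A B))
    (p : ℕ) (hp : p.Prime) [CharP K p] [IsPurelyInseparable K L] :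
    ∃ k : ℕ, Ideal.ramificationIdx' (maximalIdeal A) (maximalIdeal B) = p ^ k := by
  obtain ⟨ϖ, hϖ⟩ := IsDiscreteValuationRing.exists_irreducible A
  obtain ⟨π, hπ⟩ := IsDiscreteValuationRing.exists_irreducible B
  obtain ⟨e, he0, he, u, hu⟩ := exists_ramification A B hinj hϖ hπ
  haveI : Fact p.Prime := ⟨hp⟩
  haveI : ExpChar K p := ExpChar.prime hp
  obtain ⟨k, x, hx⟩ := IsPurelyInseparable.pow_mem K p (algebraMap B L π)
  -- `x` lies in `A`
  obtain ⟨a, ha⟩ : ∃ a : A, algebraMap A B a = π ^ p ^ k := by
    rcases ValuationRing.isInteger_or_isInteger A x with ⟨a, ha⟩ | ⟨a, ha⟩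
    · refine ⟨a, IsFractionRing.injective B L ?_⟩
      rw [← IsScalarTower.algebraMap_apply A B L, IsScalarTower.algebraMap_apply A K L, ha, hx,
        map_pow]
    · exfalso
      have hxne : x ≠ 0 := fun h0 => by
        rw [h0, map_zero] at hx
        exact hπ.ne_zero (IsFractionRing.injective B L (by
          rw [map_zero]; exact eq_zero_of_pow_eq_zero hx.symm))
      have h1 : algebraMap A B a * π ^ p ^ k = 1 := IsFractionRing.injective B L (by
        rw [map_mul, map_pow, ← hx, ← IsScalarTower.algebraMap_apply A B L,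
          IsScalarTower.algebraMap_apply A K L, ha, ← map_mul, inv_mul_cancel₀ hxne, map_one, map_one])
      exact hπ.not_isUnit ((isUnit_pow_iff (pow_ne_zero k hp.ne_zero)).mp
        (IsUnit.of_mul_eq_one_right _ h1))
  have ha0 : a ≠ 0 := fun h0 => by
    rw [h0, map_zero] at ha
    exact pow_ne_zero _ hπ.ne_zero ha.symm
  obtain ⟨m, w, hw⟩ := IsDiscreteValuationRing.eq_unit_mul_pow_irreducible ha0 hϖ
  rw [hw, map_mul, map_pow, hu, mul_pow, ← pow_mul, ← mul_assoc] at ha
  have hem : e * m = p ^ k := by
    have := IsDiscreteValuationRing.unit_mul_pow_congr_pow hπ hπ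
      (((Units.map (algebraMap A B).toMonoidHom w) * u ^ m)) 1 (e * m) (p ^ k)
      (by rw [Units.val_one, one_mul, ← ha]; simp)
    exact this
  obtain ⟨j, -, hj⟩ := (Nat.dvd_prime_pow hp).mp (Dvd.intro m hem)
  exact ⟨j, he.trans hj⟩

theorem ramification_mul_inertia_le (hinj : Injective (algebraMap A B)) [FiniteDimensional K L] :
    Module.Finite (ResidueField A) (ResidueField B) ∧
      Ideal.ramificationIdx' (maximalIdeal A) (maximalIdeal B) *
          Module.finrank (ResidueField A) (ResidueField B) ≤
        Module.finrank K L := by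
  obtain ⟨ϖ, hϖ⟩ := IsDiscreteValuationRing.exists_irreducible A
  obtain ⟨π, hπ⟩ := IsDiscreteValuationRing.exists_irreducible B
  obtain ⟨e, he0, he, u, hu⟩ := exists_ramification A B hinj hϖ hπ
  have key : ∀ {ι : Type u} [Fintype ι] (b : ι → ResidueField B),
      LinearIndependent (ResidueField A) b → e * Fintype.card ι ≤ Module.finrank K L := by
    intro ι _ b hb
    choose β hβ using fun i => IsLocalRing.residue_surjective (b i)
    let v : Fin e × ι → L := fun x => algebraMap B L (π ^ (x.1 : ℕ) * β x.2)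
    have hlocal : ∀ c : Fin e × ι → A, ∑ x, algebraMap A B (c x) * (π ^ (x.1 : ℕ) * β x.2) = 0 →
        ∀ x, c x ∈ maximalIdeal A := by
      intro c hc
      suffices ∀ n : ℕ, ∀ x : Fin e × ι, (x.1 : ℕ) < n → c x ∈ maximalIdeal A from
        fun x => this _ x (Nat.lt_succ_self _)
      intro n
      induction n with
      | zero => intro x hx; omega
      | succ n ih =>
        rintro ⟨i₀, j₀⟩ hx
        rcases Nat.lt_succ_iff_lt_or_eq.mp hx with h | h
        · exact ih _ h
        simp only at h
        subst h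
        -- everything except the `i₀`-th row is divisible by `π ^ (i₀ + 1)`
        have hdiv : ∀ i : Fin e, i ≠ i₀ → π ^ ((i₀ : ℕ) + 1) ∣
            ∑ j, algebraMap A B (c (i, j)) * (π ^ (i : ℕ) * β j) := by
          intro i hi
          refine Finset.dvd_sum fun j _ => ?_
          rcases lt_or_gt_of_ne (fun h' : (i : ℕ) = (i₀ : ℕ) => hi (Fin.ext h')) with h' | h'
          · obtain ⟨a', ha'⟩ : ϖ ∣ c (i, j) := by
              rw [← Ideal.mem_span_singleton, ← hϖ.maximalIdeal_eq]
              exact ih _ h'
            rw [ha', map_mul, hu]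
            have : π ^ ((i₀ : ℕ) + 1) ∣ π ^ e := pow_dvd_pow π i₀.2
            exact dvd_mul_of_dvd_left (dvd_mul_of_dvd_left (dvd_mul_of_dvd_right this _) _) _
          · exact dvd_mul_of_dvd_right (dvd_mul_of_dvd_left (pow_dvd_pow π h') _) _
        rw [Fintype.sum_prod_type, ← Finset.add_sum_erase _ _ (Finset.mem_univ i₀)] at hc
        obtain ⟨z, hz⟩ := Finset.dvd_sum fun i hi => hdiv i (Finset.ne_of_mem_erase hi)
        rw [hz] at hc
        have hrow : ∑ j, algebraMap A B (c (i₀, j)) * β j = -(π * z) := by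
          refine mul_left_cancel₀ (pow_ne_zero (i₀ : ℕ) hπ.ne_zero) ?_
          rw [Finset.mul_sum, mul_neg, ← mul_assoc, ← pow_succ]
          refine eq_neg_of_add_eq_zero_left (Eq.trans ?_ hc)
          congr 1
          exact Finset.sum_congr rfl fun j _ => by ring
        have hres := congrArg (residue B) hrow
        rw [map_sum, map_neg, map_mul, (residue_eq_zero_iff π).mpr
          ((mem_maximalIdeal π).mpr hπ.not_isUnit), zero_mul, neg_zero] at hres
        have hli := Fintype.linearIndependent_iff.mp hb (fun j => residue A (c (i₀, j))) (by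
          rw [← hres]
          refine Finset.sum_congr rfl fun j _ => ?_
          rw [Algebra.smul_def, map_mul, hβ]
          rfl)
        exact (residue_eq_zero_iff _).mp (hli j₀)
    have hA : LinearIndependent A v := by
      classical
      rw [Fintype.linearIndependent_iff]
      intro c hc x
      by_contra hx
      have hne : ∃ y, c y ≠ 0 := ⟨x, hx⟩
      choose! k w hw using fun y (hy : c y ≠ 0) =>
        IsDiscreteValuationRing.eq_unit_mul_pow_irreducible hy hϖ
      obtain ⟨y₀, hy₀, hmin⟩ := Finset.exists_min_image (Finset.univ.filter fun y => c y ≠ 0) k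
        ⟨x, by simp [hx]⟩
      simp only [Finset.mem_filter, Finset.mem_univ, true_and] at hy₀ hmin
      have hdv : ∀ y, ϖ ^ k y₀ ∣ c y := fun y => by
        by_cases hy : c y = 0
        · rw [hy]; exact dvd_zero _
        · rw [hw y hy]; exact dvd_mul_of_dvd_right (pow_dvd_pow ϖ (hmin y hy)) _
      choose d hd using hdv
      have hd0 : ∑ y, algebraMap A B (d y) * (π ^ (y.1 : ℕ) * β y.2) = 0 := by
        have h0 : algebraMap A B (ϖ ^ k y₀) *
            ∑ y, algebraMap A B (d y) * (π ^ (y.1 : ℕ) * β y.2) = 0 := by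
          apply IsFractionRing.injective B L
          rw [map_zero, ← hc, Finset.mul_sum, map_sum]
          refine Finset.sum_congr rfl fun y _ => ?_
          rw [← mul_assoc, ← map_mul, ← hd y, map_mul, ← IsScalarTower.algebraMap_apply A B L,
            Algebra.smul_def]
        exact (mul_eq_zero.mp h0).resolve_left ((map_ne_zero_iff _ hinj).mpr (pow_ne_zero _ hϖ.ne_zero))
      have hd1 : d y₀ ∈ maximalIdeal A := hlocal d hd0 y₀
      have h2 := hd y₀
      rw [hw y₀ hy₀, mul_comm] at h2
      have : d y₀ = w y₀ := (mul_left_cancel₀ (pow_ne_zero _ hϖ.ne_zero) h2).symm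
      rw [this] at hd1
      exact (mem_maximalIdeal _).mp hd1 (w y₀).isUnit
    have hK : LinearIndependent K v := (LinearIndependent.iff_fractionRing A K).mp hA
    simpa using hK.fintype_card_le_finrank
  have hfin : Module.Finite (ResidueField A) (ResidueField B) := by
    apply Module.finite_of_rank_eq_nat (n := Module.finrank (ResidueField A) (ResidueField B))
    have hle : Module.rank (ResidueField A) (ResidueField B) ≤ (Module.finrank K L : Cardinal) :=
      rank_le fun s hs => by
        have := key (fun i : {x // x ∈ s} => (i : ResidueField B)) hs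
        rw [Fintype.card_coe] at this
        nlinarith
    exact (Cardinal.cast_toNat_of_lt_aleph0 (hle.trans_lt Cardinal.natCast_lt_aleph0)).symm
  refine ⟨hfin, ?_⟩
  rw [he]
  have := key (fun i => Module.Free.chooseBasis (ResidueField A) (ResidueField B) i)
    (Module.Free.chooseBasis (ResidueField A) (ResidueField B)).linearIndependent
  rwa [← Module.finrank_eq_card_chooseBasisIndex] at this

end DVR

end Groth.Agent.HenselLib.MiscB
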