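import Mathlib
import Groth.Agent.S0692
import Groth.Agent.HenselLib.WContractIff
import Groth.Agent.HenselLib.WLocAtPoint
import Groth.Agent.HenselLib.WLocInd

/-!
# Every ring has a faithfully flat ind-etale w-contractible extension
-/

set_option autoImplicit false

universe u

namespace Groth.Agent.HenselLib.WCtr

open WLoc

theorem exists_indEtale_wContractible (A : Type u) [CommRing A] :
    ∃ (B : Type u) (_ : CommRing B) (_ : Algebra A B),
      Module.FaithfullyFlat A B ∧ EtPBC.IsIndEtale A B ∧ EtPBC.IsWContractible B := by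
  obtain ⟨C, D, _, _, _, _, _, _, _, _, hCff, hCind, -, -, hCl, -, -, -, -, -, hsh⟩ :=
    S0692.result A A (AlgRes.of_isIndEtale (IndEt.refl A))
  haveI := compactSpace_CP hCl
  haveI := t2Space_CP hCl
  haveI := totallyDisconnectedSpace_CP hCl
  haveI : DiscreteTopology (WithTopology (CP C) ⊥) :=
    discreteTopology_iff_forall_isOpen.2 fun s => (WithTopology.isOpen_iff _).2 trivial
  let T : Type u := StoneCech (WithTopology (CP C) ⊥)
  let π : T → CP C := stoneCechExtend (g := fun z => z.ofTopology) continuous_of_discreteTopology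
  have hπ : Continuous π := continuous_stoneCechExtend _
  have hπs : Function.Surjective π := fun c =>
    ⟨stoneCechUnit (WithTopology.toTopology (⊥ : TopologicalSpace (CP C)) c),
      stoneCechExtend_stoneCechUnit _ _⟩
  haveI : ExtremallyDisconnected T := CompactT2.Projective.extremallyDisconnected StoneCech.projective
  let F : Fam C T :=
    { p := fun t => (π t).1
      clopen := fun f => ((isClopen_ZT_basicOpen f).preimage (continuous_qpt C hCl)).preimage hπ }
  let B := WRing F
  letI : Algebra A B := ((algebraMap C B).comp (algebraMap A C)).toAlgebra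
  haveI : IsScalarTower A C B := IsScalarTower.of_algebraMap_eq' rfl
  haveI := WLoc.flat F
  haveI : Module.FaithfullyFlat C B := by
    refine { submodule_ne_top := ?_ }
    intro m hm
    obtain ⟨t, ht⟩ := hπs ⟨⟨m, hm.isPrime⟩, (PrimeSpectrum.isClosed_singleton_iff_isMaximal _).2 hm⟩
    intro htop
    refine (closedPt F t).isPrime.ne_top (top_le_iff.1 ?_)
    intro b _
    refine (show m • (⊤ : Submodule C B) ≤ (closedPt F t).asIdeal.restrictScalars C from ?_) (htop.symm.le Submodule.mem_top)
    rw [Ideal.smul_top_eq_map, Submodule.restrictScalars_le, Ideal.map_le_iff_le_comap]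
    have h := congrArg PrimeSpectrum.asIdeal (comap_closedPt F t)
    intro a ha
    exact h.ge ((congrArg (fun c : CP C => c.1.asIdeal) ht).ge ha)
  haveI := hCff
  refine ⟨B, inferInstance, inferInstance, Module.FaithfullyFlat.trans A C B,
    IndEt.trans A C B hCind (WLoc.isIndEtale F), isWContractible_iff.2
      ⟨WLoc.isWLocal F, extremallyDisconnected_homeo (componentsHomeo F).symm, fun m hm => ?_⟩⟩
  have hmcl := (isClosed_singleton_iff F (P := ⟨m, hm.isPrime⟩)).1
    ((PrimeSpectrum.isClosed_singleton_iff_isMaximal _).2 hm)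
  generalize pt F ⟨m, hm.isPrime⟩ = t at hmcl
  have hm' : m = (closedPt F t).asIdeal := congrArg PrimeSpectrum.asIdeal hmcl
  subst hm'
  haveI : ((π t).1).asIdeal.IsMaximal := (PrimeSpectrum.isClosed_singleton_iff_isMaximal _).1 (π t).2
  exact strictlyHenselian_of_equiv (closedPtEquiv F t) (hsh _)

end Groth.Agent.HenselLib.WCtr
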