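import Groth.Agent.HenselLib.HullProps
import Groth.Agent.CAlgH3.RegularLocal
import Mathlib.RingTheory.DiscreteValuationRing.TFAE

/-!
# Discrete valuation rings and henselization
-/

set_option autoImplicit false

namespace Groth.Agent.HenselLib

open IsLocalRing

universe u

theorem exists_isDVR_iff (R : Type u) [CommRing R] [IsLocalRing R] [IsNoetherianRing R] :
    (∃ _ : IsDomain R, IsDiscreteValuationRing R) ↔
      (IsRegularLocalRing R ∧ ringKrullDim R = 1) := by
  refine ⟨fun ⟨_, _⟩ => ⟨inferInstance, IsDiscreteValuationRing.ringKrullDim_eq_one R⟩, fun ⟨_, h⟩ => ?_⟩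
  have hd : IsDomain R := CAlgH3.isDomain_of_isRegularLocalRing R
  have hfr : Module.finrank (ResidueField R) (CotangentSpace R) ≤ 1 := by
    have := (IsRegularLocalRing.iff_finrank_cotangentSpace R).mp ‹IsRegularLocalRing R›
    rw [h] at this
    exact le_of_eq (by exact_mod_cast this)
  have hpid : IsPrincipalIdealRing R :=
    ((tfae_of_isNoetherianRing_of_isLocalRing_of_isDomain (R := R)).out 5 0).mp hfr
  have hne : maximalIdeal R ≠ ⊥ := fun hbot => by
    have hf : IsField R := IsLocalRing.isField_iff_maximalIdeal_eq.mpr hbot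
    rw [ringKrullDim_eq_zero_of_isField hf] at h
    exact zero_ne_one h
  exact ⟨hd, { hpid with not_a_field' := hne }⟩

theorem exists_isDVR_iff_of_flat {R S : Type u} [CommRing R] [IsLocalRing R] [IsNoetherianRing R]
    [CommRing S] [IsLocalRing S] [IsNoetherianRing S] [Algebra R S] [IsLocalHom (algebraMap R S)]
    [Module.Flat R S] (hmS : (maximalIdeal R).map (algebraMap R S) = maximalIdeal S)
    (hdim : ringKrullDim S = ringKrullDim R) :
    (∃ _ : IsDomain R, IsDiscreteValuationRing R) ↔
      (∃ _ : IsDomain S, IsDiscreteValuationRing S) := by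
  rw [exists_isDVR_iff, exists_isDVR_iff, isRegularLocalRing_iff_of_flat S hmS hdim, hdim]

end Groth.Agent.HenselLib
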