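import Groth.Agent.HenselLib.HensBase
import Groth.Agent.HenselLib.LocalInt
import Mathlib.RingTheory.Spectrum.Prime.Homeomorph
import Mathlib.RingTheory.TensorProduct.Maps

/-!
# Strict henselizations and tensor products: the integral case
-/

set_option autoImplicit false
set_option linter.all false

universe u

open IsLocalRing TensorProduct

namespace Groth.Agent.HenselLib.StrictBase

/-- A tensor product with an integral algebra over a base with separably closed residue field has
at most one maximal ideal. -/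
theorem maximal_unique (A B C : Type u) [CommRing A] [IsLocalRing A]
    [IsSepClosed (ResidueField A)] [CommRing B] [IsLocalRing B] [Algebra A B]
    [IsLocalHom (algebraMap A B)] [Algebra.IsIntegral A B] [CommRing C] [IsLocalRing C]
    [Algebra A C] [IsLocalHom (algebraMap A C)] (M N : Ideal (C ⊗[A] B)) [M.IsMaximal] [N.IsMaximal]
    (hM : M.comap (algebraMap C (C ⊗[A] B)) = maximalIdeal C)
    (hN : N.comap (algebraMap C (C ⊗[A] B)) = maximalIdeal C) : M = N := by
  have : Algebra.IsIntegral A (ResidueField B) := Algebra.IsIntegral.trans B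
  have : Algebra.IsIntegral (ResidueField A) (ResidueField B) := Algebra.IsIntegral.tower_top A
  have : IsPurelyInseparable (ResidueField A) (ResidueField B) := inferInstance
  let E := ResidueField C ⊗[ResidueField A] ResidueField B
  let g : B →ₐ[A] E :=
    ((Algebra.TensorProduct.includeRight : ResidueField B →ₐ[ResidueField A] E).restrictScalars A).comp
      (IsScalarTower.toAlgHom A B (ResidueField B))
  let π : C ⊗[A] B →ₐ[A] E := Algebra.TensorProduct.lift
    (((Algebra.TensorProduct.includeLeft : ResidueField C →ₐ[ResidueField A] E).restrictScalars A).comp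
      (IsScalarTower.toAlgHom A C (ResidueField C))) g fun _ _ => Commute.all _ _
  have key : ∀ (M : Ideal (C ⊗[A] B)) [M.IsMaximal],
      M.comap (algebraMap C (C ⊗[A] B)) = maximalIdeal C →
      ∃ P : Ideal E, P.IsPrime ∧ P.comap π.toRingHom = M := by
    intro M hMmax hM
    letI : Field ((C ⊗[A] B) ⧸ M) := Ideal.Quotient.field M
    let jC : ResidueField C →+* (C ⊗[A] B) ⧸ M := Ideal.Quotient.lift (maximalIdeal C)
      ((Ideal.Quotient.mk M).comp (algebraMap C (C ⊗[A] B))) fun x hx =>
        Ideal.Quotient.eq_zero_iff_mem.mpr (hM.ge hx)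
    let mB : B →+* (C ⊗[A] B) ⧸ M :=
      (Ideal.Quotient.mk M).comp (Algebra.TensorProduct.includeRight : B →ₐ[A] C ⊗[A] B).toRingHom
    have hmBA : ∀ a, mB (algebraMap A B a) = jC (residue C (algebraMap A C a)) := fun a =>
      congrArg (Ideal.Quotient.mk M)
        (((Algebra.TensorProduct.includeRight : B →ₐ[A] C ⊗[A] B).commutes a).trans
          ((Algebra.TensorProduct.includeLeft : C →ₐ[A] C ⊗[A] B).commutes a).symm)
    have hmB : ∀ x ∈ maximalIdeal B, mB x = 0 := fun x hx => by
      have hint : IsIntegral (ResidueField A) (residue B x) := Algebra.IsIntegral.isIntegral _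
      have hrad : x ∈ ((maximalIdeal A).map (algebraMap A B)).radical := by
        rw [Ideal.radical_eq_sInf, Ideal.mem_sInf]
        rintro J ⟨hJ, hJp⟩
        have : J.IsMaximal := Ideal.isMaximal_of_isIntegral_of_isMaximal_comap (R := A) J (by
          have hle : maximalIdeal A ≤ J.comap (algebraMap A B) := Ideal.map_le_iff_le_comap.mp hJ
          rw [← (maximalIdeal.isMaximal A).eq_of_le (Ideal.IsPrime.ne_top inferInstance) hle]
          exact maximalIdeal.isMaximal A)
        rw [IsLocalRing.eq_maximalIdeal this]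
        exact hx
      obtain ⟨n, hn⟩ := hrad
      have h0 : mB (x ^ n) = 0 := by
        have hle : (maximalIdeal A).map (algebraMap A B) ≤ RingHom.ker mB :=
          Ideal.map_le_iff_le_comap.mpr fun a ha => by
            rw [Ideal.mem_comap, RingHom.mem_ker, hmBA,
              (residue_eq_zero_iff _).mpr (map_nonunit (algebraMap A C) a ha), map_zero]
        exact hle hn
      rw [map_pow] at h0
      exact eq_zero_of_pow_eq_zero h0
    let jB : ResidueField B →+* (C ⊗[A] B) ⧸ M := Ideal.Quotient.lift (maximalIdeal B) mB hmB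
    letI : Algebra (ResidueField A) ((C ⊗[A] B) ⧸ M) :=
      (jC.comp (algebraMap (ResidueField A) (ResidueField C))).toAlgebra
    let jC' : ResidueField C →ₐ[ResidueField A] (C ⊗[A] B) ⧸ M :=
      { jC with commutes' := fun _ => rfl }
    have hjB : ∀ r : ResidueField A, jB (algebraMap (ResidueField A) (ResidueField B) r) =
        algebraMap (ResidueField A) ((C ⊗[A] B) ⧸ M) r := fun r => by
      obtain ⟨a, rfl⟩ := IsLocalRing.residue_surjective r
      exact hmBA a
    let jB' : ResidueField B →ₐ[ResidueField A] (C ⊗[A] B) ⧸ M :=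
      { jB with commutes' := hjB }
    let χ : E →ₐ[ResidueField A] (C ⊗[A] B) ⧸ M :=
      Algebra.TensorProduct.lift jC' jB' fun _ _ => Commute.all _ _
    refine ⟨RingHom.ker χ.toRingHom, RingHom.ker_isPrime _, ?_⟩
    have hχ : χ.toRingHom.comp π.toRingHom = Ideal.Quotient.mk M := by
      refine RingHom.ext fun t => ?_
      induction t using TensorProduct.induction_on with
      | zero => simp
      | tmul c b =>
        show χ (π (c ⊗ₜ[A] b)) = _
        have h1 : π (c ⊗ₜ[A] b) = residue C c ⊗ₜ[ResidueField A] residue B b := by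
          simp [π, g, E]
        rw [h1, Algebra.TensorProduct.lift_tmul, show c ⊗ₜ[A] b =
          algebraMap C (C ⊗[A] B) c * ((1 : C) ⊗ₜ[A] b) by simp, map_mul]
        rfl
      | add x y hx hy => simp only [map_add, hx, hy]
    rw [RingHom.comap_ker, hχ, Ideal.mk_ker]
  obtain ⟨P, hP, hPM⟩ := key M hM
  obtain ⟨P', hP', hPN⟩ := key N hN
  have hinj := (PrimeSpectrum.isHomeomorph_comap_of_isPurelyInseparable (ResidueField A)
    (ResidueField B) (ResidueField C)).injective
  have hsub : (⟨P, hP⟩ : PrimeSpectrum E) = ⟨P', hP'⟩ := hinj (Subsingleton.elim _ _)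
  rw [← hPM, ← hPN, show P = P' from congrArg PrimeSpectrum.asIdeal hsub]

open TensorProduct in
theorem bijective_lift (A B C : Type u) [CommRing A] [CommRing B]
    [CommRing C] [Algebra A B] [Algebra A C] 
    (pA : Ideal A) [pA.IsPrime] (pB : Ideal B) [pB.IsPrime] [pB.LiesOver pA]
    (pC : Ideal C) [pC.IsPrime] [pC.LiesOver pA]
    (pD : Ideal (B ⊗[A] C)) [pD.IsPrime] [pD.LiesOver pB]
    (hDC : pD.comap (Algebra.TensorProduct.includeRight : C →ₐ[A] B ⊗[A] C).toRingHom = pC)
    (Ash : Type u) [CommRing Ash] [IsLocalRing Ash] [Algebra (Localization.AtPrime pA) Ash]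
    [IsLocalHom (algebraMap (Localization.AtPrime pA) Ash)]
    [Hensel.IsStrictHenselization (Localization.AtPrime pA) Ash] [Algebra A Ash]
    [IsScalarTower A (Localization.AtPrime pA) Ash]
    (Bsh : Type u) [CommRing Bsh] [IsLocalRing Bsh] [Algebra (Localization.AtPrime pB) Bsh]
    [IsLocalHom (algebraMap (Localization.AtPrime pB) Bsh)]
    [Hensel.IsStrictHenselization (Localization.AtPrime pB) Bsh] [Algebra B Bsh]
    [IsScalarTower B (Localization.AtPrime pB) Bsh] [Algebra A Bsh] [IsScalarTower A B Bsh]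
    [Algebra Ash Bsh] [IsScalarTower A Ash Bsh] [IsLocalHom (algebraMap Ash Bsh)]
    (Csh : Type u) [CommRing Csh] [IsLocalRing Csh] [Algebra (Localization.AtPrime pC) Csh]
    [IsLocalHom (algebraMap (Localization.AtPrime pC) Csh)]
    [Hensel.IsStrictHenselization (Localization.AtPrime pC) Csh] [Algebra C Csh]
    [IsScalarTower C (Localization.AtPrime pC) Csh] [Algebra A Csh] [IsScalarTower A C Csh]
    [Algebra Ash Csh] [IsScalarTower A Ash Csh] [IsLocalHom (algebraMap Ash Csh)]
    (Dsh : Type u) [CommRing Dsh] [IsLocalRing Dsh] [Algebra (Localization.AtPrime pD) Dsh]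
    [IsLocalHom (algebraMap (Localization.AtPrime pD) Dsh)]
    [Hensel.IsStrictHenselization (Localization.AtPrime pD) Dsh] [Algebra (B ⊗[A] C) Dsh]
    [IsScalarTower (B ⊗[A] C) (Localization.AtPrime pD) Dsh]
    [Algebra Bsh Dsh] [IsLocalHom (algebraMap Bsh Dsh)] [Algebra B Dsh] [IsScalarTower B Bsh Dsh]
    [IsScalarTower B (B ⊗[A] C) Dsh]
    [Algebra Csh Dsh] [IsLocalHom (algebraMap Csh Dsh)]
    (hC : ∀ c : C, algebraMap Csh Dsh (algebraMap C Csh c) = algebraMap (B ⊗[A] C) Dsh (1 ⊗ₜ[A] c))
    [Algebra Ash Dsh] [IsScalarTower Ash Bsh Dsh] [IsScalarTower Ash Csh Dsh]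
    [Algebra.IsIntegral Ash Bsh] :
    Function.Bijective (Algebra.TensorProduct.lift (IsScalarTower.toAlgHom Ash Bsh Dsh)
      (IsScalarTower.toAlgHom Ash Csh Dsh) (fun _ _ => Commute.all _ _)) := by
  have := (inferInstance : Hensel.IsStrictHenselization (Localization.AtPrime pC) Csh).henselian
  have := (inferInstance : Hensel.IsStrictHenselization (Localization.AtPrime pB) Bsh).henselian
  have hA := (inferInstance : Hensel.IsStrictHenselization (Localization.AtPrime pA) Ash).isSepClosure
  have : IsSepClosed (ResidueField Ash) := hA.sep_closed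
  have : IsSepClosed (ResidueField Csh) :=
    (inferInstance : Hensel.IsStrictHenselization (Localization.AtPrime pC) Csh).isSepClosure.sep_closed
  have hD := (inferInstance : Hensel.IsStrictHenselization (Localization.AtPrime pD) Dsh)
  have := hD.henselian
  have : IsSepClosed (ResidueField Dsh) := hD.isSepClosure.sep_closed
  let P := Csh ⊗[Ash] Bsh
  let Φ : P →ₐ[Ash] Dsh := Algebra.TensorProduct.lift (IsScalarTower.toAlgHom Ash Csh Dsh)
    (IsScalarTower.toAlgHom Ash Bsh Dsh) fun _ _ => Commute.all _ _
  have : Nontrivial P := Φ.toRingHom.domain_nontrivial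
  obtain ⟨M, hM⟩ := Ideal.exists_maximal P
  have : IsLocalRing P := IsLocalRing.of_unique_max_ideal ⟨M, hM, fun N hN =>
    maximal_unique Ash Bsh Csh N M (LocalInt.comap_maximal Csh N) (LocalInt.comap_maximal Csh M)⟩
  have : IsLocalHom (algebraMap Csh P) := LocalInt.isLocalHom_of_isIntegral Csh P
  have : HenselianLocalRing P := henselianLocalRing_of_isIntegral Csh P
  have : IsSepClosed (ResidueField P) := LocalInt.isSepClosed_residueField Csh P
  have hΦt : ∀ (c : Csh) (b : Bsh), Φ (c ⊗ₜ[Ash] b) = algebraMap Csh Dsh c * algebraMap Bsh Dsh b :=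
    fun c b => Algebra.TensorProduct.lift_tmul _ _ _ c b
  have hΦC : ∀ c : Csh, Φ (algebraMap Csh P c) = algebraMap Csh Dsh c := fun c =>
    (hΦt c 1).trans (by rw [map_one, mul_one])
  have hΦB : ∀ b : Bsh, Φ ((1 : Csh) ⊗ₜ[Ash] b) = algebraMap Bsh Dsh b := fun b =>
    (hΦt 1 b).trans (by rw [map_one, one_mul])
  have hΦmax : (maximalIdeal Dsh).comap Φ.toRingHom = maximalIdeal P := by
    have hcomap : ((maximalIdeal Dsh).comap Φ.toRingHom).comap (algebraMap Csh P) = maximalIdeal Csh := by
      rw [Ideal.comap_comap, show Φ.toRingHom.comp (algebraMap Csh P) = algebraMap Csh Dsh from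
        RingHom.ext hΦC]
      exact maximalIdeal_comap (algebraMap Csh Dsh)
    exact eq_maximalIdeal (Ideal.isMaximal_of_isIntegral_of_isMaximal_comap (R := Csh) _
      (hcomap ▸ maximalIdeal.isMaximal Csh))
  have hΦloc : IsLocalHom Φ.toRingHom := ((IsLocalRing.local_hom_TFAE _).out 4 0).mp hΦmax
  -- the map from `B ⊗ C`
  have hAP : ∀ a : A, algebraMap Csh P (algebraMap A Csh a) = (1 : Csh) ⊗ₜ[Ash] algebraMap A Bsh a := by
    intro a
    rw [IsScalarTower.algebraMap_apply A Ash Csh, IsScalarTower.algebraMap_apply A Ash Bsh]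
    exact ((Algebra.TensorProduct.includeLeft : Csh →ₐ[Ash] P).commutes _).trans
      ((Algebra.TensorProduct.includeRight : Bsh →ₐ[Ash] P).commutes _).symm
  let δB : B →ₐ[A] P :=
    { ((Algebra.TensorProduct.includeRight : Bsh →ₐ[Ash] P).toRingHom.comp (algebraMap B Bsh)) with
      commutes' := fun a => by
        show (1 : Csh) ⊗ₜ[Ash] algebraMap B Bsh (algebraMap A B a) = _
        rw [← IsScalarTower.algebraMap_apply, ← hAP]
        rfl }
  let δC : C →ₐ[A] P :=
    { (algebraMap Csh P).comp (algebraMap C Csh) with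
      commutes' := fun a => congrArg (algebraMap Csh P) (IsScalarTower.algebraMap_apply A C Csh a).symm }
  let δ : B ⊗[A] C →ₐ[A] P := Algebra.TensorProduct.lift δB δC fun _ _ => Commute.all _ _
  have hδB : ∀ b, δ (b ⊗ₜ[A] (1 : C)) = (1 : Csh) ⊗ₜ[Ash] algebraMap B Bsh b := fun b => by
    simp [δ]; rfl
  have hδC : ∀ c, δ ((1 : B) ⊗ₜ[A] c) = algebraMap Csh P (algebraMap C Csh c) := fun c => by
    simp [δ]; rfl
  have hΦδ : ∀ d, Φ (δ d) = algebraMap (B ⊗[A] C) Dsh d := fun d => by
    induction d using TensorProduct.induction_on with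
    | zero => simp
    | tmul b c =>
      rw [show b ⊗ₜ[A] c = (b ⊗ₜ[A] (1 : C)) * ((1 : B) ⊗ₜ[A] c) by simp, map_mul δ, map_mul Φ,
        hδB, hδC, hΦC, hC, map_mul (algebraMap (B ⊗[A] C) Dsh)]
      congr 1
      rw [hΦB, ← IsScalarTower.algebraMap_apply]
      exact IsScalarTower.algebraMap_apply B (B ⊗[A] C) Dsh b
    | add x y hx hy => rw [map_add δ, map_add Φ, hx, hy, map_add]
  let fD : Localization.AtPrime pD →+* P := IsLocalization.lift (M := pD.primeCompl) (g := δ.toRingHom)
    fun d => hΦloc.map_nonunit _ (by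
      show IsUnit (Φ (δ d.1))
      rw [hΦδ, IsScalarTower.algebraMap_apply (B ⊗[A] C) (Localization.AtPrime pD) Dsh]
      exact (IsLocalization.map_units (Localization.AtPrime pD) d).map _)
  have hfD : ∀ d, fD (algebraMap (B ⊗[A] C) _ d) = δ d := fun d => IsLocalization.lift_eq _ d
  have hΦfD : Φ.toRingHom.comp fD = algebraMap (Localization.AtPrime pD) Dsh :=
    IsLocalization.ringHom_ext pD.primeCompl (RingHom.ext fun d => by
      show Φ (fD (algebraMap _ _ d)) = algebraMap (Localization.AtPrime pD) Dsh (algebraMap _ _ d)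
      rw [hfD, hΦδ, ← IsScalarTower.algebraMap_apply])
  have hfDloc : IsLocalHom fD := ⟨fun x hx => by
    have h := hx.map Φ.toRingHom
    rw [show Φ.toRingHom (fD x) = algebraMap (Localization.AtPrime pD) Dsh x from congr($hΦfD x)] at h
    exact isUnit_of_map_unit _ x h⟩
  let τ := ResidueField.map Φ.toRingHom
  have hτ : τ.comp (ResidueField.map fD) = ResidueField.map (algebraMap (Localization.AtPrime pD) Dsh) :=
    RingHom.ext fun x => by
      obtain ⟨d, rfl⟩ := IsLocalRing.residue_surjective x
      exact congrArg (residue Dsh) congr($hΦfD d)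
  have hτsurj : Function.Surjective τ := by
    let : Algebra (ResidueField P) (ResidueField Dsh) := τ.toAlgebra
    let : Algebra (ResidueField (Localization.AtPrime pD)) (ResidueField P) :=
      (ResidueField.map fD).toAlgebra
    have : IsScalarTower (ResidueField (Localization.AtPrime pD)) (ResidueField P) (ResidueField Dsh) :=
      IsScalarTower.of_algebraMap_eq fun x => congr($hτ.symm x)
    have := hD.isSepClosure.separable
    have : Algebra.IsSeparable (ResidueField P) (ResidueField Dsh) :=
      Algebra.isSeparable_tower_top_of_isSeparable (ResidueField (Localization.AtPrime pD)) _ _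
    exact IsSepClosed.algebraMap_surjective (ResidueField P) (ResidueField Dsh)
  let e₀ := RingEquiv.ofBijective τ ⟨τ.injective, hτsurj⟩
  obtain ⟨Ψ, ⟨hΨ, hΨres⟩, -⟩ := hD.universal P fD e₀.symm.toRingHom (RingHom.ext fun x =>
    e₀.injective (by
      show e₀ (e₀.symm _) = _
      rw [e₀.apply_symm_apply]
      exact congr($hτ.symm x)))
  have h1 : Φ.toRingHom.comp Ψ = RingHom.id Dsh :=
    (hD.universal Dsh (algebraMap (Localization.AtPrime pD) Dsh) (RingHom.id _) (RingHom.id_comp _)).unique
      ⟨by rw [RingHom.comp_assoc, hΨ, hΦfD], fun x => by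
        show τ (residue P (Ψ x)) = residue Dsh x
        rw [hΨres]
        exact e₀.apply_symm_apply _⟩ ⟨RingHom.id_comp _, fun _ => rfl⟩
  have hres : ∀ x : P, residue P (Ψ (Φ x)) = residue P x := fun x => by
    rw [hΨres]
    show e₀.symm (e₀ (residue P x)) = _
    exact e₀.symm_apply_apply _
  have hD' : ∀ d, Ψ (Φ (δ d)) = δ d := fun d => by
    rw [hΦδ, IsScalarTower.algebraMap_apply (B ⊗[A] C) (Localization.AtPrime pD) Dsh,
      show Ψ (algebraMap (Localization.AtPrime pD) Dsh _) = _ from congr($hΨ _), hfD]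
  let iC : Csh →+* P := algebraMap Csh P
  have keyC : Ψ.comp (Φ.toRingHom.comp iC) = iC :=
    ((inferInstance : Hensel.IsStrictHenselization (Localization.AtPrime pC) Csh).universal P
      (iC.comp (algebraMap _ Csh)) (ResidueField.map iC) (ResidueField.map_comp _ _).symm
      ).unique
      ⟨IsLocalization.ringHom_ext pC.primeCompl (RingHom.ext fun c => by
        show Ψ (Φ (iC (algebraMap (Localization.AtPrime pC) Csh (algebraMap C _ c)))) =
          iC (algebraMap (Localization.AtPrime pC) Csh (algebraMap C _ c))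
        rw [show algebraMap (Localization.AtPrime pC) Csh (algebraMap C _ c) = algebraMap C Csh c from
            (IsScalarTower.algebraMap_apply C (Localization.AtPrime pC) Csh c).symm,
          show iC (algebraMap C Csh c) = _ from (hδC c).symm, hD']),
        fun x => hres (iC x)⟩ ⟨rfl, fun _ => rfl⟩
  let iB : Bsh →+* P := (Algebra.TensorProduct.includeRight : Bsh →ₐ[Ash] P).toRingHom
  have hiB : IsLocalHom iB := by
    have : IsLocalHom (Φ.toRingHom.comp iB) := by
      rw [show Φ.toRingHom.comp iB = algebraMap Bsh Dsh from RingHom.ext hΦB]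
      infer_instance
    exact ⟨fun b hb => isUnit_of_map_unit (Φ.toRingHom.comp iB) b (hb.map Φ.toRingHom)⟩
  have keyB : Ψ.comp (Φ.toRingHom.comp iB) = iB :=
    ((inferInstance : Hensel.IsStrictHenselization (Localization.AtPrime pB) Bsh).universal P
      (iB.comp (algebraMap _ Bsh)) (ResidueField.map iB) (ResidueField.map_comp _ _).symm
      ).unique
      ⟨IsLocalization.ringHom_ext pB.primeCompl (RingHom.ext fun b => by
        show Ψ (Φ (iB (algebraMap _ Bsh (algebraMap B _ b)))) = iB (algebraMap _ Bsh (algebraMap B _ b))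
        rw [← IsScalarTower.algebraMap_apply, show iB (algebraMap B Bsh b) = _ from (hδB b).symm, hD']),
        fun x => hres (iB x)⟩ ⟨rfl, fun _ => rfl⟩
  have h2 : ∀ x : P, Ψ (Φ x) = x := fun x => by
    induction x using TensorProduct.induction_on with
    | zero => simp
    | tmul c b =>
      rw [show c ⊗ₜ[Ash] b = iC c * iB b by simp [iC, iB, P], map_mul Φ, map_mul Ψ]
      exact congrArg₂ (· * ·) congr($keyC c) congr($keyB b)
    | add x y hx hy => rw [map_add Φ, map_add Ψ, hx, hy]
  have hbij : Function.Bijective Φ := ⟨Function.LeftInverse.injective h2,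
    Function.RightInverse.surjective (g := Ψ) fun x => congr($h1 x)⟩
  have heq : (Algebra.TensorProduct.lift (IsScalarTower.toAlgHom Ash Bsh Dsh)
      (IsScalarTower.toAlgHom Ash Csh Dsh) (fun _ _ => Commute.all _ _)) =
      Φ.comp (Algebra.TensorProduct.comm Ash Bsh Csh).toAlgHom := by
    refine Algebra.TensorProduct.ext' fun b c => ?_
    rw [AlgHom.comp_apply, Algebra.TensorProduct.lift_tmul, mul_comm]
    exact (hΦt c b).symm
  rw [heq]
  exact hbij.comp (Algebra.TensorProduct.comm Ash Bsh Csh).bijective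

end Groth.Agent.HenselLib.StrictBase
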