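import Groth.Agent.S9460
import Groth.Agent.HenselLib.QFLocal
import Groth.Agent.HenselLib.StrictBase
import Mathlib.RingTheory.TensorProduct.Finite

/-!
# Strict henselizations along ind-quasi-finite maps are integral
-/

set_option autoImplicit false
set_option linter.all false

universe u

open IsLocalRing TensorProduct

namespace Groth.Agent.HenselLib.IndQF

theorem isIntegral_of_qf_maps (A L : Type u) [CommRing A] [HenselianLocalRing A] [CommRing L]
    [IsLocalRing L] [Algebra A L] [IsLocalHom (algebraMap A L)]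
    (h : ∀ x : L, ∃ (T₀ : Type u) (_ : CommRing T₀) (_ : Algebra A T₀)
      (_ : Algebra.FiniteType A T₀) (_ : Algebra.QuasiFinite A T₀) (g : T₀ →ₐ[A] L) (a b : T₀),
        IsUnit (g b) ∧ x * g b = g a) :
    Algebra.IsIntegral A L := by
  refine ⟨fun x => ?_⟩
  obtain ⟨T₀, _, _, _, _, g, a, b, hb, hx⟩ := h x
  let Q₀ : Ideal T₀ := (maximalIdeal L).comap g.toRingHom
  have hQ₀p : Q₀.IsPrime := inferInstanceAs ((maximalIdeal L).comap _).IsPrime
  have hQ₀ : Q₀.comap (algebraMap A T₀) = maximalIdeal A := by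
    rw [Ideal.comap_comap, show g.toRingHom.comp (algebraMap A T₀) = algebraMap A L from g.comp_algebraMap]
    exact maximalIdeal_comap (algebraMap A L)
  have hfin := (QFLocal.surjective_and_finite A Q₀ hQ₀).2
  let G : Localization.AtPrime Q₀ →ₐ[A] L := IsLocalization.liftAlgHom (M := Q₀.primeCompl) (f := g)
    fun y => IsLocalRing.notMem_maximalIdeal.mp y.2
  have hbQ : b ∈ Q₀.primeCompl := fun h' => (IsLocalRing.mem_maximalIdeal _).mp h' hb
  have hG : ∀ y, G (algebraMap T₀ _ y) = g y := fun y => IsLocalization.lift_eq _ y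
  have hx' : x = G (IsLocalization.mk' _ a ⟨b, hbQ⟩) := by
    refine hb.mul_left_injective ?_
    show x * g b = G _ * g b
    rw [← hG b, ← map_mul, IsLocalization.mk'_spec_mk, hG, hG, hx]
  rw [hx']
  exact (Algebra.IsIntegral.isIntegral _).map G

section

variable (A B : Type u) [CommRing A] [CommRing B] [Algebra A B]
  (pA : Ideal A) [pA.IsPrime] (pB : Ideal B) [pB.IsPrime] [pB.LiesOver pA]
  (Ash : Type u) [CommRing Ash] [IsLocalRing Ash] [Algebra (Localization.AtPrime pA) Ash]
  [IsLocalHom (algebraMap (Localization.AtPrime pA) Ash)]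
  [Hensel.IsStrictHenselization (Localization.AtPrime pA) Ash] [Algebra A Ash]
  [IsScalarTower A (Localization.AtPrime pA) Ash]
  (Bsh : Type u) [CommRing Bsh] [IsLocalRing Bsh] [Algebra (Localization.AtPrime pB) Bsh]
  [IsLocalHom (algebraMap (Localization.AtPrime pB) Bsh)]
  [Hensel.IsStrictHenselization (Localization.AtPrime pB) Bsh] [Algebra B Bsh]
  [IsScalarTower B (Localization.AtPrime pB) Bsh] [Algebra A Bsh] [IsScalarTower A B Bsh]
  [Algebra Ash Bsh] [IsScalarTower A Ash Bsh] [IsLocalHom (algebraMap Ash Bsh)]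

/-- The prime of `Ash ⊗ B`. -/
abbrev basePrime : Ideal (Ash ⊗[A] B) :=
  Ideal.comap (Algebra.TensorProduct.lift (IsScalarTower.toAlgHom A Ash Bsh)
    (IsScalarTower.toAlgHom A B Bsh) (fun _ _ => Commute.all _ _)) (maximalIdeal Bsh)

omit [pB.LiesOver pA] in
theorem mem_basePrime_iff (b : B) : (1 : Ash) ⊗ₜ[A] b ∈ basePrime A B Ash Bsh ↔ b ∈ pB := by
  rw [Ideal.mem_comap]
  simp only [Algebra.TensorProduct.lift_tmul, map_one, one_mul, IsScalarTower.coe_toAlgHom']
  rw [IsScalarTower.algebraMap_apply B (Localization.AtPrime pB) Bsh, IsLocalRing.mem_maximalIdeal,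
    mem_nonunits_iff, isUnit_map_iff, ← mem_nonunits_iff, ← IsLocalRing.mem_maximalIdeal,
    IsLocalization.AtPrime.to_map_mem_maximal_iff _ pB]

include pA pB in
theorem isIntegral_sh
    (h : ∀ s : Finset B, ∃ (T₀ : Type u) (_ : CommRing T₀) (_ : Algebra Ash T₀)
      (_ : Algebra.FiniteType Ash T₀) (_ : Algebra.QuasiFinite Ash T₀)
      (g : T₀ →ₐ[Ash] Localization.AtPrime (basePrime A B Ash Bsh)),
        ∀ b ∈ s, ∃ y, g y = algebraMap (Ash ⊗[A] B) _ ((1 : Ash) ⊗ₜ[A] b)) :
    Algebra.IsIntegral Ash Bsh := by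
  classical
  have hA := (inferInstance : Hensel.IsStrictHenselization (Localization.AtPrime pA) Ash)
  have := hA.henselian
  have : IsSepClosed (ResidueField Ash) := hA.isSepClosure.sep_closed
  let L := Localization.AtPrime (basePrime A B Ash Bsh)
  have hloc : IsLocalHom (algebraMap Ash L) := ⟨fun r hr => by
    by_contra hn
    rw [IsScalarTower.algebraMap_apply Ash (Ash ⊗[A] B) L,
      IsLocalization.AtPrime.isUnit_to_map_iff L (basePrime A B Ash Bsh)] at hr
    refine hr ?_
    show algebraMap Ash (Ash ⊗[A] B) r ∈ basePrime A B Ash Bsh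
    rw [Ideal.mem_comap]
    simpa using map_nonunit (algebraMap Ash Bsh) r hn⟩
  have hint : Algebra.IsIntegral Ash L := isIntegral_of_qf_maps Ash L fun x => by
    obtain ⟨t, ⟨w, hw⟩, rfl⟩ := IsLocalization.exists_mk'_eq (basePrime A B Ash Bsh).primeCompl x
    obtain ⟨St, hSt⟩ := TensorProduct.exists_finset t
    obtain ⟨Sw, hSw⟩ := TensorProduct.exists_finset w
    obtain ⟨T₀, i₁, i₂, i₃, i₄, g, hg⟩ := h (St.image Prod.snd ∪ Sw.image Prod.snd)
    have hrange : ∀ (S : Finset (Ash × B)), S.image Prod.snd ⊆ St.image Prod.snd ∪ Sw.image Prod.snd →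
        ∃ y, g y = algebraMap (Ash ⊗[A] B) L (∑ i ∈ S, i.1 ⊗ₜ[A] i.2) := by
      intro S hS
      rw [map_sum]
      refine ⟨∑ i ∈ S.attach, algebraMap Ash T₀ i.1.1 *
        (hg i.1.2 (hS (Finset.mem_image_of_mem _ i.2))).choose, ?_⟩
      rw [map_sum, ← Finset.sum_attach S fun i => algebraMap (Ash ⊗[A] B) L (i.1 ⊗ₜ[A] i.2)]
      refine Finset.sum_congr rfl fun i _ => ?_
      rw [map_mul, g.commutes, (hg i.1.2 (hS (Finset.mem_image_of_mem _ i.2))).choose_spec,
        IsScalarTower.algebraMap_apply Ash (Ash ⊗[A] B) L, ← map_mul]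
      simp
    obtain ⟨a, ha⟩ := hrange St Finset.subset_union_left
    obtain ⟨b, hb⟩ := hrange Sw Finset.subset_union_right
    rw [← hSt] at ha
    rw [← hSw] at hb
    refine ⟨T₀, i₁, i₂, i₃, i₄, g, a, b, hb ▸ IsLocalization.map_units L ⟨w, hw⟩, ?_⟩
    rw [ha, hb]
    exact IsLocalization.mk'_spec L t ⟨w, hw⟩
  have : HenselianLocalRing L := henselianLocalRing_of_isIntegral Ash L
  have : IsSepClosed (ResidueField L) := LocalInt.isSepClosed_residueField Ash L
  have : IsLocalHom (algebraMap L L) := ⟨fun _ h => h⟩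
  have := LocalInt.isStrictHenselization_self L
  obtain ⟨e, he⟩ := Groth.Agent.S9460.aux A B pA pB Ash Bsh (basePrime A B Ash Bsh)
    (fun _ => Iff.rfl) L
  let e' : L ≃ₐ[Ash] Bsh := AlgEquiv.ofRingEquiv (f := e) fun r => by
    rw [IsScalarTower.algebraMap_apply Ash (Ash ⊗[A] B) L]
    refine (he _).trans ?_
    simp
  exact Algebra.IsIntegral.of_surjective e'.toAlgHom e'.surjective

include pA pB in
theorem isIntegral_sh_of_subalgebras
    (hB : ∀ s : Finset B, ∃ B₀ : Subalgebra A B, (↑s : Set B) ⊆ ↑B₀ ∧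
      Algebra.FiniteType A ↥B₀ ∧ Algebra.QuasiFinite A ↥B₀) :
    Algebra.IsIntegral Ash Bsh := by
  refine isIntegral_sh A B pA pB Ash Bsh fun s => ?_
  obtain ⟨B₀, hs, h1, h2⟩ := hB s
  refine ⟨Ash ⊗[A] B₀, inferInstance, inferInstance, inferInstance, inferInstance,
    (IsScalarTower.toAlgHom Ash (Ash ⊗[A] B) (Localization.AtPrime (basePrime A B Ash Bsh))).comp
      (Algebra.TensorProduct.map (AlgHom.id Ash Ash) B₀.val),
    fun b hb => ⟨(1 : Ash) ⊗ₜ[A] ⟨b, hs hb⟩, by simp⟩⟩

include pA pB in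
theorem isIntegral_sh_of_localization [Algebra (Localization.AtPrime pA) (Localization.AtPrime pB)]
    [IsScalarTower A (Localization.AtPrime pA) (Localization.AtPrime pB)]
    (hB : ∀ s : Finset (Localization.AtPrime pB),
      ∃ B₀ : Subalgebra (Localization.AtPrime pA) (Localization.AtPrime pB),
        (↑s : Set (Localization.AtPrime pB)) ⊆ ↑B₀ ∧
          Algebra.FiniteType (Localization.AtPrime pA) ↥B₀ ∧
            Algebra.QuasiFinite (Localization.AtPrime pA) ↥B₀) :
    Algebra.IsIntegral Ash Bsh := by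
  classical
  refine isIntegral_sh A B pA pB Ash Bsh fun s => ?_
  obtain ⟨B₀, hs, h1, h2⟩ := hB (s.image (algebraMap B (Localization.AtPrime pB)))
  let L := Localization.AtPrime (basePrime A B Ash Bsh)
  let iB : B →+* L := (algebraMap (Ash ⊗[A] B) L).comp
    (Algebra.TensorProduct.includeRight : B →ₐ[A] Ash ⊗[A] B).toRingHom
  let j : Localization.AtPrime pB →+* L := IsLocalization.lift (M := pB.primeCompl) (g := iB)
    fun b => (IsLocalization.AtPrime.isUnit_to_map_iff L (basePrime A B Ash Bsh) _).mpr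
      ((mem_basePrime_iff A B pB Ash Bsh b).not.mpr b.2)
  have hj : ∀ b, j (algebraMap B _ b) = algebraMap (Ash ⊗[A] B) L ((1 : Ash) ⊗ₜ[A] b) := fun b =>
    IsLocalization.lift_eq _ b
  have hjA : ∀ r, j (algebraMap (Localization.AtPrime pA) (Localization.AtPrime pB) r) =
      algebraMap Ash L (algebraMap (Localization.AtPrime pA) Ash r) := fun r => by
    have : j.comp (algebraMap (Localization.AtPrime pA) (Localization.AtPrime pB)) =
        (algebraMap Ash L).comp (algebraMap (Localization.AtPrime pA) Ash) :=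
      IsLocalization.ringHom_ext pA.primeCompl (RingHom.ext fun a => by
        show j (algebraMap (Localization.AtPrime pA) (Localization.AtPrime pB) (algebraMap A _ a)) =
          algebraMap Ash L (algebraMap (Localization.AtPrime pA) Ash (algebraMap A _ a))
        rw [← IsScalarTower.algebraMap_apply A (Localization.AtPrime pA) (Localization.AtPrime pB),
          ← IsScalarTower.algebraMap_apply A (Localization.AtPrime pA) Ash,
          IsScalarTower.algebraMap_apply A B (Localization.AtPrime pB), hj,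
          IsScalarTower.algebraMap_apply Ash (Ash ⊗[A] B) L]
        exact congrArg _ (((Algebra.TensorProduct.includeRight : B →ₐ[A] Ash ⊗[A] B).commutes a).trans
          ((Algebra.TensorProduct.includeLeft : Ash →ₐ[A] Ash ⊗[A] B).commutes a).symm))
    exact congr($this r)
  let j₀ : B₀ →ₐ[Localization.AtPrime pA] L :=
    { j.comp B₀.val.toRingHom with
      commutes' := fun r => (hjA r).trans
        (IsScalarTower.algebraMap_apply (Localization.AtPrime pA) Ash L r).symm }
  refine ⟨Ash ⊗[Localization.AtPrime pA] B₀, inferInstance, inferInstance, inferInstance, inferInstance,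
    Algebra.TensorProduct.lift (Algebra.ofId Ash L) j₀ fun _ _ => Commute.all _ _,
    fun b hb => ⟨(1 : Ash) ⊗ₜ[Localization.AtPrime pA]
      ⟨algebraMap B _ b, hs (Finset.mem_image_of_mem _ hb)⟩, ?_⟩⟩
  rw [Algebra.TensorProduct.lift_tmul, map_one, one_mul]
  exact hj b

end

end Groth.Agent.HenselLib.IndQF
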