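import Mathlib
import Groth.Agent.HenselLib.WContractIff

/-!
# Bijectivity on local rings passes to generisations
-/

set_option autoImplicit false

universe u

namespace Groth.Agent.HenselLib.WCtr

theorem bijAt_of_le {A D : Type u} [CommRing A] [CommRing D] [Algebra A D] {q c : PrimeSpectrum D}
    (hqc : q ≤ c) (h : BijAt A c) : BijAt A q := by
  let p := c.asIdeal.comap (algebraMap A D)
  let L := Localization.AtPrime c.asIdeal
  have hloc : IsLocalization p.primeCompl L := by
    refine IsLocalization.isLocalization_of_algEquiv p.primeCompl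
      ({ RingEquiv.ofBijective _ h with
        commutes' := fun a => ?_ } : Localization.AtPrime p ≃ₐ[A] L)
    show Localization.localRingHom p c.asIdeal _ rfl (algebraMap A _ a) = _
    rw [Localization.localRingHom_to_map]
    exact (IsScalarTower.algebraMap_apply A D L a).symm
  obtain ⟨P, hP⟩ : q ∈ Set.range (PrimeSpectrum.comap (algebraMap D L)) := by
    rw [PrimeSpectrum.localization_comap_range L c.asIdeal.primeCompl]
    exact Set.disjoint_left.2 fun x hx hxq => hx (hqc hxq)
  subst hP
  have h1 : BijAt D P := bijAt_of_isLocalization c.asIdeal.primeCompl P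
  have h2 : BijAt A P := bijAt_of_isLocalization p.primeCompl P
  have e : (P.asIdeal.comap (algebraMap D L)).comap (algebraMap A D) =
      P.asIdeal.comap (algebraMap A L) := by
    rw [Ideal.comap_comap, ← IsScalarTower.algebraMap_eq]
  have h3 := localRingHom_bijective_congr (algebraMap A L) e.symm rfl e h2
  rw [localRingHom_tower (B := D) e rfl, RingHom.coe_comp] at h3
  exact Function.Bijective.of_comp_iff' h1 _ |>.1 h3

/-- Local rings at closed points over closed points of a weakly etale algebra. -/
theorem bijAt_of_weaklyEtale {A B : Type u} [CommRing A] [CommRing B] [Algebra A B] [Algebra.WeaklyEtale A B]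
    (q : PrimeSpectrum B)
    (hsh : EtCoh.IsStrictlyHenselianLocalRing (Localization.AtPrime (q.asIdeal.comap (algebraMap A B)))) :
    BijAt A q := by
  let m := q.asIdeal.comap (algebraMap A B)
  haveI : q.asIdeal.LiesOver m := ⟨rfl⟩
  letI : Algebra (Localization.AtPrime m) (Localization.AtPrime q.asIdeal) :=
    Localization.AtPrime.algebraOfLiesOver m q.asIdeal
  haveI := WEtNoeth.weaklyEtale_atPrime (A := A) m q.asIdeal
  obtain ⟨h1, h2⟩ := hsh
  haveI := h1
  haveI := h2
  haveI : IsLocalHom (algebraMap (Localization.AtPrime m) (Localization.AtPrime q.asIdeal)) := by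
    rw [Localization.AtPrime.IsLiesOverAlgebra.algebraMap_eq (p := m) (P := q.asIdeal)]
    infer_instance
  have h := Olivier.bijective (A := Localization.AtPrime m) (B := Localization.AtPrime q.asIdeal)
  rw [Localization.AtPrime.IsLiesOverAlgebra.algebraMap_eq (p := m) (P := q.asIdeal)] at h
  exact h

end Groth.Agent.HenselLib.WCtr
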