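import Mathlib
import Groth.Prelude.Def_PBC
import Groth.Agent.HenselLib.IndEtale

/-!
# A localisation as the colimit of the localisations at elements
-/

set_option autoImplicit false

open CategoryTheory Limits

universe u

namespace Groth.Agent.HenselLib.LocColim

variable {A : Type u} [CommRing A] (S : Submonoid A)

/-- Elements of the submonoid ordered by divisibility. -/
structure Idx : Type u where
  s : A
  mem : s ∈ S

instance : Preorder (Idx S) where
  le x y := x.s ∣ y.s
  le_refl _ := dvd_rfl
  le_trans _ _ _ h h' := dvd_trans h h'

instance : Nonempty (Idx S) := ⟨⟨1, one_mem S⟩⟩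

instance : IsDirectedOrder (Idx S) :=
  ⟨fun x y => ⟨⟨x.s * y.s, mul_mem x.mem y.mem⟩, dvd_mul_right _ _, dvd_mul_left _ _⟩⟩

/-- A transition map. -/
noncomputable def tr {x y : Idx S} (h : x ≤ y) : Localization.Away x.s →+* Localization.Away y.s :=
  IsLocalization.Away.lift x.s (g := algebraMap A (Localization.Away y.s))
    (isUnit_of_dvd_unit (map_dvd _ (show x.s ∣ y.s from h)) (IsLocalization.Away.algebraMap_isUnit y.s))

theorem tr_algebraMap {x y : Idx S} (h : x ≤ y) (a : A) :
    tr S h (algebraMap A _ a) = algebraMap A _ a :=
  IsLocalization.Away.lift_eq _ _ a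

theorem ext_away {x : Idx S} {X : Type u} [CommRing X] {f g : Localization.Away x.s →+* X}
    (h : ∀ a, f (algebraMap A _ a) = g (algebraMap A _ a)) : f = g :=
  IsLocalization.ringHom_ext (Submonoid.powers x.s) (RingHom.ext h)

/-- The diagram of localisations at elements. -/
noncomputable def diag : Idx S ⥤ CommRingCat.{u} where
  obj x := CommRingCat.of (Localization.Away x.s)
  map h := CommRingCat.ofHom (tr S (leOfHom h))
  map_id x := CommRingCat.hom_ext (ext_away S fun a => tr_algebraMap S le_rfl a)
  map_comp {x y z} f g := CommRingCat.hom_ext (ext_away S fun a => by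
    show tr S (leOfHom (f ≫ g)) (algebraMap A _ a) = tr S (leOfHom g) (tr S (leOfHom f) (algebraMap A _ a))
    rw [tr_algebraMap, tr_algebraMap, tr_algebraMap])

variable (B : Type u) [CommRing B] [Algebra A B] [IsLocalization S B]

/-- The map of a stage to the localisation. -/
noncomputable def toLim (x : Idx S) : Localization.Away x.s →+* B :=
  IsLocalization.Away.lift x.s (g := algebraMap A B) (IsLocalization.map_units B (⟨x.s, x.mem⟩ : S))

theorem toLim_algebraMap (x : Idx S) (a : A) : toLim S B x (algebraMap A _ a) = algebraMap A B a :=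
  IsLocalization.Away.lift_eq _ _ a

/-- The cocone. -/
@[reducible]
noncomputable def cocone : Cocone (diag S) where
  pt := CommRingCat.of B
  ι :=
    { app := fun x => CommRingCat.ofHom (toLim S B x)
      naturality := fun x y h => CommRingCat.hom_ext (ext_away S fun a => by
        show toLim S B y (tr S (leOfHom h) (algebraMap A _ a)) = toLim S B x (algebraMap A _ a)
        rw [tr_algebraMap, toLim_algebraMap, toLim_algebraMap]) }

/-- The map of a stage to the point of a cocone. -/
noncomputable def leg (c : Cocone (diag S)) (x : Idx S) : Localization.Away x.s →+* c.pt := (c.ι.app x).hom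

/-- The base element. -/
abbrev base : Idx S := ⟨1, one_mem S⟩

/-- The localisation is the colimit. -/
noncomputable def isColimit : IsColimit (cocone S B) :=
  have hs : ∀ (c : Cocone (diag S)) (x : Idx S) (a : A),
      leg S c x (algebraMap A _ a) = leg S c (base S) (algebraMap A _ a) := fun c x a => by
    refine (congrArg (leg S c x) (tr_algebraMap S (show base S ≤ x from one_dvd _) a)).symm.trans ?_
    exact ConcreteCategory.congr_hom (c.w (homOfLE (show base S ≤ x from one_dvd _))) _
  have hu : ∀ (c : Cocone (diag S)) (s : S),
      IsUnit ((leg S c (base S)).comp (algebraMap A (Localization.Away (base S).s)) s) := fun c s => by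
    rw [RingHom.comp_apply, ← hs c ⟨s.1, s.2⟩]
    exact (IsLocalization.Away.algebraMap_isUnit s.1).map _
  { desc := fun c => CommRingCat.ofHom (IsLocalization.lift (S := B) (hu c))
    fac := fun c x => CommRingCat.hom_ext (ext_away S fun a => by
      show IsLocalization.lift (S := B) (hu c) (toLim S B x (algebraMap A _ a)) = leg S c x (algebraMap A _ a)
      rw [toLim_algebraMap, IsLocalization.lift_eq]
      exact (hs c x a).symm)
    uniq := fun c m hm => CommRingCat.hom_ext (show (m.hom : B →+* c.pt) = _ from
      IsLocalization.ringHom_ext S (RingHom.ext fun a => by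
        show m.hom (algebraMap A B a) = IsLocalization.lift (S := B) (hu c) (algebraMap A B a)
        rw [IsLocalization.lift_eq, ← toLim_algebraMap S B (base S) a]
        exact ConcreteCategory.congr_hom (hm (base S)) _)) }

include S in
/-- An etale algebra over a localisation comes from an etale algebra over the base. -/
theorem exists_descent (C : Type u) [CommRing C] [Algebra B C] [Algebra.Etale B C] [Algebra A C]
    [IsScalarTower A B C] :
    ∃ (C₀ : Type u) (_ : CommRing C₀) (_ : Algebra A C₀) (_ : Algebra.Etale A C₀) (_ : C₀ →ₐ[A] C),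
      ∀ (_ : C₀ →ₐ[A] B), Nonempty (C →ₐ[B] B) := by
  obtain ⟨x, T, f', g, hpo, hf'⟩ := MorphismProperty.PreIndSpreads.exists_isPushout
    (P := IndEt.etaleMP.{u}) (isColimit S B)
    (CommRingCat.ofHom (algebraMap B C) : CommRingCat.of B ⟶ CommRingCat.of C)
    (show (algebraMap B C).Etale from RingHom.etale_algebraMap.2 ‹Algebra.Etale B C›)
  letI : Algebra (Localization.Away x.s) T := f'.hom.toAlgebra
  haveI : Algebra.Etale (Localization.Away x.s) T := hf'
  letI : Algebra A T := (f'.hom.comp (algebraMap A (Localization.Away x.s))).toAlgebra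
  haveI : IsScalarTower A (Localization.Away x.s) T := IsScalarTower.of_algebraMap_eq' rfl
  haveI : Algebra.Etale A (Localization.Away x.s) := Algebra.Etale.of_isLocalizationAway x.s
  haveI : Algebra.Etale A T := Algebra.Etale.comp A (Localization.Away x.s) T
  refine ⟨T, inferInstance, inferInstance, inferInstance,
    { g.hom with commutes' := fun a => ?_ }, fun h => ?_⟩
  · have h1 := ConcreteCategory.congr_hom hpo.w (algebraMap A (Localization.Away x.s) a)
    refine h1.symm.trans ?_
    show algebraMap B C (toLim S B x (algebraMap A _ a)) = _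
    rw [toLim_algebraMap, ← IsScalarTower.algebraMap_apply]
  · have hv : (cocone S B).ι.app x ≫ 𝟙 _ = f' ≫ CommRingCat.ofHom h.toRingHom := by
      rw [Category.comp_id]
      refine CommRingCat.hom_ext (ext_away S fun a => ?_)
      exact (toLim_algebraMap S B x a).trans (h.commutes a).symm
    exact ⟨{ (hpo.desc (𝟙 _) _ hv).hom with
      commutes' := fun b => ConcreteCategory.congr_hom (hpo.inl_desc (𝟙 _) _ hv) b }⟩

end Groth.Agent.HenselLib.LocColim
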