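import Groth.Agent.FlatMorWeight.Nhds
import Groth.Agent.Et18.UnramifiedNhd
import Mathlib.AlgebraicGeometry.Morphisms.Etale
import Mathlib.RingTheory.Unramified.LocalStructure

/-!
# Etale localisation of morphisms unramified at finitely many points of a fibre
-/

set_option autoImplicit false
set_option linter.all false
set_option maxHeartbeats 1000000

universe u

open CategoryTheory CategoryTheory.Limits AlgebraicGeometry Groth.Agent.FlatMorWeight

set_option backward.isDefEq.respectTransparency.types false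
set_option backward.isDefEq.respectTransparency false

namespace Groth.Agent.HenselLib.UnramifiedPoints

theorem locallyQuasiFinite_of_unramified {A B : Scheme.{u}} (f : A ⟶ B) [LocallyOfFiniteType f]
    [FormallyUnramified f] : LocallyQuasiFinite f := by
  refine ⟨fun {O} hO {O'} hO' e => ?_⟩
  have h := HasRingHomProperty.appLE @FormallyUnramified f ‹_› ⟨O, hO⟩ ⟨O', hO'⟩ e
  have h' := HasRingHomProperty.appLE @LocallyOfFiniteType f ‹_› ⟨O, hO⟩ ⟨O', hO'⟩ e
  algebraize [(f.appLE O O' e).hom]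
  have : Algebra.FiniteType Γ(B, O) Γ(A, O') := RingHom.finiteType_algebraMap.mp h'
  have : Algebra.FormallyUnramified Γ(B, O) Γ(A, O') := RingHom.formallyUnramified_algebraMap.mp h
  exact inferInstanceAs (Algebra.QuasiFinite Γ(B, O) Γ(A, O'))

/-- A finite unramified morphism with at most one geometric point over `v` is a closed immersion
near the image of `v`. -/
theorem exists_nhd_of_unique {P V : Scheme.{u}} (c : P ⟶ V) [IsFinite c] [FormallyUnramified c]
    {Ω : Type u} [Field Ω] [IsAlgClosed Ω] (v : Spec (CommRingCat.of Ω) ⟶ V)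
    (z₀ : Spec (CommRingCat.of Ω) ⟶ P) (hz₀ : z₀ ≫ c = v) (huniq : ∀ z, z ≫ c = v → z = z₀) :
    ∃ U : V.Opens, pt v ∈ U ∧ IsClosedImmersion (c ∣_ U) := by
  have hpre : c.base ⁻¹' {pt v} = {pt z₀} := by
    refine Set.eq_singleton_iff_unique_mem.mpr ⟨?_, fun q hq => ?_⟩
    · show c (pt z₀) = pt v
      rw [← pt_comp, hz₀]
    · obtain ⟨z, hz, rfl⟩ := exists_GP_at c v q hq
      rw [huniq z hz]
  have h0 : c (pt z₀) = pt v := by rw [← pt_comp, hz₀]
  have hκ : Function.Surjective (c.residueFieldMap (pt z₀)) := by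
    obtain ⟨-, hcard, -⟩ := card_GP_at c v (pt z₀) h0
    letI := (c.residueFieldMap (pt z₀)).hom.toAlgebra
    have : Subsingleton {z : Spec (CommRingCat.of Ω) ⟶ P // z ≫ c = v ∧ pt z = pt z₀} :=
      ⟨fun a b => Subtype.ext ((huniq _ a.2.1).trans (huniq _ b.2.1).symm)⟩
    have : Nonempty {z : Spec (CommRingCat.of Ω) ⟶ P // z ≫ c = v ∧ pt z = pt z₀} := ⟨⟨z₀, hz₀, rfl⟩⟩
    rw [Nat.card_unique] at hcard
    have : Algebra.IsSeparable (V.residueField (c (pt z₀))) (P.residueField (pt z₀)) := inferInstance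
    have : Module.Finite (V.residueField (c (pt z₀))) (P.residueField (pt z₀)) := residueFieldMap_finite c _
    rw [Field.finSepDegree_eq_finrank_of_isSeparable] at hcard
    have h : Function.Surjective (algebraMap (V.residueField (c (pt z₀))) (P.residueField (pt z₀))) := by
      intro x
      exact (Algebra.mem_bot (R := V.residueField (c (pt z₀)))).mp
        ((Subalgebra.bot_eq_top_of_finrank_eq_one hcard.symm).symm ▸ (trivial : x ∈ (⊤ : Subalgebra (V.residueField (c (pt z₀))) (P.residueField (pt z₀)))))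
    exact h
  exact Et18.exists_nhd_isClosedImmersion c (pt v) (pt z₀) hpre hκ

theorem isClosedImmersion_restrict_of_le {P V : Scheme.{u}} (c : P ⟶ V) {N N' : V.Opens} (hle : N' ≤ N)
    (h : IsClosedImmersion (c ∣_ N)) : IsClosedImmersion (c ∣_ N') := by
  have h1 : IsClosedImmersion ((c ∣_ N) ∣_ (N.ι ⁻¹ᵁ N')) := IsZariskiLocalAtTarget.restrict h _
  have e : N.ι ''ᵁ (N.ι ⁻¹ᵁ N') = N' := by
    rw [Scheme.Hom.image_preimage_eq_opensRange_inf, Scheme.Opens.opensRange_ι, inf_eq_right.mpr hle]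
  rw [MorphismProperty.arrow_mk_iso_iff (P := @IsClosedImmersion) (morphismRestrictRestrict c N (N.ι ⁻¹ᵁ N')),
    e] at h1
  exact h1

/-- A finite family of opens of a base change which are closed immersions near the chosen point. -/
structure Data {X S : Scheme.{u}} (f : X ⟶ S) (s : S) {ι : Type} (x : ι → ↑X) (W : X.Opens) where
  U : Scheme.{u}
  g : U ⟶ S
  u : U
  etale : Etale g
  map_u : g u = s
  n : ℕ
  lab : Fin n → ι
  V : Fin n → (pullback f g).Opens
  closed : ∀ k, IsClosedImmersion ((V k).ι ≫ pullback.snd f g)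
  le : ∀ k, V k ≤ pullback.fst f g ⁻¹ᵁ W
  mem : ∀ k, ∃ w : ↑(pullback f g), w ∈ V k ∧ pullback.snd f g w = u
  distinct : ∀ (k k' : Fin n) (w : ↑(pullback f g)),
    w ∈ V k → w ∈ V k' → pullback.snd f g w = u → k = k'
  cover : ∀ (w : ↑(pullback f g)) (i : ι), pullback.snd f g w = u → pullback.fst f g w = x i →
    ∃ k, lab k = i ∧ w ∈ V k

variable {X S : Scheme.{u}} {f : X ⟶ S} {s : S} {ι : Type} {x : ι → ↑X} {W : X.Opens}

/-- The map between base changes induced by an open of the base. -/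
noncomputable def Data.res (D : Data f s x W) (N : D.U.Opens) :
    pullback f (N.ι ≫ D.g) ⟶ pullback f D.g :=
  pullback.lift (pullback.fst _ _) (pullback.snd _ _ ≫ N.ι) (by rw [pullback.condition, Category.assoc])

theorem Data.res_fst (D : Data f s x W) (N : D.U.Opens) :
    D.res N ≫ pullback.fst f D.g = pullback.fst f (N.ι ≫ D.g) := pullback.lift_fst _ _ _

theorem Data.res_snd (D : Data f s x W) (N : D.U.Opens) :
    D.res N ≫ pullback.snd f D.g = pullback.snd f (N.ι ≫ D.g) ≫ N.ι := pullback.lift_snd _ _ _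

theorem Data.isPullback_res (D : Data f s x W) (N : D.U.Opens) :
    IsPullback (D.res N) (pullback.snd f (N.ι ≫ D.g)) (pullback.snd f D.g) N.ι := by
  refine IsPullback.of_right ?_ (D.res_snd N) (IsPullback.of_hasPullback f D.g)
  rw [D.res_fst]
  exact IsPullback.of_hasPullback f (N.ι ≫ D.g)

theorem Data.isPullback_piece (D : Data f s x W) (N : D.U.Opens) (k : Fin D.n) :
    IsPullback (D.res N ∣_ D.V k) ((D.res N ⁻¹ᵁ D.V k).ι ≫ pullback.snd f (N.ι ≫ D.g))
      ((D.V k).ι ≫ pullback.snd f D.g) N.ι :=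
  (isPullback_morphismRestrict (D.res N) (D.V k)).paste_vert (D.isPullback_res N)

/-- Shrink the neighbourhood. -/
noncomputable def Data.shrink (D : Data f s x W) (N : D.U.Opens) (hN : D.u ∈ N) : Data f s x W where
  U := N
  g := N.ι ≫ D.g
  u := ⟨D.u, hN⟩
  etale := by have := D.etale; infer_instance
  map_u := by show D.g (N.ι _) = s; exact D.map_u
  n := D.n
  lab := D.lab
  V k := D.res N ⁻¹ᵁ D.V k
  closed k := MorphismProperty.of_isPullback (P := @IsClosedImmersion) (D.isPullback_piece N k) (D.closed k)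
  le k := by
    intro w hw
    have := D.le k hw
    show pullback.fst f (N.ι ≫ D.g) w ∈ W
    rw [← D.res_fst]
    exact this
  mem k := by
    obtain ⟨w, hw, hwu⟩ := D.mem k
    obtain ⟨p, hp₁, hp₂⟩ := Scheme.exists_preimage_of_isPullback (D.isPullback_res N) w ⟨D.u, hN⟩ hwu
    exact ⟨p, show D.res N p ∈ D.V k from hp₁ ▸ hw, hp₂⟩
  distinct k k' w hk hk' hu := by
    refine D.distinct k k' (D.res N w) hk hk' ?_
    rw [← Scheme.Hom.comp_apply, D.res_snd, Scheme.Hom.comp_apply, hu]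
    rfl
  cover w i hu hi := by
    refine D.cover (D.res N w) i ?_ ?_
    · rw [← Scheme.Hom.comp_apply, D.res_snd, Scheme.Hom.comp_apply, hu]
      rfl
    · rw [← Scheme.Hom.comp_apply, D.res_fst, hi]

/-- Etale localisation at the points. -/
theorem exists_data [Finite ι] (hinj : Function.Injective x) (hs : ∀ i, f (x i) = s)
    (hxW : ∀ i, x i ∈ W) [LocallyOfFiniteType (W.ι ≫ f)] [FormallyUnramified (W.ι ≫ f)] :
    Nonempty (Data f s x W) := by
  classical
  obtain ⟨yb, hyb⟩ := exists_geomPt s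
  let Ω := AlgebraicClosure (S.residueField s)
  let f₁ := W.ι ≫ f
  haveI : LocallyQuasiFinite f₁ := locallyQuasiFinite_of_unramified f₁
  let xW : ι → W.toScheme := fun i => ⟨x i, hxW i⟩
  let Z : Set (Spec (CommRingCat.of Ω) ⟶ W.toScheme) :=
    ⋃ i, {z | z ≫ f₁ = yb ∧ pt z = xW i}
  have hZ : Z.Finite := Set.finite_iUnion fun i => by
    have h := (card_GP_at f₁ yb (xW i) (by show f (x i) = pt yb; rw [hyb, hs])).1
    exact Set.finite_coe_iff.mp h
  have hZy : ∀ z ∈ Z, z ≫ f₁ = yb := fun z hz => by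
    obtain ⟨i, hi, -⟩ := Set.mem_iUnion.mp hz
    exact hi
  obtain ⟨U₀, g, vb, Up, hg, hvb, hUp⟩ := exists_pieces f₁ hZ hZy
  let π := pullback.snd f₁ g
  haveI : FormallyUnramified π := MorphismProperty.pullback_snd (P := @FormallyUnramified) f₁ g inferInstance
  haveI : LocallyQuasiFinite π := inferInstance
  have hex : ∀ z ∈ Z, ∃ N : U₀.Opens, pt vb ∈ N ∧
      IsClosedImmersion (((Up z).ι ≫ π) ∣_ N) := fun z hz => by
    obtain ⟨hfin, z₀, hz₀, hz₀U, hz₀x, huniq⟩ := hUp z hz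
    haveI := hfin
    haveI : FormallyUnramified ((Up z).ι ≫ π) :=
      MorphismProperty.comp_mem @FormallyUnramified _ _ inferInstance inferInstance
    obtain ⟨z₁, hz₁⟩ : ∃ z₁, z₁ ≫ (Up z).ι = z₀ := by
      refine ⟨IsOpenImmersion.lift (Up z).ι z₀ ?_, IsOpenImmersion.lift_fac _ _ _⟩
      rintro _ ⟨q, rfl⟩
      rw [Scheme.Opens.range_ι, eq_pt]
      exact hz₀U
    refine exists_nhd_of_unique ((Up z).ι ≫ π) vb z₁ (by rw [reassoc_of% hz₁]; exact hz₀) fun z' hz' => ?_
    rw [← cancel_mono (Up z).ι, hz₁]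
    exact huniq (z' ≫ (Up z).ι) (by show (z' ≫ _) ≫ _ = vb; rw [Category.assoc]; exact hz') (z' _).2
  choose N hN hNc using hex
  let e := hZ.toFinset.equivFin.symm
  have heZ : ∀ k, (e k).1 ∈ Z := fun k => hZ.mem_toFinset.mp (e k).2
  let Nall : U₀.Opens := Finset.univ.inf fun k => N (e k).1 (heZ k)
  have hNall : pt vb ∈ Nall := by
    rw [← SetLike.mem_coe, TopologicalSpace.Opens.coe_finset_inf, Finset.inf_set_eq_iInter]
    exact Set.mem_iInter₂.mpr fun k _ => hN _ _
  let g' := Nall.ι ≫ g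
  haveI := hg
  let u : Nall.toScheme := ⟨pt vb, hNall⟩
  let P₁ := pullback f₁ g'
  let m : P₁ ⟶ pullback f₁ g :=
    pullback.lift (pullback.fst _ _) (pullback.snd _ _ ≫ Nall.ι) (by rw [pullback.condition, Category.assoc])
  have hm₁ : m ≫ pullback.fst f₁ g = pullback.fst f₁ g' := pullback.lift_fst _ _ _
  have hm₂ : m ≫ pullback.snd f₁ g = pullback.snd f₁ g' ≫ Nall.ι := pullback.lift_snd _ _ _
  have hsq : IsPullback m (pullback.snd f₁ g') (pullback.snd f₁ g) Nall.ι := by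
    refine IsPullback.of_right ?_ hm₂ (IsPullback.of_hasPullback f₁ g)
    rw [hm₁]
    exact IsPullback.of_hasPullback f₁ g'
  let j : P₁ ⟶ pullback f g' := pullback.map f₁ g' f g' W.ι (𝟙 _) (𝟙 _) (by simp [f₁]) (by simp)
  haveI : IsOpenImmersion j := inferInstance
  have hj₁ : j ≫ pullback.fst f g' = pullback.fst f₁ g' ≫ W.ι := pullback.lift_fst _ _ _
  have hj₂ : j ≫ pullback.snd f g' = pullback.snd f₁ g' := by simp [j]
  let V₁ : Fin hZ.toFinset.card → P₁.Opens := fun k => m ⁻¹ᵁ Up (e k).1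
  have hmem₁ : ∀ k, ∃ z₀ : Spec (CommRingCat.of Ω) ⟶ pullback f₁ g, z₀ ≫ π = vb ∧
      pt z₀ ∈ Up (e k).1 ∧ z₀ ≫ pullback.fst f₁ g = (e k).1 ∧
      ∀ z ∈ GP Ω π vb, pt z ∈ Up (e k).1 → z = z₀ := fun k => by
    obtain ⟨-, z₀, h1, h2, h3, h4⟩ := hUp _ (heZ k)
    exact ⟨z₀, h1, h2, h3, h4⟩
  choose z₀ hz₀v hz₀U hz₀x hz₀u using hmem₁
  have hlab : ∀ k, ∃ i, pt (e k).1 = xW i := fun k => by
    obtain ⟨i, -, hi⟩ := Set.mem_iUnion.mp (heZ k)
    exact ⟨i, hi⟩
  choose lab hlab using hlab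
  have huv : ∀ p : P₁, pullback.snd f₁ g' p = u → π (m p) = pt vb := fun p hp => by
    show pullback.snd f₁ g (m p) = _
    rw [← Scheme.Hom.comp_apply, hm₂, Scheme.Hom.comp_apply, hp]
    rfl
  refine ⟨{ U := Nall, g := g', u := u, etale := inferInstanceAs (Etale (Nall.ι ≫ g)), map_u := ?_,
            n := hZ.toFinset.card, lab := lab, V := fun k => j ''ᵁ V₁ k, closed := fun k => ?_,
            le := fun k => ?_, mem := fun k => ?_, distinct := fun k k' w hk hk' hw => ?_,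
            cover := fun w i hw hi => ?_ }⟩
  · show g (pt vb) = s
    rw [← pt_comp, hvb, hyb]
  · have h1 : IsClosedImmersion (((Up (e k).1).ι ≫ π) ∣_ Nall) := by
      have hle : Nall ≤ N (e k).1 (heZ k) := Finset.inf_le (Finset.mem_univ k)
      exact isClosedImmersion_restrict_of_le _ hle (hNc _ (heZ k))
    have h2 : IsClosedImmersion ((V₁ k).ι ≫ pullback.snd f₁ g') := by
      have hp := (isPullback_morphismRestrict m (Up (e k).1)).paste_vert hsq
      have hq := (isPullback_morphismRestrict ((Up (e k).1).ι ≫ π) Nall)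
      let ε := hp.flip.isoIsPullback _ _ hq
      have : (V₁ k).ι ≫ pullback.snd f₁ g' = ε.hom ≫ (((Up (e k).1).ι ≫ π) ∣_ Nall) :=
        (IsPullback.isoIsPullback_hom_fst _ _ hp.flip hq).symm
      rw [this]
      infer_instance
    have h3 : (j ''ᵁ V₁ k).ι ≫ pullback.snd f g' = (j.isoImage (V₁ k)).inv ≫ (V₁ k).ι ≫ pullback.snd f₁ g' := by
      rw [← hj₂, Scheme.Hom.isoImage_inv_ι_assoc]
    rw [h3]
    infer_instance
  · rintro _ ⟨p, hp, rfl⟩
    show pullback.fst f g' (j p) ∈ W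
    rw [← Scheme.Hom.comp_apply, hj₁, Scheme.Hom.comp_apply]
    exact (pullback.fst f₁ g' p).2
  · obtain ⟨p, hp₁, hp₂⟩ := Scheme.exists_preimage_of_isPullback hsq (pt (z₀ k)) u
      (by rw [← pt_comp, hz₀v]; rfl)
    refine ⟨j p, ⟨p, show m p ∈ _ from hp₁ ▸ hz₀U k, rfl⟩, ?_⟩
    rw [← Scheme.Hom.comp_apply, hj₂, hp₂]
  · obtain ⟨p, hp, rfl⟩ := hk
    obtain ⟨p', hp', hpp⟩ := hk'
    obtain rfl := j.isOpenEmbedding.injective hpp
    change pullback.snd f g' (j p') = u at hw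
    rw [← Scheme.Hom.comp_apply, hj₂] at hw
    obtain ⟨z, hz, hzp⟩ := exists_GP_at π vb (m p') (huv p' hw)
    have h1 := hz₀u k z hz (hzp ▸ hp)
    have h2 := hz₀u k' z hz (hzp ▸ hp')
    apply hZ.toFinset.equivFin.symm.injective
    apply Subtype.ext
    show (e k).1 = (e k').1
    rw [← hz₀x k, ← hz₀x k', ← h1, h2]
  · have hwr : w ∈ Set.range j := by
      rw [Scheme.Pullback.range_map]
      refine ⟨?_, ⟨_, rfl⟩⟩
      show pullback.fst f g' w ∈ Set.range W.ι
      rw [Scheme.Opens.range_ι, hi]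
      exact hxW i
    obtain ⟨p, rfl⟩ := hwr
    rw [← Scheme.Hom.comp_apply, hj₂] at hw
    rw [← Scheme.Hom.comp_apply, hj₁, Scheme.Hom.comp_apply] at hi
    obtain ⟨z, hz, hzp⟩ := exists_GP_at π vb (m p) (huv p hw)
    have hzx : pt (z ≫ pullback.fst f₁ g) = xW i := by
      rw [pt_comp, hzp, ← Scheme.Hom.comp_apply, hm₁]
      exact Subtype.ext hi
    have hzZ : z ≫ pullback.fst f₁ g ∈ Z := Set.mem_iUnion.mpr ⟨i, by
      show (z ≫ pullback.fst f₁ g) ≫ f₁ = yb
      rw [Category.assoc, pullback.condition, ← Category.assoc, show z ≫ _ = vb from hz, hvb], hzx⟩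
    obtain ⟨k, hk⟩ := e.surjective ⟨_, hZ.mem_toFinset.mpr hzZ⟩
    have hki : xW (lab k) = xW i := by
      rw [← hlab k, hk]
      exact hzx
    refine ⟨k, hinj (congrArg Subtype.val hki), p, ?_, rfl⟩
    show m p ∈ Up (e k).1
    have : z = z₀ k := by
      refine pullback.hom_ext ?_ ((show z ≫ π = vb from hz).trans (hz₀v k).symm)
      rw [hz₀x, hk]
    rw [← hzp, this]
    exact hz₀U k

theorem isIso_shrink (D : Data f s x W) (N : D.U.Opens) (hN : D.u ∈ N)
    (h : ∀ k, IsIso ((D.V k).ι ≫ pullback.snd f D.g)) :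
    ∀ k, IsIso (((D.shrink N hN).V k).ι ≫ pullback.snd f (D.shrink N hN).g) := fun k =>
  MorphismProperty.of_isPullback (P := MorphismProperty.isomorphisms Scheme.{u}) (D.isPullback_piece N k) (h k)

theorem Data.etale_piece (D : Data f s x W) [Etale (W.ι ≫ f)] (k : Fin D.n) :
    Etale ((D.V k).ι ≫ pullback.snd f D.g) := by
  have hsq := ((isPullback_morphismRestrict (pullback.fst f D.g) W).flip).paste_horiz
    (IsPullback.of_hasPullback f D.g).flip
  have hO : Etale ((pullback.fst f D.g ⁻¹ᵁ W).ι ≫ pullback.snd f D.g) :=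
    MorphismProperty.of_isPullback (P := @Etale) hsq.flip inferInstance
  rw [show (D.V k).ι = (pullback f D.g).homOfLE (D.le k) ≫ (pullback.fst f D.g ⁻¹ᵁ W).ι from
    (Scheme.homOfLE_ι _ _).symm, Category.assoc]
  exact MorphismProperty.comp_mem @Etale _ _ inferInstance hO

/-- When the morphism is etale at the points, the pieces can be made isomorphisms. -/
theorem Data.exists_iso (D : Data f s x W) [Etale (W.ι ≫ f)] :
    ∃ D' : Data f s x W, ∀ k, IsIso ((D'.V k).ι ≫ pullback.snd f D'.g) := by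
  classical
  have hc : ∀ k, IsOpenImmersion ((D.V k).ι ≫ pullback.snd f D.g) := fun k => by
    haveI := D.etale_piece k
    haveI := D.closed k
    exact FEtLib.isOpenImmersion_of_etale_universallyInjective _
  let R : Fin D.n → D.U.Opens := fun k =>
    haveI := hc k
    ((D.V k).ι ≫ pullback.snd f D.g).opensRange
  let N : D.U.Opens := Finset.univ.inf R
  have hN : D.u ∈ N := by
    rw [← SetLike.mem_coe, TopologicalSpace.Opens.coe_finset_inf, Finset.inf_set_eq_iInter]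
    refine Set.mem_iInter₂.mpr fun k _ => ?_
    obtain ⟨w, hw, hwu⟩ := D.mem k
    exact ⟨⟨w, hw⟩, hwu⟩
  refine ⟨D.shrink N hN, fun k => ?_⟩
  haveI := hc k
  have hle : N ≤ R k := Finset.inf_le (Finset.mem_univ k)
  let σ : (N : Scheme.{u}) ⟶ D.V k := IsOpenImmersion.lift ((D.V k).ι ≫ pullback.snd f D.g) N.ι (by
    rw [Scheme.Opens.range_ι]
    exact hle)
  have hσ : σ ≫ (D.V k).ι ≫ pullback.snd f D.g = N.ι := IsOpenImmersion.lift_fac _ _ _
  let c : (D.res N ⁻¹ᵁ D.V k).toScheme ⟶ N := (D.res N ⁻¹ᵁ D.V k).ι ≫ pullback.snd f (N.ι ≫ D.g)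
  have hp : IsPullback (D.res N ∣_ D.V k) c ((D.V k).ι ≫ pullback.snd f D.g) N.ι := D.isPullback_piece N k
  haveI : Mono c := MorphismProperty.of_isPullback (P := MorphismProperty.monomorphisms Scheme.{u}) hp
    (inferInstanceAs (Mono ((D.V k).ι ≫ pullback.snd f D.g)))
  haveI : IsSplitEpi c := ⟨⟨{ section_ := hp.lift σ (𝟙 _) (by rw [hσ, Category.id_comp]), id := hp.lift_snd _ _ _ }⟩⟩
  exact isIso_of_mono_of_isSplitEpi c

theorem Data.isClosed_piece (D : Data f s x W) [IsSeparated f] (k : Fin D.n) :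
    IsClosed (D.V k : Set ↑(pullback f D.g)) := by
  haveI := D.closed k
  haveI : IsClosedImmersion (D.V k).ι := IsClosedImmersion.of_comp _ (pullback.snd f D.g)
  have := (D.V k).ι.isClosedEmbedding.isClosed_range
  rwa [Scheme.Opens.range_ι] at this

/-- For separated morphisms, the pieces can be made disjoint. -/
theorem Data.exists_disjoint (D : Data f s x W) [IsSeparated f] :
    ∃ (N : D.U.Opens) (hN : D.u ∈ N), ∀ k k', k ≠ k' →
      Disjoint ((D.shrink N hN).V k) ((D.shrink N hN).V k') := by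
  classical
  let C : Fin D.n × Fin D.n → Set D.U := fun p => if p.1 = p.2 then ∅ else
    pullback.snd f D.g '' ((D.V p.1 : Set ↑(pullback f D.g)) ∩ D.V p.2)
  have hC : ∀ p, IsClosed (C p) := fun p => by
    by_cases hp : p.1 = p.2
    · simp [C, hp]
    · simp only [C, if_neg hp]
      haveI := D.closed p.1
      have h1 := ((D.V p.1).ι ≫ pullback.snd f D.g).isClosedMap _
        ((D.isClosed_piece p.2).preimage (D.V p.1).ι.continuous)
      convert h1 using 1
      ext y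
      constructor
      · rintro ⟨w, ⟨hw1, hw2⟩, rfl⟩
        exact ⟨⟨w, hw1⟩, hw2, rfl⟩
      · rintro ⟨⟨w, hw1⟩, hw2, rfl⟩
        exact ⟨w, ⟨hw1, hw2⟩, rfl⟩
  let N : D.U.Opens := ⟨(⋃ p, C p)ᶜ, (isClosed_iUnion_of_finite hC).isOpen_compl⟩
  have hN : D.u ∈ N := by
    show D.u ∈ (⋃ p, C p)ᶜ
    simp only [Set.mem_compl_iff, Set.mem_iUnion, not_exists]
    intro p hp
    by_cases hpp : p.1 = p.2
    · simp [C, hpp] at hp
    · simp only [C, if_neg hpp] at hp
      obtain ⟨w, ⟨hw1, hw2⟩, hwu⟩ := hp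
      exact hpp (D.distinct _ _ w hw1 hw2 hwu)
  refine ⟨N, hN, fun k k' hkk => ?_⟩
  show Disjoint (D.res N ⁻¹ᵁ D.V k) (D.res N ⁻¹ᵁ D.V k')
  rw [disjoint_iff, eq_bot_iff]
  rintro w ⟨h1, h2⟩
  have h3 : pullback.snd f D.g (D.res N w) ∈ N := by
    rw [← Scheme.Hom.comp_apply, D.res_snd, Scheme.Hom.comp_apply]
    exact (pullback.snd f (N.ι ≫ D.g) w).2
  refine absurd h3 fun h4 => h4 (Set.mem_iUnion.mpr ⟨(k, k'), ?_⟩)
  simp only [C, if_neg hkk]
  exact ⟨_, ⟨h1, h2⟩, rfl⟩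

/-- The complement of the pieces. -/
theorem Data.exists_compl (D : Data f s x W) [IsSeparated f] :
    ∃ O : (pullback f D.g).Opens, O ⊔ (⨆ k, D.V k) = ⊤ ∧ (∀ k, Disjoint O (D.V k)) ∧
      ∀ (w : ↑(pullback f D.g)) (i : ι), w ∈ O → pullback.snd f D.g w = D.u →
        pullback.fst f D.g w ≠ x i := by
  let O : (pullback f D.g).Opens :=
    ⟨(⋃ k, (D.V k : Set ↑(pullback f D.g)))ᶜ, (isClosed_iUnion_of_finite D.isClosed_piece).isOpen_compl⟩
  refine ⟨O, eq_top_iff.mpr fun w _ => ?_, fun k => ?_, fun w i hw hu hi => ?_⟩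
  · by_cases h : w ∈ ⋃ k, (D.V k : Set ↑(pullback f D.g))
    · obtain ⟨k, hk⟩ := Set.mem_iUnion.mp h
      exact le_sup_right (a := O) (le_iSup D.V k hk)
    · exact le_sup_left (b := ⨆ k, D.V k) (show w ∈ O from h)
  · rw [disjoint_iff, eq_bot_iff]
    rintro w ⟨h1, h2⟩
    exact absurd (Set.mem_iUnion.mpr ⟨k, h2⟩) h1
  · obtain ⟨k, -, hk⟩ := D.cover w i hu hi
    exact hw (Set.mem_iUnion.mpr ⟨k, hk⟩)

/-- The union of the opens given at the points. -/
theorem exists_open {P : MorphismProperty Scheme.{u}} [IsZariskiLocalAtSource P]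
    (hx : ∀ i, ∃ W : X.Opens, x i ∈ W ∧ P (W.ι ≫ f)) :
    ∃ W : X.Opens, (∀ i, x i ∈ W) ∧ P (W.ι ≫ f) := by
  choose W hxW hW using hx
  refine ⟨⨆ i, W i, fun i => le_iSup W i (hxW i), ?_⟩
  rw [IsZariskiLocalAtSource.iff_of_iSup_eq_top (P := P) (fun i => (⨆ j, W j).ι ⁻¹ᵁ W i) (by
    rw [← Scheme.Hom.preimage_iSup, Scheme.Opens.ι_preimage_self])]
  intro i
  have hle : ((⨆ j, W j).ι ''ᵁ ((⨆ j, W j).ι ⁻¹ᵁ W i)) = W i := by
    rw [Scheme.Hom.image_preimage_eq_opensRange_inf, Scheme.Opens.opensRange_ι,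
      inf_eq_right.mpr (le_iSup W i)]
  let φ : ((⨆ j, W j).ι ⁻¹ᵁ W i).toScheme ⟶ (W i).toScheme :=
    ((⨆ j, W j).ι.isoImage _).hom ≫ X.homOfLE hle.le
  haveI : IsIso φ := by
    haveI : IsIso (X.homOfLE hle.le) := ⟨X.homOfLE hle.ge, by simp, by simp⟩
    infer_instance
  have : ((⨆ j, W j).ι ⁻¹ᵁ W i).ι ≫ (⨆ j, W j).ι ≫ f = φ ≫ (W i).ι ≫ f := by
    simp only [φ, Category.assoc, Scheme.homOfLE_ι_assoc, Scheme.Hom.isoImage_hom_ι_assoc]
  rw [this]
  exact IsZariskiLocalAtSource.comp (hW i) φ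

end Groth.Agent.HenselLib.UnramifiedPoints
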