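import Mathlib.RingTheory.Henselian
import Mathlib.RingTheory.Localization.Integral
import Mathlib.FieldTheory.IsAlgClosed.Basic

/-!
# Localizations of absolutely integrally closed domains are Henselian
-/

set_option autoImplicit false

universe u

open Polynomial IsLocalRing

namespace Groth.Agent.HenselLib.AbsInt

variable {A T K : Type u} [CommRing A] [CommRing T] [Field K] [Algebra A T] [Algebra A K] [Algebra T K]
  [IsScalarTower A T K] (M : Submonoid A) [IsLocalization M T]
  (hA : ∀ x : K, IsIntegral A x → x ∈ (algebraMap A K).range)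

include M hA

theorem mem_range_of_isIntegral {x : K} (hx : IsIntegral T x) : x ∈ (algebraMap T K).range := by
  obtain ⟨m, hm⟩ := IsIntegral.exists_multiple_integral_of_isLocalization M x hx
  obtain ⟨a, ha⟩ := hA _ hm
  refine ⟨IsLocalization.mk' T a m, ?_⟩
  have hu : IsUnit (algebraMap A K m) := by
    rw [IsScalarTower.algebraMap_apply A T K]
    exact (IsLocalization.map_units T m).map _
  refine hu.mul_left_cancel ?_
  have e : algebraMap A K m * algebraMap T K (IsLocalization.mk' T a m) = algebraMap A K a := by
    rw [IsScalarTower.algebraMap_apply A T K, ← map_mul, IsLocalization.mk'_spec',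
      ← IsScalarTower.algebraMap_apply]
  rw [e, ha, Submonoid.smul_def, Algebra.smul_def]

theorem henselianLocalRing [IsAlgClosed K] [IsLocalRing T] (hinj : Function.Injective (algebraMap T K)) :
    HenselianLocalRing T where
  is_henselian f hf a₀ h0 _ := by
    classical
    have hs : (f.map (algebraMap T K)).Splits := IsAlgClosed.splits _
    have hprod := hs.eval_eq_prod_roots_of_monic (hf.map _) (algebraMap T K a₀)
    have hroot : ∀ r ∈ (f.map (algebraMap T K)).roots, ∃ t : T, algebraMap T K t = r ∧ f.IsRoot t := by
      intro r hr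
      have hr0 : eval₂ (algebraMap T K) r f = 0 := by
        rw [← eval_map]
        exact (mem_roots'.1 hr).2
      obtain ⟨t, rfl⟩ := mem_range_of_isIntegral M hA ⟨f, hf, hr0⟩
      refine ⟨t, rfl, hinj ?_⟩
      rw [← eval₂_hom, hr0, map_zero]
    by_contra hne
    push Not at hne
    have hu : ∀ s : Multiset K, (∀ r ∈ s, r ∈ (f.map (algebraMap T K)).roots) →
        ∃ w : T, IsUnit w ∧ algebraMap T K w = (s.map fun r => algebraMap T K a₀ - r).prod := by
      intro s
      induction s using Multiset.induction with
      | empty => exact fun _ => ⟨1, isUnit_one, by simp⟩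
      | cons r s ih =>
        intro hs'
        obtain ⟨w, hw, hw'⟩ := ih fun x hx => hs' x (Multiset.mem_cons_of_mem hx)
        obtain ⟨t, ht, htr⟩ := hroot r (hs' r (Multiset.mem_cons_self r s))
        refine ⟨(a₀ - t) * w, IsUnit.mul ?_ hw, by simp [hw', ht]⟩
        by_contra hnu
        refine hne t htr ?_
        rw [← neg_sub]
        exact neg_mem ((mem_maximalIdeal _).2 hnu)
    obtain ⟨w, hw, hw'⟩ := hu _ fun r hr => hr
    rw [← hprod, eval_map, eval₂_hom] at hw'
    exact (mem_maximalIdeal _).1 h0 (hinj hw' ▸ hw)

end Groth.Agent.HenselLib.AbsInt
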