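import Groth.Agent.HenselLib.BLModule
import Mathlib.RingTheory.Etale.Basic
import Mathlib.RingTheory.Smooth.Basic
import Mathlib.RingTheory.Kaehler.TensorProduct
import Mathlib.RingTheory.RingHom.Etale
import Mathlib.RingTheory.RingHom.Flat
import Mathlib.RingTheory.RingHom.Finite
import Mathlib.RingTheory.RingHom.FiniteType
import Mathlib.RingTheory.RingHom.FinitePresentation
import Mathlib.RingTheory.Localization.BaseChange

/-!
# Glueing pairs: properties of algebras
-/

set_option autoImplicit false
set_option linter.all false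

universe u

open TensorProduct Function

namespace Groth.Agent.HenselLib.BL

section Pair

variable {R R' : Type u} [CommRing R] [CommRing R'] [Algebra R R'] {f : R}

attribute [local instance] Algebra.TensorProduct.rightAlgebra

theorem smul_pow_eq (A : Type u) [CommRing A] [Algebra R A] {X : Type u} [AddCommGroup X]
    [Module R X] [Module A X] [IsScalarTower R A X] (n : ℕ) (x : X) :
    (algebraMap R A f) ^ n • x = f ^ n • x := by
  rw [← map_pow, IsScalarTower.algebraMap_smul]

theorem isGlueingPair_baseChange (h : EtGlue.IsGlueingPair R R' f) (A : Type u) [CommRing A]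
    [Algebra R A] (hA : EtGlue.IsGlueable R R' f A) :
    EtGlue.IsGlueingPair A (R' ⊗[R] A) (algebraMap R A f) := by
  have halg : ∀ a : A, algebraMap A (R' ⊗[R] A) a = (1 : R') ⊗ₜ[R] a := fun a => rfl
  obtain ⟨hi, hs⟩ := (isGlueable_iff h.1).mp hA
  refine isGlueingPair_of (quotPowBijective_of _ (fun n x => ?_) (fun n a x hx => ?_)) ?_ ?_
  · obtain ⟨a, x', hx⟩ := exists_tensor_eq_add h.1 n x
    exact ⟨a, x', by rw [halg, smul_pow_eq]; exact hx⟩
  · rw [halg, smul_pow_eq] at hx
    obtain ⟨a', ha'⟩ := exists_eq_smul_of_tmul_eq h.1 n a x hx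
    exact ⟨a', by rw [ha', Algebra.smul_def, map_pow]⟩
  · rintro a ⟨n, hn⟩ h0
    exact hi a ⟨n, by rw [smul_pow_eq] at hn; exact hn⟩ h0
  · rintro x ⟨n, hn⟩
    obtain ⟨t, ⟨k, hk⟩, ht⟩ := hs x ⟨n, by rw [smul_pow_eq] at hn; exact hn⟩
    exact ⟨t, ⟨k, by rw [smul_pow_eq]; exact hk⟩, ht⟩

end Pair

section BaseChange

variable (A : Type u) [CommRing A] (S : Type u) [CommRing S] [Algebra A S]
  {B : Type u} [CommRing B] [Algebra A B] (S' : Type u) [CommRing S'] [Algebra A S']
  [Algebra S S'] [Algebra B S'] [IsScalarTower A S S'] [IsScalarTower A B S']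
  [hpo : Algebra.IsPushout A S B S']

include hpo

theorem equiv_one_tmul (b : B) :
    Algebra.IsPushout.equiv A S B S' (1 ⊗ₜ b) = algebraMap B S' b := by
  rw [Algebra.IsPushout.equiv_tmul, map_one, one_mul]

theorem span_eq_top_transfer (N : Submodule A B)
    (h : Submodule.span S (algebraMap B S' '' (N : Set B)) = ⊤) :
    Submodule.span S ((fun b => (1 : S) ⊗ₜ[A] b) '' (N : Set B)) = ⊤ := by
  have hm := congrArg (Submodule.map (Algebra.IsPushout.equiv A S B S').symm.toLinearMap) h
  rw [Submodule.map_span, Submodule.map_top, LinearMap.range_eq_top.mpr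
    (Algebra.IsPushout.equiv A S B S').symm.surjective, ← Set.image_comp] at hm
  rw [← hm]
  refine congrArg _ (Set.image_congr fun b _ => ?_)
  change _ = (Algebra.IsPushout.equiv A S B S').symm (algebraMap B S' b)
  rw [← equiv_one_tmul A S S' b, AlgEquiv.symm_apply_apply]

theorem span_range_eq_top : Submodule.span S (Set.range (algebraMap B S')) = ⊤ := by
  rw [eq_top_iff]
  intro x hx
  clear hx
  obtain ⟨z, rfl⟩ := (Algebra.IsPushout.equiv A S B S').surjective x
  induction z with
  | zero => simp
  | tmul s b =>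
    rw [Algebra.IsPushout.equiv_tmul, ← Algebra.smul_def]
    exact Submodule.smul_mem _ _ (Submodule.subset_span ⟨b, rfl⟩)
  | add x y hx hy => rw [map_add]; exact add_mem hx hy

theorem exists_finset_span_adjoin [Algebra.FiniteType S S'] :
    ∃ t : Finset B, ∀ t' : Finset B, t ⊆ t' →
      Submodule.span S (algebraMap B S' '' (Algebra.adjoin A (t' : Set B) : Set B)) = ⊤ := by
  classical
  obtain ⟨s, hs⟩ := (Algebra.FiniteType.out : (⊤ : Subalgebra S S').FG)
  have : ∀ x : S', ∃ t : Finset B, x ∈ Algebra.adjoin S (algebraMap B S' '' (t : Set B)) := by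
    intro x
    have hx : x ∈ Submodule.span S (Set.range (algebraMap B S')) :=
      span_range_eq_top A S S' (B := B) ▸ Submodule.mem_top
    induction hx using Submodule.span_induction with
    | mem x hx =>
      obtain ⟨b, rfl⟩ := hx
      exact ⟨{b}, Algebra.subset_adjoin ⟨b, by simp, rfl⟩⟩
    | zero => exact ⟨∅, zero_mem _⟩
    | add x y _ _ hx hy =>
      obtain ⟨t₁, h₁⟩ := hx
      obtain ⟨t₂, h₂⟩ := hy
      exact ⟨t₁ ∪ t₂, add_mem (Algebra.adjoin_mono (Set.image_mono (by simp)) h₁)
        (Algebra.adjoin_mono (Set.image_mono (by simp)) h₂)⟩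
    | smul r x _ hx =>
      obtain ⟨t, ht⟩ := hx
      exact ⟨t, Subalgebra.smul_mem _ ht r⟩
  choose t ht using this
  refine ⟨s.biUnion t, fun t' htt => ?_⟩
  rw [eq_top_iff]
  intro x _
  have hx : x ∈ Algebra.adjoin S (algebraMap B S' '' (t' : Set B)) :=
    (Algebra.adjoin_le fun y hy => Algebra.adjoin_mono (Set.image_mono fun b hb =>
      htt (Finset.mem_biUnion.mpr ⟨y, hy, hb⟩)) (ht y)) (hs ▸ Algebra.mem_top : x ∈ Algebra.adjoin S (s : Set S'))
  rw [← Subalgebra.mem_toSubmodule, Algebra.adjoin_eq_span] at hx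
  refine Submodule.span_le.mpr ?_ hx
  intro y hy
  obtain ⟨b, hb, rfl⟩ : y ∈ algebraMap B S' '' (Submonoid.closure (t' : Set B) : Set B) := by
    have := MonoidHom.map_mclosure (algebraMap B S').toMonoidHom (t' : Set B)
    exact (Set.ext_iff.mp (congrArg (fun M : Submonoid S' => (M : Set S')) this) y).mpr hy
  refine Submodule.subset_span ⟨b, ?_, rfl⟩
  exact (Submonoid.closure_le.mpr (Algebra.subset_adjoin) :
    Submonoid.closure (t' : Set B) ≤ (Algebra.adjoin A (t' : Set B)).toSubmonoid) hb

theorem surjective_baseChange (h : Surjective (algebraMap A B)) : Surjective (algebraMap S S') := by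
  intro x
  obtain ⟨z, rfl⟩ := (Algebra.IsPushout.equiv A S B S').surjective x
  induction z with
  | zero => exact ⟨0, by rw [map_zero, map_zero]⟩
  | tmul s b =>
    obtain ⟨a, rfl⟩ := h b
    refine ⟨s * algebraMap A S a, ?_⟩
    rw [Algebra.IsPushout.equiv_tmul, map_mul, ← IsScalarTower.algebraMap_apply,
      ← IsScalarTower.algebraMap_apply]
  | add x y hx hy =>
    obtain ⟨a, ha⟩ := hx
    obtain ⟨b, hb⟩ := hy
    exact ⟨a + b, by rw [map_add, map_add, ha, hb]⟩

end BaseChange

section Descent

variable {A A' : Type u} [CommRing A] [CommRing A'] [Algebra A A'] {g : A}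
  {B : Type u} [CommRing B] [Algebra A B]
  (B' : Type u) [CommRing B'] [Algebra A B'] [Algebra A' B'] [Algebra B B']
  [IsScalarTower A A' B'] [IsScalarTower A B B'] [Algebra.IsPushout A A' B B']
  (Bg : Type u) [CommRing Bg] [Algebra A Bg] [Algebra (Localization.Away g) Bg] [Algebra B Bg]
  [IsScalarTower A (Localization.Away g) Bg] [IsScalarTower A B Bg]
  [Algebra.IsPushout A (Localization.Away g) B Bg]

theorem surjective_descent (hq : EtGlue.QuotPowBijective A A' g)
    (h1 : Surjective (algebraMap A' B')) (h2 : Surjective (algebraMap (Localization.Away g) Bg)) :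
    Surjective (algebraMap A B) := by
  have hspan : ∀ (S S' : Type u) [CommRing S] [Algebra A S] [CommRing S'] [Algebra A S']
      [Algebra S S'] [Algebra B S'] [IsScalarTower A S S'] [IsScalarTower A B S'],
      Surjective (algebraMap S S') → Submodule.span S
        (algebraMap B S' '' ((LinearMap.range (Algebra.linearMap A B)) : Set B)) = ⊤ := by
    intro S S' _ _ _ _ _ _ _ _ hs
    rw [eq_top_iff]
    intro x _
    obtain ⟨s, rfl⟩ := hs x
    rw [Algebra.algebraMap_eq_smul_one]
    exact Submodule.smul_mem _ _ (Submodule.subset_span ⟨1, ⟨1, map_one (algebraMap A B)⟩, map_one _⟩)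
  have := eq_top_of_span hq (LinearMap.range (Algebra.linearMap A B))
    (span_eq_top_transfer A A' B' _ (hspan A' B' h1))
    (span_eq_top_transfer A (Localization.Away g) Bg _ (hspan _ Bg h2))
  exact LinearMap.range_eq_top.mp this

theorem finite_descent (hq : EtGlue.QuotPowBijective A A' g) [Module.Finite A' B']
    [Module.Finite (Localization.Away g) Bg] : Module.Finite A B := by
  haveI : Module.Finite A' (A' ⊗[A] B) :=
    Module.Finite.equiv (Algebra.IsPushout.equiv A A' B B').toLinearEquiv.symm
  haveI : Module.Finite (Localization.Away g) (Localization.Away g ⊗[A] B) :=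
    Module.Finite.equiv (Algebra.IsPushout.equiv A (Localization.Away g) B Bg).toLinearEquiv.symm
  exact finite_of_finite hq B

theorem finiteType_descent (hq : EtGlue.QuotPowBijective A A' g) [Algebra.FiniteType A' B']
    [Algebra.FiniteType (Localization.Away g) Bg] : Algebra.FiniteType A B := by
  classical
  obtain ⟨t₁, ht₁⟩ := exists_finset_span_adjoin A A' B' (B := B)
  obtain ⟨t₂, ht₂⟩ := exists_finset_span_adjoin A (Localization.Away g) Bg (B := B)
  have := eq_top_of_span hq (Algebra.adjoin A ((t₁ ∪ t₂ : Finset B) : Set B)).toSubmodule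
    (span_eq_top_transfer A A' B' _ (ht₁ _ Finset.subset_union_left))
    (span_eq_top_transfer A (Localization.Away g) Bg _ (ht₂ _ Finset.subset_union_right))
  exact ⟨⟨t₁ ∪ t₂, Algebra.toSubmodule_eq_top.mp this⟩⟩

theorem flat_descent (h : EtGlue.IsGlueingPair A A' g) [Module.Flat A' B']
    [Module.Flat (Localization.Away g) Bg] : Module.Flat A B := by
  haveI : Module.Flat A' (A' ⊗[A] B) :=
    .of_linearEquiv (Algebra.IsPushout.equiv A A' B B').toLinearEquiv
  haveI : Module.Flat (Localization.Away g) (Localization.Away g ⊗[A] B) :=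
    .of_linearEquiv (Algebra.IsPushout.equiv A (Localization.Away g) B Bg).toLinearEquiv
  exact flat_of_flat h

theorem finitePresentation_descent (h : EtGlue.IsGlueingPair A A' g) [Module.Flat A' B']
    [Module.Flat (Localization.Away g) Bg] [Algebra.FinitePresentation A' B']
    [Algebra.FinitePresentation (Localization.Away g) Bg] : Algebra.FinitePresentation A B := by
  classical
  haveI := finiteType_descent B' (B := B) Bg h.1
  obtain ⟨n, π, hπ⟩ := Algebra.FiniteType.iff_quotient_mvPolynomial''.mp ‹Algebra.FiniteType A B›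
  haveI : Module.Flat A' (A' ⊗[A] B) :=
    .of_linearEquiv (Algebra.IsPushout.equiv A A' B B').toLinearEquiv
  haveI : Module.Flat (Localization.Away g) (Localization.Away g ⊗[A] B) :=
    .of_linearEquiv (Algebra.IsPushout.equiv A (Localization.Away g) B Bg).toLinearEquiv
  haveI : Algebra.FinitePresentation A' (A' ⊗[A] B) :=
    Algebra.FinitePresentation.equiv (Algebra.IsPushout.equiv A A' B B').symm
  haveI : Algebra.FinitePresentation (Localization.Away g) (Localization.Away g ⊗[A] B) :=
    Algebra.FinitePresentation.equiv (Algebra.IsPushout.equiv A (Localization.Away g) B Bg).symm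
  have key : ∀ (S : Type u) [CommRing S] [Algebra A S] [Algebra.FinitePresentation S (S ⊗[A] B)],
      ∃ T : Finset (MvPolynomial (Fin n) A), (∀ t ∈ T, π t = 0) ∧
        ∀ I₀ : Ideal (MvPolynomial (Fin n) A), (T : Set (MvPolynomial (Fin n) A)) ⊆ I₀ →
          ∀ y, π.toLinearMap.baseChange S y = 0 →
            y ∈ Submodule.span S ((fun k => (1 : S) ⊗ₜ[A] k) '' (I₀ : Set (MvPolynomial (Fin n) A))) := by
    intro S _ _ _
    let πS : S ⊗[A] MvPolynomial (Fin n) A →ₐ[S] S ⊗[A] B :=
      Algebra.TensorProduct.map (AlgHom.id S S) π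
    have hπS : ∀ y, πS y = π.toLinearMap.baseChange S y := fun y => by
      induction y with
      | zero => simp
      | add a b ha hb => simp only [map_add, ha, hb]
      | tmul s p => simp [πS]
    have hsurj : Surjective πS := fun z => by
      obtain ⟨y, hy⟩ := LinearMap.lTensor_surjective S (g := π.toLinearMap) hπ z
      exact ⟨y, (hπS y).trans hy⟩
    obtain ⟨s, hs⟩ := Algebra.FinitePresentation.ker_fG_of_surjective πS hsurj
    have : ∀ z : S ⊗[A] LinearMap.ker π.toLinearMap, ∃ t : Finset (MvPolynomial (Fin n) A),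
        (∀ x ∈ t, π x = 0) ∧ ∀ I₀ : Ideal (MvPolynomial (Fin n) A), (t : Set (MvPolynomial (Fin n) A)) ⊆ (I₀ : Set (MvPolynomial (Fin n) A)) →
        (LinearMap.ker π.toLinearMap).subtype.baseChange S z ∈
          Submodule.span S ((fun k => (1 : S) ⊗ₜ[A] k) '' (I₀ : Set (MvPolynomial (Fin n) A))) := by
      intro z
      induction z with
      | zero => exact ⟨∅, by simp, fun _ _ => by simp⟩
      | tmul a l =>
        refine ⟨{l.1}, fun x hx => by rw [Finset.mem_singleton.mp hx]; exact l.2, fun I₀ hI => ?_⟩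
        rw [LinearMap.baseChange_tmul, show (a ⊗ₜ[A] ((LinearMap.ker π.toLinearMap).subtype l) :
            S ⊗[A] MvPolynomial (Fin n) A) = a • ((1 : S) ⊗ₜ l.1) by
          rw [smul_tmul', smul_eq_mul, mul_one]; rfl]
        exact Submodule.smul_mem _ _ (Submodule.subset_span ⟨l.1, hI (by simp), rfl⟩)
      | add x y hx hy =>
        obtain ⟨t₁, ht₁, h₁⟩ := hx
        obtain ⟨t₂, ht₂, h₂⟩ := hy
        refine ⟨t₁ ∪ t₂, fun v hv => (Finset.mem_union.mp hv).elim (ht₁ v) (ht₂ v), fun I₀ hI => ?_⟩
        rw [Finset.coe_union, Set.union_subset_iff] at hI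
        rw [map_add]
        exact add_mem (h₁ I₀ hI.1) (h₂ I₀ hI.2)
    have hsk : ∀ y : {y // y ∈ s}, ∃ z : S ⊗[A] LinearMap.ker π.toLinearMap,
        (LinearMap.ker π.toLinearMap).subtype.baseChange S z = y.1 := by
      intro y
      have hy : πS y.1 = 0 := RingHom.mem_ker.mp (hs ▸ Submodule.subset_span y.2)
      rw [hπS] at hy
      exact ((_root_.lTensor_exact S (LinearMap.exact_subtype_ker_map π.toLinearMap) hπ) y.1).mp hy
    choose z hz using hsk
    choose t ht ht' using this
    refine ⟨s.attach.biUnion fun y => t (z y), fun v hv => ?_, fun I₀ hI y hy => ?_⟩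
    · obtain ⟨y, -, hy⟩ := Finset.mem_biUnion.mp hv
      exact ht _ v hy
    · set W := Submodule.span S ((fun k => (1 : S) ⊗ₜ[A] k) '' (I₀ : Set (MvPolynomial (Fin n) A)))
      have hy' : y ∈ Ideal.span (s : Set (S ⊗[A] MvPolynomial (Fin n) A)) := by
        rw [← hπS] at hy; exact hs.symm ▸ RingHom.mem_ker.mpr hy
      have hmul : ∀ w ∈ W, ∀ c, c * w ∈ W := by
        intro w hw c
        induction hw using Submodule.span_induction with
        | mem x hx =>
          obtain ⟨k, hk, rfl⟩ := hx
          induction c with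
          | zero => simp
          | add a b ha hb => rw [add_mul]; exact add_mem ha hb
          | tmul a p =>
            rw [Algebra.TensorProduct.tmul_mul_tmul, mul_one,
              show (a ⊗ₜ[A] (p * k) : S ⊗[A] MvPolynomial (Fin n) A) = a • ((1 : S) ⊗ₜ (p * k)) by
                rw [smul_tmul', smul_eq_mul, mul_one]]
            exact Submodule.smul_mem _ _ (Submodule.subset_span ⟨p * k, I₀.mul_mem_left p hk, rfl⟩)
        | zero => simp
        | add x y _ _ hx hy => rw [mul_add]; exact add_mem hx hy
        | smul r x _ hx => rw [mul_smul_comm]; exact W.smul_mem r hx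
      induction hy' using Submodule.span_induction with
      | mem x hx =>
        have := ht' (z ⟨x, hx⟩) I₀ fun k hk =>
          hI (Finset.mem_biUnion.mpr ⟨⟨x, hx⟩, Finset.mem_attach _ _, hk⟩)
        rwa [hz] at this
      | zero => exact zero_mem _
      | add x y _ _ hx hy' => exact add_mem (hx (by
          have := hπS x; rw [← this]; exact RingHom.mem_ker.mp (hs ▸ ‹x ∈ Ideal.span _›))) (hy' (by
          have := hπS y; rw [← this]; exact RingHom.mem_ker.mp (hs ▸ ‹y ∈ Ideal.span _›)))
      | smul r x hx' hx =>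
        exact hmul x (hx (by
          have := hπS x; rw [← this]; exact RingHom.mem_ker.mp (hs ▸ hx'))) r
  obtain ⟨T₁, hT₁, h₁⟩ := key A'
  obtain ⟨T₂, hT₂, h₂⟩ := key (Localization.Away g)
  let I₀ : Ideal (MvPolynomial (Fin n) A) := Ideal.span ((T₁ ∪ T₂ : Finset _) : Set _)
  have hI₀ : I₀.restrictScalars A ≤ LinearMap.ker π.toLinearMap := by
    intro x hx
    refine (Ideal.span_le (I := RingHom.ker π.toRingHom)).mpr ?_ hx
    intro v hv
    exact (Finset.mem_union.mp hv).elim (hT₁ v) (hT₂ v)
  have hK := ker_le_of_bijective h π.toLinearMap (I₀.restrictScalars A) hI₀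
    (bijective_baseChange_liftQ π.toLinearMap hπ _ _ fun y hy =>
      h₁ I₀ (fun v hv => Submodule.subset_span (Finset.mem_union_left _ hv)) y hy)
    (bijective_baseChange_liftQ π.toLinearMap hπ _ _ fun y hy =>
      h₂ I₀ (fun v hv => Submodule.subset_span (Finset.mem_union_right _ hv)) y hy)
  refine Algebra.FinitePresentation.of_surjective hπ ?_
  refine ⟨T₁ ∪ T₂, ?_⟩
  ext x
  exact SetLike.ext_iff.mp hK x

theorem etale_descent (h : EtGlue.IsGlueingPair A A' g) [Algebra.Etale A' B']
    [Algebra.Etale (Localization.Away g) Bg] : Algebra.Etale A B := by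
  haveI := flat_descent B' (B := B) Bg h
  haveI := finitePresentation_descent B' (B := B) Bg h
  haveI : Subsingleton (A' ⊗[A] Ω[B⁄A]) :=
    (KaehlerDifferential.tensorKaehlerEquivBase A A' B B').injective.subsingleton
  haveI : Subsingleton (Localization.Away g ⊗[A] Ω[B⁄A]) :=
    (KaehlerDifferential.tensorKaehlerEquivBase A (Localization.Away g) B Bg).injective.subsingleton
  haveI : Algebra.FormallyUnramified A B :=
    ⟨subsingleton_of_subsingleton h.1 _ inferInstance inferInstance⟩
  exact .of_formallyUnramified_of_flat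

end Descent

end Groth.Agent.HenselLib.BL
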