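import Groth.Agent.EGA43.BranchCount.Main
import Groth.Agent.DimLib.Algebra

/-!
# Dimensions of the branches of a henselization and of the normalization
-/

set_option autoImplicit false
set_option linter.all false
set_option backward.isDefEq.respectTransparency false

universe u

open IsLocalRing TensorProduct

namespace Groth.Agent.HenselLib.BranchDim

/-- Along a flat map without specializations in the fibres the primes below a prime have the same dimension. -/
theorem krullDim_Iic_eq {R S : Type u} [CommRing R] [CommRing S] [Algebra R S] [Algebra.HasGoingDown R S]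
    (hfib : ∀ q q' : Ideal S, q.IsPrime → q'.IsPrime → q ≤ q' →
      q.comap (algebraMap R S) = q'.comap (algebraMap R S) → q = q')
    (M : PrimeSpectrum S) :
    Order.krullDim (Set.Iic M) = Order.krullDim (Set.Iic (PrimeSpectrum.comap (algebraMap R S) M)) := by
  set m := PrimeSpectrum.comap (algebraMap R S) M with hm
  refine le_antisymm (Order.krullDim_le_of_strictMono
    (fun q => (⟨PrimeSpectrum.comap (algebraMap R S) q.1, Ideal.comap_mono q.2⟩ : Set.Iic m))
    fun q q' hlt => ?_) (iSup_le fun l => ?_)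
  · refine lt_of_le_of_ne (show (_ : PrimeSpectrum R) ≤ _ from Ideal.comap_mono hlt.le) fun he => hlt.ne ?_
    exact Subtype.ext (PrimeSpectrum.ext (hfib _ _ q.1.2 q'.1.2 hlt.le congr(($he).1.asIdeal)))
  · let l' : LTSeries (PrimeSpectrum R) := l.map Subtype.val fun a b h => h
    have hl : l'.last.asIdeal ≤ m.asIdeal := by
      rw [LTSeries.last_map]
      exact l.last.2
    haveI : M.asIdeal.LiesOver m.asIdeal := ⟨rfl⟩
    obtain ⟨P, hPM, hP, hPo⟩ := M.asIdeal.exists_ideal_le_liesOver_of_le (p := l'.last.asIdeal) (q := m.asIdeal) hl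
    obtain ⟨L, hL, hLlast, -⟩ := Ideal.exists_ltSeries_of_hasGoingDown l' P
    have hle : ∀ i, L i ≤ M := fun i => (L.monotone (Fin.le_last i)).trans (le_of_eq_of_le hLlast hPM)
    let L' : LTSeries (Set.Iic M) := LTSeries.mk L.length (fun i => ⟨L i, hle i⟩) fun i j h => L.strictMono h
    have h2 : l.length = L'.length := by
      rw [show L'.length = L.length from rfl, hL]
      rfl
    rw [h2]
    exact Order.LTSeries.length_le_krullDim L'

theorem dim_comap {H D : Type u} [CommRing H] [CommRing D] [Algebra H D] [Algebra.IsIntegral H D] (q : Ideal D) :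
    ringKrullDim (H ⧸ q.comap (algebraMap H D)) = Order.krullDim (PrimeSpectrum.zeroLocus (q : Set D)) := by
  haveI : Algebra.IsIntegral (H ⧸ q.comap (algebraMap H D)) (D ⧸ q) := Algebra.IsIntegral.tower_top (R := H)
  rw [DimLib.ringKrullDim_eq_of_isIntegral (S := D ⧸ q) Ideal.algebraMap_quotient_injective, ringKrullDim_quotient]

variable {A : Type u} [CommRing A] [IsLocalRing A] {H : Type u} [CommRing H] [HenselianLocalRing H] [Algebra A H]
  [IsLocalHom (algebraMap A H)] [Module.Flat A H]

set_option maxHeartbeats 1000000 in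
/-- The dimensions of the branches of a henselization are the dimensions of the localizations of the normalization. -/
theorem forall_branches_iff (hfin : (minimalPrimes A).Finite)
    (hfib : ∀ q q' : Ideal H, q.IsPrime → q'.IsPrime → q ≤ q' →
      q.comap (algebraMap A H) = q'.comap (algebraMap A H) → q = q')
    (hstage : ∀ T : Finset H, ∃ (E : Type u) (_ : CommRing E) (_ : Algebra A E) (_ : Algebra.Etale A E)
      (g : E →ₐ[A] H), ∀ b ∈ T, b ∈ Set.range g)
    (C : WithBot ℕ∞ → Prop) :
    (∀ m' : MaximalSpectrum (CAlg2.normRed A), C (ringKrullDim (Localization.AtPrime m'.asIdeal))) ↔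
      ∀ P ∈ minimalPrimes H, C (ringKrullDim (H ⧸ P)) := by
  haveI : Module.FaithfullyFlat A H := Module.FaithfullyFlat.of_flat_of_isLocalHom
  let N := CAlg2.normRed A
  haveI : Algebra.IsIntegral A N := Algebra.IsIntegral.trans (CAlg2.red A)
  have hN : EGA4.IsNormalRing N := EGA43.Branches.isNormalRing_normRed A hfin
  letI : Algebra H (N ⊗[A] H) := Algebra.TensorProduct.rightAlgebra
  haveI : Algebra.IsIntegral H (N ⊗[A] H) :=
    Algebra.IsIntegral.of_surjective (Algebra.TensorProduct.commRight A H N).toAlgHom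
      (Algebra.TensorProduct.commRight A H N).surjective
  have hbij := CAlgSmall.UnibranchHull.bijOn (A := A) (H := H) hfib hfin
  haveI : IsScalarTower A H (N ⊗[A] H) := IsScalarTower.of_algebraMap_eq fun a => by
    show algebraMap A N a ⊗ₜ[A] (1 : H) = (1 : N) ⊗ₜ[A] algebraMap A H a
    rw [Algebra.algebraMap_eq_smul_one, Algebra.algebraMap_eq_smul_one, smul_tmul]
  have hfib' : ∀ q q' : Ideal (N ⊗[A] H), q.IsPrime → q'.IsPrime → q ≤ q' →
      q.comap (algebraMap N (N ⊗[A] H)) = q'.comap (algebraMap N (N ⊗[A] H)) → q = q' := by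
    intro q q' hq hq' hle he
    have h1 : q.comap (algebraMap H (N ⊗[A] H)) = q'.comap (algebraMap H (N ⊗[A] H)) := by
      refine hfib _ _ (hq.comap _) (hq'.comap _) (Ideal.comap_mono hle) ?_
      rw [Ideal.comap_comap, Ideal.comap_comap, ← IsScalarTower.algebraMap_eq,
        IsScalarTower.algebraMap_eq A N (N ⊗[A] H), ← Ideal.comap_comap, he, Ideal.comap_comap]
    by_contra hne
    have hlt : (⟨q, hq⟩ : PrimeSpectrum (N ⊗[A] H)) < ⟨q', hq'⟩ :=
      lt_of_le_of_ne hle fun h => hne congr(($h).asIdeal)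
    refine (DimLib.strictMono_comap_of_isIntegral (R := H) (S := N ⊗[A] H) hlt).ne ?_
    exact PrimeSpectrum.ext h1
  have hmax : ∀ M : Ideal (N ⊗[A] H), M.IsMaximal → (M.comap (algebraMap N (N ⊗[A] H))).IsMaximal := by
    intro M hM
    refine Ideal.isMaximal_of_isIntegral_of_isMaximal_comap (R := A) _ ?_
    rw [Ideal.comap_comap, ← IsScalarTower.algebraMap_eq, IsScalarTower.algebraMap_eq A H (N ⊗[A] H),
      ← Ideal.comap_comap, eq_maximalIdeal (Ideal.isMaximal_comap_of_isIntegral_of_isMaximal (R := H) (S := N ⊗[A] H) M),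
      show (maximalIdeal H).comap (algebraMap A H) = maximalIdeal A from
        ((local_hom_TFAE (algebraMap A H)).out 0 4 rfl rfl).mp inferInstance]
    exact maximalIdeal.isMaximal A
  -- the key computation
  have key : ∀ (M : Ideal (N ⊗[A] H)) (hM : M.IsMaximal) (q : Ideal (N ⊗[A] H)), q ∈ minimalPrimes (N ⊗[A] H) → q ≤ M →
      haveI := hmax M hM
      ringKrullDim (H ⧸ q.comap (algebraMap H (N ⊗[A] H))) =
        ringKrullDim (Localization.AtPrime (M.comap (algebraMap N (N ⊗[A] H)))) := by
    intro M hM q hq hqM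
    haveI := hq.1.1
    haveI := hmax M hM
    haveI := hM
    rw [dim_comap (H := H) (D := N ⊗[A] H) q]
    have hset : PrimeSpectrum.zeroLocus (q : Set (N ⊗[A] H)) = Set.Iic (⟨M, hM.isPrime⟩ : PrimeSpectrum (N ⊗[A] H)) := by
      ext p
      rw [PrimeSpectrum.mem_zeroLocus, SetLike.coe_subset_coe, Set.mem_Iic]
      refine ⟨fun h => ?_, fun h => ?_⟩
      · obtain ⟨M', hM', hpM'⟩ := Ideal.exists_le_maximal _ p.2.ne_top
        exact hpM'.trans (CAlgSmall.UnibranchHull.eq_of_isMaximal_of_le (H := H) (D := N ⊗[A] H) q M M' hM hM' hqM (h.trans hpM')).ge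
      · haveI := p.2
        obtain ⟨q', hq', hq'p⟩ := Ideal.exists_minimalPrimes_le (J := p.asIdeal) bot_le
        exact (EGA43.BranchCount.minimal_le_of_stages hN hstage hM.isPrime hq hq' hqM (hq'p.trans h)).trans hq'p
    rw [hset]
    refine (krullDim_Iic_eq (R := N) (S := N ⊗[A] H) hfib' ⟨M, hM.isPrime⟩).trans ?_
    exact (Order.krullDim_eq_of_orderIso (IsLocalization.AtPrime.primeSpectrumOrderIso
      (Localization.AtPrime (M.comap (algebraMap N (N ⊗[A] H)))) (M.comap (algebraMap N (N ⊗[A] H))))).symm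
  constructor
  · intro h P hP
    obtain ⟨q, hq, rfl⟩ := hbij.surjOn hP
    obtain ⟨M, hM, hqM⟩ := Ideal.exists_le_maximal q hq.1.1.ne_top
    exact (key M hM q hq hqM).symm ▸ h ⟨_, hmax M hM⟩
  · intro h m'
    haveI := m'.2
    obtain ⟨Q, hQ⟩ := PrimeSpectrum.comap_surjective_of_faithfullyFlat (A := N) (B := N ⊗[A] H) ⟨m'.1, m'.2.isPrime⟩
    have hQm : Q.asIdeal.comap (algebraMap N (N ⊗[A] H)) = m'.1 := congr(($hQ).asIdeal)
    obtain ⟨M, hM, hQM⟩ := Ideal.exists_le_maximal _ Q.2.ne_top
    haveI := hM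
    obtain ⟨q, hq, hqM⟩ := Ideal.exists_minimalPrimes_le (J := M) bot_le
    have hMm : (⟨_, hmax M hM⟩ : MaximalSpectrum N) = m' :=
      MaximalSpectrum.ext ((m'.2.eq_of_le (hmax M hM).ne_top (hQm ▸ Ideal.comap_mono hQM)).symm)
    rw [← hMm]
    exact (key M hM q hq hqM) ▸ h _ (hbij.mapsTo hq)

end Groth.Agent.HenselLib.BranchDim
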