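import Mathlib.Algebra.Module.FinitePresentation
import Mathlib.RingTheory.Localization.AtPrime.Basic
import Mathlib.Algebra.Module.LocalizedModule.Submodule
import Mathlib.Algebra.Module.LocalizedModule.AtPrime
import Mathlib.RingTheory.Localization.Finiteness
import Mathlib.LinearAlgebra.Pi
import Mathlib.Tactic.LinearCombination
import Mathlib.Tactic.Abel

/-!
# Finitely presented modules over rings whose divisibility is locally total
-/

set_option autoImplicit false
set_option linter.all false

universe u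

namespace Groth.Agent.HenselLib.Chain

open Function

variable {R : Type u} [CommRing R]

theorem exists_dvd_all (h : ∀ a b : R, a ∣ b ∨ b ∣ a) (s : Finset R) (hs : s.Nonempty) :
    ∃ d ∈ s, ∀ x ∈ s, d ∣ x := by
  induction hs using Finset.Nonempty.cons_induction with
  | singleton a => exact ⟨a, Finset.mem_singleton_self a, fun x hx => (Finset.mem_singleton.mp hx) ▸ dvd_rfl⟩
  | cons a t hat ht ih =>
    obtain ⟨d, hd, hd'⟩ := ih
    rcases h a d with had | hda
    · exact ⟨a, Finset.mem_cons_self _ _, fun x hx => (Finset.mem_cons.mp hx).elim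
        (fun e => e ▸ dvd_rfl) (fun hx => had.trans (hd' x hx))⟩
    · exact ⟨d, Finset.mem_cons.mpr (Or.inr hd), fun x hx => (Finset.mem_cons.mp hx).elim
        (fun e => e ▸ hda) (fun hx => hd' x hx)⟩

theorem decomp_fin (h : ∀ a b : R, a ∣ b ∨ b ∣ a) : ∀ (n : ℕ) (K : Submodule R (Fin n → R)),
    K.FG → ∃ f : Fin n → R, Nonempty (((Fin n → R) ⧸ K) ≃ₗ[R] (∀ i, R ⧸ Ideal.span {f i})) := by
  classical
  intro n
  induction n with
  | zero =>
    intro K _
    haveI : Subsingleton ((Fin 0 → R) ⧸ K) := Quotient.instSubsingletonQuotient _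
    exact ⟨Fin.elim0, ⟨LinearEquiv.ofSubsingleton _ _⟩⟩
  | succ n ih =>
    intro K hK
    by_cases hK0 : K = ⊥
    · refine ⟨fun _ => 0, ⟨(Submodule.quotEquivOfEqBot K hK0).trans
        (LinearEquiv.piCongrRight fun i =>
          (Submodule.quotEquivOfEqBot _ (by simp)).symm)⟩⟩
    obtain ⟨S, hS⟩ := hK
    let coords : Finset R := S.biUnion fun k => Finset.univ.image k
    have hne : coords.Nonempty := by
      rcases S.eq_empty_or_nonempty with hS0 | ⟨k, hk⟩
      · exact absurd (by rw [← hS, hS0]; simp) hK0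
      · exact ⟨k 0, Finset.mem_biUnion.mpr ⟨k, hk, Finset.mem_image_of_mem _ (Finset.mem_univ _)⟩⟩
    obtain ⟨d, hd, hdall⟩ := exists_dvd_all h coords hne
    obtain ⟨k, hk, hki⟩ := Finset.mem_biUnion.mp hd
    obtain ⟨i, -, hi⟩ := Finset.mem_image.mp hki
    have hkK : k ∈ K := hS ▸ Submodule.subset_span hk
    have hdiv : ∀ y ∈ K, ∀ j, d ∣ y j := by
      intro y hy
      rw [← hS] at hy
      induction hy using Submodule.span_induction with
      | mem y hy => exact fun j => hdall _ (Finset.mem_biUnion.mpr ⟨y, hy, Finset.mem_image_of_mem _ (Finset.mem_univ _)⟩)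
      | zero => exact fun j => dvd_zero _
      | add x y _ _ hx hy => exact fun j => dvd_add (hx j) (hy j)
      | smul a x _ hx => exact fun j => Dvd.dvd.mul_left (hx j) a
    choose v hv using fun j => hdiv k hkK (i.succAbove j)
    let proj : (Fin (n + 1) → R) →ₗ[R] (Fin n → R) :=
      LinearMap.pi fun j => LinearMap.proj (i.succAbove j) - v j • LinearMap.proj i
    have hproj : ∀ (w : Fin (n + 1) → R) j, proj w j = w (i.succAbove j) - v j * w i := fun w j => rfl
    obtain ⟨f', ⟨e'⟩⟩ := ih (K.map proj) (Submodule.FG.map _ ⟨S, hS⟩)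
    refine ⟨Fin.cons d f', ?_⟩
    let q : (Fin n → R) →ₗ[R] (∀ j, R ⧸ Ideal.span {f' j}) := e'.toLinearMap ∘ₗ (K.map proj).mkQ
    let ψ : (Fin (n + 1) → R) →ₗ[R] (∀ l : Fin (n + 1), R ⧸ Ideal.span {(Fin.cons d f' : Fin (n+1) → R) l}) :=
      LinearMap.pi (Fin.cases (motive := fun l => (Fin (n + 1) → R) →ₗ[R]
          R ⧸ Ideal.span {(Fin.cons d f' : Fin (n+1) → R) l})
        ((Submodule.mkQ (Ideal.span {d})).comp (LinearMap.proj i))
        (fun j => (LinearMap.proj j).comp (q.comp proj)))
    have hψ0 : ∀ w, ψ w 0 = Ideal.Quotient.mk (Ideal.span {d}) (w i) := fun w => rfl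
    have hψs : ∀ w j, ψ w (Fin.succ j) = q (proj w) j := fun w j => rfl
    have hker : LinearMap.ker ψ = K := by
      ext w
      rw [LinearMap.mem_ker]
      constructor
      · intro hw
        have h0 : w i ∈ Ideal.span {d} :=
          Ideal.Quotient.eq_zero_iff_mem.mp ((hψ0 w).symm.trans (congrFun hw 0))
        have h1 : proj w ∈ K.map proj := by
          rw [← Submodule.Quotient.mk_eq_zero]
          apply e'.injective
          rw [map_zero]
          funext j
          exact (hψs w j).symm.trans (congrFun hw _)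
        obtain ⟨y, hy, hyw⟩ := h1
        obtain ⟨c, hc⟩ := Ideal.mem_span_singleton'.mp h0
        obtain ⟨c', hc'⟩ := hdiv y hy i
        have : w = y + (c - c') • k := by
          funext l
          rcases Fin.eq_self_or_eq_succAbove i l with rfl | ⟨j, rfl⟩
          · simp only [Pi.add_apply, Pi.smul_apply, smul_eq_mul, hi]
            linear_combination -hc - hc'
          · have e := congrFun hyw j
            rw [hproj, hproj] at e
            simp only [Pi.add_apply, Pi.smul_apply, smul_eq_mul]
            linear_combination -e + (-(c - c')) * hv j + v j * (-hc) - v j * hc'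
        rw [this]
        exact add_mem hy (K.smul_mem _ hkK)
      · intro hw
        funext l
        refine Fin.cases ?_ (fun j => ?_) l
        · rw [hψ0]
          exact Ideal.Quotient.eq_zero_iff_mem.mpr (Ideal.mem_span_singleton.mpr (hdiv w hw i))
        · rw [hψs]
          have : (K.map proj).mkQ (proj w) = 0 :=
            (Submodule.Quotient.mk_eq_zero _).mpr (Submodule.mem_map_of_mem hw)
          simp only [q, LinearMap.comp_apply, this, map_zero]
          rfl
    have hsurj : Surjective ψ := by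
      intro z
      obtain ⟨a, ha⟩ := Ideal.Quotient.mk_surjective (z 0)
      obtain ⟨u, hu⟩ := (e'.surjective.comp (Submodule.mkQ_surjective _))
        (fun j => z (Fin.succ j))
      refine ⟨Fin.insertNth i a (fun j => u j + v j * a), funext fun l => ?_⟩
      refine Fin.cases ?_ (fun j => ?_) l
      · rw [hψ0, Fin.insertNth_apply_same]; exact ha
      · rw [hψs]
        have : proj (Fin.insertNth i a (fun j => u j + v j * a)) = u := by
          funext j
          rw [hproj, Fin.insertNth_apply_succAbove, Fin.insertNth_apply_same]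
          ring
        rw [this]
        exact congrFun hu j
    exact ⟨(Submodule.quotEquivOfEq _ _ hker.symm).trans (ψ.quotKerEquivOfSurjective hsurj)⟩

theorem decomp (h : ∀ a b : R, a ∣ b ∨ b ∣ a) (M : Type u) [AddCommGroup M] [Module R M]
    [Module.FinitePresentation R M] :
    ∃ (n : ℕ) (f : Fin n → R), Nonempty (M ≃ₗ[R] ((i : Fin n) → R ⧸ Ideal.span {f i})) := by
  obtain ⟨n, π, hπ⟩ := Module.Finite.exists_fin' R M
  obtain ⟨f, ⟨e⟩⟩ := decomp_fin h n (LinearMap.ker π) (Module.FinitePresentation.fg_ker π hπ)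
  exact ⟨n, f, ⟨(π.quotKerEquivOfSurjective hπ).symm.trans e⟩⟩

theorem summand (h : ∀ (m : Ideal R) [m.IsMaximal], ∀ a b : Localization.AtPrime m, a ∣ b ∨ b ∣ a)
    (M : Type u) [AddCommGroup M] [Module R M] [Module.FinitePresentation R M] :
    ∃ (n : ℕ) (f : Fin n → R) (N : Type u) (_ : AddCommGroup N) (_ : Module R N),
      Nonempty ((M × N) ≃ₗ[R] ((i : Fin n) → R ⧸ Ideal.span {f i})) := by
  classical
  have loc : ∀ m : MaximalSpectrum R, ∃ g ∉ m.asIdeal, ∃ (n : ℕ) (r : Fin n → R)
      (Φ : (∀ i, R ⧸ Ideal.span {r i}) →ₗ[R] M) (ψ : M →ₗ[R] ∀ i, R ⧸ Ideal.span {r i}),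
      ∀ x, Φ (ψ x) = g • x := by
    rintro ⟨m, hm⟩
    set Rm := Localization.AtPrime m
    set S := m.primeCompl
    let μ := LocalizedModule.mkLinearMap S M
    obtain ⟨n, f, ⟨e⟩⟩ := decomp (h m) (LocalizedModule S M)
    choose r s hrs using fun i => IsLocalization.exists_mk'_eq S (f i)
    have hspan : ∀ i, (Ideal.span {r i}).localized' Rm S (Algebra.linearMap R Rm) = Ideal.span {f i} := by
      intro i
      rw [Ideal.span, Submodule.localized'_span, Set.image_singleton, Algebra.linearMap_apply]
      change Ideal.span {algebraMap R Rm (r i)} = _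
      rw [← IsLocalization.mk'_spec Rm (r i) (s i), hrs i,
        Ideal.span_singleton_mul_right_unit (IsLocalization.map_units Rm (s i))]
    let ι : ∀ i, (R ⧸ Ideal.span {r i}) →ₗ[R] Rm ⧸ Ideal.span {f i} := fun i =>
      ((Submodule.quotEquivOfEq _ _ (hspan i)).restrictScalars R).toLinearMap ∘ₗ
        Submodule.toLocalizedQuotient' Rm S (Algebra.linearMap R Rm) (Ideal.span {r i})
    have hι : ∀ i, IsLocalizedModule S (ι i) := fun i =>
      IsLocalizedModule.of_linearEquiv S _ _
    let ιP : (∀ i, R ⧸ Ideal.span {r i}) →ₗ[R] ∀ i, Rm ⧸ Ideal.span {f i} :=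
      LinearMap.pi fun i => ι i ∘ₗ LinearMap.proj i
    -- lift `M_m → P_m`
    have hψ : ∀ i, ∃ (q : M →ₗ[R] R ⧸ Ideal.span {r i}) (t : S),
        ι i ∘ₗ q = t • (LinearMap.proj i ∘ₗ (e.restrictScalars R).toLinearMap ∘ₗ μ) := fun i =>
      haveI := hι i
      Module.FinitePresentation.exists_lift_of_isLocalizedModule S (ι i) _
    choose q t hq using hψ
    let T : S := ∏ i, t i
    let ψ : M →ₗ[R] ∀ i, R ⧸ Ideal.span {r i} :=
      LinearMap.pi fun i => ((∏ j ∈ Finset.univ.erase i, t j : S) : R) • q i
    have hιψ : ∀ x, ιP (ψ x) = (T : R) • e (μ x) := by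
      intro x
      funext i
      have := LinearMap.congr_fun (hq i) x
      simp only [LinearMap.comp_apply, LinearMap.smul_apply, Submonoid.smul_def] at this
      change ι i (((∏ j ∈ Finset.univ.erase i, t j : S) : R) • q i x) = _
      rw [map_smul, this]
      change _ = (T : R) • e (μ x) i
      rw [← mul_smul, ← Submonoid.coe_mul, Finset.prod_erase_mul _ _ (Finset.mem_univ i)]
      rfl
    -- lift `P_m → M_m`
    haveI : Module.FinitePresentation R (∀ i, R ⧸ Ideal.span {r i}) := by
      haveI : ∀ i, Module.FinitePresentation R (R ⧸ Ideal.span {r i}) := fun i =>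
        Module.finitePresentation_of_surjective (Submodule.mkQ _) (Submodule.mkQ_surjective _)
          (by rw [Submodule.ker_mkQ]; exact Submodule.fg_span_singleton _)
      infer_instance
    obtain ⟨Φ, c, hΦ⟩ := Module.FinitePresentation.exists_lift_of_isLocalizedModule S μ
      ((e.symm.restrictScalars R).toLinearMap ∘ₗ ιP)
    have hdiff : ∀ x, μ (Φ (ψ x)) = μ (((c * T : S) : R) • x) := by
      intro x
      have := LinearMap.congr_fun hΦ (ψ x)
      simp only [LinearMap.comp_apply, LinearMap.smul_apply, Submonoid.smul_def] at this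
      rw [this, hιψ]
      change (c : R) • e.symm ((T : R) • e (μ x)) = _
      have h2 := (e.symm.restrictScalars R).map_smul (T : R) (e (μ x))
      simp only [LinearEquiv.restrictScalars_apply] at h2
      rw [h2, e.symm_apply_apply, map_smul, ← mul_smul, Submonoid.coe_mul]
    obtain ⟨G, hG⟩ := Module.Finite.fg_top (R := R) (M := M)
    choose w hw using fun x : M => IsLocalizedModule.exists_of_eq (S := S) (f := μ) (hdiff x)
    let W : S := ∏ x ∈ G, w x
    have hW : ∀ x, (W : R) • Φ (ψ x) = (W : R) • ((c * T : S) : R) • x := by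
      intro x
      have hx : x ∈ Submodule.span R (G : Set M) := hG ▸ trivial
      induction hx using Submodule.span_induction with
      | mem x hx =>
        obtain ⟨W', hW'⟩ : (w x) ∣ W := Finset.dvd_prod_of_mem _ hx
        have := congrArg (fun z => (W' : R) • z) (hw x)
        simp only [Submonoid.smul_def, ← mul_smul] at this
        rw [hW', ← mul_smul, Submonoid.coe_mul, mul_comm (w x : R) (W' : R)]
        exact this.trans (by simp only [← mul_smul, mul_assoc])
      | zero => simp
      | add a b _ _ ha hb => simp [ha, hb]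
      | smul a b _ hb => rw [map_smul, map_smul, smul_comm, hb]; simp only [smul_comm a]
    refine ⟨((W * (c * T) : S) : R), (W * (c * T)).2, n, r, Φ, (W : R) • ψ, fun x => ?_⟩
    rw [LinearMap.smul_apply, map_smul, hW]
    simp only [Submonoid.coe_mul, mul_smul]
  choose g hg n r Φ ψ hΦψ using loc
  have htop : Ideal.span (Set.range g) = ⊤ := by
    by_contra hne
    obtain ⟨m, hm, hle⟩ := Ideal.exists_le_maximal _ hne
    exact hg ⟨m, hm⟩ (hle (Ideal.subset_span ⟨⟨m, hm⟩, rfl⟩))
  have h1 : (1 : R) ∈ Ideal.span (Set.range g) := htop ▸ trivial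
  obtain ⟨a, ha⟩ := Finsupp.mem_span_range_iff_exists_finsupp.mp h1
  let σ : Type u := Σ m : a.support, Fin (n m.1)
  let ε : σ ≃ Fin (Fintype.card σ) := Fintype.equivFin σ
  let F : Fin (Fintype.card σ) → R := fun l => r (ε.symm l).1.1 (ε.symm l).2
  let P := ∀ m : a.support, ∀ i, R ⧸ Ideal.span {r m.1 i}
  let eσ : P ≃ₗ[R] ∀ l : σ, R ⧸ Ideal.span {r l.1.1 l.2} :=
    { toFun := fun p l => p l.1 l.2
      invFun := fun p m i => p ⟨m, i⟩
      map_add' := fun _ _ => rfl
      map_smul' := fun _ _ => rfl
      left_inv := fun _ => rfl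
      right_inv := fun _ => rfl }
  let eF : (∀ l : σ, R ⧸ Ideal.span {r l.1.1 l.2}) ≃ₗ[R] (∀ l, R ⧸ Ideal.span {F l}) :=
    (LinearEquiv.piCongrLeft' R (fun l : σ => R ⧸ Ideal.span {r l.1.1 l.2}) ε)
  let Φ' : P →ₗ[R] M := ∑ m : a.support, Φ m.1 ∘ₗ LinearMap.proj m
  let ψ' : M →ₗ[R] P := LinearMap.pi fun m : a.support => a m.1 • ψ m.1
  have hid : ∀ x, Φ' (ψ' x) = x := by
    intro x
    have hterm : ∀ m : a.support, (Φ m.1 ∘ₗ LinearMap.proj m) (ψ' x) = (a m.1 * g m.1) • x := by
      intro m
      change Φ m.1 (a m.1 • ψ m.1 x) = _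
      rw [map_smul, hΦψ, mul_smul]
    simp only [Φ', LinearMap.sum_apply, hterm]
    rw [← Finset.sum_smul]
    rw [Finset.univ_eq_attach, Finset.sum_attach a.support (fun m => a m * g m)]
    simp only [Finsupp.sum, smul_eq_mul] at ha
    rw [ha, one_smul]
  let eMN : (M × LinearMap.ker Φ') ≃ₗ[R] P :=
    { toFun := fun z => ψ' z.1 + z.2.1
      map_add' := fun z z' => by simp only [Prod.fst_add, Prod.snd_add, map_add, Submodule.coe_add]; abel
      map_smul' := fun b z => by simp [smul_add]
      invFun := fun p => (Φ' p, ⟨p - ψ' (Φ' p), by simp [LinearMap.mem_ker, hid]⟩)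
      left_inv := fun z => by
        have h0 : Φ' z.2.1 = 0 := z.2.2
        have h : Φ' (ψ' z.1 + z.2.1) = z.1 := by rw [map_add, hid, h0, add_zero]
        refine Prod.ext h (Subtype.ext ?_)
        simp only [h]
        abel
      right_inv := fun p => by simp }
  exact ⟨_, F, LinearMap.ker Φ', inferInstance, inferInstance, ⟨eMN.trans (eσ.trans eF)⟩⟩

end Groth.Agent.HenselLib.Chain
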