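import Groth.Agent.HenselLib.Idem
import Mathlib.AlgebraicGeometry.Morphisms.Finite
import Mathlib.AlgebraicGeometry.Morphisms.ClosedImmersion
import Mathlib.AlgebraicGeometry.PullbackCarrier
import Mathlib.AlgebraicGeometry.Limits
import Mathlib.RingTheory.Spectrum.Prime.Topology

/-!
# Henselian couples: lifting open-closed subsets
-/

set_option autoImplicit false
set_option linter.all false

universe u v

open CategoryTheory CategoryTheory.Limits AlgebraicGeometry Topology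

namespace Groth.Agent.HenselLib.ClopenLift

/-- Open-closed subsets of `Z` extend uniquely. -/
def Lifts {Y : Type u} [TopologicalSpace Y] (Z : Set Y) : Prop :=
  ∀ V : Set Z, IsClopen V → ∃! U : Set Y, IsClopen U ∧ Subtype.val ⁻¹' U = V

theorem lifts_iff_of_isEmbedding {T : Type v} {Y : Type u} [TopologicalSpace T] [TopologicalSpace Y]
    (φ : T → Y) (hφ : IsEmbedding φ) (Z : Set Y) (hZ : Set.range φ = Z) :
    (∀ V : Set T, IsClopen V → ∃! U : Set Y, IsClopen U ∧ φ ⁻¹' U = V) ↔ Lifts Z := by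
  subst hZ
  let h := hφ.toHomeomorph
  have hval : ∀ U : Set Y, h ⁻¹' (Subtype.val ⁻¹' U) = φ ⁻¹' U := fun U => rfl
  constructor
  · intro H V hV
    obtain ⟨U, ⟨hU, hUV⟩, huniq⟩ := H (h ⁻¹' V) (hV.preimage h.continuous)
    exact ⟨U, ⟨hU, h.surjective.preimage_injective ((hval U).trans hUV)⟩,
      fun U' hU' => huniq U' ⟨hU'.1, by rw [← hval, hU'.2]⟩⟩
  · intro H V hV
    obtain ⟨U, ⟨hU, hUV⟩, huniq⟩ := H (h.symm ⁻¹' V) (hV.preimage h.symm.continuous)
    have hs : h ⁻¹' (h.symm ⁻¹' V) = V := by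
      ext t
      simp only [Set.mem_preimage, Homeomorph.symm_apply_apply]
    refine ⟨U, ⟨hU, ?_⟩, fun U' hU' => huniq U' ⟨hU'.1, h.surjective.preimage_injective ?_⟩⟩
    · rw [← hval, hUV, hs]
    · rw [hval, hU'.2, hs]

theorem lifts_image_homeomorph {Y : Type u} {Y' : Type v} [TopologicalSpace Y] [TopologicalSpace Y']
    (h : Y ≃ₜ Y') (Z : Set Y) : Lifts (h '' Z) ↔ Lifts Z := by
  rw [← lifts_iff_of_isEmbedding (fun z : Z => h z) (h.isEmbedding.comp IsEmbedding.subtypeVal) (h '' Z)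
    (by rw [Set.range_comp', Subtype.range_val])]
  refine forall₂_congr fun V hV => ?_
  constructor
  · rintro ⟨U, ⟨hU, hUV⟩, huniq⟩
    refine ⟨h ⁻¹' U, ⟨hU.preimage h.continuous, hUV⟩, fun U' hU' => ?_⟩
    have := huniq (h.symm ⁻¹' U') ⟨hU'.1.preimage h.symm.continuous, by
      rw [← hU'.2]; ext z; simp⟩
    rw [← this]
    ext y; simp
  · rintro ⟨U, ⟨hU, hUV⟩, huniq⟩
    refine ⟨h.symm ⁻¹' U, ⟨hU.preimage h.symm.continuous, by rw [← hUV]; ext z; simp⟩, fun U' hU' => ?_⟩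
    have := huniq (h ⁻¹' U') ⟨hU'.1.preimage h.continuous, hU'.2⟩
    rw [← this]
    ext y; simp

theorem lifts_of_cover {Y : Type u} [TopologicalSpace Y] {κ : Type v} (W : κ → Set Y)
    (hW : ∀ j, IsOpen (W j)) (hcov : ∀ y, ∃ j, y ∈ W j) (hdisj : ∀ i j y, y ∈ W i → y ∈ W j → i = j)
    (Z : Set Y) (h : ∀ j, Lifts (Subtype.val ⁻¹' Z : Set (W j))) : Lifts Z := by
  intro V hV
  have hclosed : ∀ j, IsClosed (W j) := fun j => by
    rw [← isOpen_compl_iff]
    have : (W j)ᶜ = ⋃ i ∈ {i | i ≠ j}, W i := by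
      ext y
      constructor
      · intro hy
        obtain ⟨i, hi⟩ := hcov y
        exact Set.mem_iUnion₂.mpr ⟨i, fun e => hy (e ▸ hi), hi⟩
      · rintro hy hyj
        obtain ⟨i, hi, hyi⟩ := Set.mem_iUnion₂.mp hy
        exact hi (hdisj i j y hyi hyj)
    rw [this]
    exact isOpen_biUnion fun i _ => hW i
  let inc : ∀ j, (Subtype.val ⁻¹' Z : Set (W j)) → Z := fun j w => ⟨w.1.1, w.2⟩
  have hinc : ∀ j, Continuous (inc j) := fun j =>
    (continuous_subtype_val.comp continuous_subtype_val).subtype_mk _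
  choose U hU huniq using fun j => h j (inc j ⁻¹' V) (hV.preimage (hinc j))
  let UU : Set Y := {y | ∃ hy : y ∈ W (hcov y).choose, (⟨y, hy⟩ : W (hcov y).choose) ∈ U (hcov y).choose}
  have hUU : ∀ j (y : W j), (y : Y) ∈ UU ↔ y ∈ U j := by
    rintro j ⟨y, hy⟩
    have hj : (hcov y).choose = j := hdisj _ _ y (hcov y).choose_spec hy
    subst hj
    exact ⟨fun ⟨_, h⟩ => h, fun h => ⟨hy, h⟩⟩
  have hopen : ∀ (S : ∀ j, Set (W j)), (∀ j, IsOpen (S j)) →
      IsOpen (⋃ j, (Subtype.val '' S j : Set Y)) := fun S hS =>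
    isOpen_iUnion fun j => (hW j).isOpenMap_subtype_val _ (hS j)
  have hUUeq : UU = ⋃ j, Subtype.val '' U j := by
    ext y
    constructor
    · intro hy
      obtain ⟨j, hj⟩ := hcov y
      exact Set.mem_iUnion.mpr ⟨j, ⟨y, hj⟩, (hUU j ⟨y, hj⟩).mp hy, rfl⟩
    · intro hy
      obtain ⟨j, w, hw, rfl⟩ := Set.mem_iUnion.mp hy
      exact (hUU j w).mpr hw
  have hUUc : UUᶜ = ⋃ j, Subtype.val '' (U j)ᶜ := by
    ext y
    constructor
    · intro hy
      obtain ⟨j, hj⟩ := hcov y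
      exact Set.mem_iUnion.mpr ⟨j, ⟨y, hj⟩, fun h => hy ((hUU j ⟨y, hj⟩).mpr h), rfl⟩
    · intro hy
      obtain ⟨j, w, hw, rfl⟩ := Set.mem_iUnion.mp hy
      exact fun h => hw ((hUU j w).mp h)
  refine ⟨UU, ⟨⟨?_, ?_⟩, ?_⟩, fun U' hU' => ?_⟩
  · rw [← isOpen_compl_iff, hUUc]
    exact hopen _ fun j => (hU j).1.1.isOpen_compl
  · rw [hUUeq]
    exact hopen _ fun j => (hU j).1.2
  · ext ⟨z, hz⟩
    obtain ⟨j, hj⟩ := hcov z
    exact (hUU j ⟨z, hj⟩).trans (Set.ext_iff.mp (hU j).2 ⟨⟨z, hj⟩, hz⟩)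
  · ext y
    obtain ⟨j, hj⟩ := hcov y
    have := huniq j (Subtype.val ⁻¹' U') ⟨hU'.1.preimage continuous_subtype_val, by
      rw [← hU'.2]; rfl⟩
    exact (Set.ext_iff.mp this ⟨y, hj⟩).trans (hUU j ⟨y, hj⟩).symm

/-- The clopen criterion for an affine scheme is lifting of idempotents. -/
theorem lifts_zeroLocus_iff (B : Type u) [CommRing B] (J : Ideal B) :
    Lifts (PrimeSpectrum.zeroLocus (J : Set B)) ↔
      Set.BijOn (Ideal.Quotient.mk J) {e : B | IsIdempotentElem e} {e | IsIdempotentElem e} := by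
  rw [← lifts_iff_of_isEmbedding (PrimeSpectrum.comap (Ideal.Quotient.mk J))
    (PrimeSpectrum.isClosedEmbedding_comap_of_surjective _ (Ideal.Quotient.mk J) Ideal.Quotient.mk_surjective).isEmbedding
    _ (by rw [range_comap_of_surjective _ _ Ideal.Quotient.mk_surjective, Ideal.mk_ker])]
  have hpre : ∀ e : B, PrimeSpectrum.comap (Ideal.Quotient.mk J) ⁻¹' (PrimeSpectrum.basicOpen e : Set (PrimeSpectrum B)) =
      (PrimeSpectrum.basicOpen (Ideal.Quotient.mk J e) : Set (PrimeSpectrum (B ⧸ J))) := fun e => by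
    ext p; rfl
  have hinj : ∀ {C : Type u} [CommRing C] (e f : C), IsIdempotentElem e → IsIdempotentElem f →
      (PrimeSpectrum.basicOpen e : Set (PrimeSpectrum C)) = PrimeSpectrum.basicOpen f → e = f :=
    fun e f he hf h => PrimeSpectrum.basicOpen_injOn_isIdempotentElem he hf (SetLike.coe_injective h)
  constructor
  · intro h
    refine ⟨fun e he => IsIdempotentElem.map he _, fun e he f hf hef => ?_, fun y hy => ?_⟩
    · obtain ⟨U, -, huniq⟩ := h _ (PrimeSpectrum.isClopen_iff.mpr ⟨_, IsIdempotentElem.map he (Ideal.Quotient.mk J), rfl⟩)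
      refine hinj e f he hf ((huniq _ ⟨PrimeSpectrum.isClopen_iff.mpr ⟨e, he, rfl⟩, hpre e⟩).trans
        (huniq _ ⟨PrimeSpectrum.isClopen_iff.mpr ⟨f, hf, rfl⟩, ?_⟩).symm)
      rw [hpre, hef]
    · obtain ⟨U, ⟨hU, hUV⟩, -⟩ := h _ (PrimeSpectrum.isClopen_iff.mpr ⟨y, hy, rfl⟩)
      obtain ⟨e, he, rfl⟩ := PrimeSpectrum.isClopen_iff.mp hU
      exact ⟨e, he, hinj _ _ (IsIdempotentElem.map he _) hy ((hpre e).symm.trans hUV)⟩
  · intro h V hV
    obtain ⟨y, hy, rfl⟩ := PrimeSpectrum.isClopen_iff.mp hV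
    obtain ⟨e, he, rfl⟩ := h.surjOn hy
    refine ⟨_, ⟨PrimeSpectrum.isClopen_iff.mpr ⟨e, he, rfl⟩, hpre e⟩, fun U' hU' => ?_⟩
    obtain ⟨f, hf, rfl⟩ := PrimeSpectrum.isClopen_iff.mp hU'.1
    have := hinj _ _ (IsIdempotentElem.map hf _) (IsIdempotentElem.map he _) ((hpre f).symm.trans hU'.2)
    rw [h.injOn hf he this]

variable {X X₀ : Scheme.{u}} (i : X₀ ⟶ X) [IsClosedImmersion i]

/-- A henselian couple in terms of closed subsets. -/
theorem couple_iff :
    (∀ (Y : Scheme.{u}) (g : Y ⟶ X), IsFinite g →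
      ∀ V : Set ↥(pullback g i), IsClopen V →
        ∃! U : Set ↥Y, IsClopen U ∧ (pullback.fst g i).base ⁻¹' U = V) ↔
    ∀ (Y : Scheme.{u}) (g : Y ⟶ X), IsFinite g → Lifts (g ⁻¹' Set.range i : Set Y) :=
  forall₂_congr fun Y g => forall_congr' fun _ =>
    lifts_iff_of_isEmbedding _ (pullback.fst g i).isClosedEmbedding.isEmbedding _ (Scheme.Pullback.range_fst g i)

end Groth.Agent.HenselLib.ClopenLift
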