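import Groth.Agent.FlatMor12.MorSLocal
import Groth.Agent.HenselLib.IdemFunctor
import Mathlib.AlgebraicGeometry.Morphisms.Etale

/-!
# The etale scheme of idempotents of a finite locally free morphism
-/

set_option autoImplicit false
set_option linter.all false
set_option backward.isDefEq.respectTransparency false
set_option backward.isDefEq.respectTransparency.types false

universe u

open CategoryTheory CategoryTheory.Limits AlgebraicGeometry Opposite TensorProduct

namespace Groth.Agent.HenselLib.ClopenSpace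

/-- The ring classifying idempotents. -/
abbrev Two : CommRingCat.{u} := CommRingCat.of (ULift.{u} ℤ × ULift.{u} ℤ)

/-- The universal idempotent. -/
noncomputable def eps : Γ(Spec Two.{u}, ⊤) := (Scheme.ΓSpecIso Two.{u}).inv ((1 : ULift.{u} ℤ), (0 : ULift.{u} ℤ))

theorem eps_idem : IsIdempotentElem eps.{u} := by
  refine IsIdempotentElem.map ?_ (Scheme.ΓSpecIso Two.{u}).inv.hom
  show ((1 : ULift.{u} ℤ), (0 : ULift.{u} ℤ)) * (1, 0) = (1, 0)
  simp

theorem bijective_toTwo (T : Scheme.{u}) :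
    Function.Bijective (fun q : T ⟶ Spec Two.{u} =>
      (⟨q.appTop eps, eps_idem.map q.appTop.hom⟩ : {e : Γ(T, ⊤) // IsIdempotentElem e})) := by
  constructor
  · intro q q' h
    have h' : q.appTop eps = q'.appTop eps := congrArg Subtype.val h
    apply ext_of_isAffine
    rw [← cancel_epi (Scheme.ΓSpecIso Two.{u}).inv]
    refine CommRingCat.hom_ext (RingHom.ext fun x => ?_)
    obtain ⟨⟨a⟩, ⟨b⟩⟩ := x
    have hz : ((ULift.up a, ULift.up b) : ULift.{u} ℤ × ULift.{u} ℤ) =
        (a : ULift.{u} ℤ × ULift.{u} ℤ) * (1, 0) + (b : ULift.{u} ℤ × ULift.{u} ℤ) * (1 - (1, 0)) := by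
      ext <;> simp
    rw [hz]
    simp only [map_add, map_mul, map_intCast, map_sub, map_one, CommRingCat.comp_apply]
    change _ * q.appTop eps + _ * (1 - q.appTop eps) = _ * q'.appTop eps + _ * (1 - q'.appTop eps)
    rw [h']
  · rintro ⟨e, he⟩
    let χ : ULift.{u} ℤ × ULift.{u} ℤ →+* Γ(T, ⊤) :=
      { toFun := fun x => (x.1.down : Γ(T, ⊤)) * e + (x.2.down : Γ(T, ⊤)) * (1 - e)
        map_one' := by simp
        map_mul' := fun x y => by
          have h1 : e * e = e := he
          simp only [Prod.fst_mul, Prod.snd_mul, ULift.mul_down, Int.cast_mul]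
          linear_combination ((-(x.1.down : Γ(T, ⊤)) * y.1.down) + (x.1.down : Γ(T, ⊤)) * y.2.down +
            (x.2.down : Γ(T, ⊤)) * y.1.down - (x.2.down : Γ(T, ⊤)) * y.2.down) * h1
        map_zero' := by simp
        map_add' := fun x y => by
          simp only [Prod.fst_add, Prod.snd_add, ULift.add_down, Int.cast_add]
          ring }
    refine ⟨T.toSpecΓ ≫ Spec.map (CommRingCat.ofHom χ), Subtype.ext ?_⟩
    change (T.toSpecΓ ≫ Spec.map (CommRingCat.ofHom χ)).appTop ((Scheme.ΓSpecIso Two.{u}).inv (1, 0)) = e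
    rw [Scheme.Hom.comp_appTop, Scheme.toSpecΓ_appTop, ← CommRingCat.comp_apply, ← Category.assoc,
      ← Scheme.ΓSpecIso_inv_naturality, Category.assoc, Iso.inv_hom_id, Category.comp_id]
    show χ (1, 0) = e
    simp [χ]

variable {S S' : Scheme.{u}} (g : S' ⟶ S)

/-- The universal property: `Φ` makes `E` represent idempotents of `T ×_S S'`. -/
structure Rep (E : Over S) where
  Φ : ∀ {T : Over S}, (T ⟶ E) → Γ(pullback T.hom g, ⊤)
  idem : ∀ {T : Over S} (h : T ⟶ E), IsIdempotentElem (Φ h)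
  uniq : ∀ {T : Over S} (e : Γ(pullback T.hom g, ⊤)), IsIdempotentElem e → ∃! h : T ⟶ E, Φ h = e
  nat : ∀ {T T' : Over S} (t : T' ⟶ T) (h : T ⟶ E), Φ (t ≫ h) = ((Over.pullback g).map t).left.appTop (Φ h)

theorem exists_rep (hg : Mor2.IsFinLocFree g) :
    ∃ E : Over S, IsAffineHom E.hom ∧ Nonempty (Rep g E) := by
  let f : pullback (terminal.from S) (terminal.from (Spec Two.{u})) ⟶ S := pullback.fst _ _
  haveI : IsAffineHom (terminal.from (Spec Two.{u})) := isAffineHom_of_isAffine _
  haveI : IsAffineHom f := MorphismProperty.pullback_fst _ _ inferInstance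
  obtain ⟨E, hE, ⟨r⟩⟩ := FlatMor12.MorSLocal.exists_representableBy g f hg
  let β : ∀ {T : Over S}, (T ⟶ E) → ((Over.map g).obj ((Over.pullback g).obj T) ⟶ Over.mk f) := fun h => r.homEquiv h
  refine ⟨E, hE, ⟨⟨fun {T} h => ((β h).left ≫ pullback.snd _ _).appTop eps, fun {T} h => eps_idem.map _, ?_, ?_⟩⟩⟩
  · intro T e he
    obtain ⟨q, hq⟩ := (bijective_toTwo _).2 ⟨e, he⟩
    let b : (Over.map g).obj ((Over.pullback g).obj T) ⟶ Over.mk f :=
      Over.homMk (pullback.lift (pullback.snd T.hom g ≫ g) q (terminal.hom_ext _ _)) (pullback.lift_fst _ _ _)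
    have hb : β (r.homEquiv.symm b) = b := Equiv.apply_symm_apply _ _
    refine ⟨r.homEquiv.symm b, ?_, fun h hh => ?_⟩
    · change ((β (r.homEquiv.symm b)).left ≫ pullback.snd _ _).appTop eps = e
      rw [hb]
      change (pullback.lift (pullback.snd T.hom g ≫ g) q _ ≫ pullback.snd _ _).appTop eps = e
      rw [pullback.lift_snd]
      exact congrArg Subtype.val hq
    · apply r.homEquiv.injective
      rw [Equiv.apply_symm_apply]
      refine Over.OverMorphism.ext (pullback.hom_ext ?_ ?_)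
      · exact (Over.w (β h)).trans (pullback.lift_fst _ _ _).symm
      · refine Eq.trans ?_ (pullback.lift_snd _ _ _).symm
        exact (bijective_toTwo _).1 (Subtype.ext (hh.trans (congrArg Subtype.val hq).symm))
  · intro T T' t h
    have h1 : β (t ≫ h) = (Over.map g).map ((Over.pullback g).map t) ≫ β h := r.homEquiv_comp t h
    change ((β (t ≫ h)).left ≫ pullback.snd _ _).appTop eps = _
    rw [h1]
    change ((((Over.pullback g).map t).left ≫ (β h).left) ≫ pullback.snd _ _).appTop eps = _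
    rw [Category.assoc, Scheme.Hom.comp_appTop]
    rfl

theorem etale {E : Over S} (hg : Mor2.IsFinLocFree g) [IsAffineHom E.hom] (r : Rep g E) : AlgebraicGeometry.Etale E.hom := by
  obtain ⟨hg1, hg2, hg3⟩ := hg
  refine IsZariskiLocalAtTarget.of_openCover S.affineCover fun i => ?_
  let u : S.affineCover.X i ⟶ S := S.affineCover.f i
  haveI : IsAffine (pullback g u) := isAffine_of_isAffineHom (pullback.snd g u)
  let g₁ := pullback.snd g u
  let A := Γ(S.affineCover.X i, ⊤)
  let B := Γ(pullback g u, ⊤)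
  letI : Algebra A B := g₁.appTop.hom.toAlgebra
  obtain ⟨hfin, hproj⟩ := FlatMor12.MorSLocal.finite_projective g₁ ⟨inferInstance, inferInstance, inferInstance⟩
  haveI : Module.Finite A B := hfin
  haveI : Module.Projective A B := hproj
  -- points over affine test rings
  let str : ∀ (C : Type u) [CommRing C] [Algebra A C], Over S := fun C _ _ =>
    Over.mk ((Spec.map (CommRingCat.ofHom (algebraMap A C)) ≫ (S.affineCover.X i).isoSpec.inv) ≫ u)
  have hpb : ∀ (C : Type u) [CommRing C] [Algebra A C],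
      IsPullback (Spec.map (CommRingCat.ofHom (S := C ⊗[A] B) Algebra.TensorProduct.includeLeftRingHom))
        ((Spec.map (CommRingCat.ofHom (S := C ⊗[A] B) Algebra.TensorProduct.includeRight.toRingHom) ≫
          (pullback g u).isoSpec.inv) ≫ pullback.fst g u) (str C).hom g := fun C _ _ =>
    (FlatMor12.MorSFree.isPullback_spec g₁ rfl C).paste_vert (IsPullback.of_hasPullback g u).flip
  let ψ : ∀ (C : Type u) [CommRing C] [Algebra A C], (str C ⟶ E) → C ⊗[A] B := fun C _ _ h =>
    (Scheme.ΓSpecIso (CommRingCat.of (C ⊗[A] B))).hom ((hpb C).isoPullback.hom.appTop (r.Φ h))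
  have hψi : ∀ (C : Type u) [CommRing C] [Algebra A C] (h : str C ⟶ E), IsIdempotentElem (ψ C h) := fun C _ _ h =>
    ((r.idem h).map (hpb C).isoPullback.hom.appTop.hom).map (Scheme.ΓSpecIso (CommRingCat.of (C ⊗[A] B))).hom.hom
  have hψ : ∀ (C : Type u) [CommRing C] [Algebra A C] (e : C ⊗[A] B), IsIdempotentElem e →
      ∃! h : str C ⟶ E, ψ C h = e := by
    intro C _ _ e he
    let F : Γ(pullback (str C).hom g, ⊤) ≅ CommRingCat.of (C ⊗[A] B) :=
      asIso (hpb C).isoPullback.hom.appTop ≪≫ Scheme.ΓSpecIso _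
    obtain ⟨h, hh, huniq⟩ := r.uniq (F.inv e) (he.map F.inv.hom)
    refine ⟨h, ?_, fun h' hh' => huniq h' ?_⟩
    · change F.hom (r.Φ h) = e
      rw [hh, ← CommRingCat.comp_apply, Iso.inv_hom_id]
      rfl
    · rw [← hh']
      change r.Φ h' = F.inv (F.hom (r.Φ h'))
      rw [← CommRingCat.comp_apply, Iso.hom_inv_id]
      rfl
  let mp : ∀ {C D : Type u} [CommRing C] [Algebra A C] [CommRing D] [Algebra A D] (φ : C →ₐ[A] D), str D ⟶ str C :=
    fun {C D} _ _ _ _ φ => Over.homMk (Spec.map (CommRingCat.ofHom φ.toRingHom)) (by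
      change Spec.map _ ≫ (Spec.map _ ≫ _) ≫ u = (Spec.map _ ≫ _) ≫ u
      simp only [← Category.assoc, ← Spec.map_comp, ← CommRingCat.ofHom_comp]
      congr 4
      exact φ.comp_algebraMap)
  have hnat : ∀ {C D : Type u} [CommRing C] [Algebra A C] [CommRing D] [Algebra A D] (φ : C →ₐ[A] D)
      (h : str C ⟶ E), ψ D (mp φ ≫ h) = Algebra.TensorProduct.map φ (AlgHom.id A B) (ψ C h) := by
    intro C D _ _ _ _ φ h
    let M : CommRingCat.of (C ⊗[A] B) ⟶ CommRingCat.of (D ⊗[A] B) :=
      CommRingCat.ofHom (Algebra.TensorProduct.map φ (AlgHom.id A B)).toRingHom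
    have hsq : (hpb D).isoPullback.hom ≫ ((Over.pullback g).map (mp φ)).left = Spec.map M ≫ (hpb C).isoPullback.hom := by
      refine pullback.hom_ext ?_ ?_
      · rw [Category.assoc]
        change _ ≫ pullback.lift _ _ _ ≫ _ = _
        simp only [Category.assoc, pullback.lift_fst, IsPullback.isoPullback_hom_fst, IsPullback.isoPullback_hom_fst_assoc]
        change _ ≫ Spec.map (CommRingCat.ofHom φ.toRingHom) = _
        rw [← Spec.map_comp, ← Spec.map_comp]
        congr 1
      · rw [Category.assoc]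
        change _ ≫ pullback.lift _ _ _ ≫ _ = _
        simp only [Category.assoc, pullback.lift_snd, IsPullback.isoPullback_hom_snd]
        simp only [← Category.assoc, ← Spec.map_comp]
        congr 3
        refine CommRingCat.hom_ext (RingHom.ext fun x => ?_)
        simp [M]
    change (Scheme.ΓSpecIso _).hom ((hpb D).isoPullback.hom.appTop (r.Φ (mp φ ≫ h))) = M (ψ C h)
    rw [r.nat]
    change ((((Over.pullback g).map (mp φ)).left.appTop ≫ (hpb D).isoPullback.hom.appTop) ≫ (Scheme.ΓSpecIso _).hom) (r.Φ h) =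
      (((hpb C).isoPullback.hom.appTop ≫ (Scheme.ΓSpecIso _).hom) ≫ M) (r.Φ h)
    rw [← Scheme.Hom.comp_appTop, hsq, Scheme.Hom.comp_appTop, Category.assoc, Scheme.ΓSpecIso_naturality]
    rfl
  obtain ⟨E₁, _, _, e₀, hEt, hidem, huniv⟩ := IdemFunctor.exists_representing (A := A) (B := B)
  obtain ⟨m, hm, -⟩ := hψ E₁ e₀ hidem
  let P := pullback E.hom u
  haveI : IsAffine P := isAffine_of_isAffineHom (pullback.snd E.hom u)
  letI : Algebra A Γ(P, ⊤) := (pullback.snd E.hom u).appTop.hom.toAlgebra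
  have hstr : Spec.map (CommRingCat.ofHom (algebraMap A Γ(P, ⊤))) ≫ (S.affineCover.X i).isoSpec.inv =
      P.isoSpec.inv ≫ pullback.snd E.hom u :=
    Scheme.isoSpec_inv_naturality _
  let hP : str Γ(P, ⊤) ⟶ E := Over.homMk (P.isoSpec.inv ≫ pullback.fst E.hom u) (by
    change _ = (_ ≫ _) ≫ u
    rw [hstr, Category.assoc, Category.assoc, pullback.condition])
  obtain ⟨φ, hφ, -⟩ := huniv Γ(P, ⊤) (ψ _ hP) (hψi _ hP)
  have hPm : mp φ ≫ m = hP := by
    obtain ⟨h₀, -, hu⟩ := hψ Γ(P, ⊤) (ψ _ hP) (hψi _ hP)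
    rw [hu (mp φ ≫ m) (by beta_reduce; rw [hnat, hm, hφ]), hu hP rfl]
  let m' : Spec (CommRingCat.of E₁) ⟶ P := pullback.lift m.left
    (Spec.map (CommRingCat.ofHom (algebraMap A E₁)) ≫ (S.affineCover.X i).isoSpec.inv) (Over.w m)
  let n : P ⟶ Spec (CommRingCat.of E₁) := P.isoSpec.hom ≫ Spec.map (CommRingCat.ofHom φ.toRingHom)
  have hn1 : n ≫ m.left = pullback.fst E.hom u := by
    have h := congrArg Over.Hom.left hPm
    change Spec.map (CommRingCat.ofHom φ.toRingHom) ≫ m.left = P.isoSpec.inv ≫ pullback.fst E.hom u at h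
    rw [Category.assoc, h, Iso.hom_inv_id_assoc]
  have hn2 : n ≫ Spec.map (CommRingCat.ofHom (algebraMap A E₁)) ≫ (S.affineCover.X i).isoSpec.inv =
      pullback.snd E.hom u := by
    rw [Category.assoc, ← Category.assoc (Spec.map _), ← Spec.map_comp, ← CommRingCat.ofHom_comp,
      show φ.toRingHom.comp (algebraMap A E₁) = algebraMap A Γ(P, ⊤) from φ.comp_algebraMap, hstr,
      Iso.hom_inv_id_assoc]
  have h1 : n ≫ m' = 𝟙 P := by
    refine pullback.hom_ext ?_ ?_
    · rw [Category.assoc, pullback.lift_fst, hn1, Category.id_comp]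
    · rw [Category.assoc, pullback.lift_snd, hn2, Category.id_comp]
  have h2 : m' ≫ n = 𝟙 _ := by
    obtain ⟨ρ, hρ⟩ : ∃ ρ : CommRingCat.of E₁ ⟶ CommRingCat.of E₁, Spec.map ρ = m' ≫ n :=
      ⟨Spec.preimage (m' ≫ n), Spec.map_preimage _⟩
    have hρA : ρ.hom.comp (algebraMap A E₁) = algebraMap A E₁ := by
      have : CommRingCat.ofHom (algebraMap A E₁) ≫ ρ = CommRingCat.ofHom (algebraMap A E₁) := by
        apply Spec.map_injective
        rw [Spec.map_comp, ← cancel_mono (S.affineCover.X i).isoSpec.inv, hρ, Category.assoc, Category.assoc,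
          hn2, pullback.lift_snd]
      exact congrArg CommRingCat.Hom.hom this
    let χ : E₁ →ₐ[A] E₁ := { ρ.hom with commutes' := fun a => congr($hρA a) }
    have hχm : mp χ ≫ m = m := by
      refine Over.OverMorphism.ext ?_
      change Spec.map ρ ≫ m.left = m.left
      rw [hρ, Category.assoc, hn1, pullback.lift_fst]
    have hid : Algebra.TensorProduct.map (AlgHom.id A E₁) (AlgHom.id A B) e₀ = e₀ := by
      rw [Algebra.TensorProduct.map_id]; rfl
    have : χ = AlgHom.id A E₁ := (huniv E₁ e₀ hidem).unique (by rw [← hm, ← hnat, hχm]) hid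
    rw [← hρ, show ρ = 𝟙 _ from CommRingCat.hom_ext (congrArg AlgHom.toRingHom this), Spec.map_id]
  haveI : IsIso n := ⟨m', h1, h2⟩
  change AlgebraicGeometry.Etale (pullback.snd E.hom u)
  rw [← hn2]
  have : AlgebraicGeometry.Etale (Spec.map (CommRingCat.ofHom (algebraMap A E₁))) :=
    (HasRingHomProperty.Spec_iff (P := @AlgebraicGeometry.Etale)).mpr (RingHom.etale_algebraMap.mpr hEt)
  infer_instance

end Groth.Agent.HenselLib.ClopenSpace
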