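import Groth.Agent.HenselLib.PunctureSplit

/-!
# Decompositions of the punctured spectrum of a completion come from below
-/

set_option autoImplicit false
set_option linter.all false

universe u

open IsLocalRing

namespace Groth.Agent.HenselLib.PunctureConn

open PunctureSplit

variable {B C : Type u} [CommRing B] [CommRing C] [Algebra B C]
variable [IsLocalRing B] [IsLocalRing C] [IsNoetherianRing B] [IsNoetherianRing C] [HenselianLocalRing B]

/-- A splitting of the punctured spectrum of `C / P C` is trivial when `B` is henselian and `B → C` is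
flat with surjective truncations. -/
theorem pow_mem_or [Module.Flat B C] [IsLocalHom (algebraMap B C)]
    (happ : ∀ (N : ℕ) (c : C), ∃ b : B, c - algebraMap B C b ∈ (maximalIdeal B ^ N).map (algebraMap B C))
    (P : Ideal B) [P.IsPrime] (J₁ J₂ : Ideal C) (hmul : J₁ * J₂ ≤ P.map (algebraMap B C))
    (hrad : maximalIdeal C ≤ (J₁ ⊔ J₂).radical) (x : B) (hxm : x ∈ maximalIdeal B) (hxP : x ∉ P) :
    ∃ n : ℕ, algebraMap B C (x ^ n) ∈ J₁ ⊔ P.map (algebraMap B C) ∨
      algebraMap B C (x ^ n) ∈ J₂ ⊔ P.map (algebraMap B C) := by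
  have hPp0 : P.IsPrime := inferInstance
  haveI : Module.FaithfullyFlat B C := Module.FaithfullyFlat.of_flat_of_isLocalHom
  have hPCm : P.map (algebraMap B C) ≤ maximalIdeal C :=
    (Ideal.map_mono (le_maximalIdeal hPp0.ne_top)).trans (map_maximalIdeal_le _)
  set PC := P.map (algebraMap B C) with hPC
  set φ := algebraMap B C with hφ
  obtain ⟨N, hN⟩ := Ideal.exists_pow_le_of_le_radical_of_fg hrad (IsNoetherian.noetherian _)
  have hsplit : ∀ z ∈ maximalIdeal B ^ N, ∃ a ∈ J₁, ∃ t ∈ J₂, φ z = a + t := by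
    intro z hz
    have h1 : φ z ∈ J₁ ⊔ J₂ := hN (by
      have := Ideal.mem_map_of_mem φ hz
      rw [Ideal.map_pow] at this
      exact Ideal.pow_right_mono (map_maximalIdeal_le _) N this)
    obtain ⟨a, ha, w, hw, he⟩ := Submodule.mem_sup.mp h1
    exact ⟨a, ha, w, hw, he.symm⟩
  obtain ⟨a, ha, t, ht, hat⟩ := hsplit (x ^ N) (Ideal.pow_mem_pow hxm N)
  obtain ⟨X, hX⟩ : ∃ X, X = φ (x ^ N) := ⟨_, rfl⟩
  have hXat : X = a + t := hX.trans hat
  obtain ⟨u, hu⟩ : ∃ u, u = t := ⟨t, rfl⟩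
  have hau : a * u ∈ PC := by
    rw [hu]; exact hmul (Ideal.mul_mem_mul ha ht)
  have hzu : ∀ z ∈ maximalIdeal B ^ N, ∃ t', φ z * u - X * t' ∈ PC := by
    intro z hz
    obtain ⟨a', ha', t', ht', hz'⟩ := hsplit z hz
    refine ⟨t', ?_⟩
    rw [hz', hXat, hu, show (a' + t') * t - (a + t) * t' = a' * t - a * t' by ring]
    exact sub_mem (hmul (Ideal.mul_mem_mul ha' ht)) (hmul (Ideal.mul_mem_mul ha ht'))
  -- descend `u`
  let I : Ideal B := Ideal.span {x ^ N} ⊔ P
  obtain ⟨G, hG⟩ := (IsNoetherian.noetherian (maximalIdeal B ^ N) : (maximalIdeal B ^ N).FG)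
  obtain ⟨k, l, c, hl, hul⟩ := mem_map_colon (C := C) I G u fun z hz => by
    obtain ⟨t', ht'⟩ := hzu z (by rw [← hG]; exact Submodule.subset_span hz)
    rw [show φ z * u = (φ z * u - X * t') + X * t' by ring]
    refine add_mem (Ideal.map_mono le_sup_right ht') (Ideal.mul_mem_right _ _ ?_)
    rw [hX]
    exact Ideal.mem_map_of_mem _ (Submodule.mem_sup_left (Ideal.mem_span_singleton_self _))
  have hl' : ∀ i, ∀ z ∈ maximalIdeal B ^ N, z * l i ∈ I := by
    intro i z hz
    rw [← hG] at hz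
    induction hz using Submodule.span_induction with
    | mem z hz => exact hl i z hz
    | zero => simp
    | add a b _ _ iha ihb => rw [add_mul]; exact add_mem iha ihb
    | smul r a _ iha => rw [smul_eq_mul, mul_assoc]; exact I.mul_mem_left _ iha
  choose b hb using fun i => happ (N + 1 + N) (c i)
  let u' : B := ∑ i, b i * l i
  have hdiff : ∀ i, (c i - φ (b i)) * φ (l i) ∈ (maximalIdeal B ^ (N + 1) * Ideal.span {x ^ N} ⊔ P).map φ := by
    intro i
    have h1 : maximalIdeal B ^ (N + 1 + N) * Ideal.span {l i} ≤ maximalIdeal B ^ (N + 1) * Ideal.span {x ^ N} ⊔ P := by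
      rw [pow_add, mul_assoc]
      calc _ ≤ maximalIdeal B ^ (N + 1) * I := Ideal.mul_mono_right (Ideal.mul_le.mpr fun z hz w hw => by
            obtain ⟨r, rfl⟩ := Ideal.mem_span_singleton'.mp hw
            rw [mul_left_comm]
            exact I.mul_mem_left _ (hl' i z hz))
        _ ≤ _ := by rw [Ideal.mul_sup]; exact sup_le_sup_left Ideal.mul_le_right _
    refine Ideal.map_mono h1 ?_
    rw [Ideal.map_mul]
    exact Ideal.mul_mem_mul (hb i) (Ideal.mem_map_of_mem _ (Ideal.mem_span_singleton_self _))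
  have hdiff' : u - φ u' ∈ (maximalIdeal B ^ (N + 1) * Ideal.span {x ^ N} ⊔ P).map φ := by
    rw [hul, map_sum, ← Finset.sum_sub_distrib]
    refine sum_mem fun i _ => ?_
    rw [map_mul, ← sub_mul]
    exact hdiff i
  obtain ⟨c₀, hc₀, hcu⟩ : ∃ c₀ ∈ (maximalIdeal B ^ (N + 1)).map φ, u - φ u' - X * c₀ ∈ PC := by
    rw [Ideal.map_sup, Ideal.map_mul, Ideal.map_span, Set.image_singleton] at hdiff'
    obtain ⟨w, hw, p, hp, he⟩ := Submodule.mem_sup.mp hdiff'
    obtain ⟨c₀, hc₀, rfl⟩ := Ideal.mem_mul_span_singleton.mp hw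
    exact ⟨c₀, hc₀, by rw [← he, mul_comm X c₀]; simpa [hX] using hp⟩
  have hmC : ∀ y ∈ maximalIdeal B, φ y ∈ maximalIdeal C := fun y hy => map_maximalIdeal_le _ (Ideal.mem_map_of_mem _ hy)
  obtain ⟨w, hw, hwu⟩ : ∃ w ∈ maximalIdeal C, c₀ * u - X * w ∈ PC := by
    let W : Ideal C :=
      { carrier := {c | ∃ w ∈ maximalIdeal C, c * u - X * w ∈ PC}
        add_mem' := fun {c c'} ⟨w, hw, hc⟩ ⟨w', hw', hc'⟩ => ⟨w + w', add_mem hw hw', by
          rw [show (c + c') * u - X * (w + w') = (c * u - X * w) + (c' * u - X * w') by ring]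
          exact add_mem hc hc'⟩
        zero_mem' := ⟨0, zero_mem _, by simp⟩
        smul_mem' := fun r c ⟨w, hw, hc⟩ => ⟨r * w, Ideal.mul_mem_left _ r hw, by
          rw [smul_eq_mul, show r * c * u - X * (r * w) = r * (c * u - X * w) by ring]
          exact PC.mul_mem_left _ hc⟩ }
    have : (maximalIdeal B ^ (N + 1)).map φ ≤ W := by
      rw [Ideal.map_le_iff_le_comap, pow_succ, Ideal.mul_le]
      intro z hz y hy
      obtain ⟨t', ht'⟩ := hzu z hz
      refine ⟨φ y * t', Ideal.mul_mem_right _ _ (hmC y hy), ?_⟩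
      rw [map_mul, show φ z * φ y * u - X * (φ y * t') = φ y * (φ z * u - X * t') by ring]
      exact PC.mul_mem_left _ ht'
    exact this hc₀
  have hc₀m : c₀ ∈ maximalIdeal C :=
    (Ideal.map_le_iff_le_comap (K := maximalIdeal C)).mpr (fun y hy => hmC y (Ideal.pow_le_self (Nat.succ_ne_zero N) hy)) hc₀
  let d : C := c₀ * c₀ + c₀ - 2 * w
  have hdm : d ∈ maximalIdeal C :=
    sub_mem (add_mem (Ideal.mul_mem_left _ _ hc₀m) hc₀m) (Ideal.mul_mem_left _ _ hw)
  let e₀ : B := u' * u' - x ^ N * u'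
  have he₀ : φ e₀ - X * X * d ∈ PC := by
    rw [show φ e₀ = φ u' * φ u' - X * φ u' by simp [e₀, hX]]
    have h1 : u * u - X * u ∈ PC := by
      rw [hXat, show u * u - (a + t) * u = -(a * u) by rw [hu]; ring]
      exact neg_mem hau
    set v := u - φ u' - X * c₀ with hv
    rw [show φ u' = u - X * c₀ - v by rw [hv]; ring,
      show (u - X * c₀ - v) * (u - X * c₀ - v) - X * (u - X * c₀ - v) - X * X * d =
        (u * u - X * u) - 2 * X * (c₀ * u - X * w) + v * (X - 2 * (u - X * c₀) + v) by simp only [d]; ring]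
    exact add_mem (sub_mem h1 (PC.mul_mem_left _ hwu)) (PC.mul_mem_right _ hcu)
  have hxn : ∀ n, x ^ n ∉ P := fun n h => hxP (hPp0.mem_of_pow_mem n h)
  obtain ⟨d₀, hd₀, hd₀m⟩ : ∃ d₀ : B, e₀ - x ^ N * x ^ N * d₀ ∈ P ∧ d₀ ∈ maximalIdeal B := by
    have h2 : φ e₀ ∈ (Ideal.span {x ^ N * x ^ N} ⊔ P).map φ := by
      rw [show φ e₀ = (φ e₀ - X * X * d) + X * X * d by ring]
      refine add_mem (Ideal.map_mono le_sup_right he₀) (Ideal.mul_mem_right _ _ ?_)
      rw [hX, ← map_mul φ (x ^ N) (x ^ N)]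
      exact Ideal.mem_map_of_mem _ (Submodule.mem_sup_left (Ideal.mem_span_singleton_self _))
    have h3 : e₀ ∈ Ideal.span {x ^ N * x ^ N} ⊔ P := by
      rw [← Ideal.comap_map_eq_self_of_faithfullyFlat (B := C) (Ideal.span {x ^ N * x ^ N} ⊔ P)]
      exact h2
    obtain ⟨y, hy, p, hp, he⟩ := Submodule.mem_sup.mp h3
    obtain ⟨d₀, rfl⟩ := Ideal.mem_span_singleton'.mp hy
    refine ⟨d₀, by rw [← he, mul_comm d₀]; simpa using hp, ?_⟩
    have h4 : φ d₀ - d ∈ PC := by
      refine mem_of_mul_mem P (hPp0.mul_notMem (hxn N) (hxn N)) _ ?_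
      rw [show φ (x ^ N * x ^ N) * (φ d₀ - d) = (φ e₀ - X * X * d) - φ p by
        rw [← he, map_add, map_mul φ d₀, map_mul φ (x ^ N) (x ^ N), ← hX]; ring]
      exact sub_mem he₀ (Ideal.mem_map_of_mem _ hp)
    by_contra hd
    have h5 : IsUnit (φ d₀) := ((IsLocalRing.notMem_maximalIdeal).mp hd).map φ
    refine (maximalIdeal.isMaximal C).ne_top (Ideal.eq_top_of_isUnit_mem _ ?_ h5)
    rw [show φ d₀ = (φ d₀ - d) + d by ring]
    exact add_mem (hPCm h4) hdm
  obtain ⟨r, hr, hrm⟩ := HenselianLocalRing.is_henselian (R := B)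
    (Polynomial.X ^ 2 - Polynomial.X - Polynomial.C d₀) (by monicity!) 0
    (by simpa using hd₀m) (by simp [Polynomial.derivative_pow])
  have hr' : r * r - r - d₀ = 0 := by
    rw [Polynomial.IsRoot.def] at hr
    simpa [sq] using hr
  rw [sub_zero] at hrm
  have hprod : (u' - x ^ N * r) * (u' - x ^ N * (1 - r)) ∈ P := by
    rw [show (u' - x ^ N * r) * (u' - x ^ N * (1 - r)) = (e₀ - x ^ N * x ^ N * d₀) - x ^ N * x ^ N * (r * r - r - d₀) by
      simp only [e₀]; ring, hr', mul_zero, sub_zero]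
    exact hd₀
  have key : ∀ v : C, u - X * v ∈ PC → v * v - v ∈ PC := by
    intro v hv
    refine mem_of_mul_mem P (hPp0.mul_notMem (hxn N) (hxn N)) _ ?_
    rw [map_mul, ← hX, show X * X * (v * v - v) = (-(a * u)) - (u - X * v) * (u + X * v - X) by
      rw [hXat, hu]; ring]
    exact sub_mem (neg_mem hau) (PC.mul_mem_right _ hv)
  rcases hPp0.mem_or_mem hprod with h | h
  · let v : C := φ r + c₀
    have hv : u - X * v ∈ PC := by
      rw [show u - X * v = (u - φ u' - X * c₀) + φ (u' - x ^ N * r) by simp [v, hX]; ring]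
      exact add_mem hcu (Ideal.mem_map_of_mem _ h)
    have hvm : v ∈ maximalIdeal C := add_mem (hmC r hrm) hc₀m
    have hv0 : v ∈ PC := by
      have h1 := key v hv
      rw [show v * v - v = (v - 1) * v by ring] at h1
      refine (Ideal.unit_mul_mem_iff_mem _ ?_).mp h1
      by_contra hc
      have h2 : v - 1 ∈ maximalIdeal C := hc
      exact (maximalIdeal.isMaximal C).ne_top ((Ideal.eq_top_iff_one _).mpr (by simpa using sub_mem hvm h2))
    refine ⟨N, Or.inl ?_⟩
    rw [← hX, hXat, ← hu, show a + u = a + ((u - X * v) + X * v) by ring]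
    exact add_mem (Submodule.mem_sup_left ha) (Submodule.mem_sup_right (add_mem hv (PC.mul_mem_left _ hv0)))
  · let v : C := 1 - φ r + c₀
    have hv : u - X * v ∈ PC := by
      rw [show u - X * v = (u - φ u' - X * c₀) + φ (u' - x ^ N * (1 - r)) by simp [v, hX]; ring]
      exact add_mem hcu (Ideal.mem_map_of_mem _ h)
    have hv1 : v - 1 ∈ PC := by
      have h1 := key v hv
      rw [show v * v - v = v * (v - 1) by ring] at h1
      refine (Ideal.unit_mul_mem_iff_mem _ ?_).mp h1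
      by_contra hc
      have h2 : v ∈ maximalIdeal C := hc
      refine (maximalIdeal.isMaximal C).ne_top ((Ideal.eq_top_iff_one _).mpr ?_)
      rw [show (1 : C) = v + φ r - c₀ by simp [v]; ring]
      exact sub_mem (add_mem h2 (hmC r hrm)) hc₀m
    refine ⟨N, Or.inr ?_⟩
    rw [← hX, show X = u + (-(u - X * v) - X * (v - 1)) by ring]
    exact add_mem (Submodule.mem_sup_left (hu ▸ ht)) (Submodule.mem_sup_right
      (sub_mem (neg_mem hv) (PC.mul_mem_left _ hv1)))

end Groth.Agent.HenselLib.PunctureConn
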