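import Groth.Agent.CAlgH.HenselToCompletion
import Groth.Agent.CAlgH.EtaleOfCompletionIso
import Groth.Agent.HenselLib.PunctureConn
import Groth.Agent.Matlis6.CompletionNoetherian
import Groth.Agent.CommAlg6.CompletionEquidim

/-!
# The henselization approximates the completion
-/

set_option autoImplicit false
set_option linter.all false

universe u

open IsLocalRing

namespace Groth.Agent.HenselLib.CompletionHapp

theorem exists_sub_mem_map (A S : Type u) [CommRing A] [IsLocalRing A] [IsNoetherianRing A] [CommRing S]
    [IsLocalRing S] [Algebra A S] [IsLocalHom (algebraMap A S)]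
    (ψ : S →+* AdicCompletion (maximalIdeal A) A)
    (hψ : ψ.comp (algebraMap A S) = algebraMap A (AdicCompletion (maximalIdeal A) A))
    (N : ℕ) (c : AdicCompletion (maximalIdeal A) A) :
    ∃ b : S, c - ψ b ∈ (maximalIdeal S ^ N).map ψ := by
  obtain ⟨a, ha⟩ := CAlgH.EtaleApprox.exists_sub_mem A N c
  refine ⟨algebraMap A S a, ?_⟩
  rw [show ψ (algebraMap A S a) = algebraMap A (AdicCompletion (maximalIdeal A) A) a from congr($hψ a)]
  have h1 : maximalIdeal (AdicCompletion (maximalIdeal A) A) ^ N ≤ (maximalIdeal S ^ N).map ψ := by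
    rw [Ideal.map_pow]
    refine Ideal.pow_right_mono ?_ N
    rw [AdicCompletion.maximalIdeal_eq_map, ← hψ, ← Ideal.map_map]
    exact Ideal.map_mono (map_maximalIdeal_le _)
  exact h1 ha

end Groth.Agent.HenselLib.CompletionHapp
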