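import Groth.Agent.CAlgH.GRingMaximal
import Groth.Agent.AdicRing.Basic
import Mathlib.RingTheory.Unramified.LocalRing
import Mathlib.RingTheory.Smooth.Fiber

/-!
# Unramified and etale local homomorphisms through completions
-/

set_option autoImplicit false
set_option linter.all false

universe u

open IsLocalRing

namespace Groth.Agent.HenselLib.CompletionUnramified

theorem residue_transfer {A B A' B' : Type u} [CommRing A] [CommRing B] [CommRing A'] [CommRing B']
    [IsLocalRing A] [IsLocalRing B] [IsLocalRing A'] [IsLocalRing B'] [Algebra A B] [Algebra A' B']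
    [IsLocalHom (algebraMap A B)] [IsLocalHom (algebraMap A' B')] (a : A →+* A') (b : B →+* B')
    [IsLocalHom a] [IsLocalHom b] (hsq : (algebraMap A' B').comp a = b.comp (algebraMap A B))
    (ha : Function.Bijective (ResidueField.map a)) (hb : Function.Bijective (ResidueField.map b)) :
    (Module.Finite (ResidueField A) (ResidueField B) ↔ Module.Finite (ResidueField A') (ResidueField B')) ∧
    (Algebra.IsSeparable (ResidueField A) (ResidueField B) ↔
      Algebra.IsSeparable (ResidueField A') (ResidueField B')) := by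
  let e₁ := RingEquiv.ofBijective _ ha
  let e₂ := RingEquiv.ofBijective _ hb
  have he : (algebraMap (ResidueField A') (ResidueField B')).comp e₁.toRingHom =
      e₂.toRingHom.comp (algebraMap (ResidueField A) (ResidueField B)) := by
    refine RingHom.ext fun z => ?_
    obtain ⟨z, rfl⟩ := residue_surjective z
    exact congrArg (residue B') (RingHom.congr_fun hsq z)
  have he' : (algebraMap (ResidueField A) (ResidueField B)).comp e₁.symm.toRingHom =
      e₂.symm.toRingHom.comp (algebraMap (ResidueField A') (ResidueField B')) := by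
    refine RingHom.ext fun z => ?_
    obtain ⟨z, rfl⟩ := e₁.surjective z
    show algebraMap _ _ (e₁.symm (e₁ z)) = e₂.symm (algebraMap _ _ (e₁ z))
    rw [e₁.symm_apply_apply]
    exact e₂.injective ((RingHom.congr_fun he z).symm.trans (e₂.apply_symm_apply _).symm)
  exact ⟨⟨fun h => Module.Finite.of_equiv_equiv e₁ e₂ he, fun h => Module.Finite.of_equiv_equiv e₁.symm e₂.symm he'⟩,
    ⟨fun h => Algebra.IsSeparable.of_equiv_equiv e₁ e₂ he, fun h => Algebra.IsSeparable.of_equiv_equiv e₁.symm e₂.symm he'⟩⟩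

variable (A : Type u) [CommRing A] [IsLocalRing A] [IsNoetherianRing A]

theorem bijective_residue_cpl [IsLocalHom (algebraMap A (EGA4.Cpl A))] :
    Function.Bijective (ResidueField.map (algebraMap A (EGA4.Cpl A))) := by
  refine ⟨RingHom.injective _, fun z => ?_⟩
  obtain ⟨y, rfl⟩ := residue_surjective z
  obtain ⟨a, ha⟩ := CAlgH.exists_sub_algebraMap_mem A y
  exact ⟨residue A a, (Ideal.Quotient.eq.mpr ha).symm⟩

variable {A} {B : Type u} [CommRing B] [IsLocalRing B] [IsNoetherianRing B] [Algebra A B]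
  [IsLocalHom (algebraMap A B)] (ψ : EGA4.Cpl A →+* EGA4.Cpl B)
  (hψ : ψ.comp (algebraMap A (EGA4.Cpl A)) = (algebraMap B (EGA4.Cpl B)).comp (algebraMap A B))

include hψ in
theorem map_maximalIdeal_eq :
    (maximalIdeal (EGA4.Cpl A)).map ψ = ((maximalIdeal A).map (algebraMap A B)).map (algebraMap B (EGA4.Cpl B)) := by
  rw [AdicCompletion.maximalIdeal_eq_map, Ideal.map_map, hψ, ← Ideal.map_map]

include hψ in
theorem isLocalHom : IsLocalHom ψ := by
  refine ((IsLocalRing.local_hom_TFAE ψ).out 2 0).mp ?_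
  rw [map_maximalIdeal_eq ψ hψ, AdicCompletion.maximalIdeal_eq_map (R := B)]
  exact Ideal.map_mono (IsLocalRing.map_maximalIdeal_le _)

theorem finite_cpl [IsLocalHom (algebraMap A B)] [Algebra (EGA4.Cpl A) (EGA4.Cpl B)]
    [IsLocalHom (algebraMap (EGA4.Cpl A) (EGA4.Cpl B))]
    (h1 : (maximalIdeal (EGA4.Cpl A)).map (algebraMap (EGA4.Cpl A) (EGA4.Cpl B)) = maximalIdeal (EGA4.Cpl B))
    [Module.Finite (ResidueField (EGA4.Cpl A)) (ResidueField (EGA4.Cpl B))] :
    Module.Finite (EGA4.Cpl A) (EGA4.Cpl B) := by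
  haveI : IsHausdorff (maximalIdeal (EGA4.Cpl A)) (EGA4.Cpl B) := by
    refine ⟨fun x hx => IsHausdorff.haus (I := maximalIdeal (EGA4.Cpl B)) inferInstance x fun n => ?_⟩
    have := hx n
    rw [SModEq.zero] at this ⊢
    rw [Ideal.smul_top_eq_map, Submodule.restrictScalars_mem, Ideal.map_pow, h1] at this
    simpa using this
  refine AdicRing.finite_of_finite_quotient (I := maximalIdeal (EGA4.Cpl A)) _ ?_
  haveI : Module.Finite (EGA4.Cpl A) (ResidueField (EGA4.Cpl A)) :=
    Module.Finite.of_surjective (Algebra.linearMap _ _) residue_surjective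
  haveI : Module.Finite (EGA4.Cpl A) (EGA4.Cpl B ⧸ maximalIdeal (EGA4.Cpl B)) :=
    (Module.Finite.trans (ResidueField (EGA4.Cpl A)) _ : Module.Finite (EGA4.Cpl A) (ResidueField (EGA4.Cpl B)))
  have hsub : (maximalIdeal (EGA4.Cpl A) • (⊤ : Submodule (EGA4.Cpl A) (EGA4.Cpl B))) =
      (maximalIdeal (EGA4.Cpl B)).restrictScalars (EGA4.Cpl A) := by
    rw [Ideal.smul_top_eq_map, h1]
  rw [hsub]
  exact Module.Finite.equiv (Submodule.Quotient.restrictScalarsEquiv (EGA4.Cpl A) (maximalIdeal (EGA4.Cpl B))).symm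

theorem finite_residue {C D : Type u} [CommRing C] [CommRing D] [IsLocalRing C] [IsLocalRing D] [Algebra C D]
    [IsLocalHom (algebraMap C D)] [Algebra.EssFiniteType C D] [Algebra.FormallyUnramified C D] :
    Module.Finite (ResidueField C) (ResidueField D) := by
  haveI : Algebra.FormallyUnramified D (ResidueField D) :=
    Algebra.FormallyUnramified.of_surjective (Algebra.ofId D (ResidueField D)) residue_surjective
  haveI : Algebra.FormallyUnramified C (ResidueField D) := Algebra.FormallyUnramified.comp C D _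
  haveI : Algebra.FiniteType D (ResidueField D) :=
    Algebra.FiniteType.of_surjective (Algebra.ofId D (ResidueField D)) residue_surjective
  haveI : Algebra.EssFiniteType C (ResidueField D) := Algebra.EssFiniteType.comp C D _
  haveI : Algebra.FormallyUnramified (ResidueField C) (ResidueField D) :=
    Algebra.FormallyUnramified.of_restrictScalars C _ _
  haveI : Algebra.EssFiniteType (ResidueField C) (ResidueField D) := Algebra.EssFiniteType.of_comp C _ _
  exact Algebra.FormallyUnramified.finite_of_free _ _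

include hψ in
theorem unramified_iff :
    ((maximalIdeal A).map (algebraMap A B) = maximalIdeal B ∧ Module.Finite (ResidueField A) (ResidueField B) ∧
        Algebra.IsSeparable (ResidueField A) (ResidueField B)) ↔ (ψ.FiniteType ∧ ψ.FormallyUnramified) := by
  haveI : IsNoetherianRing (EGA4.Cpl A) := Groth.Agent.Matlis6.isNoetherianRing_adicCompletion _
  haveI : IsNoetherianRing (EGA4.Cpl B) := Groth.Agent.Matlis6.isNoetherianRing_adicCompletion _
  haveI := CAlgH.isLocalHom_algebraMap_cpl A
  haveI := CAlgH.isLocalHom_algebraMap_cpl B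
  haveI := isLocalHom ψ hψ
  haveI : Module.FaithfullyFlat B (EGA4.Cpl B) := Module.FaithfullyFlat.of_flat_of_isLocalHom
  algebraize [ψ]
  haveI : IsLocalHom (algebraMap (EGA4.Cpl A) (EGA4.Cpl B)) := ‹IsLocalHom ψ›
  obtain ⟨hfin, hsep⟩ := residue_transfer (algebraMap A (EGA4.Cpl A)) (algebraMap B (EGA4.Cpl B))
    (A' := EGA4.Cpl A) (B' := EGA4.Cpl B) hψ (bijective_residue_cpl A) (bijective_residue_cpl B)
  have hmap : (maximalIdeal A).map (algebraMap A B) = maximalIdeal B ↔
      (maximalIdeal (EGA4.Cpl A)).map (algebraMap (EGA4.Cpl A) (EGA4.Cpl B)) = maximalIdeal (EGA4.Cpl B) := by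
    rw [show algebraMap (EGA4.Cpl A) (EGA4.Cpl B) = ψ from rfl, map_maximalIdeal_eq ψ hψ,
      AdicCompletion.maximalIdeal_eq_map (R := B)]
    exact ⟨fun h => by rw [h], fun h => Ideal.map_injective_of_faithfullyFlat h⟩
  constructor
  · rintro ⟨h1, h2, h3⟩
    have h1' := hmap.mp h1
    haveI := hfin.mp h2
    haveI := hsep.mp h3
    haveI : Module.Finite (EGA4.Cpl A) (EGA4.Cpl B) := finite_cpl h1'
    haveI : Algebra.FormallyUnramified (EGA4.Cpl A) (EGA4.Cpl B) :=
      Algebra.FormallyUnramified.iff_map_maximalIdeal_eq.mpr ⟨inferInstance, h1'⟩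
    exact ⟨RingHom.finiteType_algebraMap.mpr inferInstance,
      RingHom.formallyUnramified_algebraMap.mpr inferInstance⟩
  · rintro ⟨h1, h2⟩
    haveI : Algebra.FiniteType (EGA4.Cpl A) (EGA4.Cpl B) := RingHom.finiteType_algebraMap.mp h1
    haveI : Algebra.FormallyUnramified (EGA4.Cpl A) (EGA4.Cpl B) := RingHom.formallyUnramified_algebraMap.mp h2
    obtain ⟨h3, h4⟩ := Algebra.FormallyUnramified.iff_map_maximalIdeal_eq.mp
      (‹Algebra.FormallyUnramified (EGA4.Cpl A) (EGA4.Cpl B)›)
    haveI := h3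
    have h5 : Module.Finite (ResidueField (EGA4.Cpl A)) (ResidueField (EGA4.Cpl B)) := finite_residue
    exact ⟨hmap.mpr h4, hfin.mpr h5, hsep.mpr h3⟩

include hψ in
theorem etale_iff :
    ((Module.Flat A B ∧ (maximalIdeal A).map (algebraMap A B) = maximalIdeal B ∧
        Module.Finite (ResidueField A) (ResidueField B) ∧
        Algebra.IsSeparable (ResidueField A) (ResidueField B)) ↔ ψ.Etale) ∧
      (ψ.Etale →
        letI := ψ.toAlgebra
        ∃ n : ℕ, 0 < n ∧ Nonempty ((Fin n → EGA4.Cpl A) ≃ₗ[EGA4.Cpl A] EGA4.Cpl B)) := by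
  haveI : IsNoetherianRing (EGA4.Cpl A) := Groth.Agent.Matlis6.isNoetherianRing_adicCompletion _
  have hflat := CAlgH.completion_map_flat_iff A B ψ hψ
  constructor
  · constructor
    · rintro ⟨h0, h1, h2, h3⟩
      obtain ⟨h4, h5⟩ := (unramified_iff ψ hψ).mp ⟨h1, h2, h3⟩
      have h6 := hflat.mpr (RingHom.flat_algebraMap_iff.mpr h0)
      algebraize [ψ]
      haveI : Algebra.FiniteType (EGA4.Cpl A) (EGA4.Cpl B) := RingHom.finiteType_algebraMap.mp h4
      haveI : Algebra.FinitePresentation (EGA4.Cpl A) (EGA4.Cpl B) := Algebra.FinitePresentation.of_finiteType.mp inferInstance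
      haveI : Algebra.FormallyUnramified (EGA4.Cpl A) (EGA4.Cpl B) := RingHom.formallyUnramified_algebraMap.mp h5
      haveI : Module.Flat (EGA4.Cpl A) (EGA4.Cpl B) := RingHom.flat_algebraMap_iff.mp h6
      exact RingHom.etale_algebraMap.mpr Algebra.Etale.of_formallyUnramified_of_flat
    · intro h
      algebraize [ψ]
      haveI : Algebra.Etale (EGA4.Cpl A) (EGA4.Cpl B) := RingHom.etale_algebraMap.mp h
      have h6 : ψ.Flat := RingHom.flat_algebraMap_iff.mpr (inferInstance : Module.Flat (EGA4.Cpl A) (EGA4.Cpl B))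
      obtain ⟨h1, h2, h3⟩ := (unramified_iff ψ hψ).mpr
        ⟨RingHom.finiteType_algebraMap.mpr inferInstance, RingHom.formallyUnramified_algebraMap.mpr inferInstance⟩
      exact ⟨RingHom.flat_algebraMap_iff.mp (hflat.mp h6), h1, h2, h3⟩
  · intro h
    letI := ψ.toAlgebra
    haveI : Algebra.Etale (EGA4.Cpl A) (EGA4.Cpl B) := RingHom.etale_algebraMap.mp h
    obtain ⟨h1, h2, h3⟩ := (unramified_iff ψ hψ).mpr
      ⟨RingHom.finiteType_algebraMap.mpr inferInstance, RingHom.formallyUnramified_algebraMap.mpr inferInstance⟩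
    haveI : IsNoetherianRing (EGA4.Cpl B) := Groth.Agent.Matlis6.isNoetherianRing_adicCompletion _
    haveI := isLocalHom ψ hψ
    haveI : IsLocalHom (algebraMap (EGA4.Cpl A) (EGA4.Cpl B)) := ‹IsLocalHom ψ›
    haveI : Module.Finite (EGA4.Cpl A) (EGA4.Cpl B) := by
      have h1' : (maximalIdeal (EGA4.Cpl A)).map (algebraMap (EGA4.Cpl A) (EGA4.Cpl B)) = maximalIdeal (EGA4.Cpl B) := by
        rw [show algebraMap (EGA4.Cpl A) (EGA4.Cpl B) = ψ from rfl, map_maximalIdeal_eq ψ hψ,
          AdicCompletion.maximalIdeal_eq_map (R := B), h1]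
      haveI : Module.Finite (ResidueField (EGA4.Cpl A)) (ResidueField (EGA4.Cpl B)) := finite_residue
      exact finite_cpl h1'
    haveI : Module.Free (EGA4.Cpl A) (EGA4.Cpl B) := Module.free_of_flat_of_isLocalRing
    let b := Module.Free.chooseBasis (EGA4.Cpl A) (EGA4.Cpl B)
    haveI := b.index_nonempty
    exact ⟨_, Fintype.card_pos, ⟨(b.reindex (Fintype.equivFin _)).equivFun.symm⟩⟩

end Groth.Agent.HenselLib.CompletionUnramified
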