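import Groth.Agent.LocImm12.ZMT
import Groth.Agent.HenselLib.UnramifiedPoints
import Mathlib.AlgebraicGeometry.Morphisms.FlatRank
import Mathlib.AlgebraicGeometry.Morphisms.Etale

/-!
# Henselian couples: sections of separated étale morphisms extend uniquely
-/

set_option autoImplicit false
set_option linter.all false
set_option backward.isDefEq.respectTransparency.types false

universe u

open CategoryTheory CategoryTheory.Limits AlgebraicGeometry Topology

namespace Groth.Agent.HenselLib.CoupleEtale

variable {S S₀ : Scheme.{u}} (i : S₀ ⟶ S)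
  (ha : ∀ (S' : Scheme.{u}) (g : S' ⟶ S), IsFinite g →
    ∀ V : Set ↥(pullback g i), IsClopen V → ∃! U : Set ↥S', IsClopen U ∧ (pullback.fst g i).base ⁻¹' U = V)

include ha

theorem isEmpty_of_disjoint {Y : Scheme.{u}} (g : Y ⟶ S) [IsFinite g]
    (h : ∀ y z, g y ≠ i z) : IsEmpty Y := by
  obtain ⟨U, -, huniq⟩ := ha Y g inferInstance ∅ isClopen_empty
  have e : ∀ w : ↥(pullback g i), False := fun w =>
    h _ _ (show g (pullback.fst g i w) = i (pullback.snd g i w) by
      rw [← Scheme.Hom.comp_apply, pullback.condition, Scheme.Hom.comp_apply])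
  have hU : (Set.univ : Set ↥Y) = ∅ :=
    (huniq _ ⟨isClopen_univ, Set.eq_empty_iff_forall_notMem.mpr fun w _ => e w⟩).trans
      (huniq _ ⟨isClopen_empty, Set.preimage_empty⟩).symm
  exact Set.univ_eq_empty_iff.1 hU

theorem eq_empty_of_disjoint {T : Scheme.{u}} (π : T ⟶ S) [IsFinite π] {C : Set T} (hC : IsClosed C)
    (h : ∀ c ∈ C, ∀ z, π c ≠ i z) : C = ∅ := by
  let J := Scheme.IdealSheafData.vanishingIdeal ⟨C, hC⟩
  have hr : Set.range J.subschemeι = C := by
    rw [Scheme.IdealSheafData.range_subschemeι, Scheme.IdealSheafData.coe_support_vanishingIdeal]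
    rfl
  have : IsFinite (J.subschemeι ≫ π) := inferInstance
  have := isEmpty_of_disjoint i ha (J.subschemeι ≫ π) fun y z => h _ (hr.subset ⟨y, rfl⟩) z
  rw [← hr, Set.range_eq_empty_iff]
  exact this

theorem eq_empty_of_base {C : Set S} (hC : IsClosed C) (h : ∀ z, i z ∉ C) : C = ∅ :=
  eq_empty_of_disjoint i ha (𝟙 S) hC fun c hc z e => h z (e ▸ hc)

theorem section_unique {S' : Scheme.{u}} (g : S' ⟶ S) [Etale g] [IsSeparated g] (u u' : S ⟶ S')
    (hu : u ≫ g = 𝟙 S) (hu' : u' ≫ g = 𝟙 S) (he : i ≫ u = i ≫ u') : u = u' := by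
  let l : S ⟶ pullback g g := pullback.lift u u' (hu.trans hu'.symm)
  let e := pullback.fst l (pullback.diagonal g)
  have : IsOpenImmersion e := inferInstanceAs (IsOpenImmersion (pullback.fst l (pullback.diagonal g)))
  have : IsClosedImmersion e := inferInstanceAs (IsClosedImmersion (pullback.fst l (pullback.diagonal g)))
  have hz : ∀ z, i z ∈ Set.range e := fun z => by
    let k : S₀ ⟶ pullback l (pullback.diagonal g) := pullback.lift i (i ≫ u) (by
      refine pullback.hom_ext ?_ ?_
      · rw [Category.assoc, Category.assoc, pullback.diagonal_fst, Category.comp_id, pullback.lift_fst]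
      · rw [Category.assoc, Category.assoc, pullback.diagonal_snd, Category.comp_id, pullback.lift_snd, he])
    exact ⟨k z, by rw [← Scheme.Hom.comp_apply, pullback.lift_fst]⟩
  have hr : (Set.range e)ᶜ = ∅ := eq_empty_of_base i ha e.isOpenEmbedding.isOpen_range.isClosed_compl
    fun z h => h (hz z)
  have : Surjective e := ⟨Set.range_eq_univ.1 (Set.compl_empty_iff.1 hr)⟩
  have : IsIso e := (isIso_iff_isOpenImmersion_and_surjective e).2 ⟨inferInstance, inferInstance⟩
  have h1 : e ≫ u = pullback.snd l (pullback.diagonal g) := by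
    rw [← pullback.lift_fst u u' (hu.trans hu'.symm), ← Category.assoc, pullback.condition, Category.assoc,
      pullback.diagonal_fst, Category.comp_id]
  have h2 : e ≫ u' = pullback.snd l (pullback.diagonal g) := by
    rw [← pullback.lift_snd u u' (hu.trans hu'.symm), ← Category.assoc, pullback.condition, Category.assoc,
      pullback.diagonal_snd, Category.comp_id]
  rw [← cancel_epi e, h1, h2]

theorem section_exists [IsClosedImmersion i] [CompactSpace S] [QuasiSeparatedSpace S] {S' : Scheme.{u}}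
    (g : S' ⟶ S) [Etale g] [IsSeparated g] (s₀ : S₀ ⟶ S') (hs₀ : s₀ ≫ g = i) :
    ∃ u : S ⟶ S', u ≫ g = 𝟙 S ∧ i ≫ u = s₀ := by
  -- a quasi-compact open
  have : CompactSpace S₀ := QuasiCompact.compactSpace_of_compactSpace i
  obtain ⟨Q, hQc, hQ⟩ : ∃ Q : S'.Opens, IsCompact (Q : Set S') ∧ Set.range s₀ ⊆ Q := by
    have hK : IsCompact (Set.range s₀) := isCompact_range s₀.continuous
    choose V hV using fun x : S' => exists_isAffineOpen_mem_and_subset (show x ∈ (⊤ : S'.Opens) from trivial)
    obtain ⟨F, hF⟩ := hK.elim_finite_subcover (fun x : S' => (V x : Set S')) (fun x => (V x).2)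
      (fun x _ => Set.mem_iUnion.2 ⟨x, (hV x).2.1⟩)
    refine ⟨⟨⋃ x ∈ F, (V x : Set S'), isOpen_biUnion fun x _ => (V x).2⟩,
      F.finite_toSet.isCompact_biUnion fun x _ => (hV x).1.isCompact, hF⟩
  let q : (Q : Scheme.{u}) ⟶ S := Q.ι ≫ g
  have : CompactSpace (Q : Scheme.{u}) := isCompact_iff_compactSpace.1 hQc
  have : QuasiCompact q := by
    have : QuasiCompact (q ≫ terminal.from S) := by
      rw [terminal.comp_from, ← compactSpace_iff_quasiCompact]; infer_instance
    exact QuasiCompact.of_comp q (terminal.from S)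
  have : Etale q := inferInstance
  have : IsSeparated q := inferInstance
  have : LocallyQuasiFinite q := UnramifiedPoints.locallyQuasiFinite_of_unramified q
  obtain ⟨T, j, π, hj, -, hπ, hjπ⟩ := LocImm12.exists_openImmersion_finite q
  let s : S₀ ⟶ (Q : Scheme.{u}) := IsOpenImmersion.lift Q.ι s₀ (by rwa [Scheme.Opens.range_ι])
  have hs : s ≫ Q.ι = s₀ := IsOpenImmersion.lift_fac _ _ _
  have hsq : s ≫ q = i := by rw [← Category.assoc, hs, hs₀]
  let w : S₀ ⟶ pullback π i := pullback.lift (s ≫ j) (𝟙 S₀) (by rw [Category.assoc, hjπ, hsq, Category.id_comp])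
  have hwc : IsClosedImmersion w := by
    have : IsClosedImmersion (w ≫ pullback.snd π i) := by rw [pullback.lift_snd]; infer_instance
    exact IsClosedImmersion.of_comp w (pullback.snd π i)
  let v : S₀ ⟶ pullback q i := pullback.lift s (𝟙 S₀) (by rw [hsq, Category.id_comp])
  let m : pullback q i ⟶ pullback π i := pullback.map q i π i j (𝟙 _) (𝟙 _)
    (by rw [Category.comp_id, hjπ]) (by simp)
  have hwo : IsOpenImmersion w := by
    have : IsOpenImmersion v := by
      have : Etale (v ≫ pullback.snd q i) := by rw [pullback.lift_snd]; infer_instance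
      have : Etale v := Etale.of_comp v (pullback.snd q i)
      have : Mono (v ≫ pullback.snd q i) := by rw [pullback.lift_snd]; infer_instance
      have : Mono v := mono_of_mono v (pullback.snd q i)
      exact IsOpenImmersion.of_flat_of_mono v
    have e : w = v ≫ m := by
      refine pullback.hom_ext ?_ ?_
      · rw [Category.assoc, pullback.lift_fst, pullback.lift_fst, pullback.lift_fst_assoc]
      · rw [Category.assoc, pullback.lift_snd, pullback.lift_snd, Category.comp_id, pullback.lift_snd]
    rw [e]; infer_instance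
  obtain ⟨U, ⟨hU, hUV⟩, -⟩ := ha T π hπ (Set.range w)
    ⟨hwc.base_closed.isClosed_range, hwo.base_open.isOpen_range⟩
  have hsub : U ⊆ Set.range j := by
    refine Set.sdiff_eq_empty.1 (eq_empty_of_disjoint i ha π (hU.isClosed.sdiff j.isOpenEmbedding.isOpen_range) ?_)
    rintro c ⟨hcU, hcj⟩ z he
    obtain ⟨p, hp1, hp2⟩ := Scheme.Pullback.exists_preimage_pullback c z he
    obtain ⟨z', hz'⟩ : p ∈ Set.range w := hUV.subset (show pullback.fst π i p ∈ U by rw [hp1]; exact hcU)
    refine hcj ⟨s z', ?_⟩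
    rw [← hp1, ← hz', ← Scheme.Hom.comp_apply, ← Scheme.Hom.comp_apply, pullback.lift_fst]
  let W : (Q : Scheme.{u}).Opens := ⟨j ⁻¹' U, hU.isOpen.preimage j.continuous⟩
  let h : (W : Scheme.{u}) ⟶ S := W.ι ≫ q
  have hWr : Set.range (W.ι ≫ j) = U := by
    rw [Scheme.Hom.comp_base, TopCat.coe_comp, Set.range_comp, Scheme.Opens.range_ι]
    exact Set.image_preimage_eq_of_subset hsub
  have : IsClosedImmersion (W.ι ≫ j) := IsClosedImmersion.of_isPreimmersion _ (hWr ▸ hU.isClosed)
  have : IsFinite h := by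
    rw [show h = (W.ι ≫ j) ≫ π by rw [Category.assoc, hjπ]]
    infer_instance
  have hmem : ∀ z, s z ∈ W := fun z => by
    show j (s z) ∈ U
    have : w z ∈ pullback.fst π i ⁻¹' U := hUV.superset ⟨z, rfl⟩
    rw [Set.mem_preimage, ← Scheme.Hom.comp_apply, pullback.lift_fst, Scheme.Hom.comp_apply] at this
    exact this
  let k₀ : S₀ ⟶ (W : Scheme.{u}) := IsOpenImmersion.lift W.ι s (by
    rw [Scheme.Opens.range_ι]; rintro _ ⟨z, rfl⟩; exact hmem z)
  have hk₀ : k₀ ≫ W.ι = s := IsOpenImmersion.lift_fac _ _ _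
  have hk₀h : k₀ ≫ h = i := by rw [← Category.assoc, hk₀, hsq]
  -- the fibre over the closed part
  let n : pullback h i ⟶ pullback π i := pullback.map h i π i (W.ι ≫ j) (𝟙 _) (𝟙 _)
    (by rw [Category.comp_id, Category.assoc, hjπ]) (by simp)
  let k : S₀ ⟶ pullback h i := pullback.lift k₀ (𝟙 S₀) (by rw [hk₀h, Category.id_comp])
  have hkn : k ≫ n = w := by
    refine pullback.hom_ext ?_ ?_
    · rw [Category.assoc, pullback.lift_fst, pullback.lift_fst, pullback.lift_fst_assoc, ← Category.assoc, hk₀]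
    · rw [Category.assoc, pullback.lift_snd, pullback.lift_snd, Category.comp_id, pullback.lift_snd]
  have : IsOpenImmersion k := by
    have : IsOpenImmersion (k ≫ n) := by rw [hkn]; exact hwo
    exact IsOpenImmersion.of_comp k n
  have : Surjective k := ⟨fun p => by
    obtain ⟨z, hz⟩ : n p ∈ Set.range w := hUV.subset (show pullback.fst π i (n p) ∈ U by
      rw [← Scheme.Hom.comp_apply, pullback.lift_fst, Scheme.Hom.comp_apply]
      exact hWr.subset ⟨_, rfl⟩)
    refine ⟨z, n.injective ?_⟩
    rw [← Scheme.Hom.comp_apply, hkn]; exact hz⟩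
  have : IsIso k := (isIso_iff_isOpenImmersion_and_surjective k).2 ⟨inferInstance, inferInstance⟩
  have : IsIso (pullback.snd h i) := by
    have hh : k ≫ pullback.snd h i = 𝟙 S₀ := pullback.lift_snd _ _ _
    rw [show pullback.snd h i = inv k by rw [← cancel_epi k, hh, IsIso.hom_inv_id]]
    infer_instance
  have hrank : {x : S | h.finrank x ≠ 1} = ∅ := by
    refine eq_empty_of_base i ha ?_ fun z hz => hz ?_
    · exact ((Scheme.Hom.isLocallyConstant_finrank h).isOpen_fiber 1).isClosed_compl
    · have := Scheme.Hom.finrank_pullback_snd h i z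
      rw [← this, Scheme.Hom.finrank_eq_one_of_isIso]
      rfl
  have : IsIso h := (Scheme.Hom.isIso_iff_finrank_eq h).2 (funext fun x => by
    by_contra hx
    exact Set.eq_empty_iff_forall_notMem.1 hrank x hx)
  refine ⟨inv h ≫ W.ι ≫ Q.ι, ?_, ?_⟩
  · rw [Category.assoc, Category.assoc]
    exact IsIso.inv_hom_id h
  · rw [← hk₀h, Category.assoc, IsIso.hom_inv_id_assoc, ← Category.assoc, hk₀, hs]

end Groth.Agent.HenselLib.CoupleEtale
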