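import Groth.Agent.HenselLib.ClopenLift
import Groth.Agent.HenselLib.SectionsIdem
import Groth.Agent.Et18.Descent
import Mathlib.RingTheory.AdjoinRoot
import Mathlib.LinearAlgebra.TensorProduct.Basis
import Mathlib.AlgebraicGeometry.Morphisms.Finite

/-!
# Global sections of a henselian couple form a henselian pair
-/

set_option autoImplicit false
set_option linter.all false

universe u

open CategoryTheory CategoryTheory.Limits AlgebraicGeometry
open scoped TensorProduct

namespace Groth.Agent.HenselLib.CoupleSections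

/-- Global sections after base change to a free algebra. -/
theorem sections_baseChange {B : CommRingCat.{u}} {C : Type u} [CommRing C] [Algebra B C]
    {n : Type u} (b : Module.Basis n B C)
    {P T : Scheme.{u}} [CompactSpace T] [QuasiSeparatedSpace T] {p : T ⟶ Spec B}
    {g : P ⟶ T} {q : P ⟶ Spec (CommRingCat.of C)}
    (H : IsPullback g q p (Spec.map (CommRingCat.ofHom (algebraMap B C))))
    (ψ : B ⟶ Γ(T, ⊤)) (hψ : (Scheme.ΓSpecIso B).inv ≫ p.appTop = ψ)
    (δ : CommRingCat.of C ⟶ Γ(P, ⊤)) (hδ : (Scheme.ΓSpecIso (CommRingCat.of C)).inv ≫ q.appTop = δ) :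
    RingHom.ker δ.hom ≤ (RingHom.ker ψ.hom).map (algebraMap B C) ∧
      (Function.Surjective ψ.hom → Function.Surjective δ.hom) := by
  have : Flat (Spec.map (CommRingCat.ofHom (algebraMap B C))) := by
    rw [HasRingHomProperty.Spec_iff (P := @Flat)]
    have : Module.Free B C := Module.Free.of_basis b
    exact RingHom.flat_algebraMap_iff.mpr inferInstance
  have h1 := Et18.isPushout_appTop_of_flat H
  letI : Algebra B Γ(T, ⊤) := ψ.hom.toAlgebra
  have h2 : IsPushout ψ (CommRingCat.ofHom (algebraMap B C)) g.appTop δ := by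
    refine h1.of_iso (Scheme.ΓSpecIso B) (Iso.refl _) (Scheme.ΓSpecIso (CommRingCat.of C))
      (Iso.refl _) ?_ ?_ ?_ ?_
    · simp [← hψ]
    · exact Scheme.ΓSpecIso_naturality _
    · simp
    · simp [← hδ]
  have h3 := CommRingCat.isPushout_tensorProduct B Γ(T, ⊤) C
  let ε := h3.isoIsPushout _ _ h2
  have hε : ∀ c : C, ε.hom ((1 : Γ(T, ⊤)) ⊗ₜ[B] c) = δ c := fun c =>
    congrArg (fun k : CommRingCat.of C ⟶ Γ(P, ⊤) => k c) (h3.inr_isoIsPushout_hom _ _ h2)
  have hbij : Function.Bijective ε.hom := ConcreteCategory.bijective_of_isIso ε.hom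
  refine ⟨fun c hc => ?_, fun hsurj y => ?_⟩
  · have hc' : (1 : Γ(T, ⊤)) ⊗ₜ[B] c = 0 := hbij.1 (by rw [hε, map_zero]; exact hc)
    rw [← b.linearCombination_repr c, Finsupp.linearCombination_apply]
    refine Ideal.sum_mem _ fun i _ => ?_
    show b.repr c i • b i ∈ _
    rw [Algebra.smul_def]
    refine Ideal.mul_mem_right _ _ (Ideal.mem_map_of_mem _ ?_)
    have := congrArg (fun z => (b.baseChange Γ(T, ⊤)).repr z i) hc'
    simp only [map_zero, Finsupp.zero_apply, Module.Basis.baseChange_repr_tmul] at this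
    rw [RingHom.mem_ker]
    exact (by simpa [Algebra.smul_def] using this : algebraMap B Γ(T, ⊤) _ = 0)
  · obtain ⟨z, rfl⟩ := hbij.2 y
    suffices ∃ c : C, z = (1 : Γ(T, ⊤)) ⊗ₜ[B] c by
      obtain ⟨c, rfl⟩ := this
      exact ⟨c, (hε c).symm⟩
    induction z using TensorProduct.induction_on with
    | zero => exact ⟨0, by simp⟩
    | tmul r c =>
      obtain ⟨r, rfl⟩ := hsurj r
      refine ⟨r • c, ?_⟩
      rw [TensorProduct.tmul_smul, TensorProduct.smul_tmul', Algebra.smul_def, mul_one]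
      rfl
    | add x y hx hy =>
      obtain ⟨x, rfl⟩ := hx
      obtain ⟨y, rfl⟩ := hy
      exact ⟨x + y, (TensorProduct.tmul_add _ _ _).symm⟩

variable {X X₀ : Scheme.{u}} (i : X₀ ⟶ X) [IsClosedImmersion i] [CompactSpace X] [QuasiSeparatedSpace X]

/-- Global sections of a henselian couple. -/
theorem henselianRing_sections
    (hX : ∀ (Y : Scheme.{u}) (g : Y ⟶ X), IsFinite g →
      ∀ V : Set ↥(pullback g i), IsClopen V →
        ∃! U : Set ↥Y, IsClopen U ∧ (pullback.fst g i).base ⁻¹' U = V) :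
    HenselianRing (Γ(X, ⊤) : Type u) (RingHom.ker i.appTop.hom) := by
  set J := RingHom.ker i.appTop.hom with hJdef
  have hi : ∀ s, s ∈ J → i.appTop s = 0 := fun s hs => hs
  -- the Jacobson radical
  have hunit : ∀ s : Γ(X, ⊤), s - 1 ∈ J → IsUnit s := by
    intro s hs
    let φ : Γ(X, ⊤) ⟶ CommRingCat.of (Γ(X, ⊤) ⧸ Ideal.span {s}) := CommRingCat.ofHom (Ideal.Quotient.mk _)
    have : IsFinite (Spec.map φ) := by
      rw [IsFinite.SpecMap_iff]
      exact RingHom.Finite.of_surjective _ Ideal.Quotient.mk_surjective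
    let g := pullback.fst X.toSpecΓ (Spec.map φ)
    have hg : IsFinite g := inferInstance
    have hempty : ∀ w : ↥(pullback g i), False := fun w => by
      have h1 : X.toSpecΓ (g (pullback.fst g i w)) ∈ Set.range (Spec.map φ) :=
        ⟨_, (Scheme.Pullback.range_fst X.toSpecΓ (Spec.map φ)).le ⟨_, rfl⟩ |>.choose_spec⟩
      have h2 : g (pullback.fst g i w) ∈ X.basicOpen s := by
        rw [← Scheme.Hom.comp_apply, pullback.condition, Scheme.Hom.comp_apply]
        show pullback.snd g i w ∈ i ⁻¹ᵁ X.basicOpen s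
        rw [Scheme.preimage_basicOpen_top]
        have h0 := hi _ hs
        rw [map_sub, map_one, sub_eq_zero] at h0
        rw [h0, X₀.basicOpen_of_isUnit isUnit_one]
        trivial
      rw [← Scheme.toSpecΓ_preimage_basicOpen] at h2
      obtain ⟨p, hp⟩ := h1
      have h3 : Spec.map φ p ∈ PrimeSpectrum.basicOpen s := hp ▸ h2
      exact h3 (by
        show Ideal.Quotient.mk (Ideal.span {s}) s ∈ p.asIdeal
        rw [Ideal.Quotient.eq_zero_iff_mem.mpr (Ideal.mem_span_singleton_self s)]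
        exact zero_mem _)
    obtain ⟨U, -, huniq⟩ := hX _ g hg ∅ isClopen_empty
    have hU : (Set.univ : Set ↥(pullback X.toSpecΓ (Spec.map φ))) = ∅ :=
      (huniq _ ⟨isClopen_univ, Set.eq_empty_iff_forall_notMem.mpr fun w _ => hempty w⟩).trans
        (huniq _ ⟨isClopen_empty, Set.preimage_empty⟩).symm
    have htop : X.basicOpen s = ⊤ := by
      rw [eq_top_iff]
      intro x _
      by_contra hx
      rw [← Scheme.toSpecΓ_preimage_basicOpen] at hx
      have hxs : s ∈ (X.toSpecΓ x).asIdeal := not_not.mp hx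
      have hr : X.toSpecΓ x ∈ Set.range (Spec.map φ) := by
        show X.toSpecΓ x ∈ Set.range (PrimeSpectrum.comap (Ideal.Quotient.mk (Ideal.span {s})))
        rw [range_comap_of_surjective _ _ Ideal.Quotient.mk_surjective, Ideal.mk_ker, PrimeSpectrum.zeroLocus_span]
        exact Set.singleton_subset_iff.mpr hxs
      obtain ⟨p, hp⟩ := (Scheme.Pullback.range_fst X.toSpecΓ (Spec.map φ)).ge hr
      exact (Set.eq_empty_iff_forall_notMem.mp hU) p trivial
    refine X.toRingedSpace.isUnit_of_isUnit_germ ⊤ s fun x hx => ?_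
    have : x ∈ X.basicOpen s := htop.ge trivial
    exact (Scheme.mem_basicOpen X s x hx).mp this
  have hjac : J ≤ Ideal.jacobson ⊥ := fun x hx => Ideal.mem_jacobson_bot.mpr fun y =>
    hunit _ (by rw [add_sub_cancel_right]; exact J.mul_mem_right _ hx)
  refine ⟨hjac, fun F hF a₀ h0 h1 => exists_root_of_idempotent_lift hjac F hF (fun c hc => ?_) a₀ h0 h1⟩
  let C := AdjoinRoot F
  haveI : Module.Finite Γ(X, ⊤) C := hF.finite_adjoinRoot
  haveI : Module.Free Γ(X, ⊤) C := hF.free_adjoinRoot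
  let φ : Γ(X, ⊤) ⟶ CommRingCat.of C := CommRingCat.ofHom (algebraMap Γ(X, ⊤) C)
  have : IsFinite (Spec.map φ) := by
    rw [IsFinite.SpecMap_iff]
    exact RingHom.finite_algebraMap.mpr inferInstance
  let g := pullback.fst X.toSpecΓ (Spec.map φ)
  let q := pullback.snd X.toSpecΓ (Spec.map φ)
  have hg : IsFinite g := inferInstance
  haveI : CompactSpace X₀ := QuasiCompact.compactSpace_of_compactSpace i
  haveI : QuasiSeparatedSpace X₀ := quasiSeparatedSpace_of_quasiSeparated i
  let b := Module.Free.chooseBasis Γ(X, ⊤) C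
  have hsq := (IsPullback.of_hasPullback g i).flip.paste_vert
    (IsPullback.of_hasPullback X.toSpecΓ (Spec.map φ))
  let δ : CommRingCat.of C ⟶ Γ(pullback X.toSpecΓ (Spec.map φ), ⊤) :=
    (Scheme.ΓSpecIso (CommRingCat.of C)).inv ≫ q.appTop
  let σ : CommRingCat.of C ⟶ Γ(pullback g i, ⊤) :=
    (Scheme.ΓSpecIso (CommRingCat.of C)).inv ≫ (pullback.fst g i ≫ q).appTop
  have hψ : (Scheme.ΓSpecIso Γ(X, ⊤)).inv ≫ X.toSpecΓ.appTop = 𝟙 _ := by
    rw [Scheme.toSpecΓ_appTop, Iso.inv_hom_id]
  have hψ₀ : (Scheme.ΓSpecIso Γ(X, ⊤)).inv ≫ (i ≫ X.toSpecΓ).appTop = i.appTop := by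
    rw [Scheme.Hom.comp_appTop, ← Category.assoc, hψ, Category.id_comp]
  obtain ⟨hinj₁, hsurj₁⟩ := sections_baseChange b (IsPullback.of_hasPullback X.toSpecΓ (Spec.map φ))
    (𝟙 _) hψ δ rfl
  obtain ⟨hker, -⟩ := sections_baseChange b hsq i.appTop hψ₀ σ rfl
  have hσker : RingHom.ker σ.hom = J.map (algebraMap Γ(X, ⊤) C) := by
    refine le_antisymm ?_ (Ideal.map_le_iff_le_comap.mpr fun s hs => ?_)
    · exact hker
    · show σ (algebraMap Γ(X, ⊤) C s) = 0
      have hnat : φ ≫ σ = i.appTop ≫ (pullback.snd g i).appTop := by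
        rw [← hψ₀, Category.assoc, ← Scheme.Hom.comp_appTop,
          show pullback.snd g i ≫ i ≫ X.toSpecΓ = (pullback.fst g i ≫ q) ≫ Spec.map φ from hsq.w,
          Scheme.Hom.comp_appTop, Scheme.ΓSpecIso_inv_naturality_assoc]
      have := congrArg (fun k : Γ(X, ⊤) ⟶ Γ(pullback g i, ⊤) => k s) hnat
      refine this.trans ?_
      show (pullback.snd g i).appTop (i.appTop s) = 0
      rw [hi s hs, map_zero]
  have hσδ : ∀ z, σ z = (pullback.fst g i).appTop (δ z) := fun z => by
    show ((Scheme.ΓSpecIso (CommRingCat.of C)).inv ≫ (pullback.fst g i ≫ q).appTop) z = _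
    rw [Scheme.Hom.comp_appTop, ← Category.assoc]
    rfl
  have hidem : IsIdempotentElem (σ c) := by
    show σ c * σ c = σ c
    rw [← sub_eq_zero, ← map_mul, ← map_sub]
    exact hσker.ge hc
  obtain ⟨U, ⟨hU, hUV⟩, -⟩ := hX _ g hg _ (SectionsIdem.isClopen_basicOpen hidem)
  obtain ⟨e, he, heU⟩ := SectionsIdem.exists_idempotent hU
  have hδsurj : Function.Surjective δ.hom := hsurj₁ fun y => ⟨y, rfl⟩
  have hδinj : Function.Injective δ.hom := by
    rw [RingHom.injective_iff_ker_eq_bot, eq_bot_iff]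
    refine hinj₁.trans ?_
    rw [Ideal.map_le_iff_le_comap]
    intro s hs
    rw [show s = 0 from hs]
    exact zero_mem _
  obtain ⟨c', rfl⟩ := hδsurj e
  refine ⟨c', hδinj ((map_mul δ.hom c' c').trans he), ?_⟩
  have heq : σ c' = σ c := by
    refine SectionsIdem.eq_of_basicOpen_eq (by
      rw [hσδ]; exact he.map (pullback.fst g i).appTop.hom) hidem ?_
    refine TopologicalSpace.Opens.ext ?_
    rw [hσδ, ← hUV, ← heU, ← Scheme.preimage_basicOpen_top]
    rfl
  rw [← hσker, RingHom.mem_ker, map_sub, sub_eq_zero]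
  exact heq

end Groth.Agent.HenselLib.CoupleSections
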