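import Groth.Agent.HenselLib.AbsIntHens
import Mathlib.FieldTheory.IsSepClosed
import Mathlib.FieldTheory.Galois.Basic
import Mathlib.RingTheory.Polynomial.GaussLemma
import Mathlib.RingTheory.DedekindDomain.Basic

/-!
# Fixed fields of groups stabilizing a maximal ideal of the absolute integral closure
-/

set_option autoImplicit false
set_option linter.all false
set_option synthInstance.maxHeartbeats 100000
set_option maxHeartbeats 800000

universe u

open Polynomial IsLocalRing

namespace Groth.Agent.HenselLib.DecompHens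

variable {R K Ks : Type u} [CommRing R] [Field K] [Algebra R K] [Field Ks] [Algebra K Ks]
  [Algebra R Ks] [IsScalarTower R K Ks]

lemma map_mem (σ : Ks ≃ₐ[K] Ks) (x : integralClosure R Ks) : σ (x : Ks) ∈ integralClosure R Ks :=
  x.2.map (σ.toAlgHom.restrictScalars R)

def actHom (σ : Ks ≃ₐ[K] Ks) : integralClosure R Ks →+* integralClosure R Ks where
  toFun x := ⟨σ (x : Ks), map_mem σ x⟩
  map_one' := Subtype.ext (map_one σ)
  map_mul' x y := Subtype.ext (map_mul σ _ _)
  map_zero' := Subtype.ext (map_zero σ)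
  map_add' x y := Subtype.ext (map_add σ _ _)

@[simp] lemma actHom_coe (σ : Ks ≃ₐ[K] Ks) (x : integralClosure R Ks) :
    ((actHom σ x : integralClosure R Ks) : Ks) = σ (x : Ks) := rfl

/-- Automorphisms preserving an ideal. -/
def stab (Ps : Ideal (integralClosure R Ks)) : Subgroup (Ks ≃ₐ[K] Ks) where
  carrier := {σ | ∀ x, x ∈ Ps ↔ actHom σ x ∈ Ps}
  one_mem' := fun x => Iff.rfl
  mul_mem' := fun {σ τ} hσ hτ x => (hτ x).trans (hσ _)
  inv_mem' := fun {σ} hσ x => by
    rw [hσ (actHom σ⁻¹ x)]
    have : actHom σ (actHom σ⁻¹ x) = x := Subtype.ext (σ.apply_symm_apply _)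
    rw [this]

lemma mem_stab_of_maximal (Ps : Ideal (integralClosure R Ks)) [Ps.IsMaximal] {σ : Ks ≃ₐ[K] Ks}
    (h : ∀ x, x ∈ Ps → actHom σ x ∈ Ps) : σ ∈ stab Ps := by
  have heq : Ps = Ps.comap (actHom σ) :=
    Ideal.IsMaximal.eq_of_le inferInstance (Ideal.IsPrime.ne_top inferInstance) h
  exact fun x => ⟨h x, fun hx => heq.symm.le (Ideal.mem_comap.2 hx)⟩

lemma mem_stab_of_sub_mem (Ps : Ideal (integralClosure R Ks)) {σ : Ks ≃ₐ[K] Ks}
    (h : ∀ x, actHom σ x - x ∈ Ps) : σ ∈ stab Ps := fun x => by
  refine ⟨fun hx => ?_, fun hx => ?_⟩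
  · simpa using add_mem (h x) hx
  · simpa using sub_mem hx (h x)

/-- Elements of `Ks` congruent to zero at `Ps`. -/
def small (Ps : Ideal (integralClosure R Ks)) (x : Ks) : Prop :=
  ∃ b ∈ Ps, ∃ s, s ∉ Ps ∧ x * (s : integralClosure R Ks) = (b : integralClosure R Ks)

lemma small_map {Ps : Ideal (integralClosure R Ks)} {σ : Ks ≃ₐ[K] Ks} (hσ : σ ∈ stab Ps) {x : Ks}
    (hx : small Ps x) : small Ps (σ x) := by
  obtain ⟨b, hb, s, hs, e⟩ := hx
  exact ⟨actHom σ b, (hσ b).1 hb, actHom σ s, mt (hσ s).2 hs, by simp [← e]⟩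

theorem henselianLocalRing_fixedField [IsSepClosure K Ks] (Ps : Ideal (integralClosure R Ks))
    [Ps.IsMaximal] (G : Subgroup (Ks ≃ₐ[K] Ks)) (hG : G ≤ stab Ps)
    (L : IntermediateField K Ks) (hL : L = IntermediateField.fixedField G)
    (Q : Ideal (integralClosure R L)) [Q.IsPrime]
    (hQ : ∀ y : integralClosure R L, y ∈ Q ↔
      ∃ x : integralClosure R Ks, x ∈ Ps ∧ (x : Ks) = ((y : L) : Ks)) :
    HenselianLocalRing (Localization.AtPrime Q) := by
  classical
  haveI : IsSepClosed Ks := IsSepClosure.sep_closed K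
  haveI : IsScalarTower R L Ks := IsScalarTower.of_algebraMap_eq fun r => rfl
  -- the inclusion `A → B`
  let ι : integralClosure R L →+* integralClosure R Ks :=
    ((algebraMap L Ks).comp (algebraMap (integralClosure R L) L)).codRestrict
      (integralClosure R Ks) fun y => y.2.map (IsScalarTower.toAlgHom R L Ks)
  have hιv : ∀ y, ((ι y : integralClosure R Ks) : Ks) = ((y : L) : Ks) := fun y => rfl
  have hQι : ∀ y, y ∈ Q ↔ ι y ∈ Ps := fun y => by
    rw [hQ]
    refine ⟨?_, fun h => ⟨ι y, h, rfl⟩⟩
    rintro ⟨x, hx, e⟩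
    rwa [show ι y = x from Subtype.ext e.symm]
  let φ : Localization.AtPrime Q →+* L :=
    IsLocalization.lift (g := algebraMap (integralClosure R L) L) fun y : Q.primeCompl =>
      isUnit_iff_ne_zero.2 fun h => y.2 (by
        have : (y : integralClosure R L) = 0 := Subtype.ext h
        rw [this]
        exact Q.zero_mem)
  letI := φ.toAlgebra
  haveI : IsScalarTower (integralClosure R L) (Localization.AtPrime Q) L :=
    IsScalarTower.of_algebraMap_eq fun y => (IsLocalization.lift_eq _ y).symm
  let ψ : Localization.AtPrime Ps →+* Ks :=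
    IsLocalization.lift (g := algebraMap (integralClosure R Ks) Ks) fun y : Ps.primeCompl =>
      isUnit_iff_ne_zero.2 fun h => y.2 (by
        have : (y : integralClosure R Ks) = 0 := Subtype.ext h
        rw [this]
        exact Ps.zero_mem)
  letI := ψ.toAlgebra
  haveI : IsScalarTower (integralClosure R Ks) (Localization.AtPrime Ps) Ks :=
    IsScalarTower.of_algebraMap_eq fun y => (IsLocalization.lift_eq _ y).symm
  let ρ : Localization.AtPrime Q →+* Localization.AtPrime Ps :=
    Localization.localRingHom Q Ps ι (Ideal.ext fun y => by simp [hQι])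
  haveI : IsLocalHom ρ := Localization.isLocalHom_localRingHom _ _ _ _
  have hψρ : ψ.comp ρ = (algebraMap L Ks).comp φ := by
    refine IsLocalization.ringHom_ext Q.primeCompl (RingHom.ext fun y => ?_)
    simp only [RingHom.comp_apply, ρ, Localization.localRingHom_to_map, φ, ψ,
      IsLocalization.lift_eq]
    rfl
  have hinjA : ∀ x : L, IsIntegral (integralClosure R L) x →
      x ∈ (algebraMap (integralClosure R L) L).range := fun x hx =>
    ⟨⟨x, isIntegral_trans x hx⟩, rfl⟩
  have hinjB : ∀ x : Ks, IsIntegral (integralClosure R Ks) x →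
      x ∈ (algebraMap (integralClosure R Ks) Ks).range := fun x hx =>
    ⟨⟨x, isIntegral_trans x hx⟩, rfl⟩
  have hφ : Function.Injective φ := by
    rw [IsLocalization.lift_injective_iff]
    intro a b
    refine ⟨fun h => ?_, fun h => ?_⟩
    · have := congrArg φ h
      simpa [φ, IsLocalization.lift_eq] using this
    · rw [Subtype.ext h]
  have hsmall : ∀ t : Localization.AtPrime Ps, small Ps (ψ t) →
      t ∈ maximalIdeal (Localization.AtPrime Ps) := by
    intro t ht
    obtain ⟨b, hb, s, hs, e⟩ := ht
    have hu : IsUnit (algebraMap _ (Localization.AtPrime Ps) s) :=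
      IsLocalization.map_units _ (⟨s, hs⟩ : Ps.primeCompl)
    obtain ⟨⟨c, d⟩, hcd⟩ := IsLocalization.surj Ps.primeCompl t
    have hc : c * s = b * d := by
      refine Subtype.ext ?_
      have := congrArg ψ hcd
      simp only [map_mul, ψ, IsLocalization.lift_eq] at this
      calc (c : Ks) * (s : Ks) = ψ t * (d : integralClosure R Ks) * (s : Ks) := by
            rw [show (c : Ks) = ψ t * (d : integralClosure R Ks) from this.symm]
        _ = (b : Ks) * (d : integralClosure R Ks) := by rw [← e]; ring
    have hcP : c ∈ Ps :=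
      ((inferInstance : Ps.IsPrime).mem_or_mem (hc ▸ Ps.mul_mem_right _ hb)).resolve_right hs
    have := (IsLocalization.AtPrime.to_map_mem_maximal_iff (Localization.AtPrime Ps) Ps c).2 hcP
    rw [← hcd] at this
    exact ((maximalIdeal.isMaximal _).isPrime.mem_or_mem this).resolve_right fun hd =>
      d.2 ((IsLocalization.AtPrime.to_map_mem_maximal_iff (Localization.AtPrime Ps) Ps d).1 hd)
  have hsmall' : ∀ t : Localization.AtPrime Ps, t ∈ maximalIdeal (Localization.AtPrime Ps) →
      small Ps (ψ t) := by
    intro t ht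
    obtain ⟨⟨c, d⟩, hcd⟩ := IsLocalization.surj Ps.primeCompl t
    have hc : algebraMap _ (Localization.AtPrime Ps) c ∈ maximalIdeal _ := by
      rw [← hcd]
      exact Ideal.mul_mem_right _ _ ht
    refine ⟨c, (IsLocalization.AtPrime.to_map_mem_maximal_iff _ Ps c).1 hc, d, d.2, ?_⟩
    have := congrArg ψ hcd
    simp only [map_mul, ψ, IsLocalization.lift_eq] at this
    exact this
  have hfix : ∀ x : Ks, (∀ σ ∈ G, σ x = x) ↔ x ∈ L := fun x => by
    rw [hL, IntermediateField.mem_fixedField_iff]
  constructor
  intro f hf a₀ h0 h1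
  induction hn : f.natDegree using Nat.strong_induction_on generalizing f with
  | _ n ih =>
  subst hn
  by_cases hirr : Irreducible (f.map φ)
  swap
  · have hne1 : f.map φ ≠ 1 := fun h => by
      have : f = 1 := Polynomial.map_injective φ hφ (by simpa using h)
      rw [this, eval_one] at h0
      exact (maximalIdeal.isMaximal _).ne_top ((Ideal.eq_top_iff_one _).2 h0)
    rw [(hf.map φ).irreducible_iff_natDegree] at hirr
    push Not at hirr
    obtain ⟨g, h, hg, hh, hgh, hg0, hh0⟩ := hirr hne1
    have hlift : ∀ g : L[X], g.Monic → g ∣ f.map φ →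
        ∃ g₀ : (Localization.AtPrime Q)[X], g₀.map φ = g ∧ g₀.natDegree = g.natDegree ∧
          g₀.Monic := by
      intro g hg hdvd
      refine lifts_and_natDegree_eq_and_monic ((lifts_iff_coeff_lifts _).2 fun i => ?_) hg
      obtain ⟨c, hc⟩ := (lifts_iff_coeff_lifts _).1
        (integralClosure.mem_lifts_of_monic_of_dvd_map L hf hg hdvd) i
      obtain ⟨t, ht⟩ := AbsInt.mem_range_of_isIntegral Q.primeCompl hinjA
        (T := Localization.AtPrime Q) (x := g.coeff i) (by rw [← hc]; exact c.2)
      exact ⟨t, ht⟩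
    obtain ⟨g₀, eg, egd, hg₀⟩ := hlift g hg ⟨h, hgh.symm⟩
    obtain ⟨h₀, eh, ehd, hh₀⟩ := hlift h hh ⟨g, by rw [mul_comm, hgh]⟩
    have hfgh : f = g₀ * h₀ := Polynomial.map_injective φ hφ (by
      rw [Polynomial.map_mul, eg, eh, hgh])
    subst hfgh
    rw [eval_mul] at h0
    rw [derivative_mul, eval_add, eval_mul, eval_mul] at h1
    have hdeg : (g₀ * h₀).natDegree = g₀.natDegree + h₀.natDegree := hg₀.natDegree_mul hh₀
    have hu : ∀ a b c d : Localization.AtPrime Q, a ∈ maximalIdeal _ → IsUnit (b * c + a * d) →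
        IsUnit b := fun a b c d ha hu => by
      by_contra hb
      exact (mem_maximalIdeal _).1 (add_mem
        (Ideal.mul_mem_right c _ ((mem_maximalIdeal b).2 hb)) (Ideal.mul_mem_right d _ ha)) hu
    rcases (maximalIdeal.isMaximal _).isPrime.mem_or_mem h0 with hm | hm
    · obtain ⟨a, ha, ha'⟩ := ih _ (by omega) g₀ hg₀ hm (hu _ _ _ _ hm h1) rfl
      exact ⟨a, by simp [IsRoot.def, ha.eq_zero], ha'⟩
    · obtain ⟨a, ha, ha'⟩ := ih _ (by omega) h₀ hh₀ hm
        (hu _ (eval a₀ (derivative h₀)) (eval a₀ g₀) (eval a₀ (derivative g₀)) hm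
          (by rwa [add_comm, mul_comm (eval a₀ (derivative h₀)), mul_comm (eval a₀ h₀)])) rfl
      exact ⟨a, by simp [IsRoot.def, ha.eq_zero], ha'⟩
  · have hder : derivative (f.map φ) ≠ 0 := fun h => by
      have hd : derivative f = 0 := Polynomial.map_injective φ hφ (by
        rw [← derivative_map, h, Polynomial.map_zero])
      rw [hd, eval_zero] at h1
      exact not_isUnit_zero h1
    have hsep : (f.map φ).Separable := (separable_iff_derivative_ne_zero hirr).2 hder
    have hs : ((f.map φ).map (algebraMap L Ks)).Splits := IsSepClosed.splits_codomain _ hsep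
    have hfK : (f.map φ).map (algebraMap L Ks) = (f.map ρ).map ψ := by
      rw [map_map, map_map, hψρ]
    have hlift : ∀ r ∈ ((f.map φ).map (algebraMap L Ks)).roots,
        ∃ t : Localization.AtPrime Ps, ψ t = r := by
      intro r hr
      obtain ⟨t, ht⟩ := AbsInt.mem_range_of_isIntegral Ps.primeCompl hinjB
        (T := Localization.AtPrime Ps) (x := r) ⟨f.map ρ, hf.map ρ, by
          rw [← eval_map]
          change eval r ((f.map ρ).map ψ) = 0
          rw [← hfK]
          exact (mem_roots'.1 hr).2⟩
      exact ⟨t, ht⟩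
    choose t ht using hlift
    have hψ : Function.Injective ψ := by
      rw [IsLocalization.lift_injective_iff]
      intro a b
      refine ⟨fun h => ?_, fun h => ?_⟩
      · have := congrArg ψ h
        simpa [ψ, IsLocalization.lift_eq] using this
      · rw [Subtype.ext h]
    let a' : Localization.AtPrime Ps := ρ a₀
    have hfW : f.map ρ = (((f.map φ).map (algebraMap L Ks)).roots.attach.map
        fun r => X - C (t r.1 r.2)).prod := by
      refine Polynomial.map_injective ψ hψ ?_
      rw [← hfK, Polynomial.map_multiset_prod, Multiset.map_map]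
      conv_lhs => rw [hs.eq_prod_roots_of_monic ((hf.map φ).map _),
        ← Multiset.attach_map_val ((f.map φ).map (algebraMap L Ks)).roots]
      rw [Multiset.map_map]
      simp [Function.comp_def, ht]
    have hsome : ∃ r, ∃ hr : r ∈ ((f.map φ).map (algebraMap L Ks)).roots,
        a' - t r hr ∈ maximalIdeal (Localization.AtPrime Ps) := by
      have hm : eval a' (f.map ρ) ∈ maximalIdeal (Localization.AtPrime Ps) := by
        rw [eval_map, eval₂_at_apply]
        exact fun hu => h0 (isUnit_of_map_unit ρ _ hu)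
      rw [hfW, eval_multiset_prod, Multiset.map_map] at hm
      obtain ⟨q, hq, hqm⟩ :=
        ((maximalIdeal.isMaximal _).isPrime.multiset_prod_mem_iff_exists_mem _).1 hm
      obtain ⟨p, -, rfl⟩ := Multiset.mem_map.1 hq
      exact ⟨p.1, p.2, by simpa using hqm⟩
    obtain ⟨r, hr, hrm⟩ := hsome
    have hψa : ψ a' = (φ a₀ : Ks) := RingHom.congr_fun hψρ a₀
    -- all roots are congruent to `a₀`
    have hall : ∀ r' (hr' : r' ∈ ((f.map φ).map (algebraMap L Ks)).roots),
        a' - t r' hr' ∈ maximalIdeal (Localization.AtPrime Ps) := by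
      intro r' hr'
      let O : Finset Ks := ((f.map φ).map (algebraMap L Ks)).roots.toFinset.filter
        fun x => ∃ σ ∈ G, σ r = x
      have hroot : ∀ σ ∈ G, ∀ x ∈ ((f.map φ).map (algebraMap L Ks)).roots,
          σ x ∈ ((f.map φ).map (algebraMap L Ks)).roots := by
        intro σ hσ x hx
        rw [mem_roots'] at hx ⊢
        refine ⟨hx.1, ?_⟩
        have hc : ((f.map φ).map (algebraMap L Ks)).map (σ : Ks →+* Ks) =
            (f.map φ).map (algebraMap L Ks) := by
          ext i
          rw [coeff_map, coeff_map]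
          exact (hfix _).2 ((f.map φ).coeff i).2 σ hσ
        rw [IsRoot.def, ← hc]
        change eval ((σ : Ks →+* Ks) x) _ = 0
        rw [eval_map, eval₂_at_apply, hx.2.eq_zero, map_zero]
      have hO : ∀ σ ∈ G, O.image σ = O := by
        intro σ hσ
        refine Finset.eq_of_subset_of_card_le (fun x hx => ?_)
          (by rw [Finset.card_image_of_injective _ σ.injective])
        obtain ⟨y, hy, rfl⟩ := Finset.mem_image.1 hx
        obtain ⟨hy1, τ, hτ, rfl⟩ := Finset.mem_filter.1 hy
        exact Finset.mem_filter.2 ⟨Multiset.mem_toFinset.2 (hroot σ hσ _ (Multiset.mem_toFinset.1 hy1)),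
          σ * τ, mul_mem hσ hτ, rfl⟩
      have hP : ∀ i, ((∏ x ∈ O, (X - C x)).coeff i) ∈ L := fun i => (hfix _).1 fun σ hσ => by
        have : (∏ x ∈ O, (X - C x)).map (σ : Ks →+* Ks) = ∏ x ∈ O, (X - C x) := by
          conv_rhs => rw [← hO σ hσ, Finset.prod_image σ.injective.injOn]
          simp [Polynomial.map_prod]
        conv_rhs => rw [← this, coeff_map]
        rfl
      obtain ⟨P, hP'⟩ : ∏ x ∈ O, (X - C x) ∈ lifts (algebraMap L Ks) :=
        (lifts_iff_coeff_lifts _).2 fun i => ⟨⟨_, hP i⟩, rfl⟩
      have hrP : aeval r P = 0 := by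
        rw [← eval_map_algebraMap, ← coe_mapRingHom, hP', eval_prod]
        exact Finset.prod_eq_zero (Finset.mem_filter.2
          ⟨Multiset.mem_toFinset.2 hr, 1, one_mem _, rfl⟩) (by simp)
      have hmin : f.map φ = minpoly L r := minpoly.eq_of_irreducible_of_monic hirr
        (by rw [← eval_map_algebraMap]; exact (mem_roots'.1 hr).2) (hf.map φ)
      have hdvd : f.map φ ∣ P := hmin ▸ minpoly.dvd L r hrP
      have hr'O : r' ∈ O := by
        have h2 : IsRoot ((mapRingHom (algebraMap L Ks)) P) r' :=
          (mem_roots'.1 hr').2.dvd (Polynomial.map_dvd _ hdvd)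
        rw [hP', IsRoot.def, eval_prod, Finset.prod_eq_zero_iff] at h2
        obtain ⟨x, hx, he⟩ := h2
        rw [eval_sub, eval_X, eval_C, sub_eq_zero] at he
        rwa [he]
      obtain ⟨σ, hσ, hσr⟩ := (Finset.mem_filter.1 hr'O).2
      refine hsmall _ ?_
      have := small_map (hG hσ) (hsmall' _ hrm)
      rw [map_sub, map_sub, ht, hψa, (hfix _).2 (φ a₀).2 σ hσ, hσr] at this
      rwa [map_sub, ht, hψa]
    by_cases hn : f.natDegree = 1
    · refine ⟨-(f.coeff 0), ?_, ?_⟩
      · rw [hf.eq_X_add_C hn]
        simp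
      · rw [hf.eq_X_add_C hn] at h0
        simp only [eval_add, eval_X, eval_C] at h0
        have := neg_mem h0
        convert this using 1
        ring
    · exfalso
      have h2 : 2 ≤ f.natDegree := by
        have := hirr.natDegree_pos
        rw [hf.natDegree_map φ] at this
        omega
      let π := residue (Localization.AtPrime Ps)
      have hk : (f.map ρ).map π = (X - C (π a')) ^ f.natDegree := by
        rw [hfW, Polynomial.map_multiset_prod, Multiset.map_map]
        rw [Multiset.map_congr rfl (g := fun _ => X - C (π a')) (fun x _ => by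
            have hx := (residue_eq_zero_iff _).2 (hall x.1 x.2)
            rw [map_sub, sub_eq_zero] at hx
            simp [π, hx]),
          Multiset.map_const', Multiset.prod_replicate, Multiset.card_attach,
          ← hs.natDegree_eq_card_roots, natDegree_map, hf.natDegree_map]
      have hz : π (ρ ((derivative f).eval a₀)) = 0 := by
        have e : eval (π a') (derivative ((f.map ρ).map π)) = π (ρ ((derivative f).eval a₀)) := by
          rw [derivative_map, derivative_map, map_map, eval_map, ← RingHom.comp_apply]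
          exact eval₂_at_apply (π.comp ρ) a₀
        rw [← e, hk, derivative_X_sub_C_pow, eval_mul, eval_pow, eval_sub, eval_X, eval_C, eval_C, sub_self,
          zero_pow (by omega), mul_zero]
      exact (residue_ne_zero_iff_isUnit _).2 (h1.map ρ) hz

end Groth.Agent.HenselLib.DecompHens
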