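import Groth.Agent.CAlgH.KrasnerDescent
import Groth.Agent.AdicRing.Basic
import Mathlib

/-!
# A finite separable extension of a complete DVR is determined modulo a high power
-/

set_option autoImplicit false
set_option linter.all false
set_option maxHeartbeats 1600000

universe u

open Polynomial IsLocalRing

namespace Groth.Agent.HenselLib.DvrRigid

theorem algebraMap_injective_of_finite {A C : Type u} [CommRing A] [IsDomain A]
    [IsDiscreteValuationRing A] [CommRing C] [IsDomain C] [IsDiscreteValuationRing C] [Algebra A C]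
    [Module.Finite A C] : Function.Injective (algebraMap A C) := by
  rw [RingHom.injective_iff_ker_eq_bot]
  by_contra hne
  haveI := RingHom.ker_isPrime (algebraMap A C)
  haveI hmax : (RingHom.ker (algebraMap A C)).IsMaximal :=
    Ideal.IsPrime.isMaximal inferInstance hne
  haveI : Algebra.IsIntegral A C := Algebra.IsIntegral.of_finite A C
  have hbot : (⊥ : Ideal C).IsMaximal :=
    Ideal.isMaximal_of_isIntegral_of_isMaximal_comap (R := A) (⊥ : Ideal C)
      (by rwa [← RingHom.ker_eq_comap_bot])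
  exact IsDiscreteValuationRing.not_a_field C (eq_maximalIdeal hbot).symm

theorem exists_newton {A C : Type u} [CommRing A] [CommRing C] [Algebra A C] (I : Ideal A)
    [IsAdicComplete I C] (P : C[X]) (y c : C) (k : ℕ)
    (hc : P.eval y = P.derivative.eval y ^ 2 * c) (hck : c ∈ (I ^ (k + 1)).map (algebraMap A C)) :
    ∃ z : C, P.eval z = 0 ∧ z - y ∈ (I ^ (k + 1)).map (algebraMap A C) := by
  obtain ⟨r, hr⟩ := (P.map Polynomial.C).binomExpansion (Polynomial.C y)
    (Polynomial.C (P.derivative.eval y) * X)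
  rw [derivative_map, eval_map, eval_map, eval_map, eval₂_at_apply, eval₂_at_apply, hc] at hr
  let G : C[X] := Polynomial.C c + (X + r * X ^ 2)
  have h0 : G.coeff 0 = c := by simp [G]
  have h1 : G.coeff 1 = 1 := by simp [G, coeff_mul_X_pow', coeff_C]
  obtain ⟨t, ht, hGt⟩ := CAlgH.KrasnerDescent.exists_root_of_adic I G k (h0.symm ▸ hck)
    (h1.symm ▸ isUnit_one)
  refine ⟨y + P.derivative.eval y * t, ?_, by simpa using Ideal.mul_mem_left _ _ ht⟩
  have := congrArg (eval t) hr
  simp only [eval_add, eval_mul, eval_pow, eval_C, eval_X] at this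
  rw [← coe_evalRingHom, hom_eval₂] at this
  simp only [G, eval_add, eval_mul, eval_pow, eval_C, eval_X] at hGt
  rw [show (evalRingHom t).comp Polynomial.C = RingHom.id C from RingHom.ext fun _ => eval_C] at this
  rw [coe_evalRingHom, eval_add, eval_mul, eval_C, eval_C, eval_X] at this
  rw [eval₂_id] at this
  rw [this]
  linear_combination P.derivative.eval y ^ 2 * hGt

theorem main {A K L B : Type u} [CommRing A] [IsDomain A] [IsDiscreteValuationRing A]
    [IsAdicComplete (maximalIdeal A) A] {ϖ : A} (hϖ : Irreducible ϖ)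
    [Field K] [Algebra A K] [IsFractionRing A K] [Field L] [Algebra K L] [Algebra A L]
    [IsScalarTower A K L] [FiniteDimensional K L] [Algebra.IsSeparable K L]
    [CommRing B] [Algebra A B] [Algebra B L] [IsScalarTower A B L] [IsIntegralClosure B A L] :
    ∃ m₀ : ℕ, 0 < m₀ ∧ ∀ (C : Type u) [CommRing C] [IsDomain C] [IsDiscreteValuationRing C]
      [Algebra A C] [Module.Finite A C],
      Nonempty (B ≃ₐ[A] C) ↔ ∃ m : ℕ, m₀ < m ∧
        Nonempty ((B ⧸ Ideal.span {algebraMap A B (ϖ ^ m)}) ≃ₐ[A]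
          (C ⧸ Ideal.span {algebraMap A C (ϖ ^ m)})) := by
  classical
  have hBL : Function.Injective (algebraMap B L) := IsIntegralClosure.algebraMap_injective B A L
  haveI : IsDomain B := hBL.isDomain (algebraMap B L)
  haveI : Algebra.IsIntegral A B := IsIntegralClosure.isIntegral_algebra A L
  haveI : Module.Finite A B := IsIntegralClosure.finite A K L B
  have hAK : Function.Injective (algebraMap A K) := IsFractionRing.injective A K
  have hAB : Function.Injective (algebraMap A B) := fun a b h => hAK ((algebraMap K L).injective (by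
    rw [← IsScalarTower.algebraMap_apply, ← IsScalarTower.algebraMap_apply,
      IsScalarTower.algebraMap_apply A B L, h, ← IsScalarTower.algebraMap_apply]))
  haveI : FaithfulSMul A B := (faithfulSMul_iff_algebraMap_injective A B).2 hAB
  -- an integral primitive element
  obtain ⟨a₀, ha₀⟩ := Field.exists_primitive_element K L
  obtain ⟨r, hr, hint⟩ := IsAlgebraic.exists_integral_multiple
    ((IsFractionRing.isAlgebraic_iff A K L).2 (Algebra.IsAlgebraic.isAlgebraic a₀))
  obtain ⟨θ, hθ⟩ := (IsIntegralClosure.isIntegral_iff (A := B)).1 hint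
  have hθint : IsIntegral A θ := Algebra.IsIntegral.isIntegral θ
  let P := minpoly A θ
  have hPK : minpoly K (algebraMap B L θ) = P.map (algebraMap A K) := by
    rw [minpoly.isIntegrallyClosed_eq_field_fractions K L hθint]
  have hD : aeval θ P.derivative ≠ 0 := by
    intro h
    refine (Algebra.IsSeparable.isSeparable K (algebraMap B L θ)).aeval_derivative_ne_zero
      (minpoly.aeval K (algebraMap B L θ)) ?_
    rw [hPK, derivative_map, aeval_map_algebraMap, aeval_algebraMap_apply, h, map_zero]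
  -- every element is a polynomial in `θ` up to a power of `ϖ`
  have hgen : ∀ b : B, ∃ (k : ℕ) (p : A[X]), aeval θ p = algebraMap A B (ϖ ^ k) * b := by
    intro b
    have htop : Algebra.adjoin K {algebraMap B L θ} = ⊤ := by
      have h0 : Algebra.adjoin K {a₀} = ⊤ := by
        rw [← IntermediateField.adjoin_simple_toSubalgebra_of_isAlgebraic
          (Algebra.IsAlgebraic.isAlgebraic a₀), ha₀, IntermediateField.top_toSubalgebra]
      rw [eq_top_iff, ← h0, Algebra.adjoin_le_iff, Set.singleton_subset_iff, hθ]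
      have hrK : algebraMap A K r ≠ 0 := fun h => hr (hAK (h.trans (map_zero _).symm))
      have : a₀ = (algebraMap A K r)⁻¹ • (r • a₀) := by
        rw [← IsScalarTower.algebraMap_smul K r a₀, smul_smul, inv_mul_cancel₀ hrK, one_smul]
      have h1 := Subalgebra.smul_mem (Algebra.adjoin K {r • a₀})
        (Algebra.subset_adjoin (Set.mem_singleton _)) (algebraMap A K r)⁻¹
      exact (congrArg (· ∈ Algebra.adjoin K {r • a₀}) this).mpr h1
    have hb : algebraMap B L b ∈ Algebra.adjoin K {algebraMap B L θ} :=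
      htop.symm ▸ Algebra.mem_top
    rw [Algebra.adjoin_singleton_eq_range_aeval] at hb
    obtain ⟨q, hq⟩ := hb
    change aeval (algebraMap B L θ) q = algebraMap B L b at hq
    obtain ⟨⟨a, ha⟩, hq'⟩ := IsLocalization.integerNormalization_map_to_map (nonZeroDivisors A) q
    obtain ⟨k, u, hu⟩ := IsDiscreteValuationRing.eq_unit_mul_pow_irreducible
      (nonZeroDivisors.ne_zero ha) hϖ
    refine ⟨k, Polynomial.C (↑u⁻¹ : A) * IsLocalization.integerNormalization (nonZeroDivisors A) q,
      hBL ?_⟩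
    have h2 := congrArg (aeval (algebraMap B L θ)) hq'
    change aeval (algebraMap B L θ) ((IsLocalization.integerNormalization (nonZeroDivisors A) q).map
      (algebraMap A K)) = aeval (algebraMap B L θ) (a • q) at h2
    rw [aeval_map_algebraMap, aeval_algebraMap_apply, AlgHom.map_smul_of_tower, hq, Algebra.smul_def, hu,
      map_mul] at h2
    rw [map_mul, map_mul, aeval_C, map_mul, h2, ← IsScalarTower.algebraMap_apply,
      ← IsScalarTower.algebraMap_apply, ← mul_assoc, ← mul_assoc, ← map_mul, u.inv_mul, map_one,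
      one_mul]
  choose kf pf hpf using hgen
  obtain ⟨s, hs⟩ := Module.Finite.fg_top (R := A) (M := B)
  -- bounds
  have hd₁ : ∃ d₁ : ℕ, ∀ b : B, ∃ p : A[X], aeval θ p = algebraMap A B (ϖ ^ d₁) * b := by
    refine ⟨s.sup kf, fun b => ?_⟩
    have hle : Submodule.span A (s : Set B) ≤ (LinearMap.range (aeval (R := A) θ).toLinearMap).comap
        (LinearMap.mulLeft A (algebraMap A B (ϖ ^ s.sup kf))) := by
      rw [Submodule.span_le]
      intro x hx
      obtain ⟨e, he⟩ := Nat.exists_eq_add_of_le (Finset.le_sup (f := kf) hx)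
      refine ⟨Polynomial.C (ϖ ^ e) * pf x, ?_⟩
      show aeval θ _ = algebraMap A B (ϖ ^ s.sup kf) * x
      rw [map_mul, aeval_C, hpf, he, pow_add, map_mul]
      ring
    exact hle (hs.symm ▸ Submodule.mem_top : b ∈ Submodule.span A (s : Set B))
  obtain ⟨d₁, hd₁⟩ := hd₁
  have hd₂ : ∃ (d₂ : ℕ) (w : B), aeval θ P.derivative * w = algebraMap A B (ϖ ^ d₂) := by
    have hne : (Ideal.span {aeval θ P.derivative}).comap (algebraMap A B) ≠ ⊥ :=
      Ideal.comap_ne_bot_of_integral_mem hD (Ideal.mem_span_singleton_self _)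
        (Algebra.IsIntegral.isIntegral _)
    obtain ⟨n, hn⟩ := IsDiscreteValuationRing.ideal_eq_span_pow_irreducible hne hϖ
    have : ϖ ^ n ∈ (Ideal.span {aeval θ P.derivative}).comap (algebraMap A B) := by
      rw [hn]; exact Ideal.mem_span_singleton_self _
    rw [Ideal.mem_comap, Ideal.mem_span_singleton] at this
    obtain ⟨w, hw⟩ := this
    exact ⟨n, w, hw.symm⟩
  obtain ⟨d₂, w₂, hw₂⟩ := hd₂
  let d := d₁ + d₂
  have hd : ∀ b : B, ∃ p : A[X], aeval θ p = algebraMap A B (ϖ ^ d) * b := fun b => by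
    obtain ⟨p, hp⟩ := hd₁ b
    exact ⟨Polynomial.C (ϖ ^ d₂) * p, by rw [map_mul, aeval_C, hp, pow_add ϖ d₁, map_mul]; ring⟩
  have hw : ∃ w : B, aeval θ P.derivative * w = algebraMap A B (ϖ ^ d) :=
    ⟨w₂ * algebraMap A B (ϖ ^ d₁), by rw [← mul_assoc, hw₂, ← map_mul, pow_add, mul_comm]⟩
  obtain ⟨w, hw⟩ := hw
  choose pd hpd using hd
  refine ⟨3 * d + 1, by omega, fun C _ _ _ _ _ => ⟨fun ⟨e⟩ => ⟨3 * d + 2, by omega, ?_⟩, ?_⟩⟩
  · exact ⟨Ideal.quotientEquivAlg _ _ e (by
      rw [Ideal.map_span, Set.image_singleton]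
      simp)⟩
  rintro ⟨m, hm, ⟨e⟩⟩
  obtain ⟨j, rfl⟩ := Nat.exists_eq_add_of_le (Nat.succ_le_of_lt hm)
  haveI : IsAdicComplete (maximalIdeal A) C := AdicRing.isAdicComplete_of_finite (maximalIdeal A) C
  have hAC := algebraMap_injective_of_finite (A := A) (C := C)
  have hπ : ∀ n : ℕ, algebraMap A C ϖ ^ n ≠ 0 := fun n =>
    pow_ne_zero _ fun h => hϖ.ne_zero (hAC (h.trans (map_zero _).symm))
  have hmap : ∀ n : ℕ, (maximalIdeal A ^ n).map (algebraMap A C) =
      Ideal.span {algebraMap A C ϖ ^ n} := fun n => by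
    rw [hϖ.maximalIdeal_eq, Ideal.span_singleton_pow, Ideal.map_span, Set.image_singleton, map_pow]
  have hϖC : ¬ IsUnit (algebraMap A C ϖ) := fun hu => by
    haveI : Algebra.IsIntegral A C := Algebra.IsIntegral.of_finite A C
    obtain ⟨P', hP'⟩ := Ideal.exists_ideal_over_prime_of_isIntegral (maximalIdeal A) (⊥ : Ideal C)
      (by rw [← RingHom.ker_eq_comap_bot, (RingHom.injective_iff_ker_eq_bot _).1 hAC]; exact bot_le)
    refine hP'.2.1.ne_top (Ideal.eq_top_of_isUnit_mem _ ?_ hu)
    exact Ideal.mem_comap.1 (hP'.2.2.symm ▸ (mem_maximalIdeal _).2 hϖ.not_isUnit)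
  -- images in `C` of lifts
  let lift : B → C := fun b =>
    (Ideal.Quotient.mk_surjective (e (Ideal.Quotient.mk _ b))).choose
  have hlift : ∀ b, Ideal.Quotient.mkₐ A _ (lift b) = e (Ideal.Quotient.mk _ b) := fun b =>
    (Ideal.Quotient.mk_surjective (e (Ideal.Quotient.mk _ b))).choose_spec
  let y := lift θ
  have hcong : ∀ (q : A[X]) (b : B), aeval θ q = b →
      aeval y q - lift b ∈ Ideal.span {algebraMap A C ϖ ^ (3 * d + 1 + 1 + j)} := fun q b hq => by
    rw [← map_pow, ← Ideal.Quotient.mk_eq_mk_iff_sub_mem, ← Ideal.Quotient.mkₐ_eq_mk A,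
      ← aeval_algHom_apply, hlift, hlift, ← hq, ← Ideal.Quotient.mkₐ_eq_mk A, aeval_algHom_apply,
      aeval_algHom_apply]
  have hlmul : ∀ a (b : B), lift (algebraMap A B a * b) - algebraMap A C a * lift b ∈
      Ideal.span {algebraMap A C ϖ ^ (3 * d + 1 + 1 + j)} := fun a b => by
    rw [← map_pow, ← Ideal.Quotient.mk_eq_mk_iff_sub_mem, ← Ideal.Quotient.mkₐ_eq_mk A, hlift,
      map_mul, map_mul, map_mul, hlift, AlgHom.commutes, Ideal.Quotient.mk_algebraMap,
      AlgEquiv.commutes]
  -- the derivative at `y` divides `ϖ ^ d`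
  have hDy : ∃ v : C, aeval y P.derivative * v = algebraMap A C ϖ ^ d := by
    obtain ⟨q, hq⟩ : ∃ q : C, aeval y P.derivative * lift w - algebraMap A C ϖ ^ d =
        q * algebraMap A C ϖ ^ (3 * d + 1 + 1 + j) := by
      have : aeval y P.derivative * lift w - algebraMap A C ϖ ^ d ∈
          Ideal.span {algebraMap A C ϖ ^ (3 * d + 1 + 1 + j)} := by
        rw [← map_pow, ← map_pow, ← Ideal.Quotient.mk_eq_mk_iff_sub_mem, map_mul,
          ← Ideal.Quotient.mkₐ_eq_mk A, ← aeval_algHom_apply, hlift, hlift,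
          ← Ideal.Quotient.mkₐ_eq_mk A, aeval_algHom_apply, aeval_algHom_apply, ← map_mul,
          Ideal.Quotient.mkₐ_eq_mk, ← map_mul, hw, Ideal.Quotient.mk_algebraMap, AlgEquiv.commutes]
        rfl
      obtain ⟨q, hq⟩ := Ideal.mem_span_singleton'.1 this
      exact ⟨q, hq.symm⟩
    have hu : IsUnit (1 + q * algebraMap A C ϖ ^ (2 * d + 1 + 1 + j)) := by
      by_contra hnu
      refine (maximalIdeal.isMaximal C).ne_top ((Ideal.eq_top_iff_one _).2 ?_)
      have h1 : q * algebraMap A C ϖ ^ (2 * d + 1 + 1 + j) ∈ maximalIdeal C :=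
        Ideal.mul_mem_left _ _ (Ideal.pow_mem_of_mem _ ((mem_maximalIdeal _).2 hϖC) _ (by omega))
      simpa using sub_mem ((mem_maximalIdeal _).2 hnu) h1
    obtain ⟨v, hv⟩ := hu.exists_right_inv
    refine ⟨lift w * v, ?_⟩
    have : algebraMap A C ϖ ^ (3 * d + 1 + 1 + j) =
        algebraMap A C ϖ ^ d * algebraMap A C ϖ ^ (2 * d + 1 + 1 + j) := by
      rw [← pow_add]; congr 1; omega
    linear_combination v * hq + algebraMap A C ϖ ^ d * hv + q * v * this
  obtain ⟨v, hv⟩ := hDy
  -- the root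
  obtain ⟨c₀, hc₀⟩ : ∃ c₀, c₀ * algebraMap A C ϖ ^ (3 * d + 1 + 1 + j) = aeval y P := by
    refine Ideal.mem_span_singleton'.1 ?_
    rw [← map_pow, ← Ideal.Quotient.eq_zero_iff_mem, ← Ideal.Quotient.mkₐ_eq_mk A,
      ← aeval_algHom_apply, hlift, ← Ideal.Quotient.mkₐ_eq_mk A, aeval_algHom_apply,
      aeval_algHom_apply, minpoly.aeval, map_zero, map_zero]
  obtain ⟨z, hz, hzy⟩ := exists_newton (maximalIdeal A) (P.map (algebraMap A C)) y
    (c₀ * algebraMap A C ϖ ^ (d + 1 + 1 + j) * v ^ 2) (d + 1 + j) (by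
      rw [derivative_map, eval_map_algebraMap, eval_map_algebraMap, ← hc₀]
      have : algebraMap A C ϖ ^ (3 * d + 1 + 1 + j) =
          algebraMap A C ϖ ^ (d + 1 + 1 + j) * (algebraMap A C ϖ ^ d) ^ 2 := by
        rw [← pow_mul, ← pow_add]; congr 1; omega
      rw [this, ← hv]
      ring) (by
      rw [hmap]
      exact Ideal.mem_span_singleton'.2 ⟨c₀ * v ^ 2, by ring⟩)
  rw [hmap, Ideal.mem_span_singleton'] at hzy
  obtain ⟨t, ht⟩ := hzy
  rw [eval_map_algebraMap] at hz
  have hker : ∀ p q : A[X], aeval θ p = aeval θ q → aeval z p = aeval z q := fun p q h => by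
    obtain ⟨r, hr⟩ := minpoly.isIntegrallyClosed_dvd hθint (p := p - q)
      (by rw [map_sub, h, sub_self])
    rw [← sub_eq_zero, ← map_sub, hr, map_mul, hz, zero_mul]
  -- the homomorphism
  haveI : IsIntegrallyClosed C := inferInstance
  have hex : ∀ b : B, ∃ c : C, algebraMap A C ϖ ^ d * c = aeval z (pd b) := by
    intro b
    let F := FractionRing C
    have hne : algebraMap C F (algebraMap A C ϖ ^ d) ≠ 0 := fun h =>
      hπ d (IsFractionRing.injective C F (h.trans (map_zero _).symm))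
    let Q := minpoly A b
    have hQ : Q.Monic := minpoly.monic (Algebra.IsIntegral.isIntegral b)
    have h0 : aeval z ((Q.scaleRoots (ϖ ^ d)).comp (pd b)) = 0 := by
      rw [hker _ 0 (by
        rw [map_zero, aeval_comp, hpd]
        exact scaleRoots_aeval_eq_zero (minpoly.aeval A b)), map_zero]
    rw [aeval_comp] at h0
    have hint : IsIntegral C
        (algebraMap C F (aeval z (pd b)) / algebraMap C F (algebraMap A C ϖ ^ d)) := by
      refine ⟨Q.map (algebraMap A C), hQ.map _, ?_⟩
      have h1 := scaleRoots_eval₂_mul (p := Q) ((algebraMap C F).comp (algebraMap A C))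
        (algebraMap C F (aeval z (pd b)) / algebraMap C F (algebraMap A C ϖ ^ d)) (ϖ ^ d)
      rw [RingHom.comp_apply, map_pow (algebraMap A C), mul_div_cancel₀ _ hne, ← hom_eval₂,
        ← aeval_def, h0, map_zero, eq_comm, mul_eq_zero] at h1
      rw [eval₂_map]
      exact h1.resolve_left (pow_ne_zero _ hne)
    obtain ⟨c, hc⟩ := IsIntegrallyClosed.isIntegral_iff.1 hint
    exact ⟨c, IsFractionRing.injective C F (by
      rw [map_mul, hc, mul_div_cancel₀ _ hne])⟩
  choose φ hφ using hex
  have huniq : ∀ (b : B) (c : C) (p : A[X]), aeval θ p = algebraMap A B (ϖ ^ d) * b →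
      algebraMap A C ϖ ^ d * c = aeval z p → φ b = c := fun b c p hp hc => by
    refine mul_left_cancel₀ (hπ d) ?_
    rw [hφ, hc]
    exact hker _ _ (by rw [hpd, hp])
  let Φ : B →ₐ[A] C :=
    { toFun := φ
      map_one' := huniq 1 1 (Polynomial.C (ϖ ^ d)) (by simp) (by simp)
      map_mul' := fun a b => mul_left_cancel₀ (hπ d) (mul_left_cancel₀ (hπ d) (by
        have e1 : aeval z (Polynomial.C (ϖ ^ d) * pd (a * b)) = aeval z (pd a * pd b) :=
          hker _ _ (by rw [map_mul, map_mul, aeval_C, hpd, hpd, hpd]; ring)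
        rw [map_mul, map_mul, aeval_C, map_pow, ← hφ, ← hφ, ← hφ] at e1
        linear_combination e1))
      map_zero' := huniq 0 0 0 (by simp) (by simp)
      map_add' := fun a b => huniq _ _ (pd a + pd b) (by rw [map_add, hpd, hpd, mul_add])
        (by rw [map_add, mul_add, hφ, hφ])
      commutes' := fun a => huniq _ _ (Polynomial.C (ϖ ^ d * a)) (by simp) (by simp) }
  have hinjΦ : Function.Injective Φ := by
    change Function.Injective (Φ : B →+* C)
    rw [RingHom.injective_iff_ker_eq_bot]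
    haveI := RingHom.ker_isPrime (Φ : B →+* C)
    refine Ideal.eq_bot_of_comap_eq_bot (R := A) ?_
    rw [eq_bot_iff]
    intro a ha
    rw [Ideal.mem_comap, RingHom.mem_ker] at ha
    change Φ (algebraMap A B a) = 0 at ha
    rw [Φ.commutes] at ha
    exact (Submodule.mem_bot _).2 (hAC (ha.trans (map_zero _).symm))
  -- congruence with the lifts
  have hsurjmod : ∀ x : C, ∃ b : B, x - Φ b ∈ Ideal.span {algebraMap A C ϖ} := by
    intro x
    obtain ⟨qb, hqb⟩ := e.surjective (Ideal.Quotient.mk _ x)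
    obtain ⟨b, rfl⟩ := Ideal.Quotient.mk_surjective qb
    refine ⟨b, ?_⟩
    rw [← hlift, Ideal.Quotient.mkₐ_eq_mk, map_pow, Ideal.Quotient.mk_eq_mk_iff_sub_mem,
      Ideal.mem_span_singleton'] at hqb
    obtain ⟨q₁, hq₁⟩ := hqb
    obtain ⟨q₂, hq₂⟩ := Ideal.mem_span_singleton'.1 (hcong (pd b) _ (hpd b))
    obtain ⟨q₃, hq₃⟩ := Ideal.mem_span_singleton'.1 (hlmul (ϖ ^ d) b)
    obtain ⟨q₄, hq₄⟩ := (Polynomial.sub_dvd_eval_sub z y ((pd b).map (algebraMap A C)))
    rw [eval_map_algebraMap, eval_map_algebraMap, ← ht, ← hφ b] at hq₄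
    simp only [map_pow] at hq₂ hq₃
    have e1 : algebraMap A C ϖ ^ (3 * d + 1 + 1 + j) =
        algebraMap A C ϖ ^ d * algebraMap A C ϖ * algebraMap A C ϖ ^ (2 * d + 1 + j) := by
      rw [← pow_succ, ← pow_add]; congr 1; omega
    have e2 : algebraMap A C ϖ ^ (d + 1 + j + 1) =
        algebraMap A C ϖ ^ d * algebraMap A C ϖ * algebraMap A C ϖ ^ (1 + j) := by
      rw [← pow_succ, ← pow_add]; congr 1; omega
    refine Ideal.mem_span_singleton'.2 ⟨-(q₁ * algebraMap A C ϖ ^ (3 * d + 1 + j)) -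
      (q₂ + q₃) * algebraMap A C ϖ ^ (2 * d + 1 + j) - t * algebraMap A C ϖ ^ (1 + j) * q₄,
      mul_left_cancel₀ (hπ d) ?_⟩
    show _ = algebraMap A C ϖ ^ d * (x - φ b)
    have e3 : algebraMap A C ϖ ^ (3 * d + 1 + 1 + j) =
        algebraMap A C ϖ * algebraMap A C ϖ ^ (3 * d + 1 + j) := by
      rw [← pow_succ']; congr 1; omega
    rw [e3] at hq₁
    rw [e1] at hq₂ hq₃
    rw [e2] at hq₄
    linear_combination -(algebraMap A C ϖ ^ d) * hq₁ - hq₂ - hq₃ + hq₄
  have hsurjΦ : Function.Surjective Φ := by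
    have htop : (⊤ : Submodule A C) ≤ LinearMap.range Φ.toLinearMap := by
      refine Submodule.le_of_le_smul_of_le_jacobson_bot (I := maximalIdeal A) Module.Finite.fg_top
        (maximalIdeal_le_jacobson _) fun x _ => ?_
      obtain ⟨b, hb⟩ := hsurjmod x
      rw [← add_sub_cancel (Φ b) x]
      refine add_mem (Submodule.mem_sup_left ⟨b, rfl⟩) (Submodule.mem_sup_right ?_)
      rw [Ideal.smul_top_eq_map, Submodule.restrictScalars_mem, ← pow_one (maximalIdeal A), hmap,
        pow_one]
      exact hb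
    exact fun x => htop (Submodule.mem_top : x ∈ (⊤ : Submodule A C))
  exact ⟨AlgEquiv.ofBijective Φ ⟨hinjΦ, hsurjΦ⟩⟩

end Groth.Agent.HenselLib.DvrRigid
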