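import Mathlib.RingTheory.Smooth.StandardSmoothOfFree
import Mathlib.RingTheory.Etale.Kaehler
import Mathlib.RingTheory.Kaehler.JacobiZariski
import Mathlib.RingTheory.Kaehler.Polynomial
import Mathlib.RingTheory.RingHom.Etale
import Mathlib.RingTheory.LocalRing.Module
import Mathlib.RingTheory.Jacobson.Ring
import Mathlib.RingTheory.IntegralDomain
import Mathlib.FieldTheory.Finite.Basic

/-!
# Étale charts at closed points with finite residue field
-/

set_option autoImplicit false
universe u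

open TensorProduct KaehlerDifferential

namespace Groth.Agent.HenselLib.EtaleChart

theorem etale_aeval_of_basis {k T : Type u} [CommRing k] [CommRing T] [Algebra k T] [Algebra.Smooth k T]
    {ι : Type} [Finite ι] (t : ι → T) (b : Module.Basis ι T (Ω[T⁄k]))
    (hb : ∀ i, b i = D k T (t i)) : (MvPolynomial.aeval (R := k) t).toRingHom.Etale := by
  algebraize [(MvPolynomial.aeval (R := k) t).toRingHom]
  haveI : IsScalarTower k (MvPolynomial ι k) T :=
    IsScalarTower.of_algebraMap_eq fun r => ((MvPolynomial.aeval (R := k) t).commutes r).symm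
  let bp : Module.Basis ι T (T ⊗[MvPolynomial ι k] Ω[MvPolynomial ι k⁄k]) :=
    (mvPolynomialBasis k ι).baseChange T
  have hmap : ∀ i, mapBaseChange k (MvPolynomial ι k) T (bp i) = b i := fun i => by
    rw [Module.Basis.baseChange_apply, mvPolynomialBasis_apply, mapBaseChange_tmul, one_smul, map_D, hb]
    exact congrArg (D k T) (MvPolynomial.aeval_X t i)
  have hbij : Function.Bijective (mapBaseChange k (MvPolynomial ι k) T) := by
    have : mapBaseChange k (MvPolynomial ι k) T = (bp.equiv b (Equiv.refl ι)).toLinearMap :=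
      bp.ext fun i => by rw [hmap]; simp
    rw [this]
    exact (bp.equiv b (Equiv.refl ι)).bijective
  haveI : Algebra.FormallyUnramified (MvPolynomial ι k) T := by
    refine ⟨subsingleton_of_forall_eq 0 fun x => ?_⟩
    obtain ⟨y, rfl⟩ := KaehlerDifferential.map_surjective k (MvPolynomial ι k) T x
    exact ((exact_mapBaseChange_map k (MvPolynomial ι k) T) y).mpr (hbij.2 y)
  haveI : Subsingleton (Algebra.H1Cotangent (MvPolynomial ι k) T) := by
    refine subsingleton_of_forall_eq 0 fun x => ?_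
    have h0 : Algebra.H1Cotangent.δ k (MvPolynomial ι k) T x = 0 := by
      apply hbij.1
      rw [map_zero]
      exact ((Algebra.H1Cotangent.exact_δ_mapBaseChange k (MvPolynomial ι k) T) _).mpr ⟨x, rfl⟩
    obtain ⟨y, rfl⟩ := ((Algebra.H1Cotangent.exact_map_δ k (MvPolynomial ι k) T) x).mp h0
    rw [Subsingleton.elim y 0, map_zero]
  haveI : Algebra.FinitePresentation (MvPolynomial ι k) T :=
    Algebra.FinitePresentation.of_restrict_scalars_finitePresentation k (MvPolynomial ι k) T
  haveI : Algebra.FormallySmooth (MvPolynomial ι k) T :=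
    ⟨Module.Projective.of_free, inferInstance⟩
  haveI : Algebra.FormallyEtale (MvPolynomial ι k) T :=
    Algebra.FormallyEtale.of_formallyUnramified_and_formallySmooth
  exact ⟨inferInstance, inferInstance⟩

variable {k R : Type u} [CommRing k] [CommRing R] [Algebra k R] (m : Ideal R) [m.IsMaximal]

/-- Differentials of elements of `m` exhaust the fibre of `Ω` when the residue field is finite. -/
theorem exists_mem_D_eq [Finite (R ⧸ m)] (v : (R ⧸ m) ⊗[R] Ω[R⁄k]) :
    ∃ a ∈ m, (1 : R ⧸ m) ⊗ₜ[R] D k R a = v := by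
  classical
  let P : Submodule R ((R ⧸ m) ⊗[R] Ω[R⁄k]) :=
    { carrier := {v | ∃ a ∈ m, (1 : R ⧸ m) ⊗ₜ[R] D k R a = v}
      zero_mem' := ⟨0, m.zero_mem, by simp⟩
      add_mem' := by
        rintro _ _ ⟨a, ha, rfl⟩ ⟨b, hb, rfl⟩
        exact ⟨a + b, m.add_mem ha hb, by rw [map_add, tmul_add]⟩
      smul_mem' := by
        rintro c _ ⟨a, ha, rfl⟩
        refine ⟨c * a, m.mul_mem_left c ha, ?_⟩
        have h0 : (1 : R ⧸ m) ⊗ₜ[R] (a • D k R c) = 0 := by
          rw [← smul_tmul, Algebra.smul_def, mul_one, Ideal.Quotient.algebraMap_eq,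
            Ideal.Quotient.eq_zero_iff_mem.mpr ha, zero_tmul]
        rw [Derivation.leibniz, tmul_add, h0, add_zero, tmul_smul] }
  have hD : ∀ r : R, (1 : R ⧸ m) ⊗ₜ[R] D k R r ∈ P := by
    intro r
    letI := Fintype.ofFinite (R ⧸ m)
    letI := Ideal.Quotient.field m
    let N := Fintype.card (R ⧸ m)
    refine ⟨r - r ^ N, ?_, ?_⟩
    · rw [← Ideal.Quotient.eq_zero_iff_mem, map_sub, map_pow, FiniteField.pow_card, sub_self]
    · have h0 : ((N : ℕ) : R ⧸ m) = 0 := FiniteField.cast_card_eq_zero _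
      rw [map_sub, tmul_sub, Derivation.leibniz_pow]
      have h1 : (1 : R ⧸ m) ⊗ₜ[R] (N • (r ^ (N - 1) • D k R r)) = 0 := by
        rw [← Nat.cast_smul_eq_nsmul R, ← smul_tmul, Algebra.smul_def, map_natCast, h0, zero_mul, zero_tmul]
      rw [h1, sub_zero]
  have htop : ∀ x : Ω[R⁄k], (1 : R ⧸ m) ⊗ₜ[R] x ∈ P := by
    intro x
    have hx : x ∈ Submodule.span R (Set.range (D k R)) := by rw [span_range_derivation]; trivial
    induction hx using Submodule.span_induction with
    | mem x hx => obtain ⟨r, rfl⟩ := hx; exact hD r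
    | zero => rw [tmul_zero]; exact P.zero_mem
    | add x y _ _ hx hy => rw [tmul_add]; exact P.add_mem hx hy
    | smul c x _ hx => rw [tmul_smul]; exact P.smul_mem c hx
  induction v using TensorProduct.induction_on with
  | zero => exact ⟨0, m.zero_mem, by simp⟩
  | tmul c x =>
    obtain ⟨c, rfl⟩ := Ideal.Quotient.mk_surjective c
    have := P.smul_mem c (htop x)
    rwa [smul_tmul', Algebra.smul_def, mul_one, Ideal.Quotient.algebraMap_eq] at this
  | add x y hx hy => exact P.add_mem hx hy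

/-- Elements whose differentials form a basis at `m` give an étale chart near `m`. -/
theorem exists_etale_of_basis [Algebra.FinitePresentation k R] [Algebra.IsSmoothAt k m] {d : ℕ}
    (s : Fin d → R) (e : Module.Basis (Fin d) (R ⧸ m) ((R ⧸ m) ⊗[R] Ω[R⁄k]))
    (he : ∀ i, e i = (1 : R ⧸ m) ⊗ₜ[R] D k R (s i)) :
    ∃ g : R, g ∉ m ∧
      (MvPolynomial.aeval (R := k) (algebraMap R (Localization.Away g) ∘ s)).toRingHom.Etale := by
  classical
  let Rm := Localization.AtPrime m
  let l₂ : Ω[R⁄k] →ₗ[R] Ω[Rm⁄k] := map k k R Rm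
  haveI : IsLocalizedModule m.primeCompl l₂ := isLocalizedModule_map k R Rm m.primeCompl
  haveI : Algebra.FormallySmooth k Rm := ‹Algebra.IsSmoothAt k m›
  haveI : Module.Projective Rm Ω[Rm⁄k] := inferInstance
  haveI : Algebra.EssFiniteType R Rm := Algebra.EssFiniteType.of_isLocalization Rm m.primeCompl
  haveI : Algebra.EssFiniteType k Rm := Algebra.EssFiniteType.comp k R Rm
  haveI : Module.FinitePresentation Rm Ω[Rm⁄k] := inferInstance
  let v : ULift.{u} (Fin d) → Ω[Rm⁄k] := fun i => l₂ (D k R (s i.down))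
  have hmk : ∀ (c : R ⧸ m) (r : R), c = Ideal.Quotient.mk m r →
      ∀ x : Ω[R⁄k], c • ((1 : R ⧸ m) ⊗ₜ[R] x) = (1 : R ⧸ m) ⊗ₜ[R] (r • x) := by
    rintro c r rfl x
    rw [smul_tmul', tmul_smul, smul_tmul', smul_eq_mul, mul_one, Algebra.smul_def, mul_one,
      Ideal.Quotient.algebraMap_eq]
  have hN : Submodule.span R (Set.range fun i => D k R (s i)) ⊔ m • (⊤ : Submodule R Ω[R⁄k]) = ⊤ := by
    rw [eq_top_iff]
    intro x _
    choose c hc using fun i => Ideal.Quotient.mk_surjective (I := m) (e.repr ((1 : R ⧸ m) ⊗ₜ[R] x) i)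
    let y := x - ∑ i, c i • D k R (s i)
    have hy : (1 : R ⧸ m) ⊗ₜ[R] y = 0 := by
      simp only [y, tmul_sub, tmul_sum]
      rw [Finset.sum_congr rfl (g := fun i => e.repr ((1 : R ⧸ m) ⊗ₜ[R] x) i • e i) (fun i _ => by
        rw [he, hmk _ (c i) (hc i).symm]), e.sum_repr, sub_self]
    have hy' : y ∈ m • (⊤ : Submodule R Ω[R⁄k]) := by
      have h := congrArg (TensorProduct.quotTensorEquivQuotSMul Ω[R⁄k] m) hy
      rw [map_zero, ← map_one (Ideal.Quotient.mk m), TensorProduct.quotTensorEquivQuotSMul_mk_tmul, one_smul] at h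
      exact (Submodule.Quotient.mk_eq_zero _).mp h
    have : x = (∑ i, c i • D k R (s i)) + y := by simp only [y]; abel
    rw [this]
    exact Submodule.add_mem_sup (Submodule.sum_mem _ fun i _ =>
      Submodule.smul_mem _ _ (Submodule.subset_span ⟨i, rfl⟩)) hy'
  obtain ⟨r, hr, hr'⟩ := Submodule.exists_sub_one_mem_and_smul_le_of_fg_of_le_sup
    (I := m) (N := Submodule.span R (Set.range fun i => D k R (s i))) (N' := ⊤) (P := ⊤)
    Module.Finite.fg_top le_rfl (by rw [hN])
  have hrm : r ∉ m := fun h => (Ideal.IsPrime.ne_top ‹m.IsMaximal›.isPrime) ((Ideal.eq_top_iff_one m).mpr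
    (by have := m.sub_mem h hr; rwa [sub_sub_cancel] at this))
  have hspan : Submodule.span Rm (Set.range v) = ⊤ := by
    rw [eq_top_iff]
    intro z _
    obtain ⟨⟨x, w⟩, hz⟩ := IsLocalizedModule.surj m.primeCompl l₂ z
    have hx : r • x ∈ Submodule.span R (Set.range fun i => D k R (s i)) :=
      hr' (Submodule.smul_mem_pointwise_smul x r ⊤ trivial)
    have hx' : l₂ (r • x) ∈ Submodule.span Rm (Set.range v) := by
      have := Submodule.mem_map_of_mem (f := l₂) hx
      rw [Submodule.map_span, ← Set.range_comp] at this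
      refine Submodule.span_subset_span R Rm _ (Submodule.span_mono ?_ this)
      rintro _ ⟨i, rfl⟩
      exact ⟨⟨i⟩, rfl⟩
    have hu : IsUnit (algebraMap R Rm (r * w.1)) :=
      IsLocalization.map_units Rm (⟨r * w.1, m.primeCompl.mul_mem hrm w.2⟩ : m.primeCompl)
    rw [← Submodule.smul_mem_iff_of_isUnit _ hu, algebraMap_smul, mul_smul]
    rw [map_smul, ← hz] at hx'
    exact hx'
  obtain ⟨κ, a, bm, hbm⟩ := Module.exists_basis_of_span_of_flat v hspan
  have hainj : Function.Injective a := fun i j h => bm.injective (by rw [hbm, hbm, h])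
  have hasurj : Function.Surjective a := by
    intro j
    by_contra hj
    push Not at hj
    have hall : ∀ x : Ω[R⁄k], (1 : R ⧸ m) ⊗ₜ[R] x ∈ Submodule.span (R ⧸ m) (Set.range fun i : κ => e (a i).down) := by
      intro x
      haveI : Finite κ := Module.Finite.finite_basis bm
      letI := Fintype.ofFinite κ
      obtain ⟨w₀, hw₀⟩ := IsLocalization.exist_integer_multiples_of_finite m.primeCompl (fun i : κ => bm.repr (l₂ x) i)
      choose r₀ hr₀ using hw₀
      have h1 : l₂ ((w₀ : R) • x) = l₂ (∑ i, r₀ i • D k R (s (a i).down)) := by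
        rw [map_smul, map_sum]
        conv_lhs => rw [← bm.sum_repr (l₂ x), Finset.smul_sum]
        refine Finset.sum_congr rfl fun i _ => ?_
        have hi : algebraMap R Rm (r₀ i) = (w₀ : R) • bm.repr (l₂ x) i := hr₀ i
        rw [map_smul, ← algebraMap_smul Rm (r₀ i), hi, smul_assoc, hbm]
      obtain ⟨w₁, hw₁⟩ := (IsLocalizedModule.eq_iff_exists m.primeCompl l₂).mp h1
      rw [Submonoid.smul_def, Submonoid.smul_def] at hw₁
      obtain ⟨w, hw⟩ : ∃ w : m.primeCompl, (w : R) • x ∈ Submodule.span R (Set.range fun i : κ => D k R (s (a i).down)) := by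
        refine ⟨w₁ * w₀, ?_⟩
        rw [Submonoid.coe_mul, mul_smul, hw₁]
        exact Submodule.smul_mem _ _ (Submodule.sum_mem _ fun i _ => Submodule.smul_mem _ _ (Submodule.subset_span ⟨i, rfl⟩))
      obtain ⟨c, hc⟩ : ∃ c : R ⧸ m, c * Ideal.Quotient.mk m w.1 = 1 := by
        letI := Ideal.Quotient.field m
        exact ⟨_, inv_mul_cancel₀ (fun h => w.2 (Ideal.Quotient.eq_zero_iff_mem.mp h))⟩
      have hmem : (1 : R ⧸ m) ⊗ₜ[R] ((w : R) • x) ∈ Submodule.span (R ⧸ m) (Set.range fun i : κ => e (a i).down) := by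
        have := Submodule.mem_map_of_mem (f := TensorProduct.mk R (R ⧸ m) Ω[R⁄k] 1) hw
        rw [Submodule.map_span, ← Set.range_comp] at this
        refine Submodule.span_subset_span R (R ⧸ m) _ (Submodule.span_mono ?_ this)
        rintro _ ⟨i, rfl⟩
        exact ⟨i, he _⟩
      rw [← hmk _ _ rfl] at hmem
      have := Submodule.smul_mem _ c hmem
      rwa [smul_smul, hc, one_smul] at this
    have hlast := hall (D k R (s j.down))
    rw [← he] at hlast
    letI := Ideal.Quotient.field m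
    refine (linearIndependent_iff_notMem_span.mp e.linearIndependent) j.down (Submodule.span_mono ?_ hlast)
    rintro _ ⟨i, rfl⟩
    exact ⟨(a i).down, ⟨trivial, fun h => hj i (ULift.ext _ _ h)⟩, rfl⟩
  let bm' : Module.Basis (Fin d) Rm Ω[Rm⁄k] :=
    bm.reindex ((Equiv.ofBijective a ⟨hainj, hasurj⟩).trans Equiv.ulift)
  have hbm' : ∀ i, bm' i = l₂ (D k R (s i)) := by
    intro i
    simp only [bm', Module.Basis.reindex_apply]
    rw [hbm]
    show v (a _) = v ⟨i⟩
    congr 1
    exact (Equiv.ofBijective a ⟨hainj, hasurj⟩).apply_symm_apply _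
  let ef : (Fin d →₀ R) →ₗ[R] Ω[R⁄k] := Finsupp.linearCombination R fun i => D k R (s i)
  let l₁ : (Fin d →₀ R) →ₗ[R] (Fin d →₀ Rm) := Finsupp.mapRange.linearMap (Algebra.linearMap R Rm)
  let eₚ : (Fin d →₀ Rm) →ₗ[Rm] Ω[Rm⁄k] := IsLocalizedModule.mapExtendScalars m.primeCompl l₁ l₂ Rm ef
  have heq : eₚ = bm'.repr.symm := by
    ext i
    trans IsLocalizedModule.map m.primeCompl l₁ l₂ ef <| l₁ <| Finsupp.single i 1
    · simp [eₚ, -IsLocalizedModule.map_apply, l₁]
    · rw [IsLocalizedModule.map_apply]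
      simp [ef, hbm']
  have hep : Function.Bijective eₚ := heq ▸ bm'.repr.symm.bijective
  obtain ⟨g₂, hg₂, hb₂⟩ := exists_bijective_map_powers m.primeCompl l₁ l₂ ef hep
  obtain ⟨g₁, hg₁, hs₁⟩ := Algebra.IsSmoothAt.exists_notMem_smooth k m
  let g := g₁ * g₂
  haveI : Algebra.Smooth k (Localization.Away g) := by
    rw [← Algebra.basicOpen_subset_smoothLocus_iff_smooth]
    exact (SetLike.coe_subset_coe.mpr (PrimeSpectrum.basicOpen_mul_le_left g₁ g₂)).trans
      (Algebra.basicOpen_subset_smoothLocus_iff_smooth.mpr hs₁)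
  let T := Localization.Away g
  let l₁t : (Fin d →₀ R) →ₗ[R] (Fin d →₀ T) := Finsupp.mapRange.linearMap (Algebra.linearMap R T)
  let l₂t : Ω[R⁄k] →ₗ[R] Ω[T⁄k] := map k k R T
  haveI : IsLocalizedModule (Submonoid.powers g) l₂t := isLocalizedModule_map k R T (Submonoid.powers g)
  have hbt := hb₂ g (dvd_mul_left g₂ g₁)
  rw [← IsLocalizedModule.map_bijective_iff_localizedModuleMap_bijective l₁t l₂t] at hbt
  let et : (Fin d →₀ T) →ₗ[T] Ω[T⁄k] := IsLocalizedModule.mapExtendScalars (Submonoid.powers g) l₁t l₂t T ef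
  let bt : Module.Basis (Fin d) T Ω[T⁄k] := .ofRepr (LinearEquiv.ofBijective et hbt).symm
  refine ⟨g, Ideal.IsPrime.mul_notMem ‹m.IsMaximal›.isPrime hg₁ hg₂, ?_⟩
  refine etale_aeval_of_basis _ bt fun i => ?_
  show et (Finsupp.single i 1) = _
  trans IsLocalizedModule.map (Submonoid.powers g) l₁t l₂t ef <| l₁t <| Finsupp.single i 1
  · simp [et, -IsLocalizedModule.map_apply, l₁t]
  · rw [IsLocalizedModule.map_apply]
    simp [ef, l₂t]
    rfl

end Groth.Agent.HenselLib.EtaleChart
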