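import Groth.Agent.HenselLib.WEtFibre
import Groth.Agent.HenselLib.WEtNoeth
import Groth.Agent.HenselLib.NormalHens
import Groth.Agent.HenselLib.ValRingWEt
import Groth.Agent.HenselLib.EtaleReduced
import Mathlib.RingTheory.DedekindDomain.Basic
import Mathlib.RingTheory.DiscreteValuationRing.TFAE
import Mathlib.RingTheory.Etale.Pi
import Mathlib.RingTheory.LocalProperties.IntegrallyClosed
import Mathlib.RingTheory.Ideal.MinimalPrime.Noetherian

/-!
# Etale algebras over Dedekind domains
-/

set_option autoImplicit false
set_option linter.all false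

universe u

namespace Groth.Agent.HenselLib.EtaleDedekind

variable (A : Type u) [CommRing A] [IsDedekindDomain A]

theorem dimensionLEOne (D : Type u) [CommRing D] [IsDomain D] [Algebra A D]
    [Algebra.WeaklyEtale A D] : Ring.DimensionLEOne D := by
  refine ⟨fun {P} hP hPprime => ?_⟩
  have hPA : P.comap (algebraMap A D) ≠ ⊥ := fun h => hP
    (WEt.eq_of_le_of_comap_eq (A := A) bot_le
      (h.symm ▸ (RingHom.injective_iff_ker_eq_bot _).mp
        (ValRingWEt.algebraMap_injective_of_flat A D))).symm
  have hmax : (P.comap (algebraMap A D)).IsMaximal :=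
    Ring.DimensionLEOne.maximalOfPrime hPA inferInstance
  obtain ⟨M, hM, hle⟩ := Ideal.exists_le_maximal P hPprime.ne_top
  rw [WEt.eq_of_le_of_comap_eq (A := A) hle
    (hmax.eq_of_le (Ideal.IsPrime.ne_top inferInstance) (Ideal.comap_mono hle))]
  exact hM

theorem isDedekindDomain (D : Type u) [CommRing D] [IsDomain D] [Algebra A D]
    [Algebra.Etale A D] : IsDedekindDomain D := by
  have := dimensionLEOne A D
  have : IsNoetherianRing D := Algebra.FiniteType.isNoetherianRing A D
  have : IsIntegrallyClosed D := IsIntegrallyClosed.of_localization_maximal fun P _ hP => by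
    have : Algebra.WeaklyEtale D (Localization.AtPrime P) :=
      WEtNoeth.weaklyEtale_of_isLocalization P.primeCompl
    have : Algebra.WeaklyEtale A (Localization.AtPrime P) := Algebra.WeaklyEtale.trans A D _
    exact (normalDomain_of_weaklyEtale A (Localization.AtPrime P)).2
  have : IsDedekindRing D := {}
  exact {}

variable (B : Type u) [CommRing B] [Algebra A B] [Algebra.Etale A B]
include A

theorem localization (q : Ideal B) [q.IsPrime] :
    ∃ _ : IsDomain (Localization.AtPrime q), IsIntegrallyClosed (Localization.AtPrime q) ∧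
      Algebra.WeaklyEtale A (Localization.AtPrime q) := by
  have : Algebra.WeaklyEtale B (Localization.AtPrime q) :=
    WEtNoeth.weaklyEtale_of_isLocalization q.primeCompl
  have : Algebra.WeaklyEtale A (Localization.AtPrime q) := Algebra.WeaklyEtale.trans A B _
  obtain ⟨h1, h2⟩ := normalDomain_of_weaklyEtale A (Localization.AtPrime q)
  exact ⟨h1, h2, ‹_›⟩

theorem minimalPrime_eq_ker (q : Ideal B) [q.IsPrime] (p : Ideal B) (hp : p ∈ minimalPrimes B)
    (hpq : p ≤ q) : p = RingHom.ker (algebraMap B (Localization.AtPrime q)) := by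
  obtain ⟨hd, -, -⟩ := localization A B q
  have hle : RingHom.ker (algebraMap B (Localization.AtPrime q)) ≤ p := by
    intro x hx
    obtain ⟨⟨s, hs⟩, hsx⟩ := (IsLocalization.map_eq_zero_iff q.primeCompl _ x).mp hx
    exact (hp.1.1.mem_or_mem (hsx ▸ p.zero_mem : s * x ∈ p)).resolve_left fun h => hs (hpq h)
  exact le_antisymm (hp.2 ⟨RingHom.ker_isPrime _, bot_le⟩ hle) hle

theorem exists_equiv : ∃ (n : ℕ) (D : Fin n → Type u) (_ : ∀ i, CommRing (D i))
    (_ : ∀ i, IsDedekindDomain (D i)), Nonempty (B ≃+* ∀ i, D i) := by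
  have : IsNoetherianRing B := Algebra.FiniteType.isNoetherianRing A B
  have hred : IsReduced B := isReduced_of_etale A B
  have : Fintype (minimalPrimes B) := (Ideal.finite_minimalPrimes_of_isNoetherianRing B _).fintype
  let p : Fin (Fintype.card (minimalPrimes B)) → Ideal B :=
    fun i => ((Fintype.equivFin (minimalPrimes B)).symm i).1
  have hpmem : ∀ i, p i ∈ minimalPrimes B := fun i => ((Fintype.equivFin (minimalPrimes B)).symm i).2
  have hpinj : Function.Injective p := fun i j h =>
    (Fintype.equivFin (minimalPrimes B)).symm.injective (Subtype.ext h)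
  have hprime : ∀ i, (p i).IsPrime := fun i => (hpmem i).1.1
  have hcop : Pairwise (Function.onFun IsCoprime p) := by
    intro i j hij
    rw [Function.onFun, Ideal.isCoprime_iff_sup_eq]
    by_contra h
    obtain ⟨q, hq, hle⟩ := Ideal.exists_le_maximal _ h
    exact hij (hpinj ((minimalPrime_eq_ker A B q _ (hpmem i) (le_sup_left.trans hle)).trans
      (minimalPrime_eq_ker A B q _ (hpmem j) (le_sup_right.trans hle)).symm))
  have hinf : ⨅ i, p i = ⊥ := by
    rw [eq_bot_iff]
    intro x hx
    have : x ∈ nilradical B := by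
      rw [nilradical, Ideal.zero_eq_bot, ← Ideal.sInf_minimalPrimes, Submodule.mem_sInf]
      intro P hP
      have := (Submodule.mem_iInf _).mp hx (Fintype.equivFin (minimalPrimes B) ⟨P, hP⟩)
      simpa [p] using this
    rwa [nilradical_eq_zero B] at this
  let e : B ≃+* ∀ i, B ⧸ p i := ((RingEquiv.quotientBot B).symm.trans
    (Ideal.quotEquivOfEq hinf.symm)).trans (Ideal.quotientInfRingEquivPiQuotient p hcop)
  let e' : B ≃ₐ[A] ∀ i, B ⧸ p i := AlgEquiv.ofRingEquiv (f := e) fun a => rfl
  have hfe : ∀ i, Algebra.FormallyEtale A (B ⧸ p i) :=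
    (Algebra.FormallyEtale.pi_iff _).mp (Algebra.FormallyEtale.of_equiv e')
  refine ⟨_, fun i => B ⧸ p i, inferInstance, fun i => ?_, ⟨e⟩⟩
  have := hprime i
  have : Algebra.FinitePresentation A (B ⧸ p i) :=
    Algebra.FinitePresentation.quotient (Ideal.fg_of_isNoetherianRing _)
  have : Algebra.Etale A (B ⧸ p i) := { formallyEtale := hfe i }
  exact isDedekindDomain A (B ⧸ p i)

theorem isDVR (q : Ideal B) [q.IsMaximal] (hq : ¬ IsField (Localization.AtPrime q)) :
    ∃ _ : IsDomain (Localization.AtPrime q), IsDiscreteValuationRing (Localization.AtPrime q) := by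
  have : IsNoetherianRing B := Algebra.FiniteType.isNoetherianRing A B
  obtain ⟨hd, hc, hw⟩ := localization A B q
  have := dimensionLEOne A (Localization.AtPrime q)
  have : IsNoetherianRing (Localization.AtPrime q) :=
    IsLocalization.isNoetherianRing q.primeCompl _ inferInstance
  have : IsDedekindRing (Localization.AtPrime q) := {}
  have : IsDedekindDomain (Localization.AtPrime q) := {}
  exact ⟨hd, ((IsDiscreteValuationRing.TFAE (Localization.AtPrime q) hq).out 2 0).mp this⟩

end Groth.Agent.HenselLib.EtaleDedekind
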