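import Groth.Prelude.Def_EtBaseX
import Mathlib.RingTheory.Etale.StandardEtale
import Mathlib.AlgebraicGeometry.Morphisms.Etale

/-!
# The étale local ring at a geometric point is strictly henselian
-/

set_option autoImplicit false
set_option backward.isDefEq.respectTransparency.types false
set_option backward.isDefEq.respectTransparency false
universe u

open CategoryTheory AlgebraicGeometry Opposite Polynomial
open EtBase

namespace Groth.Agent.HenselLib.EtaleLocalRingSH

variable {X : Scheme.{u}} {Ω : Type u} [Field Ω] [IsSepClosed Ω]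
  (ξ : Spec (CommRingCat.of Ω) ⟶ X)

/-- Evaluation of sections at a lift of the geometric point. -/
noncomputable def ev (U : X.Etale) (x : (Scheme.pointSmallEtale ξ).fiber.obj U) :
    (OO X).obj (op U) ⟶ CommRingCat.of Ω :=
  (x.left : Spec (CommRingCat.of Ω) ⟶ U.left).appTop ≫ (Scheme.ΓSpecIso (CommRingCat.of Ω)).hom

lemma ev_w {U V : X.Etale} (g : U ⟶ V) (x : (Scheme.pointSmallEtale ξ).fiber.obj U) :
    (OO X).map g.op ≫ ev ξ U x = ev ξ V ((Scheme.pointSmallEtale ξ).fiber.map g x) := by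
  show g.left.appTop ≫ (x.left : Spec (CommRingCat.of Ω) ⟶ U.left).appTop ≫ _ =
    ((x.left : Spec (CommRingCat.of Ω) ⟶ U.left) ≫ g.left).appTop ≫ _
  rw [Scheme.Hom.comp_appTop, Category.assoc]

/-- The canonical map from the étale local ring to `Ω`. -/
noncomputable def psi : etaleLocalRing ξ ⟶ CommRingCat.of Ω :=
  (Scheme.pointSmallEtale ξ).presheafFiberDesc (ev ξ) (fun _ _ f x => ev_w ξ f x)

lemma psi_to (U : X.Etale) (x : (Scheme.pointSmallEtale ξ).fiber.obj U) :
    (Scheme.pointSmallEtale ξ).toPresheafFiber U x (OO X) ≫ psi ξ = ev ξ U x :=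
  (Scheme.pointSmallEtale ξ).toPresheafFiber_presheafFiberDesc _ _ U x

lemma isoSpec_inv_appTop' (Y : Scheme.{u}) [IsAffine Y] :
    Y.isoSpec.inv.appTop = (Scheme.ΓSpecIso Γ(Y, ⊤)).inv := by
  have h : Y.isoSpec.inv.appTop ≫ Y.isoSpec.hom.appTop = 𝟙 _ := by
    rw [← Scheme.Hom.comp_appTop, Iso.hom_inv_id, Scheme.Hom.id_appTop]
  rw [show Y.isoSpec.hom = Y.toSpecΓ from rfl, Scheme.toSpecΓ_appTop] at h
  exact (Iso.comp_hom_eq_id (Scheme.ΓSpecIso Γ(Y, ⊤))).mp h

/-- Étale algebras with a point over the geometric point map to the étale local ring. -/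
theorem exists_map_of_etale (U : X.Etale) [IsAffine U.left] (x : (Scheme.pointSmallEtale ξ).fiber.obj U)
    (B : CommRingCat.{u}) (α : (OO X).obj (op U) ⟶ B) (hα : α.hom.Etale) (χ : B ⟶ CommRingCat.of Ω)
    (h : α ≫ χ = ev ξ U x) :
    ∃ ι : B ⟶ etaleLocalRing ξ, α ≫ ι = (Scheme.pointSmallEtale ξ).toPresheafFiber U x (OO X) ∧
      ι ≫ psi ξ = χ := by
  let a : Spec B ⟶ U.left := Spec.map α ≫ U.left.isoSpec.inv
  haveI : AlgebraicGeometry.Etale (Spec.map α) :=
    (HasRingHomProperty.Spec_iff (P := @AlgebraicGeometry.Etale)).mpr hα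
  haveI : AlgebraicGeometry.Etale U.hom := U.prop
  haveI : AlgebraicGeometry.Etale (Spec.map α ≫ U.left.isoSpec.inv) := inferInstance
  haveI : AlgebraicGeometry.Etale (a ≫ U.hom) :=
    MorphismProperty.comp_mem @AlgebraicGeometry.Etale a U.hom ‹_› ‹_›
  let V : X.Etale := Scheme.Etale.mk (a ≫ U.hom)
  let g : V ⟶ U := MorphismProperty.Over.homMk a rfl trivial
  have hax : Spec.map χ ≫ a = x.left := by
    refine ext_of_isAffine ?_
    have hev : (x.left : Spec (CommRingCat.of Ω) ⟶ U.left).appTop =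
        ev ξ U x ≫ (Scheme.ΓSpecIso (CommRingCat.of Ω)).inv := by
      simp [ev]
    have ha : a.appTop = α ≫ (Scheme.ΓSpecIso B).inv := by
      rw [Scheme.Hom.comp_appTop, isoSpec_inv_appTop']
      exact (Scheme.ΓSpecIso_inv_naturality α).symm
    rw [Scheme.Hom.comp_appTop, ha, hev, ← h, Category.assoc, Category.assoc,
      Scheme.ΓSpecIso_inv_naturality χ]
  let y : (Scheme.pointSmallEtale ξ).fiber.obj V := Over.homMk (Spec.map χ) (by
    show Spec.map χ ≫ a ≫ U.hom = ξ
    rw [← Category.assoc, hax]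
    exact Over.w x)
  refine ⟨(Scheme.ΓSpecIso B).inv ≫ (Scheme.pointSmallEtale ξ).toPresheafFiber V y (OO X), ?_, ?_⟩
  · have hy : (Scheme.pointSmallEtale ξ).fiber.map g y = x := by
      apply Over.OverMorphism.ext
      exact hax
    rw [← hy, ← (Scheme.pointSmallEtale ξ).toPresheafFiber_w g y (OO X), ← Category.assoc]
    congr 1
    show α ≫ (Scheme.ΓSpecIso B).inv = a.appTop
    rw [Scheme.Hom.comp_appTop, isoSpec_inv_appTop']
    exact Scheme.ΓSpecIso_inv_naturality α
  · rw [Category.assoc, psi_to]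
    show (Scheme.ΓSpecIso B).inv ≫ (Spec.map χ).appTop ≫ _ = χ
    rw [Scheme.ΓSpecIso_naturality, Iso.inv_hom_id_assoc]

/-- Every finite family of elements comes from one affine neighbourhood. -/
theorem exists_rep (n : ℕ) (f : Fin n → etaleLocalRing ξ) :
    ∃ (U : X.Etale) (_ : IsAffine U.left) (x : (Scheme.pointSmallEtale ξ).fiber.obj U)
      (z : Fin n → (OO X).obj (op U)),
      ∀ i, (Scheme.pointSmallEtale ξ).toPresheafFiber U x (OO X) (z i) = f i := by
  have hbase : ∃ (U : X.Etale) (x : (Scheme.pointSmallEtale ξ).fiber.obj U)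
      (z : Fin n → (OO X).obj (op U)),
      ∀ i, (Scheme.pointSmallEtale ξ).toPresheafFiber U x (OO X) (z i) = f i := by
    induction n with
    | zero => exact ⟨EtCoh.top X, Over.homMk ξ (Category.comp_id ξ), fun i => i.elim0, fun i => i.elim0⟩
    | succ n ih =>
      obtain ⟨U, x, z, hz⟩ := ih (fun i => f i.castSucc)
      obtain ⟨V, y, w, hw⟩ := (Scheme.pointSmallEtale ξ).toPresheafFiber_jointly_surjective (f (Fin.last n))
      let E := (Scheme.pointSmallEtale ξ).fiber.Elements
      haveI : IsCofiltered E := (Scheme.pointSmallEtale ξ).isCofiltered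
      let e₁ : E := ⟨U, x⟩
      let e₂ : E := ⟨V, y⟩
      let W : E := IsCofiltered.min e₁ e₂
      let l : W ⟶ e₁ := IsCofiltered.minToLeft e₁ e₂
      let r : W ⟶ e₂ := IsCofiltered.minToRight e₁ e₂
      refine ⟨W.1, W.2, Fin.lastCases ((OO X).map r.1.op w) (fun i => (OO X).map l.1.op (z i)), fun i => ?_⟩
      induction i using Fin.lastCases with
      | last =>
        simp only [Fin.lastCases_last]
        rw [← hw, GrothendieckTopology.Point.toPresheafFiber_w_apply, r.2]
      | cast i =>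
        simp only [Fin.lastCases_castSucc]
        rw [← hz i, GrothendieckTopology.Point.toPresheafFiber_w_apply, l.2]
  obtain ⟨U, x, z, hz⟩ := hbase
  haveI : AlgebraicGeometry.Etale U.hom := U.prop
  let xl : Spec (CommRingCat.of Ω) ⟶ U.left := x.left
  obtain ⟨O, hO, hxO, -⟩ := exists_isAffineOpen_mem_and_subset (X := U.left)
    (x := xl (IsLocalRing.closedPoint Ω)) (U := ⊤) trivial
  haveI : AlgebraicGeometry.Etale (O.ι ≫ U.hom) := inferInstance
  let V : X.Etale := Scheme.Etale.mk (O.ι ≫ U.hom)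
  let g : V ⟶ U := MorphismProperty.Over.homMk O.ι rfl trivial
  have hr : Set.range xl ⊆ Set.range O.ι := by
    rw [Scheme.Opens.range_ι]
    rintro _ ⟨p, rfl⟩
    rw [Subsingleton.elim p (IsLocalRing.closedPoint Ω)]
    exact hxO
  let y : (Scheme.pointSmallEtale ξ).fiber.obj V :=
    Over.homMk (IsOpenImmersion.lift O.ι xl hr) (by
      show IsOpenImmersion.lift O.ι xl hr ≫ O.ι ≫ U.hom = ξ
      rw [IsOpenImmersion.lift_fac_assoc]
      exact Over.w x)
  have hy : (Scheme.pointSmallEtale ξ).fiber.map g y = x := by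
    apply Over.OverMorphism.ext
    exact IsOpenImmersion.lift_fac O.ι xl hr
  refine ⟨V, (hO : IsAffine (O : Scheme.{u})), y, fun i => (OO X).map g.op (z i), fun i => ?_⟩
  rw [← hz i, GrothendieckTopology.Point.toPresheafFiber_w_apply, hy]

theorem isUnit_of_psi_ne_zero (a : etaleLocalRing ξ) (ha : psi ξ a ≠ 0) : IsUnit a := by
  obtain ⟨U, hU, x, z, hz⟩ := exists_rep ξ 1 (fun _ => a)
  haveI := hU
  have hzx : ev ξ U x (z 0) = psi ξ a := by
    rw [← hz 0, ← ConcreteCategory.comp_apply, psi_to]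
  let A := (OO X).obj (op U)
  let B := CommRingCat.of (Localization.Away (z 0))
  have hu : IsUnit ((ev ξ U x).hom (z 0)) := isUnit_iff_ne_zero.mpr (hzx ▸ ha)
  let χ : Localization.Away (z 0) →+* Ω := IsLocalization.Away.lift (z 0) hu
  have hα : (algebraMap A (Localization.Away (z 0))).Etale := by
    rw [RingHom.etale_algebraMap]
    exact Algebra.Etale.of_isLocalizationAway (z 0)
  obtain ⟨ι, hι, -⟩ := exists_map_of_etale ξ U x B (CommRingCat.ofHom (algebraMap A (Localization.Away (z 0))))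
    hα (CommRingCat.ofHom χ) (by
      ext c
      exact IsLocalization.Away.lift_eq (z 0) hu c)
  rw [← hz 0, ← hι]
  exact (IsLocalization.Away.algebraMap_isUnit (z 0)).map ι.hom

theorem exists_root (P : (etaleLocalRing ξ)[X]) (hP : P.Monic) (r : Ω)
    (h0 : P.eval₂ (psi ξ).hom r = 0) (h1 : P.derivative.eval₂ (psi ξ).hom r ≠ 0) :
    ∃ a : etaleLocalRing ξ, P.IsRoot a ∧ psi ξ a = r := by
  obtain ⟨U, hU, x, z, hz⟩ := exists_rep ξ (P.natDegree + 1) (fun i => P.coeff i)
  haveI := hU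
  let t := ((Scheme.pointSmallEtale ξ).toPresheafFiber U x (OO X)).hom
  have hl : P ∈ Polynomial.lifts t := (Polynomial.lifts_iff_coeff_lifts P).mpr fun i => by
    by_cases h : i < P.natDegree + 1
    · exact ⟨z ⟨i, h⟩, hz ⟨i, h⟩⟩
    · exact ⟨0, by rw [map_zero, coeff_eq_zero_of_natDegree_lt (by omega)]⟩
  obtain ⟨Q, hQP, -, hQ⟩ := Polynomial.lifts_and_natDegree_eq_and_monic hl hP
  have hev : (psi ξ).hom.comp t = (ev ξ U x).hom :=
    congrArg CommRingCat.Hom.hom (psi_to ξ U x)
  let S : StandardEtalePair ((OO X).obj (op U)) :=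
    ⟨Q, hQ, Q.derivative, 1, 0, 1, by simp⟩
  letI : Algebra ((OO X).obj (op U)) Ω := (ev ξ U x).hom.toAlgebra
  have hr : S.HasMap (S := Ω) r := by
    refine ⟨?_, isUnit_iff_ne_zero.mpr ?_⟩
    · rw [aeval_def, ← h0, ← hQP, eval₂_map, hev]
      rfl
    · convert h1 using 1
      rw [aeval_def, ← hQP, derivative_map, eval₂_map, hev]
      rfl
  obtain ⟨ι, hι, hιψ⟩ := exists_map_of_etale ξ U x (CommRingCat.of S.Ring)
    (CommRingCat.ofHom (algebraMap _ S.Ring)) (RingHom.etale_algebraMap.mpr inferInstance)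
    (CommRingCat.ofHom (S.lift r hr).toRingHom) (by
      ext c
      exact (S.lift r hr).commutes c)
  refine ⟨ι S.X, ?_, ?_⟩
  · rw [IsRoot, ← hQP, eval_map]
    have h2 : t = ι.hom.comp (algebraMap _ S.Ring) := (congrArg CommRingCat.Hom.hom hι).symm
    rw [h2, ← hom_eval₂, ← aeval_def, S.hasMap_X.1, map_zero]
  · rw [← ConcreteCategory.comp_apply, hιψ]
    exact S.lift_X r hr

theorem isStrictlyHenselian : EtCoh.IsStrictlyHenselianLocalRing (etaleLocalRing ξ) := by
  haveI : Nontrivial (etaleLocalRing ξ) := (psi ξ).hom.domain_nontrivial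
  have hker : ∀ a, ¬ IsUnit a ↔ psi ξ a = 0 := fun a => by
    refine ⟨fun h => ?_, fun h hu => (hu.map (psi ξ).hom).ne_zero h⟩
    by_contra h0
    exact h (isUnit_of_psi_ne_zero ξ a h0)
  haveI : IsLocalRing (etaleLocalRing ξ) := IsLocalRing.of_nonunits_add fun a b ha hb => by
    rw [mem_nonunits_iff, hker] at *
    rw [map_add, ha, hb, add_zero]
  have hmem : ∀ a, a ∈ IsLocalRing.maximalIdeal (etaleLocalRing ξ) ↔ psi ξ a = 0 := fun a => by
    rw [IsLocalRing.mem_maximalIdeal, mem_nonunits_iff, hker]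
  haveI : HenselianLocalRing (etaleLocalRing ξ) :=
    { is_henselian := fun f hf a₀ h0 h1 => by
        obtain ⟨a, ha, hψ⟩ := exists_root ξ f hf (psi ξ a₀)
          (by rw [eval₂_at_apply]; exact (hmem _).mp h0)
          (by rw [eval₂_at_apply]; exact (h1.map (psi ξ).hom).ne_zero)
        exact ⟨a, ha, (hmem _).mpr (by rw [map_sub, hψ, sub_self])⟩ }
  haveI : IsLocalHom (psi ξ).hom := ⟨fun a ha => isUnit_of_psi_ne_zero ξ a ha.ne_zero⟩
  refine ⟨inferInstance, IsSepClosed.of_exists_root _ fun p hp hirr hsep => ?_⟩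
  obtain ⟨f, hfp, -, hf⟩ := lifts_and_degree_eq_and_monic
    (map_surjective (IsLocalRing.residue _) IsLocalRing.residue_surjective p) hp
  let ψb : IsLocalRing.ResidueField (etaleLocalRing ξ) →+* Ω := IsLocalRing.ResidueField.lift (psi ξ).hom
  have hψb : ψb.comp (IsLocalRing.residue _) = (psi ξ).hom := rfl
  obtain ⟨r, hr⟩ := IsSepClosed.exists_root (p.map ψb)
    (by rw [degree_map]; exact (degree_pos_of_irreducible hirr).ne') hsep.map
  have h0 : f.eval₂ (psi ξ).hom r = 0 := by
    rw [← hψb, ← eval₂_map, hfp, ← eval_map]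
    exact hr
  have h1 : f.derivative.eval₂ (psi ξ).hom r ≠ 0 := by
    rw [← hψb, ← eval₂_map, ← derivative_map, hfp, ← eval_map, ← derivative_map]
    intro h
    exact (hsep.map (f := ψb)).aeval_derivative_ne_zero (x := r) (by simpa [IsRoot] using hr)
      (by simpa using h)
  obtain ⟨a, ha, hψ⟩ := exists_root ξ f hf r h0 h1
  refine ⟨IsLocalRing.residue _ a, ?_⟩
  show p.eval _ = 0
  rw [← hfp, eval_map, eval₂_at_apply, ha.eq_zero, map_zero]

end Groth.Agent.HenselLib.EtaleLocalRingSH
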