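import Mathlib.AlgebraicGeometry.Morphisms.Etale
import Mathlib.RingTheory.Etale.Locus
import Mathlib.RingTheory.Etale.StandardEtale
import Mathlib.RingTheory.Unramified.LocalStructure
import Mathlib.AlgebraicGeometry.AffineScheme

/-!
# Monogenic charts of etale morphisms
-/

set_option autoImplicit false
set_option linter.all false
set_option backward.isDefEq.respectTransparency.types false

universe u

open CategoryTheory AlgebraicGeometry Polynomial

namespace Groth.Agent.HenselLib.EtaleMonoChart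

/-- A standard etale algebra is an open piece of `(R[t]/(p))[1/p']`. -/
theorem exists_derivative_chart (R S : Type u) [CommRing R] [CommRing S] [Algebra R S]
    [Algebra.IsStandardEtale R S] :
    ∃ (p : R[X]) (_ : p.Monic)
      (ψ : Localization.Away (AdjoinRoot.mk p (derivative p)) →ₐ[R] S),
      IsOpenImmersion (Spec.map (CommRingCat.ofHom ψ.toRingHom)) := by
  let P := (Algebra.IsStandardEtale.nonempty_standardEtalePresentation (R := R) (S := S)).some
  let e : S ≃ₐ[R] Localization.Away (AdjoinRoot.mk P.f P.g) := P.equivRing.trans P.P.equivAwayAdjoinRoot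
  let χ : AdjoinRoot P.f →ₐ[R] S :=
    e.symm.toAlgHom.comp (IsScalarTower.toAlgHom R (AdjoinRoot P.f) _)
  have hχ : χ.comp (AdjoinRoot.mkₐ P.f) = aeval P.x := by
    ext; simp [χ, e, StandardEtalePair.equivAwayAdjoinRoot]
  have hu : IsUnit (χ (AdjoinRoot.mk P.f (derivative P.f))) := by
    have := congr($hχ (derivative P.f))
    simp only [AlgHom.coe_comp, Function.comp_apply] at this
    rw [show AdjoinRoot.mk P.f (derivative P.f) = AdjoinRoot.mkₐ P.f (derivative P.f) from rfl, this]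
    exact P.hasMap.isUnit_derivative_f
  let L := Localization.Away (AdjoinRoot.mk P.f (derivative P.f))
  let ψ : L →ₐ[R] S := IsLocalization.Away.liftAlgHom (AdjoinRoot.mk P.f (derivative P.f)) (f := χ) hu
  refine ⟨P.f, P.monic_f, ψ, ?_⟩
  have hfac : (CommRingCat.ofHom (algebraMap (AdjoinRoot P.f) L)) ≫ CommRingCat.ofHom ψ.toRingHom =
      CommRingCat.ofHom (algebraMap (AdjoinRoot P.f) (Localization.Away (AdjoinRoot.mk P.f P.g))) ≫
        CommRingCat.ofHom e.symm.toAlgHom.toRingHom := by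
    refine CommRingCat.hom_ext (RingHom.ext fun x => ?_)
    exact IsLocalization.lift_eq _ x
  haveI : IsIso (CommRingCat.ofHom e.symm.toAlgHom.toRingHom) :=
    (e.symm.toRingEquiv.toCommRingCatIso).isIso_hom
  haveI : IsOpenImmersion (Spec.map (CommRingCat.ofHom ψ.toRingHom) ≫
      Spec.map (CommRingCat.ofHom (algebraMap (AdjoinRoot P.f) L))) := by
    rw [← Spec.map_comp, hfac, Spec.map_comp]
    infer_instance
  exact IsOpenImmersion.of_comp _ (Spec.map (CommRingCat.ofHom (algebraMap (AdjoinRoot P.f) L)))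

theorem exists_affine_standardEtale {X Y : Scheme.{u}} (φ : X ⟶ Y) (x : X) (V : Y.Opens)
    (hV : IsAffineOpen V) (hxV : φ x ∈ V) (W : X.Opens) (hxW : x ∈ W) [Etale (W.ι ≫ φ)] :
    ∃ (U : X.Opens) (_ : IsAffineOpen U) (_ : x ∈ U) (e : U ≤ φ ⁻¹ᵁ V),
      letI := (φ.appLE V U e).hom.toAlgebra
      Algebra.IsStandardEtale Γ(Y, V) Γ(X, U) := by
  obtain ⟨U₀, hU₀, hxU₀, hle⟩ := exists_isAffineOpen_mem_and_subset (x := x) (U := W ⊓ φ ⁻¹ᵁ V) ⟨hxW, hxV⟩
  have hW : U₀ ≤ W := le_trans hle inf_le_left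
  have e₀ : U₀ ≤ φ ⁻¹ᵁ V := le_trans hle inf_le_right
  haveI : Etale (U₀.ι ≫ φ) := by
    rw [show U₀.ι = X.homOfLE hW ≫ W.ι from (X.homOfLE_ι hW).symm, Category.assoc]
    infer_instance
  have het : (φ.appLE V U₀ e₀).hom.Etale := by
    have h1 : Etale (φ.resLE V U₀ e₀) := by
      haveI : Etale (φ.resLE V U₀ e₀ ≫ V.ι) := by rw [Scheme.Hom.resLE_comp_ι]; infer_instance
      exact Etale.of_comp _ V.ι
    haveI : IsAffine (U₀ : Scheme) := hU₀
    haveI : IsAffine (V : Scheme) := hV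
    have h2 : (φ.resLE V U₀ e₀).appTop.hom.Etale :=
      (HasRingHomProperty.iff_of_isAffine (P := @Etale)).mp h1
    exact ((HasRingHomProperty.isLocal_ringHomProperty @Etale).respectsIso.arrow_mk_iso_iff
      (arrowResLEAppIso φ V U₀ e₀)).mp h2
  letI := (φ.appLE V U₀ e₀).hom.toAlgebra
  haveI : Algebra.Etale Γ(Y, V) Γ(X, U₀) := RingHom.etale_algebraMap.mp het
  let q := (hU₀.primeIdealOf ⟨x, hxU₀⟩).asIdeal
  haveI : Algebra.FormallyEtale Γ(X, U₀) (Localization.AtPrime q) :=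
    .of_isLocalization q.primeCompl
  haveI : Algebra.IsEtaleAt Γ(Y, V) q := Algebra.FormallyEtale.comp _ Γ(X, U₀) _
  obtain ⟨f, hf, _⟩ := Algebra.IsEtaleAt.exists_isStandardEtale (R := Γ(Y, V)) q
  have hxf : x ∈ X.basicOpen f := by
    have h : hU₀.primeIdealOf ⟨x, hxU₀⟩ ∈ hU₀.fromSpec ⁻¹ᵁ X.basicOpen f := by
      rw [hU₀.fromSpec_preimage_basicOpen]; exact hf
    have h2 : hU₀.fromSpec (hU₀.primeIdealOf ⟨x, hxU₀⟩) ∈ X.basicOpen f := h
    rwa [hU₀.fromSpec_primeIdealOf ⟨x, hxU₀⟩] at h2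
  refine ⟨X.basicOpen f, hU₀.basicOpen f, hxf, (X.basicOpen_le f).trans e₀, ?_⟩
  letI : Algebra Γ(X, U₀) Γ(X, X.basicOpen f) := (X.presheaf.map (homOfLE (X.basicOpen_le f)).op).hom.toAlgebra
  haveI := hU₀.isLocalization_basicOpen f
  letI : Algebra Γ(Y, V) Γ(X, X.basicOpen f) :=
    (φ.appLE V (X.basicOpen f) ((X.basicOpen_le f).trans e₀)).hom.toAlgebra
  haveI : IsScalarTower Γ(Y, V) Γ(X, U₀) Γ(X, X.basicOpen f) :=
    IsScalarTower.of_algebraMap_eq' (congrArg CommRingCat.Hom.hom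
      (Scheme.Hom.appLE_map φ e₀ (homOfLE (X.basicOpen_le f)).op).symm)
  exact Algebra.IsStandardEtale.of_equiv ((IsLocalization.algEquiv (Submonoid.powers f)
    (Localization.Away f) Γ(X, X.basicOpen f)).restrictScalars Γ(Y, V))

end Groth.Agent.HenselLib.EtaleMonoChart
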