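import Groth.Agent.HenselLib.TensorHull
import Groth.Agent.HenselLib.PairNbhd
import Mathlib.RingTheory.Etale.Basic

/-!
# Etale neighbourhoods over which a finite type algebra acquires a finite part
-/

set_option autoImplicit false
set_option linter.all false

universe u

open scoped TensorProduct
open CategoryTheory

namespace Groth.Agent.HenselLib.EtaleNbhdFinite

section Rel

variable {S D : Type u} [CommRing S] [CommRing D] [Algebra S D]

/-- `e` times a monic polynomial in `x`. -/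
def rel (e x : D) (n : ℕ) (c : Fin n → S) : D := e * (x ^ n + ∑ i, algebraMap S D (c i) * x ^ (i : ℕ))

theorem map_rel {S' D' : Type u} [CommRing S'] [CommRing D'] [Algebra S' D'] (f : D →+* D') (g : S →+* S')
    (h : f.comp (algebraMap S D) = (algebraMap S' D').comp g) (e x : D) (n : ℕ) (c : Fin n → S) :
    f (rel e x n c) = rel (f e) (f x) n (g ∘ c) := by
  simp only [rel, map_mul, map_add, map_pow, map_sum, Function.comp_apply]
  refine congrArg _ (congrArg _ (Finset.sum_congr rfl fun i _ => ?_))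
  rw [← RingHom.comp_apply, h]
  rfl

theorem exists_rel {e : D} (he : IsIdempotentElem e) [Module.Finite S (D ⧸ Ideal.span {1 - e})] (x : D) :
    ∃ (n : ℕ) (c : Fin n → S), rel e x n c = 0 := by
  obtain ⟨p, hp, hpx⟩ := Algebra.IsIntegral.isIntegral (R := S) (Ideal.Quotient.mk (Ideal.span {1 - e}) x)
  refine ⟨p.natDegree, fun i => p.coeff i, ?_⟩
  rw [← Polynomial.aeval_def, ← Ideal.Quotient.mkₐ_eq_mk S, Polynomial.aeval_algHom_apply,
    Ideal.Quotient.mkₐ_eq_mk, Ideal.Quotient.eq_zero_iff_mem, Ideal.mem_span_singleton] at hpx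
  obtain ⟨w, hw⟩ := hpx
  have h1 : Polynomial.aeval x p =
      x ^ p.natDegree + ∑ i : Fin p.natDegree, algebraMap S D (p.coeff i) * x ^ (i : ℕ) := by
    rw [Polynomial.aeval_eq_sum_range, Finset.sum_range_succ, hp.coeff_natDegree, one_smul, add_comm,
      Fin.sum_univ_eq_sum_range (fun i => algebraMap S D (p.coeff i) * x ^ i)]
    simp only [Algebra.smul_def]
  rw [rel, ← h1, hw, ← mul_assoc, mul_sub, mul_one, he.eq, sub_self, zero_mul]

theorem isIntegral_mk {e : D} {x : D} {n : ℕ} {c : Fin n → S} (h : rel e x n c = 0) :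
    IsIntegral S (Ideal.Quotient.mk (Ideal.span {1 - e}) x) := by
  refine ⟨Polynomial.X ^ n + ∑ i : Fin n, Polynomial.C (c i) * Polynomial.X ^ (i : ℕ),
    Polynomial.monic_X_pow_add (Polynomial.degree_sum_fin_lt _), ?_⟩
  have he : Ideal.Quotient.mk (Ideal.span {1 - e}) e = 1 :=
    (Ideal.Quotient.eq.mpr (Ideal.mem_span_singleton.mpr dvd_rfl)).symm.trans (map_one _)
  have h2 := congrArg (Ideal.Quotient.mk (Ideal.span {1 - e})) h
  rw [rel, map_zero, map_mul, he, one_mul, map_add, map_pow, map_sum] at h2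
  simp only [map_mul, map_pow] at h2
  rw [Polynomial.eval₂_add, Polynomial.eval₂_X_pow, Polynomial.eval₂_finset_sum]
  simp only [Polynomial.eval₂_mul, Polynomial.eval₂_C, Polynomial.eval₂_X_pow]
  exact h2

end Rel

variable {A : Type u} [CommRing A] {I : Ideal A} {B : Type u} [CommRing B] [Algebra A B]

theorem finite_factor (S : Type u) [CommRing S] [Algebra A S] (e : S ⊗[A] B) (G : Finset B)
    (hG : Algebra.adjoin A (G : Set B) = ⊤)
    (h : ∀ x ∈ G, IsIntegral S (Ideal.Quotient.mk (Ideal.span {1 - e}) ((1 : S) ⊗ₜ[A] x))) :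
    Module.Finite S ((S ⊗[A] B) ⧸ Ideal.span {1 - e}) := by
  let π := Ideal.Quotient.mk (Ideal.span {1 - e})
  have : Algebra.FiniteType A B := ⟨⟨G, hG⟩⟩
  have hb : ∀ b : B, IsIntegral S (π ((1 : S) ⊗ₜ[A] b)) := fun b => by
    have hb : b ∈ Algebra.adjoin A (G : Set B) := by rw [hG]; trivial
    induction hb using Algebra.adjoin_induction with
    | mem x hx => exact h x hx
    | algebraMap a =>
      rw [show (1 : S) ⊗ₜ[A] algebraMap A B a = algebraMap S (S ⊗[A] B) (algebraMap A S a) by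
        simp [Algebra.algebraMap_eq_smul_one, TensorProduct.tmul_smul, TensorProduct.smul_tmul',
          Algebra.TensorProduct.one_def]]
      exact isIntegral_algebraMap (R := S) (A := (S ⊗[A] B) ⧸ Ideal.span {1 - e})
    | add u v _ _ hu hv => rw [TensorProduct.tmul_add, map_add]; exact hu.add hv
    | mul u v _ _ hu hv =>
      rw [show (1 : S) ⊗ₜ[A] (u * v) = (1 : S) ⊗ₜ[A] u * (1 : S) ⊗ₜ[A] v by simp, map_mul]
      exact hu.mul hv
  have : Algebra.IsIntegral S ((S ⊗[A] B) ⧸ Ideal.span {1 - e}) := ⟨fun z => by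
    obtain ⟨z, rfl⟩ := Ideal.Quotient.mk_surjective z
    induction z using TensorProduct.induction_on with
    | zero => rw [map_zero]; exact isIntegral_zero
    | tmul y b =>
      rw [show y ⊗ₜ[A] b = algebraMap S (S ⊗[A] B) y * ((1 : S) ⊗ₜ[A] b) by
        simp [Algebra.TensorProduct.algebraMap_apply], map_mul]
      exact (isIntegral_algebraMap (R := S) (A := (S ⊗[A] B) ⧸ Ideal.span {1 - e})).mul (hb b)
    | add u v hu hv => rw [map_add]; exact hu.add hv⟩
  exact Algebra.IsIntegral.finite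

theorem etale_factor (S : Type u) [CommRing S] [Algebra A S] [Algebra.Etale A S] (e : S ⊗[A] B)
    (he : IsIdempotentElem e) :
    letI := ((Ideal.Quotient.mk (Ideal.span {1 - e})).comp
      (Algebra.TensorProduct.includeRight : B →ₐ[A] S ⊗[A] B).toRingHom).toAlgebra
    Algebra.Etale B ((S ⊗[A] B) ⧸ Ideal.span {1 - e}) := by
  letI algBD : Algebra B (S ⊗[A] B) := Algebra.TensorProduct.rightAlgebra
  letI := ((Ideal.Quotient.mk (Ideal.span {1 - e})).comp
      (Algebra.TensorProduct.includeRight : B →ₐ[A] S ⊗[A] B).toRingHom).toAlgebra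
  haveI tw :=
    IsScalarTower.of_algebraMap_eq (R := B) (S := S ⊗[A] B) (A := (S ⊗[A] B) ⧸ Ideal.span {1 - e}) fun b => rfl
  haveI : Algebra.Etale B (S ⊗[A] B) := by
    let cm : B ⊗[A] S ≃ₐ[B] S ⊗[A] B :=
      { Algebra.TensorProduct.comm A B S with
        commutes' := fun b => by
          simp [Algebra.TensorProduct.algebraMap_apply, RingHom.algebraMap_toAlgebra] }
    exact Algebra.Etale.of_equiv cm
  haveI : IsLocalization.Away e ((S ⊗[A] B) ⧸ Ideal.span {1 - e}) :=
    IsLocalization.away_of_isIdempotentElem he Ideal.mk_ker Ideal.Quotient.mk_surjective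
  haveI : Algebra.Etale (S ⊗[A] B) ((S ⊗[A] B) ⧸ Ideal.span {1 - e}) :=
    Algebra.Etale.of_isLocalizationAway e
  exact Algebra.Etale.comp B (S ⊗[A] B) _

variable (I B)

/-- Reduction of `S ⊗ B` through a point of `S`. -/
noncomputable def red {S : Type u} [CommRing S] [Algebra A S] (σ : S →ₐ[A] A ⧸ I) :
    S ⊗[A] B →ₐ[A] B ⧸ I.map (algebraMap A B) :=
  Algebra.TensorProduct.lift
    ((Ideal.Quotient.liftₐ I (Algebra.ofId A (B ⧸ I.map (algebraMap A B))) fun a ha =>
      Ideal.Quotient.eq_zero_iff_mem.mpr (Ideal.mem_map_of_mem _ ha)).comp σ)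
    (Ideal.Quotient.mkₐ A _) fun _ _ => Commute.all _ _

variable {I B}

theorem red_tmul_one {S : Type u} [CommRing S] [Algebra A S] (σ : S →ₐ[A] A ⧸ I) (b : B) :
    red I B σ ((1 : S) ⊗ₜ[A] b) = Ideal.Quotient.mk _ b := by simp [red]

theorem map_le_ker_red {S : Type u} [CommRing S] [Algebra A S] (σ : S →ₐ[A] A ⧸ I) :
    I.map (algebraMap A (S ⊗[A] B)) ≤ RingHom.ker (red I B σ) :=
  Ideal.map_le_iff_le_comap.mpr fun a ha => by
    show red I B σ (algebraMap A (S ⊗[A] B) a) = 0
    rw [(red I B σ).commutes]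
    exact Ideal.Quotient.eq_zero_iff_mem.mpr (Ideal.mem_map_of_mem _ ha)

theorem red_map {S H : Type u} [CommRing S] [CommRing H] [Algebra A S] [Algebra A H]
    (σ : H →ₐ[A] A ⧸ I) (j : S →ₐ[A] H) :
    (red I B σ).comp (Algebra.TensorProduct.map j (AlgHom.id A B)) = red I B (σ.comp j) :=
  Algebra.TensorProduct.ext (AlgHom.ext fun y => by simp [red]) (AlgHom.ext fun b => by simp [red])

theorem exists_sub_tmul_mem {S : Type u} [CommRing S] [Algebra A S] (σ : S →ₐ[A] A ⧸ I)
    (hσ : RingHom.ker σ = I.map (algebraMap A S)) (z : S ⊗[A] B) :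
    ∃ b : B, z - 1 ⊗ₜ[A] b ∈ I.map (algebraMap A (S ⊗[A] B)) := by
  induction z using TensorProduct.induction_on with
  | zero => exact ⟨0, by simp⟩
  | tmul y b =>
    obtain ⟨a, ha⟩ := Ideal.Quotient.mk_surjective (σ y)
    have h1 : y - algebraMap A S a ∈ I.map (algebraMap A S) := by
      rw [← hσ, RingHom.mem_ker, map_sub, AlgHom.commutes, sub_eq_zero, ← ha]; rfl
    let iL : S →ₐ[A] S ⊗[A] B := Algebra.TensorProduct.includeLeft
    have h2 := mem_map_algHom iL I h1
    have h3 := Ideal.mul_mem_right ((1 : S) ⊗ₜ[A] b) _ h2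
    refine ⟨a • b, ?_⟩
    convert h3 using 1
    simp [iL, sub_mul, Algebra.TensorProduct.tmul_mul_tmul, TensorProduct.sub_tmul,
      TensorProduct.tmul_smul, TensorProduct.smul_tmul', Algebra.algebraMap_eq_smul_one]
  | add u v hu hv =>
    obtain ⟨a, ha⟩ := hu
    obtain ⟨b, hb⟩ := hv
    refine ⟨a + b, ?_⟩
    rw [TensorProduct.tmul_add, add_sub_add_comm]
    exact Ideal.add_mem _ ha hb

theorem finite_quotient_tensor (H : Type u) [CommRing H] [Algebra A H]
    (hfin : Module.Finite A (B ⧸ I.map (algebraMap A B))) :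
    Module.Finite H ((H ⊗[A] B) ⧸ (I.map (algebraMap A H)).map (algebraMap H (H ⊗[A] B))) := by
  classical
  obtain ⟨G, hG⟩ := hfin.fg_top
  let K := (I.map (algebraMap A H)).map (algebraMap H (H ⊗[A] B))
  have hK : ∀ b ∈ I.map (algebraMap A B), (1 : H) ⊗ₜ[A] b ∈ K := fun b hb => by
    have h1 := mem_map_algHom (Algebra.TensorProduct.includeRight : B →ₐ[A] H ⊗[A] B) I hb
    rw [show K = I.map (algebraMap A (H ⊗[A] B)) by
      show (I.map (algebraMap A H)).map (algebraMap H (H ⊗[A] B)) = _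
      rw [Ideal.map_map, ← IsScalarTower.algebraMap_eq]]
    exact h1
  let pb : (B ⧸ I.map (algebraMap A B)) →ₐ[A] (H ⊗[A] B) ⧸ K :=
    Ideal.Quotient.liftₐ _ ((Ideal.Quotient.mkₐ A K).comp Algebra.TensorProduct.includeRight)
      fun b hb => Ideal.Quotient.eq_zero_iff_mem.mpr (hK b hb)
  refine ⟨⟨G.image pb, ?_⟩⟩
  rw [eq_top_iff]
  rintro z -
  obtain ⟨z, rfl⟩ := Ideal.Quotient.mk_surjective z
  induction z using TensorProduct.induction_on with
  | zero => simp
  | tmul h b =>
    have hb : pb (Ideal.Quotient.mk _ b) ∈ Submodule.span H (G.image pb : Set ((H ⊗[A] B) ⧸ K)) := by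
      have h1 : Ideal.Quotient.mk (I.map (algebraMap A B)) b ∈ Submodule.span A (G : Set _) := by
        rw [hG]; trivial
      have h2 := Submodule.mem_map_of_mem (f := pb.toLinearMap) h1
      rw [Submodule.map_span] at h2
      refine Submodule.span_le_restrictScalars A H _ ?_
      simpa using h2
    have h3 := Submodule.smul_mem _ h hb
    refine (?_ : Ideal.Quotient.mk K (h ⊗ₜ[A] b) = h • pb (Ideal.Quotient.mk _ b)) ▸ h3
    show _ = Ideal.Quotient.mk K (h • ((1 : H) ⊗ₜ[A] b))
    rw [TensorProduct.smul_tmul', smul_eq_mul, mul_one]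
  | add u v hu hv => rw [map_add]; exact add_mem hu hv

theorem algebraMap_map {S H : Type u} [CommRing S] [CommRing H] [Algebra A S] [Algebra A H] (j : S →ₐ[A] H) :
    (Algebra.TensorProduct.map j (AlgHom.id A B)).toRingHom.comp (algebraMap S (S ⊗[A] B)) =
      (algebraMap H (H ⊗[A] B)).comp j.toRingHom :=
  RingHom.ext fun a => by simp [Algebra.TensorProduct.algebraMap_apply]

theorem rTensor_eq_map {S H : Type u} [CommRing S] [CommRing H] [Algebra A S] [Algebra A H] (j : S →ₐ[A] H)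
    (z : S ⊗[A] B) :
    j.toLinearMap.rTensor B z = Algebra.TensorProduct.map j (AlgHom.id A B) z := rfl

theorem map_rel_tensor {S H : Type u} [CommRing S] [CommRing H] [Algebra A S] [Algebra A H] (j : S →ₐ[A] H)
    (e : S ⊗[A] B) (b : B) (n : ℕ) (c : Fin n → S) :
    j.toLinearMap.rTensor B (rel e ((1 : S) ⊗ₜ[A] b) n c) =
      rel (j.toLinearMap.rTensor B e) ((1 : H) ⊗ₜ[A] b) n (j ∘ c) := by
  rw [rTensor_eq_map, rTensor_eq_map]
  refine (map_rel _ j.toRingHom (algebraMap_map j) e _ n c).trans ?_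
  congr 1
  simp

theorem map_idem_tensor {S H : Type u} [CommRing S] [CommRing H] [Algebra A S] [Algebra A H] (j : S →ₐ[A] H)
    (e : S ⊗[A] B) :
    j.toLinearMap.rTensor B (e * e - e) =
      j.toLinearMap.rTensor B e * j.toLinearMap.rTensor B e - j.toLinearMap.rTensor B e := by
  simp only [rTensor_eq_map, map_sub, map_mul]

variable (I B)

/-- After an etale neighbourhood of `I`, a finite type algebra finite modulo `I` has a finite factor
whose reduction is `B ⧸ I B`. -/
theorem exists_etale_nbhd [Algebra.FiniteType A B] (hfin : Module.Finite A (B ⧸ I.map (algebraMap A B))) :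
    ∃ (S : Type u) (_ : CommRing S) (_ : Algebra A S) (_ : Algebra.Etale A S) (e : S ⊗[A] B),
      Function.Bijective (quotθ I S) ∧ IsIdempotentElem e ∧
      Module.Finite S ((S ⊗[A] B) ⧸ Ideal.span {1 - e}) ∧
      (∀ z : S ⊗[A] B, ∃ b : B, z - (1 : S) ⊗ₜ[A] b ∈ I.map (algebraMap A (S ⊗[A] B))) ∧
      ∀ b : B, (1 : S) ⊗ₜ[A] b ∈ I.map (algebraMap A (S ⊗[A] B)) ⊔ Ideal.span {1 - e} →
        b ∈ I.map (algebraMap A B) := by
  classical
  haveI : HenselianRing (PairH A I) (I.map (algebraMap A (PairH A I))) := (isPairHull_pairH A I).1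
  obtain ⟨e, he, he1, hefin⟩ := exists_idem_finite (R := PairH A I ⊗[A] B)
    (I.map (algebraMap A (PairH A I))) (finite_quotient_tensor (PairH A I) hfin)
  obtain ⟨G, hG⟩ := Algebra.FiniteType.out (R := A) (A := B)
  choose n c hc using fun x : B => exists_rel (S := PairH A I) he ((1 : PairH A I) ⊗ₜ[A] x)
  obtain ⟨P₁, e₁, he₁⟩ := TensorHull.exists_rep_rTensor e
  obtain ⟨P₂, c₂, hc₂⟩ := exists_rep_fintype fun p : Σ x : G, Fin (n x) => c p.1 p.2
  obtain ⟨P, f₁, f₂, -⟩ := IsFilteredOrEmpty.cocone_objs P₁ P₂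
  let e₂ : P.Ring ⊗[A] B := f₁.map.toLinearMap.rTensor B e₁
  have he₂ : (ι P).toLinearMap.rTensor B e₂ = e := (TensorHull.rTensor_ι_map f₁ e₁).trans he₁
  let cP : ∀ x : G, Fin (n x) → P.Ring := fun x i => f₂.map (c₂ ⟨x, i⟩)
  have hcP : ∀ x : G, (ι P) ∘ cP x = c x := fun x => funext fun i => (ι_map f₂ _).trans (hc₂ ⟨x, i⟩)
  let T : Option G → P.Ring ⊗[A] B := fun o => match o with
    | none => e₂ * e₂ - e₂
    | some x => rel e₂ ((1 : P.Ring) ⊗ₜ[A] (x : B)) (n x) (cP x)
  obtain ⟨Q, f, hf⟩ := TensorHull.exists_eq_zero_family Finset.univ T (by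
    rintro (_ | x) -
    · show (ι P).toLinearMap.rTensor B (e₂ * e₂ - e₂) = 0
      rw [map_idem_tensor, he₂, he.eq, sub_self]
    · show (ι P).toLinearMap.rTensor B (rel e₂ _ _ _) = 0
      rw [map_rel_tensor, he₂, hcP]
      exact hc x)
  obtain ⟨S, g, hS⟩ := exists_hom_nbhd I Q
  let k := f ≫ g
  have hT : ∀ o, k.map.toLinearMap.rTensor B (T o) = 0 := fun o => by
    show (g.map.toLinearMap.comp f.map.toLinearMap).rTensor B _ = 0
    rw [LinearMap.rTensor_comp_apply, hf o (Finset.mem_univ o), map_zero]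
  let eS := k.map.toLinearMap.rTensor B e₂
  have heS : IsIdempotentElem eS := by
    have := hT none
    rw [show T none = e₂ * e₂ - e₂ from rfl, map_idem_tensor, sub_eq_zero] at this
    exact this
  refine ⟨S.Ring, inferInstance, inferInstance, S.etale, eS, bijective_quotθ_pt I hS, heS,
    finite_factor S.Ring eS G hG fun x hx => ?_, exists_sub_tmul_mem S.pt hS, ?_⟩
  · have h := hT (some ⟨x, hx⟩)
    rw [show T (some ⟨x, hx⟩) = rel e₂ ((1 : P.Ring) ⊗ₜ[A] x) (n x) (cP ⟨x, hx⟩) from rfl,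
      map_rel_tensor] at h
    exact isIntegral_mk h
  · have h1 : Algebra.TensorProduct.map (ι S) (AlgHom.id A B) eS = e := by
      rw [← rTensor_eq_map]
      exact (TensorHull.rTensor_ι_map k e₂).trans he₂
    have hpt : S.pt = (hullPt A (A ⧸ I)).comp (ι S) := AlgHom.ext fun y => (hullPt_ι S y).symm
    have h4 : red I B S.pt eS = red I B (hullPt A (A ⧸ I)) e := by
      rw [hpt, ← red_map, ← h1]; rfl
    have hr : red I B S.pt eS = 1 := by
      rw [h4, ← sub_eq_zero]
      have h5 : e - 1 ∈ I.map (algebraMap A (PairH A I ⊗[A] B)) := by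
        rwa [Ideal.map_map, ← IsScalarTower.algebraMap_eq] at he1
      have h6 := map_le_ker_red (hullPt A (A ⧸ I)) h5
      rwa [RingHom.mem_ker, map_sub, map_one] at h6
    intro b hb
    have hle : I.map (algebraMap A (S.Ring ⊗[A] B)) ⊔ Ideal.span {1 - eS} ≤ RingHom.ker (red I B S.pt) :=
      sup_le (map_le_ker_red S.pt) (Ideal.span_le.mpr (Set.singleton_subset_iff.mpr (by
        rw [SetLike.mem_coe, RingHom.mem_ker, map_sub, map_one, hr, sub_self])))
    have h7 := hle hb
    rwa [RingHom.mem_ker, red_tmul_one, Ideal.Quotient.eq_zero_iff_mem] at h7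

end Groth.Agent.HenselLib.EtaleNbhdFinite
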