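import Groth.Agent.HenselLib.HEtale
import Mathlib.RingTheory.Flat.FaithfullyFlat.Basic
import Mathlib.RingTheory.Localization.BaseChange
import Mathlib.RingTheory.LocalProperties.Exactness
import Mathlib.RingTheory.Jacobson.Ideal

/-!
# Exactness on the stalks of an affine henselian scheme
-/

set_option autoImplicit false
set_option linter.all false

universe u

open TensorProduct Function

namespace Groth.Agent.HenselLib

theorem faithfullyFlat_of_isPairHull_local {R : Type u} [CommRing R] [IsLocalRing R] {I : Ideal R}
    (hI : I ≤ IsLocalRing.maximalIdeal R) {H : Type u} [CommRing H] [Algebra R H]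
    (hH : IsPairHull R I H) : Module.FaithfullyFlat R H := by
  obtain ⟨e⟩ := hH.equiv_pairH
  haveI : Module.Flat R H := Module.Flat.of_linearEquiv e.symm.toLinearEquiv
  refine (Module.FaithfullyFlat.iff_flat_and_proper_ideal R H).mpr ⟨inferInstance, fun J hJ htop => ?_⟩
  obtain ⟨g, hg, -⟩ := hH.2 (R ⧸ I) _ (Ideal.Quotient.mk I)
    (henselianRing_of_nilpotent _ fun x hx => ⟨1, by
      rw [pow_one]; rw [Ideal.map_quotient_self] at hx; exact (Submodule.mem_bot _).mp hx⟩) le_rfl
  rw [Ideal.smul_top_eq_map] at htop
  have h1 : J.map (algebraMap R H) = ⊤ := by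
    rw [Ideal.eq_top_iff_one]
    have : (1 : H) ∈ Submodule.restrictScalars R (J.map (algebraMap R H)) := by rw [htop]; trivial
    exact this
  have h2 : (J.map (algebraMap R H)).map g = ⊤ := by rw [h1, Ideal.map_top]
  rw [Ideal.map_map, hg] at h2
  have h3 : (⊤ : Ideal (R ⧸ I)) ≤ (IsLocalRing.maximalIdeal R).map (Ideal.Quotient.mk I) :=
    h2 ▸ Ideal.map_mono (IsLocalRing.le_maximalIdeal hJ)
  have h4 := Ideal.mem_quotient_iff_mem hI |>.mp (h3 (Submodule.mem_top : (Ideal.Quotient.mk I 1) ∈ ⊤))
  exact (IsLocalRing.maximalIdeal.isMaximal R).ne_top ((Ideal.eq_top_iff_one _).mpr h4)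

theorem exact_iff_forall_stalks (A : Type u) [CommRing A] (I : Ideal A) (hI : I ≤ Ideal.jacobson ⊥)
    (M' M M'' : Type u) [AddCommGroup M'] [Module A M'] [AddCommGroup M] [Module A M]
    [AddCommGroup M''] [Module A M''] (f : M' →ₗ[A] M) (g : M →ₗ[A] M'') :
    Exact f g ↔
      ∀ (p : Ideal A) [p.IsPrime], I ≤ p →
        ∀ (H : Type u) [CommRing H] [Algebra (Localization.AtPrime p) H] [Algebra A H]
          [IsScalarTower A (Localization.AtPrime p) H],
          IsPairHull (Localization.AtPrime p) (I.map (algebraMap A (Localization.AtPrime p))) H →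
          Exact (f.baseChange H) (g.baseChange H) := by
  constructor
  · intro h p _ hp H _ _ _ _ hH
    obtain ⟨e⟩ := hH.equiv_pairH
    haveI : Module.Flat (Localization.AtPrime p) H := Module.Flat.of_linearEquiv e.symm.toLinearEquiv
    haveI : Module.Flat A (Localization.AtPrime p) := IsLocalization.flat _ p.primeCompl
    haveI : Module.Flat A H := Module.Flat.trans A (Localization.AtPrime p) H
    exact Module.Flat.lTensor_exact H h
  · intro h
    refine exact_of_isLocalized_maximal (fun J => Localization.AtPrime J ⊗[A] M')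
      (fun J => TensorProduct.mk A (Localization.AtPrime J) M' 1) (fun J => Localization.AtPrime J ⊗[A] M)
      (fun J => TensorProduct.mk A (Localization.AtPrime J) M 1) (fun J => Localization.AtPrime J ⊗[A] M'')
      (fun J => TensorProduct.mk A (Localization.AtPrime J) M'' 1) f g fun J _ => ?_
    have hIJ : I ≤ J := le_trans hI (sInf_le ⟨bot_le, ‹_›⟩)
    let Rp := Localization.AtPrime J
    let IR := I.map (algebraMap A Rp)
    have hIR : IR ≤ IsLocalRing.maximalIdeal Rp := by
      rw [← Localization.AtPrime.map_eq_maximalIdeal]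
      exact Ideal.map_mono hIJ
    let H := PairH Rp IR
    letI algAH : Algebra A H := ((algebraMap Rp H).comp (algebraMap A Rp)).toAlgebra
    haveI : IsScalarTower A Rp H := IsScalarTower.of_algebraMap_eq' rfl
    have hH : IsPairHull Rp IR H := isPairHull_pairH Rp IR
    haveI := faithfullyFlat_of_isPairHull_local hIR hH
    have hex := h J hIJ H hH
    have key : Exact (f.baseChange Rp) (g.baseChange Rp) := by
      rw [← Module.FaithfullyFlat.lTensor_exact_iff_exact Rp H]
      refine (Exact.iff_of_ladder_linearEquiv
        (e₁ := (TensorProduct.AlgebraTensorModule.cancelBaseChange A Rp Rp H M').symm.symm)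
        (e₂ := (TensorProduct.AlgebraTensorModule.cancelBaseChange A Rp Rp H M).symm.symm)
        (e₃ := (TensorProduct.AlgebraTensorModule.cancelBaseChange A Rp Rp H M'').symm.symm)
        (g₁₂ := (f.baseChange H).restrictScalars Rp) (g₂₃ := (g.baseChange H).restrictScalars Rp)
        ?_ ?_).mp hex
      · ext h m; simp
      · ext h m; simp
    have hmap : ∀ {N N' : Type u} [AddCommGroup N] [Module A N] [AddCommGroup N'] [Module A N']
        (φ : N →ₗ[A] N'), IsLocalizedModule.map J.primeCompl (TensorProduct.mk A Rp N 1)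
          (TensorProduct.mk A Rp N' 1) φ = (φ.baseChange Rp).restrictScalars A := by
      intro N N' _ _ _ _ φ
      refine IsLocalizedModule.linearMap_ext J.primeCompl (TensorProduct.mk A Rp N 1)
        (TensorProduct.mk A Rp N' 1) ?_
      refine LinearMap.ext fun n => ?_
      rw [LinearMap.comp_apply, IsLocalizedModule.map_apply]
      simp
    rw [hmap f, hmap g]
    exact key

end Groth.Agent.HenselLib
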