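import Groth.Agent.HenselLib.CatenaryWEt
import Groth.Agent.HenselLib.WEtNoeth
import Groth.Prelude.Def_EGA4b

/-!
# J-2 passes to hulls
-/

set_option autoImplicit false
set_option linter.all false

universe u

namespace Groth.Agent.HenselLib.Catenary

theorem isJ2_hull (R K : Type u) [CommRing R] [CommRing K] [Algebra R K] [IsNoetherianRing R]
    [IsNoetherianRing (Hull R K)] (h : EGA4.IsJ2 R) : EGA4.IsJ2 (Hull R K) := by
  intro B _ _ hB
  haveI : Algebra.FiniteType (Hull R K) B := hB
  haveI : IsNoetherianRing B := Algebra.FiniteType.isNoetherianRing (Hull R K) B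
  obtain ⟨C, _, _, _, hCft, hCw, -⟩ := exists_model_hull R K B ∅
  haveI := hCft
  haveI := hCw
  haveI : IsNoetherianRing C := Algebra.FiniteType.isNoetherianRing R C
  have heq : EGA4.regLocus B = PrimeSpectrum.comap (algebraMap C B) ⁻¹' EGA4.regLocus C := by
    ext q
    exact (WEtNoeth.atPrime_data (A := C) q.asIdeal).2.2.symm
  rw [heq]
  exact (h C hCft).preimage (PrimeSpectrum.continuous_comap _)

theorem isJ2_of_equiv {R S : Type u} [CommRing R] [CommRing S] (e : R ≃+* S) (h : EGA4.IsJ2 R) :
    EGA4.IsJ2 S := by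
  intro B _ _ hB
  letI : Algebra R B := ((algebraMap S B).comp e.toRingHom).toAlgebra
  refine h B ?_
  have h2 : ((algebraMap S B).comp e.toRingHom).FiniteType :=
    RingHom.FiniteType.comp (RingHom.finiteType_algebraMap.mpr hB)
      (RingHom.FiniteType.of_surjective e.toRingHom e.surjective)
  exact h2

end Groth.Agent.HenselLib.Catenary
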