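import Groth.Agent.HenselLib.Unique
import Groth.Agent.HenselLib.Perm
import Mathlib.RingTheory.AlgebraicIndependent.Adjoin
import Mathlib.RingTheory.AlgebraicIndependent.TranscendenceBasis
import Mathlib.RingTheory.Etale.Field
import Mathlib.RingTheory.LocalRing.ResidueField.Basic
import Mathlib.FieldTheory.PurelyInseparable.Basic

/-!
# Lifting subfields of residue fields
-/

set_option autoImplicit false
set_option linter.all false

universe u

namespace Groth.Agent.HenselLib.FieldLift

open IntermediateField

section Lift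

variable (k : Type u) [Field k] (A : Type u) [CommRing A]

/-- Purely transcendental subfields lift to any local ring. -/
theorem exists_lift_adjoin [IsLocalRing A] [Algebra k A] {ι : Type u}
    (y : ι → IsLocalRing.ResidueField A) (hy : AlgebraicIndependent k y) :
    ∃ ψ : adjoin k (Set.range y) →ₐ[k] A, ∀ z, IsLocalRing.residue A (ψ z) = (z : IsLocalRing.ResidueField A) := by
  choose a ha using fun i => IsLocalRing.residue_surjective (y i)
  let res : A →ₐ[k] IsLocalRing.ResidueField A :=
    { IsLocalRing.residue A with commutes' := fun r => rfl }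
  have hinj : Function.Injective (MvPolynomial.aeval (R := k) y) :=
    algebraicIndependent_iff_injective_aeval.mp hy
  have hcomp : res.comp (MvPolynomial.aeval a) = MvPolynomial.aeval y :=
    MvPolynomial.algHom_ext fun i => by simp [res, ha]
  let Φ : FractionRing (MvPolynomial ι k) →ₐ[k] A :=
    IsLocalization.liftAlgHom (M := nonZeroDivisors (MvPolynomial ι k)) (f := MvPolynomial.aeval a)
      fun p => by
        rw [← IsLocalRing.notMem_maximalIdeal, ← IsLocalRing.residue_eq_zero_iff]
        intro h
        have : MvPolynomial.aeval y (p : MvPolynomial ι k) = 0 := by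
          rw [← hcomp]; exact h
        exact nonZeroDivisors.coe_ne_zero p (hinj (by rw [this, map_zero]))
  have hres : res.comp Φ =
      ((adjoin k (Set.range y)).val.comp hy.aevalEquivField.toAlgHom) := by
    refine IsLocalization.algHom_ext (nonZeroDivisors (MvPolynomial ι k)) (AlgHom.ext fun p => ?_)
    change res (Φ (algebraMap _ _ p)) = (hy.aevalEquivField (algebraMap _ _ p) : IsLocalRing.ResidueField A)
    rw [AlgebraicIndependent.aevalEquivField_algebraMap_apply_coe]
    simp only [Φ, IsLocalization.liftAlgHom_apply, IsLocalization.lift_eq]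
    exact congr($hcomp p)
  refine ⟨Φ.comp hy.aevalEquivField.symm.toAlgHom, fun z => ?_⟩
  have := congr($hres (hy.aevalEquivField.symm z))
  simpa [res] using this

/-- Separable extensions of a liftable subfield lift to a henselian local ring. -/
theorem exists_lift_separable [HenselianLocalRing A] (F E : Type u) [Field F] [Field E] [Algebra F E]
    [Algebra.IsSeparable F E] [Algebra F A] (j : E →ₐ[F] IsLocalRing.ResidueField A) :
    ∃ g : E →ₐ[F] A, ∀ z, IsLocalRing.residue A (g z) = j z := by
  haveI : HenselianRing A (IsLocalRing.maximalIdeal A) := henselianRing_maximalIdeal A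
  have hlift : ∀ (L : IntermediateField F E), Module.Finite F L →
      ∃! τ : L →ₐ[F] A, ∀ z : L, IsLocalRing.residue A (τ z) = j z := by
    intro L hL
    haveI : Algebra.FormallyEtale F L := Algebra.FormallyEtale.of_isSeparable F L
    haveI : Algebra.Etale F L :=
      ⟨inferInstance, Algebra.FinitePresentation.of_finiteType.mp inferInstance⟩
    obtain ⟨τ, hτ, huniq⟩ := existsUnique_lift (IsLocalRing.maximalIdeal A)
      (j.comp L.val : L →ₐ[F] A ⧸ IsLocalRing.maximalIdeal A)
    exact ⟨τ, fun z => congr($hτ z), fun τ' hτ' => huniq τ' (AlgHom.ext hτ')⟩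
  have hfin : ∀ s : Finset E, Module.Finite F (adjoin F (s : Set E)) := fun s =>
    IntermediateField.finiteDimensional_adjoin fun x _ => Algebra.IsIntegral.isIntegral x
  have hfin1 : ∀ z : E, Module.Finite F (adjoin F ({z} : Set E)) := fun z =>
    IntermediateField.adjoin.finiteDimensional (Algebra.IsIntegral.isIntegral z)
  choose τ hτ huniq using fun z => hlift (adjoin F ({z} : Set E)) (hfin1 z)
  let g : E → A := fun z => τ z ⟨z, subset_adjoin F _ rfl⟩
  have hg : ∀ (L : IntermediateField F E) (σ : L →ₐ[F] A),
      (∀ w : L, IsLocalRing.residue A (σ w) = j w) → ∀ z (hz : z ∈ L), g z = σ ⟨z, hz⟩ := by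
    intro L σ hσ z hz
    have hle : adjoin F ({z} : Set E) ≤ L := adjoin_le_iff.mpr (Set.singleton_subset_iff.mpr hz)
    have := huniq z (σ.comp (IntermediateField.inclusion hle)) fun w => hσ _
    exact (congr($this ⟨z, subset_adjoin F _ rfl⟩)).symm
  have hpair : ∀ z w : E, ∃ (L : IntermediateField F E) (σ : L →ₐ[F] A),
      z ∈ L ∧ w ∈ L ∧ ∀ v : L, IsLocalRing.residue A (σ v) = j v := by
    classical
    intro z w
    obtain ⟨σ, hσ, -⟩ := hlift (adjoin F (({z, w} : Finset E) : Set E)) (hfin _)
    exact ⟨_, σ, subset_adjoin F _ (by simp), subset_adjoin F _ (by simp), hσ⟩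
  have hcomm : ∀ r : F, g (algebraMap F E r) = algebraMap F A r := fun r =>
    (τ (algebraMap F E r)).commutes r
  refine ⟨{ toFun := g, map_one' := ?_, map_mul' := fun z w => ?_, map_zero' := ?_,
            map_add' := fun z w => ?_, commutes' := hcomm }, fun z => hτ z _⟩
  · simpa using hcomm 1
  · obtain ⟨L, σ, hz, hw, hσ⟩ := hpair z w
    rw [hg L σ hσ z hz, hg L σ hσ w hw, hg L σ hσ _ (mul_mem hz hw), ← map_mul]
    rfl
  · simpa using hcomm 0
  · obtain ⟨L, σ, hz, hw, hσ⟩ := hpair z w
    rw [hg L σ hσ z hz, hg L σ hσ w hw, hg L σ hσ _ (add_mem hz hw), ← map_add]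
    rfl

variable [Algebra k A]

theorem exists_subfield_of_hom [IsLocalRing A] (E : IntermediateField k (IsLocalRing.ResidueField A))
    (g : E →ₐ[k] A) (hg : ∀ z, IsLocalRing.residue A (g z) = z) :
    ∃ S : Subring A, IsField S ∧ (algebraMap k A).range ≤ S ∧
      S.map (IsLocalRing.residue A) = E.toSubring := by
  have hinj : Function.Injective g := fun a b h => Subtype.ext (by rw [← hg a, ← hg b, h])
  refine ⟨g.toRingHom.range, ?_, ?_, ?_⟩
  · exact (RingEquiv.ofBijective g.toRingHom.rangeRestrict
      ⟨fun a b h => hinj (congrArg Subtype.val h), g.toRingHom.rangeRestrict_surjective⟩).symm.toMulEquiv.isField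
        (Field.toIsField E)
  · rintro _ ⟨r, rfl⟩
    exact ⟨algebraMap k E r, g.commutes r⟩
  · ext x
    constructor
    · rintro ⟨_, ⟨z, rfl⟩, rfl⟩
      change IsLocalRing.residue A (g z) ∈ E.toSubring
      rw [hg]
      exact z.2
    · intro hx
      exact ⟨g ⟨x, hx⟩, ⟨⟨x, hx⟩, rfl⟩, hg _⟩

end Lift

theorem exists_lift_separating (k : Type u) [Field k] (A : Type u) [CommRing A] [HenselianLocalRing A]
    [Algebra k A] (E : IntermediateField k (IsLocalRing.ResidueField A)) {ι : Type u} (x : ι → E)
    (hx : AlgebraicIndependent k x) [Algebra.IsSeparable (adjoin k (Set.range x)) E] :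
    ∃ g : E →ₐ[k] A, ∀ z, IsLocalRing.residue A (g z) = z := by
  obtain ⟨ψ, hψ⟩ := exists_lift_adjoin k A (fun i => (x i : IsLocalRing.ResidueField A))
    (hx.map' (f := E.val) Subtype.val_injective)
  have hmap : (adjoin k (Set.range x)).map E.val =
      adjoin k (Set.range fun i => (x i : IsLocalRing.ResidueField A)) := by
    rw [adjoin_map, ← Set.range_comp]
    rfl
  let e : adjoin k (Set.range x) →ₐ[k] adjoin k (Set.range fun i => (x i : IsLocalRing.ResidueField A)) :=
    ((IntermediateField.equivMap (adjoin k (Set.range x)) E.val).trans (equivOfEq hmap)).toAlgHom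
  have he : ∀ z, ((e z : IsLocalRing.ResidueField A)) = ((z : E) : IsLocalRing.ResidueField A) :=
    fun z => rfl
  letI : Algebra (adjoin k (Set.range x)) A := (ψ.comp e).toRingHom.toAlgebra
  let j : @AlgHom (adjoin k (Set.range x)) E (IsLocalRing.ResidueField A) _ _ _ _
      (IsLocalRing.ResidueField.algebra A (R₀ := adjoin k (Set.range x))) :=
    @AlgHom.mk _ _ _ _ _ _ _ (IsLocalRing.ResidueField.algebra A (R₀ := adjoin k (Set.range x)))
      E.val.toRingHom fun r => ((hψ (e r)).trans (he r)).symm
  obtain ⟨g, hg⟩ := exists_lift_separable A (adjoin k (Set.range x)) E j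
  refine ⟨{ g.toRingHom with commutes' := fun r => ?_ }, hg⟩
  refine (g.commutes (algebraMap k (adjoin k (Set.range x)) r)).trans ?_
  exact (ψ.comp e).commutes r

theorem exists_subfield_purelyInseparable (k : Type u) [Field k] (A : Type u) [CommRing A]
    [HenselianLocalRing A] [Algebra k A] :
    ∃ S : Subring A, IsField S ∧ (algebraMap k A).range ≤ S ∧
      IsPurelyInseparable (S.map (IsLocalRing.residue A)) (IsLocalRing.ResidueField A) := by
  obtain ⟨s, hs⟩ := exists_isTranscendenceBasis k (IsLocalRing.ResidueField A)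
  set F := adjoin k (Set.range ((↑) : s → IsLocalRing.ResidueField A))
  haveI : Algebra.IsAlgebraic F (IsLocalRing.ResidueField A) := hs.isAlgebraic_field
  let M := separableClosure F (IsLocalRing.ResidueField A)
  let E : IntermediateField k (IsLocalRing.ResidueField A) := M.restrictScalars k
  have hxE : ∀ i : s, (i : IsLocalRing.ResidueField A) ∈ E := fun i =>
    M.algebraMap_mem ⟨(i : IsLocalRing.ResidueField A), subset_adjoin k _ ⟨i, rfl⟩⟩
  let x : s → E := fun i => ⟨i, hxE i⟩
  have hx : AlgebraicIndependent k x := AlgebraicIndependent.of_comp E.val hs.1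
  haveI : Algebra.IsSeparable (adjoin k (Set.range x)) E := by
    have hmap : (adjoin k (Set.range x)).map E.val = F := by
      rw [adjoin_map, ← Set.range_comp]
      rfl
    let e : adjoin k (Set.range x) ≃ₐ[k] F :=
      (IntermediateField.equivMap (adjoin k (Set.range x)) E.val).trans (equivOfEq hmap)
    haveI : Algebra.IsSeparable F M := separableClosure.isSeparable F (IsLocalRing.ResidueField A)
    refine Algebra.IsSeparable.of_equiv_equiv (A₁ := F) (B₁ := M) e.symm.toRingEquiv
      (RingEquiv.refl M : M ≃+* E) (RingHom.ext fun r => Subtype.ext ?_)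
    have h1 : (((e (e.symm r)) : F) : IsLocalRing.ResidueField A) =
        (((e.symm r : adjoin k (Set.range x)) : E) : IsLocalRing.ResidueField A) := rfl
    rw [e.apply_symm_apply] at h1
    exact h1.symm
  obtain ⟨g, hg⟩ := exists_lift_separating k A E x hx
  obtain ⟨S, hS1, hS2, hS3⟩ := exists_subfield_of_hom k A E g hg
  refine ⟨S, hS1, hS2, ?_⟩
  rw [hS3]
  exact separableClosure.isPurelyInseparable F (IsLocalRing.ResidueField A)

end Groth.Agent.HenselLib.FieldLift
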