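import Groth.Agent.HenselLib.LocalHens
import Groth.Agent.HenselLib.Local
import Groth.Agent.HenselLib.HullFlat
import Groth.Agent.HenselLib.HullNoeth
import Groth.Agent.HenselLib.HullProps
import Groth.Agent.HenselLib.HensBase
import Groth.Agent.HenselLib.Perm
import Groth.Agent.HenselLib.Pair
import Groth.Prelude.Def_Hensel
import Mathlib.RingTheory.EssentialFiniteness
import Mathlib.RingTheory.FinitePresentation
import Mathlib.RingTheory.Polynomial.Basic

/-!
# Henselizations of essentially finite type local rings and finite local maps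
-/

set_option autoImplicit false
set_option linter.all false
universe u

open IsLocalRing

namespace Groth.Agent.HenselLib.FiniteTransfer

variable (A : Type u) [CommRing A]

/-- A henselization of a local ring essentially of finite type over `A`. -/
def Repr (X : Type u) [CommRing X] [HenselianLocalRing X] [Algebra A X] : Prop :=
  ∃ (E : Type u) (_ : CommRing E) (_ : IsLocalRing E) (_ : Algebra A E) (_ : Algebra.EssFiniteType A E)
    (φ : E →ₐ[A] X), IsLocalHom φ.toRingHom ∧
      ∀ (T : Type u) [CommRing T] [HenselianLocalRing T] (f : E →+* T), IsLocalHom f →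
        ∃! g : X →+* T, g.comp φ.toRingHom = f

theorem repr_of (X : Type u) [CommRing X] [HenselianLocalRing X] [Algebra A X]
    (B : Type u) [CommRing B] [Algebra A B] [Algebra.FiniteType A B] (p : Ideal B) [p.IsPrime]
    [Algebra (Localization.AtPrime p) X] [IsScalarTower A (Localization.AtPrime p) X]
    [IsLocalHom (algebraMap (Localization.AtPrime p) X)] [h : Hensel.IsHenselization (Localization.AtPrime p) X] :
    Repr A X := by
  haveI : Algebra.EssFiniteType B (Localization.AtPrime p) := Algebra.EssFiniteType.of_isLocalization _ p.primeCompl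
  refine ⟨Localization.AtPrime p, inferInstance, inferInstance, inferInstance, Algebra.EssFiniteType.comp A B _,
    IsScalarTower.toAlgHom A _ X, ‹IsLocalHom (algebraMap (Localization.AtPrime p) X)›, fun T _ _ f hf => ?_⟩
  haveI := hf
  exact h.universal T f hf

theorem of_repr (X : Type u) [CommRing X] [HenselianLocalRing X] [Algebra A X] (h : Repr A X) :
    ∃ (B : Type u) (_ : CommRing B) (_ : Algebra A B) (_ : Algebra.FiniteType A B) (p : Ideal B) (_ : p.IsPrime)
      (_ : Algebra (Localization.AtPrime p) X) (_ : IsScalarTower A (Localization.AtPrime p) X)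
      (_ : IsLocalHom (algebraMap (Localization.AtPrime p) X)), Hensel.IsHenselization (Localization.AtPrime p) X := by
  obtain ⟨E, _, _, _, _, φ, hloc, huniv⟩ := h
  let B := Algebra.EssFiniteType.subalgebra A E
  let p : Ideal B := (maximalIdeal E).comap (algebraMap B E)
  have hM : Algebra.EssFiniteType.submonoid A E = p.primeCompl := by
    ext b
    show IsUnit (algebraMap B E b) ↔ algebraMap B E b ∉ maximalIdeal E
    rw [mem_maximalIdeal, mem_nonunits_iff, not_not]
  haveI : IsLocalization p.primeCompl E := by rw [← hM]; infer_instance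
  let e : Localization.AtPrime p ≃ₐ[A] E :=
    (IsLocalization.algEquiv p.primeCompl (Localization.AtPrime p) E).restrictScalars A
  let ψ : Localization.AtPrime p →ₐ[A] X := φ.comp e.toAlgHom
  letI : Algebra (Localization.AtPrime p) X := ψ.toRingHom.toAlgebra
  haveI htow : IsScalarTower A (Localization.AtPrime p) X := IsScalarTower.of_algebraMap_eq fun a => (ψ.commutes a).symm
  haveI hl : IsLocalHom (algebraMap (Localization.AtPrime p) X) :=
    ⟨fun x hx => by
      haveI := hloc
      have h1 : IsUnit (e x) := isUnit_of_map_unit φ.toRingHom _ hx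
      simpa using h1.map e.symm⟩
  refine ⟨B, inferInstance, inferInstance, inferInstance, p, inferInstance, inferInstance, htow, hl,
    { henselian := inferInstance, universal := fun T _ _ f hf => ?_ }⟩
  obtain ⟨g, hg, hu⟩ := huniv T (f.comp e.symm.toAlgHom.toRingHom)
    ⟨fun x hx => by
      have h1 : IsUnit (e.symm x) := isUnit_of_map_unit f _ hx
      simpa using h1.map e⟩
  refine ⟨g, RingHom.ext fun x => ?_, fun g' hg' => hu g' (RingHom.ext fun y => ?_)⟩
  · show g (φ (e x)) = f x
    rw [show g (φ (e x)) = f (e.symm (e x)) from congr($hg (e x)), e.symm_apply_apply]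
  · show g' (φ y) = f (e.symm y)
    rw [← show g' (φ (e (e.symm y))) = f (e.symm y) from congr($hg' (e.symm y)), e.apply_symm_apply]

set_option maxHeartbeats 1600000 in
set_option backward.isDefEq.respectTransparency false in
/-- Finite local algebras over such a henselization are of the same kind. -/
theorem forward (X Y : Type u) [CommRing X] [IsNoetherianRing X] [HenselianLocalRing X] [Algebra A X]
    [CommRing Y] [HenselianLocalRing Y] [Algebra A Y] [Algebra X Y] [IsScalarTower A X Y]
    [IsLocalHom (algebraMap X Y)] [Module.Finite X Y] (h : Repr A X) : Repr A Y := by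
  classical
  obtain ⟨E, _, _, _, _, φ, hloc, huniv⟩ := h
  letI : Algebra E X := φ.toRingHom.toAlgebra
  haveI : IsScalarTower A E X := IsScalarTower.of_algebraMap_eq fun a => (φ.commutes a).symm
  haveI : IsLocalHom (algebraMap E X) := hloc
  haveI hX : Hensel.IsHenselization E X :=
    { henselian := inferInstance, universal := fun T _ _ f hf => huniv T f hf }
  obtain ⟨e⟩ := exists_equiv_localH (R := E) X
  -- presentation
  haveI : Algebra.FinitePresentation X Y := Algebra.FinitePresentation.of_finiteType.mp inferInstance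
  obtain ⟨n, π, hπ, J₀, hJ₀⟩ := Algebra.FinitePresentation.out (R := X) (A := Y)
  -- the coefficients live in a stage
  obtain ⟨P, rep, hP⟩ := exists_rep_finset (R := E) (K := E ⧸ maximalIdeal E)
    (J₀.biUnion fun f => f.coeffs) (fun c => e.symm c)
  letI iP : CommRing P.Ring := inferInstance
  let ι' : P.Ring →+* X := e.toAlgHom.toRingHom.comp (ι P).toRingHom
  have hι'E : ∀ x : E, ι' (algebraMap E P.Ring x) = algebraMap E X x := fun x => by
    show e (ι P (algebraMap E P.Ring x)) = _
    rw [AlgHom.commutes, AlgEquiv.commutes]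
  have hlift : ∀ f ∈ J₀, ∃ F : MvPolynomial (Fin n) P.Ring, MvPolynomial.map ι' F = f := fun f hf => by
    refine MvPolynomial.mem_range_map_iff_coeffs_subset.mpr fun c hc => ?_
    exact ⟨rep c, (congrArg e (hP c (Finset.mem_biUnion.mpr ⟨f, hf, hc⟩))).trans (e.apply_symm_apply c)⟩
  choose F hF using hlift
  let J' : Ideal (MvPolynomial (Fin n) P.Ring) := Ideal.span (Set.range fun f : J₀ => F f.1 f.2)
  let ev : MvPolynomial (Fin n) P.Ring →+* Y := π.toRingHom.comp (MvPolynomial.map ι')
  have hJ' : ∀ z ∈ J', ev z = 0 := by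
    intro z hz
    refine RingHom.mem_ker.mp ((Ideal.span_le.mpr ?_ : J' ≤ RingHom.ker ev) hz)
    rintro _ ⟨f, rfl⟩
    show π (MvPolynomial.map ι' (F f.1 f.2)) = 0
    rw [hF]
    exact RingHom.mem_ker.mp (hJ₀ ▸ Ideal.subset_span f.2 : f.1 ∈ RingHom.ker π)
  let C' := MvPolynomial (Fin n) P.Ring ⧸ J'
  letI iC : CommRing C' := Ideal.Quotient.commRing J'
  let χ : C' →+* Y := Ideal.Quotient.lift J' ev hJ'
  let q : Ideal C' := (maximalIdeal Y).comap χ
  let C := Localization.AtPrime q
  let ψ : C →+* Y := IsLocalization.lift (M := q.primeCompl) (g := χ) fun y => by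
    by_contra h
    exact y.2 ((mem_maximalIdeal _).mpr h)
  have hψ : ∀ z, ψ (algebraMap C' C z) = χ z := fun z => IsLocalization.lift_eq _ z
  haveI : Algebra.EssFiniteType A P.Ring := Algebra.EssFiniteType.comp A E P.Ring
  haveI : Algebra.EssFiniteType A (MvPolynomial (Fin n) P.Ring) := Algebra.EssFiniteType.comp A P.Ring _
  haveI : Algebra.EssFiniteType A C' := Algebra.EssFiniteType.comp A (MvPolynomial (Fin n) P.Ring) _
  haveI : Algebra.EssFiniteType C' C := Algebra.EssFiniteType.of_isLocalization _ q.primeCompl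
  haveI : Algebra.EssFiniteType A C := Algebra.EssFiniteType.comp A C' C
  have hC'A : ∀ a : A, χ (algebraMap A C' a) = algebraMap A Y a := fun a => by
    show π (MvPolynomial.map ι' (algebraMap A (MvPolynomial (Fin n) P.Ring) a)) = _
    rw [IsScalarTower.algebraMap_apply A P.Ring (MvPolynomial (Fin n) P.Ring), MvPolynomial.algebraMap_eq,
      MvPolynomial.map_C, ← MvPolynomial.algebraMap_eq, AlgHom.commutes, IsScalarTower.algebraMap_apply A E P.Ring,
      hι'E, ← IsScalarTower.algebraMap_apply A E X, ← IsScalarTower.algebraMap_apply A X Y]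
  let Φ : C →ₐ[A] Y :=
    { ψ with
      commutes' := fun a => by
        show ψ (algebraMap A C a) = _
        rw [IsScalarTower.algebraMap_apply A C' C, hψ, hC'A] }
  refine ⟨C, inferInstance, inferInstance, inferInstance, inferInstance, Φ, ⟨fun a ha => ?_⟩, fun T _ _ f hf => ?_⟩
  · obtain ⟨x, s, rfl⟩ := IsLocalization.exists_mk'_eq q.primeCompl a
    rw [IsLocalization.AtPrime.isUnit_mk'_iff C q]
    intro hx
    have h1 : ψ (IsLocalization.mk' C x s) * ψ (algebraMap C' C s) = χ x := by
      rw [← map_mul, IsLocalization.mk'_spec, hψ]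
    exact (mem_maximalIdeal _).mp hx (h1 ▸ IsUnit.mul ha ((IsLocalization.map_units C s).map ψ))
  haveI := hf
  let κ : P.Ring →+* C' := (Ideal.Quotient.mk J').comp MvPolynomial.C
  let τ : P.Ring →+* T := f.comp ((algebraMap C' C).comp κ)
  have hχκ : ∀ x, χ (κ x) = algebraMap X Y (ι' x) := fun x => by
    show π (MvPolynomial.map ι' (MvPolynomial.C x)) = _
    rw [MvPolynomial.map_C, ← MvPolynomial.algebraMap_eq, AlgHom.commutes]
  have hτmem : ∀ x, ι' x ∈ maximalIdeal X → τ x ∈ maximalIdeal T := fun x hx => by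
    have h1 : algebraMap C' C (κ x) ∈ maximalIdeal C := by
      rw [← Localization.AtPrime.map_eq_maximalIdeal]
      refine Ideal.mem_map_of_mem _ ?_
      show χ (κ x) ∈ maximalIdeal Y
      rw [hχκ]
      exact (mem_maximalIdeal _).mpr fun hu => (mem_maximalIdeal _).mp hx (hu.of_map (algebraMap X Y))
    exact (mem_maximalIdeal _).mpr fun hu => (mem_maximalIdeal _).mp h1 (hu.of_map f)
  have hlocE : IsLocalHom (τ.comp (algebraMap E P.Ring)) := by
    refine ⟨fun x hx => ?_⟩
    by_contra h
    have h1 := hτmem (algebraMap E P.Ring x) (by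
      rw [hι'E]
      exact (mem_maximalIdeal _).mpr fun hu => h (hu.of_map (algebraMap E X)))
    exact (mem_maximalIdeal _).mp h1 hx
  obtain ⟨g, hg, hgu⟩ := huniv T (τ.comp (algebraMap E P.Ring)) hlocE
  have hgmax : (maximalIdeal X).map g ≤ maximalIdeal T := by
    rw [← HensBase.map_maximalIdeal_of_isHenselization E X, Ideal.map_map,
      show g.comp (algebraMap E X) = τ.comp (algebraMap E P.Ring) from hg]
    exact ((IsLocalRing.local_hom_TFAE _).out 0 2).mp hlocE
  have hgι : ∀ x, g (ι' x) = τ x := by
    letI : Algebra E T := (τ.comp (algebraMap E P.Ring)).toAlgebra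
    let f₁ : P.Ring →ₐ[E] T :=
      { g.comp ι' with
        commutes' := fun x => by
          show g (ι' (algebraMap E P.Ring x)) = _
          rw [hι'E]
          exact congr($hg x) }
    let f₂ : P.Ring →ₐ[E] T := { τ with commutes' := fun x => rfl }
    have key : f₁ = f₂ := algHom_ext_of_le_jacobson (A := E) (J := maximalIdeal T)
      (IsLocalRing.maximalIdeal_le_jacobson ⊥) fun x => by
      obtain ⟨b, hb⟩ : ∃ b : E, ι' x - algebraMap E X b ∈ maximalIdeal X := by
        obtain ⟨b, hb⟩ := Ideal.Quotient.mk_surjective (hullPt E (E ⧸ maximalIdeal E) (e.symm (ι' x)))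
        refine ⟨b, ?_⟩
        have h1 : e.symm (ι' x) - algebraMap E (LocalH E) b ∈ RingHom.ker (hullPt E (E ⧸ maximalIdeal E)) := by
          rw [RingHom.mem_ker, map_sub, AlgHom.commutes, sub_eq_zero]
          exact hb.symm
        have h2 : e.symm (ι' x - algebraMap E X b) ∈ RingHom.ker (hullPt E (E ⧸ maximalIdeal E)) := by
          rw [map_sub, AlgEquiv.commutes]; exact h1
        refine (mem_maximalIdeal _).mpr fun hu => ?_
        exact (Ideal.IsPrime.ne_top (RingHom.ker_isPrime _)) (Ideal.eq_top_of_isUnit_mem _ h2 (hu.map e.symm))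
      show g (ι' x) - τ x ∈ maximalIdeal T
      have h1 : g (ι' x - algebraMap E X b) ∈ maximalIdeal T := hgmax (Ideal.mem_map_of_mem g hb)
      have h2 : τ (x - algebraMap E P.Ring b) ∈ maximalIdeal T := hτmem _ (by rw [map_sub, hι'E]; exact hb)
      have h3 := sub_mem h1 h2
      rw [map_sub, map_sub, show g (algebraMap E X b) = τ (algebraMap E P.Ring b) from congr($hg b),
        sub_sub_sub_cancel_right] at h3
      exact h3
    exact fun x => congr($key x)
  let t : Fin n → T := fun i => f (algebraMap C' C (Ideal.Quotient.mk J' (MvPolynomial.X i)))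
  let G : MvPolynomial (Fin n) X →+* T := MvPolynomial.eval₂Hom g t
  have hG : G.comp (MvPolynomial.map ι') = f.comp ((algebraMap C' C).comp (Ideal.Quotient.mk J')) := by
    refine MvPolynomial.ringHom_ext (fun x => ?_) fun i => ?_
    · simp only [RingHom.comp_apply, G, MvPolynomial.map_C, MvPolynomial.eval₂Hom_C, hgι]
      rfl
    · simp only [RingHom.comp_apply, G, MvPolynomial.map_X, MvPolynomial.eval₂Hom_X', t]; rfl
  have hGker : RingHom.ker π.toRingHom ≤ RingHom.ker G := by
    refine le_of_eq_of_le hJ₀.symm (Ideal.span_le.mpr fun z hz => ?_)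
    show G z = 0
    rw [← hF z hz, ← RingHom.comp_apply, hG, RingHom.comp_apply, RingHom.comp_apply]
    have h0 : Ideal.Quotient.mk J' (F z hz) = 0 :=
      Ideal.Quotient.eq_zero_iff_mem.mpr (Ideal.subset_span ⟨⟨z, hz⟩, rfl⟩)
    rw [h0, map_zero, map_zero]
  let g1 : Y →+* T := RingHom.liftOfSurjective π.toRingHom hπ ⟨G, hGker⟩
  have hg1 : ∀ z, g1 (π z) = G z := fun z =>
    RingHom.liftOfRightInverse_comp_apply π.toRingHom _ (Function.rightInverse_surjInv hπ) ⟨G, hGker⟩ z
  have hg1ψ : g1.comp ψ = f := by
    refine IsLocalization.ringHom_ext q.primeCompl ?_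
    refine Ideal.Quotient.ringHom_ext (RingHom.ext fun z => ?_)
    show g1 (ψ (algebraMap C' C (Ideal.Quotient.mk J' z))) = _
    rw [hψ]
    show g1 (π (MvPolynomial.map ι' z)) = _
    rw [hg1, ← RingHom.comp_apply G, hG]
    rfl
  refine ⟨g1, hg1ψ, fun g' hg' => ?_⟩
  have h1 : g'.comp (algebraMap X Y) = g := by
    refine hgu _ (RingHom.ext fun x => ?_)
    show g' (algebraMap X Y (algebraMap E X x)) = τ (algebraMap E P.Ring x)
    rw [← hι'E, ← hχκ, ← hψ]
    exact congr($hg' (algebraMap C' C (κ (algebraMap E P.Ring x))))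
  have h2 : g'.comp π.toRingHom = G := by
    refine MvPolynomial.ringHom_ext (fun x => ?_) fun i => ?_
    · show g' (π (MvPolynomial.C x)) = G (MvPolynomial.C x)
      rw [← MvPolynomial.algebraMap_eq, AlgHom.commutes, MvPolynomial.algebraMap_eq]
      simp only [G, MvPolynomial.eval₂Hom_C]
      exact congr($h1 x)
    · show g' (π (MvPolynomial.X i)) = G (MvPolynomial.X i)
      simp only [G, MvPolynomial.eval₂Hom_X', t]
      rw [← show g' (ψ (algebraMap C' C (Ideal.Quotient.mk J' (MvPolynomial.X i)))) =
        f (algebraMap C' C (Ideal.Quotient.mk J' (MvPolynomial.X i))) from congr($hg' _), hψ]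
      show g' (π (MvPolynomial.X i)) = g' (π (MvPolynomial.map ι' (MvPolynomial.X i)))
      rw [MvPolynomial.map_X]
  refine RingHom.ext fun y => ?_
  obtain ⟨z, rfl⟩ := hπ y
  rw [hg1]
  exact congr($h2 z)

theorem isLocalRing_of_isPiLocal {D : Type u} [CommRing D] [Nontrivial D] (h : IsPiLocal D)
    (hid : ∀ e : D, IsIdempotentElem e → e = 0 ∨ e = 1) : IsLocalRing D := by
  classical
  obtain ⟨ι, _, C, _, hC, ⟨φ⟩⟩ := h
  haveI := hC
  rcases isEmpty_or_nonempty ι with hι | ⟨⟨i⟩⟩
  · exact absurd (φ.injective (Subsingleton.elim (φ 0) (φ 1))) zero_ne_one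
  have h1 : φ.symm (Pi.single i 1) = 1 := by
    refine (hid _ ?_).resolve_left fun h => ?_
    · show _ * _ = _
      rw [← map_mul, ← Pi.single_mul, one_mul]
    · have := congrFun (φ.symm.injective (h.trans (map_zero φ.symm).symm)) i
      simp at this
  have h2 : Pi.single i (1 : C i) = 1 := φ.symm.injective (h1.trans (map_one φ.symm).symm)
  have h3 : ∀ j, j = i := fun j => by
    by_contra hj
    have := congrFun h2 j
    rw [Pi.single_eq_of_ne hj] at this
    exact zero_ne_one this
  haveI : Unique ι := ⟨⟨i⟩, h3⟩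
  exact (φ.trans (RingEquiv.piUnique C)).symm.isLocalRing

set_option maxHeartbeats 1600000 in
set_option backward.isDefEq.respectTransparency false in
/-- Finite injective descent of the property. -/
theorem converse [IsNoetherianRing A] (X Y : Type u) [CommRing X] [IsNoetherianRing X] [HenselianLocalRing X]
    [Algebra A X] [CommRing Y] [HenselianLocalRing Y] [Algebra A Y] [Algebra X Y] [IsScalarTower A X Y]
    [IsLocalHom (algebraMap X Y)] [Module.Finite X Y] (hinj : Function.Injective (algebraMap X Y))
    (h : Repr A Y) : Repr A X := by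
  classical
  obtain ⟨E, _, _, _, _, φE, hloc, huniv⟩ := h
  haveI := hloc
  obtain ⟨ω, hω⟩ := Module.Finite.fg_top (R := X) (M := Y)
  have hpoly : ∀ w : Y, ∃ P : Polynomial X, P.Monic ∧ Polynomial.aeval w P = 0 := fun w =>
    Algebra.IsIntegral.isIntegral (R := X) w
  choose P hPm hP0 using hpoly
  have hcoord : ∀ y : Y, ∃ c : Y → X, ∑ w ∈ ω, c w • w = y := fun y => by
    obtain ⟨c, -, hc⟩ := Submodule.mem_span_finset.mp (show y ∈ Submodule.span X (ω : Set Y) by rw [hω]; trivial)
    exact ⟨c, hc⟩
  choose cc hcc using hcoord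
  let σ := Algebra.EssFiniteType.finset A E
  let coef : Finset X := (ω.biUnion fun w => (P w).coeffs) ∪ (σ.biUnion fun s => ω.image (cc (φE s)))
  let B := Algebra.adjoin A (coef : Set X)
  haveI : Algebra.FiniteType A B := ⟨(Subalgebra.fg_top _).mpr ⟨coef, rfl⟩⟩
  haveI : IsNoetherianRing B := Algebra.FiniteType.isNoetherianRing A B
  let p : Ideal B := (maximalIdeal X).comap B.val.toRingHom
  let R0 := Localization.AtPrime p
  letI a0 : Algebra R0 X := (IsLocalization.lift (M := p.primeCompl) (g := B.val.toRingHom) fun y => by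
    by_contra h
    exact y.2 ((mem_maximalIdeal _).mpr h)).toAlgebra
  have hB0 : ∀ b : B, algebraMap R0 X (algebraMap B R0 b) = (b : X) := fun b => IsLocalization.lift_eq _ b
  haveI : IsScalarTower A R0 X := IsScalarTower.of_algebraMap_eq fun a => by
    rw [IsScalarTower.algebraMap_apply A B R0, hB0]; rfl
  haveI hl0 : IsLocalHom (algebraMap R0 X) := by
    refine ((IsLocalRing.local_hom_TFAE _).out 0 2).mpr ?_
    rw [← Localization.AtPrime.map_eq_maximalIdeal, Ideal.map_map, Ideal.map_le_iff_le_comap]
    intro b hb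
    show algebraMap R0 X (algebraMap B R0 b) ∈ maximalIdeal X
    rw [hB0]
    exact hb
  haveI hN0 : IsNoetherianRing R0 := IsLocalization.isNoetherianRing p.primeCompl R0 inferInstance
  haveI hNH : IsNoetherianRing (LocalH R0) := isNoetherianRing_pairH (maximalIdeal R0)
  obtain ⟨h, hh, -⟩ := (isHenselization_localH (R := R0)).universal X (algebraMap R0 X) hl0
  letI aH : Algebra (LocalH R0) X := h.toAlgebra
  letI aHY : Algebra (LocalH R0) Y := ((algebraMap X Y).comp h).toAlgebra
  haveI : IsScalarTower (LocalH R0) X Y := IsScalarTower.of_algebraMap_eq fun _ => rfl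
  letI aA : Algebra A (LocalH R0) := ((algebraMap R0 (LocalH R0)).comp (algebraMap A R0)).toAlgebra
  haveI : IsScalarTower A R0 (LocalH R0) := IsScalarTower.of_algebraMap_eq fun _ => rfl
  haveI tX : IsScalarTower A (LocalH R0) X := IsScalarTower.of_algebraMap_eq fun a => by
    show _ = h (algebraMap R0 (LocalH R0) (algebraMap A R0 a))
    rw [IsScalarTower.algebraMap_apply A R0 X]
    exact congr($hh (algebraMap A R0 a)).symm
  haveI hlH : IsLocalHom (algebraMap (LocalH R0) X) := by
    refine ((IsLocalRing.local_hom_TFAE _).out 0 2).mpr ?_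
    rw [← map_maximalIdeal_localH (R := R0), Ideal.map_map,
      show (algebraMap (LocalH R0) X).comp (algebraMap R0 (LocalH R0)) = algebraMap R0 X from hh]
    exact ((IsLocalRing.local_hom_TFAE _).out 0 2).mp hl0
  have hcoef : ∀ c ∈ coef, ∃ x : LocalH R0, algebraMap (LocalH R0) X x = c := fun c hc =>
    ⟨algebraMap R0 (LocalH R0) (algebraMap B R0 ⟨c, Algebra.subset_adjoin hc⟩),
      (congr($hh _)).trans (hB0 _)⟩
  have hint : ∀ w ∈ ω, IsIntegral (LocalH R0) w := fun w hw => by
    have hl : P w ∈ Polynomial.lifts (algebraMap (LocalH R0) X) := by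
      rw [Polynomial.lifts_iff_coeff_lifts]
      intro n
      by_cases hn : (P w).coeff n = 0
      · exact ⟨0, by rw [map_zero, hn]⟩
      · exact hcoef _ (Finset.mem_union_left _ (Finset.mem_biUnion.mpr
          ⟨w, hw, Polynomial.coeff_mem_coeffs hn⟩))
    obtain ⟨q, hq, -, hqm⟩ := Polynomial.lifts_and_degree_eq_and_monic hl (hPm w)
    refine ⟨q, hqm, ?_⟩
    have h0 := hP0 w
    rw [← hq, Polynomial.aeval_map_algebraMap] at h0
    exact h0
  let D := Algebra.adjoin (LocalH R0) (ω : Set Y)
  haveI hfinD : Module.Finite (LocalH R0) D :=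
    Module.Finite.iff_fg.mpr (fg_adjoin_of_finite ω.finite_toSet hint)
  haveI : IsLocalRing D := isLocalRing_of_isPiLocal (isPiLocal_of_henselian (LocalH R0) D) fun e he => by
    have he' : (e : Y) * e = e := congrArg D.val he.eq
    rcases IsLocalRing.isUnit_or_isUnit_one_sub_self (e : Y) with h | h
    · exact Or.inr (Subtype.ext (h.mul_left_cancel (he'.trans (mul_one _).symm)))
    · exact Or.inl (Subtype.ext (h.mul_left_cancel (by rw [sub_mul, one_mul, he', sub_self]; simp)))
  haveI : HenselianLocalRing D := henselianLocalRing_of_isIntegral (LocalH R0) D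
  have hXY : (maximalIdeal Y).comap (algebraMap X Y) = maximalIdeal X :=
    ((IsLocalRing.local_hom_TFAE (algebraMap X Y)).out 0 4).mp ‹IsLocalHom (algebraMap X Y)›
  have hHX : (maximalIdeal X).comap h = maximalIdeal (LocalH R0) :=
    ((IsLocalRing.local_hom_TFAE h).out 0 4).mp hlH
  haveI hlocD : IsLocalHom D.val.toRingHom := by
    refine ((IsLocalRing.local_hom_TFAE _).out 0 4).mpr ?_
    haveI : ((maximalIdeal Y).comap D.val.toRingHom).IsPrime := Ideal.IsPrime.comap _
    refine eq_maximalIdeal (Ideal.isMaximal_of_isIntegral_of_isMaximal_comap (R := LocalH R0) _ ?_)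
    rw [Ideal.comap_comap,
      show D.val.toRingHom.comp (algebraMap (LocalH R0) D) = (algebraMap X Y).comp h from rfl,
      ← Ideal.comap_comap, hXY, hHX]
    infer_instance
  letI aAD : Algebra A D := ((algebraMap (LocalH R0) D).comp (algebraMap A (LocalH R0))).toAlgebra
  haveI : IsScalarTower A (LocalH R0) D := IsScalarTower.of_algebraMap_eq fun _ => rfl
  haveI : IsScalarTower A (LocalH R0) Y := IsScalarTower.of_algebraMap_eq fun a => by
    show _ = algebraMap X Y (algebraMap (LocalH R0) X (algebraMap A (LocalH R0) a))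
    rw [← IsScalarTower.algebraMap_apply A (LocalH R0) X, ← IsScalarTower.algebraMap_apply A X Y]
  have hmem : ∀ e : E, φE e ∈ D := by
    have hsub : ∀ e ∈ Algebra.EssFiniteType.subalgebra A E, φE e ∈ D := fun e he => by
      refine Algebra.adjoin_induction (fun s hs => ?_) (fun a => ?_) (fun _ _ _ _ h1 h2 => ?_)
        (fun _ _ _ _ h1 h2 => ?_) he
      · rw [← hcc (φE s)]
        refine sum_mem fun w hw => ?_
        obtain ⟨x, hx⟩ := hcoef _ (Finset.mem_union_right _ (Finset.mem_biUnion.mpr
          ⟨s, hs, Finset.mem_image_of_mem _ hw⟩))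
        rw [← hx, algebraMap_smul]
        exact D.smul_mem (Algebra.subset_adjoin hw) x
      · rw [AlgHom.commutes, IsScalarTower.algebraMap_apply A (LocalH R0) Y]
        exact D.algebraMap_mem _
      · rw [map_add]; exact add_mem h1 h2
      · rw [map_mul]; exact mul_mem h1 h2
    intro e
    obtain ⟨a, s, rfl⟩ := IsLocalization.exists_mk'_eq (Algebra.EssFiniteType.submonoid A E) e
    have hu : IsUnit (φE (algebraMap _ E s.1)) := IsUnit.map φE s.2
    obtain ⟨v, hv⟩ := (IsUnit.of_map D.val.toRingHom ⟨φE (algebraMap _ E s.1), hsub _ s.1.2⟩ hu).exists_left_inv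
    have hv' : (v : Y) * φE (algebraMap _ E s.1) = 1 := congrArg D.val hv
    have h2 : φE (IsLocalization.mk' E a s) * φE (algebraMap _ E s.1) = φE (algebraMap _ E a) := by
      rw [← map_mul, IsLocalization.mk'_spec]
    rw [show φE (IsLocalization.mk' E a s) = φE (algebraMap _ E a) * v by
      linear_combination (v : Y) * h2 - φE (IsLocalization.mk' E a s) * hv']
    exact mul_mem (hsub _ a.2) v.2
  let fD : E →+* D := φE.toRingHom.codRestrict D hmem
  haveI : IsLocalHom fD := ⟨fun e he => IsUnit.of_map φE.toRingHom e (he.map D.val.toRingHom)⟩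
  obtain ⟨g, hg, -⟩ := huniv D fD inferInstance
  obtain ⟨_, -, huY⟩ := huniv Y φE.toRingHom hloc
  have hid : D.val.toRingHom.comp g = RingHom.id Y := by
    refine (huY _ ?_).trans (huY _ (RingHom.id_comp _)).symm
    show (D.val.toRingHom.comp g).comp φE.toRingHom = _
    rw [RingHom.comp_assoc, hg]
    rfl
  have htop : D = ⊤ := eq_top_iff.mpr fun y _ => by
    rw [show y = (g y : Y) from congr($hid y).symm]
    exact (g y).2
  haveI : Module.Finite (LocalH R0) Y :=
    Module.Finite.equiv ((Subalgebra.equivOfEq D ⊤ htop).trans Subalgebra.topEquiv).toLinearEquiv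
  haveI : Module.Finite (LocalH R0) X :=
    Module.Finite.of_injective (IsScalarTower.toAlgHom (LocalH R0) X Y).toLinearMap hinj
  haveI : Hensel.IsHenselization R0 (LocalH R0) := isHenselization_localH
  exact forward A (LocalH R0) X (repr_of A (LocalH R0) B p)

end Groth.Agent.HenselLib.FiniteTransfer
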