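import Groth.Agent.Coherent.FormalFunctions
import Groth.Agent.HenselLib.Idem
import Groth.Agent.HenselLib.ClopenLift
import Mathlib.Algebra.Category.ModuleCat.Sheaf.PullbackFree
import Mathlib.AlgebraicGeometry.ResidueField
import Mathlib.AlgebraicGeometry.PullbackCarrier
import Mathlib.RingTheory.Spectrum.Prime.Topology

/-!
# Open-closed subsets of the special fibre of a proper scheme over a henselian pair

By the theorem on formal functions, they come from idempotent global functions.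
-/

set_option autoImplicit false
set_option linter.all false

universe u

open CategoryTheory CategoryTheory.Limits AlgebraicGeometry Opposite TopologicalSpace
open Groth.Agent.Coherent

namespace Groth.Agent.HenselLib.FormalClopen

variable {A : Type u} [CommRing A] {X : Scheme.{u}} [X.Over (Spec (CommRingCat.of A))] (I : Ideal A)

local notation "O" => Coh.structureModule X

attribute [local instance 20000] Coherent.hhGrp Coherent.hhMod

/-- Restriction of functions. -/
noncomputable def res {U : X.Opens} {W : X.Opens} (h : W ≤ U) : Γ(X, U) →+* Γ(X, W) :=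
  (X.presheaf.map (homOfLE h).op).hom

theorem res_res {U W W' : X.Opens} (h : W ≤ U) (h' : W' ≤ W) (s : Γ(X, U)) :
    res h' (res h s) = res (h'.trans h) s :=
  congrArg (fun k : Γ(X, U) ⟶ Γ(X, W') => k s)
    (X.presheaf.map_comp (homOfLE h).op (homOfLE h').op).symm

/-- The structure map on sections. -/
noncomputable def rh (U : X.Opens) : A →+* Γ(X, U) := (res le_top).comp (baseHom A X)

theorem res_rh {U W : X.Opens} (h : W ≤ U) (a : A) : res h (rh U a) = rh W a := res_res _ h _

/-- The ideal of the special fibre. -/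
noncomputable def J (U : X.Opens) : Ideal Γ(X, U) := I.map (rh U)

/-- The special fibre. -/
def zset : Set X := {x | ∀ a ∈ I, x ∉ X.basicOpen (show Γ(X, ⊤) from baseHom A X a)}

theorem res_mem {U W : X.Opens} (h : W ≤ U) {n : ℕ} {s : Γ(X, U)} (hs : s ∈ J I U ^ n) :
    res h s ∈ J I W ^ n := by
  have h1 := Ideal.mem_map_of_mem (res h) hs
  rw [Ideal.map_pow, J, Ideal.map_map] at h1
  convert h1 using 3
  exact congrArg (fun k => I.map k) (RingHom.ext fun a => (res_rh h a).symm)

theorem basicOpen_res_mem {U W : X.Opens} (h : W ≤ U) (s : Γ(X, U)) {x : X} (hx : x ∈ W) :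
    x ∈ X.basicOpen (res h s) ↔ x ∈ X.basicOpen s := by
  show x ∈ X.basicOpen (X.presheaf.map (homOfLE h).op s) ↔ _
  rw [Scheme.basicOpen_res]
  exact ⟨fun hh => hh.2, fun hh => ⟨hx, hh⟩⟩

/-- Projection of functions to `O/I^n O`. -/
noncomputable def piO (n : ℕ) (U : X.Opens) : Γ(X, U) →+ Γ(Formal.modPow I n O, U) :=
  ((Formal.modPowπ I n O).app U).hom

theorem piO_mul (n : ℕ) (U : X.Opens) (r s : Γ(X, U)) :
    piO I n U (r * s) = r • piO I n U s :=
  Scheme.Modules.Hom.app_smul (Formal.modPowπ I n O) r s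

theorem piO_res (n : ℕ) {U W : X.Opens} (h : W ≤ U) (s : Γ(X, U)) :
    (Formal.modPow I n O).presheaf.map (homOfLE h).op (piO I n U s) = piO I n W (res h s) :=
  (ConcreteCategory.congr_hom ((Formal.modPowπ I n O).mapPresheaf.naturality (homOfLE h).op) s).symm

theorem piO_eq_zero_of_mem {n : ℕ} {U : X.Opens} {s : Γ(X, U)} (hs : s ∈ J I U ^ n) :
    piO I n U s = 0 := by
  rw [J, ← Ideal.map_pow, Ideal.map, Ideal.span] at hs
  induction hs using Submodule.span_induction with
  | mem x hx =>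
    obtain ⟨a, ha, rfl⟩ := hx
    have h1 := smulMod_app O a U (1 : Γ(X, U))
    have h2 : rh U a = (Formal.smulMod A O a).app U (1 : Γ(X, U)) :=
      (mul_one (rh U a)).symm.trans h1.symm
    rw [h2]
    exact congrArg (fun k : O ⟶ Formal.modPow I n O => k.app U (1 : Γ(X, U)))
      (smulMod_modPowπ I O ha)
  | zero => exact map_zero _
  | add x y _ _ hx hy => rw [map_add, hx, hy, add_zero]
  | smul r x _ hx => rw [smul_eq_mul, piO_mul, hx, smul_zero]

theorem notMem_basicOpen_of_piO_eq_zero {n : ℕ} (hn : 1 ≤ n) {U : X.Opens} {s : Γ(X, U)}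
    (hs : piO I n U s = 0) {x : X} (hxU : x ∈ U) (hx : x ∈ zset I) : x ∉ X.basicOpen s := by
  let ι := X.fromSpecResidueField x
  let g : O ⟶ (Scheme.Modules.pushforward ι).obj (Coh.structureModule _) :=
    SheafOfModules.unitToPushforwardObjUnit ι.toRingCatSheafHom
  have hg : ∀ (W : X.Opens) (r : Γ(X, W)), g.app W r = ι.app W r := fun W r => rfl
  have h0 : ∀ a ∈ I ^ n, ι.appTop (show Γ(X, ⊤) from baseHom A X a) = 0 := by
    intro a ha
    rw [← basicOpen_eq_bot_iff, eq_bot_iff, ← Scheme.preimage_basicOpen_top]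
    intro p hp
    have hp' : ι p ∈ X.basicOpen (show Γ(X, ⊤) from baseHom A X a) := hp
    rw [show ι p = x from Scheme.fromSpecResidueField_apply x p] at hp'
    exact (hx a (Ideal.pow_le_self (by omega) ha) hp').elim
  have hz : ∀ a ∈ I ^ n, Formal.smulMod A O a ≫ g = 0 := by
    intro a ha
    refine Scheme.Modules.hom_ext _ _ fun W => ?_
    ext m
    change g.app W ((Formal.smulMod A O a).app W m) = 0
    rw [smulMod_app]
    refine (hg W _).trans ?_
    refine (map_mul (ι.app W).hom _ _).trans ?_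
    have hnat : ι.app W (res le_top (show Γ(X, ⊤) from baseHom A X a)) = 0 := by
      refine (congrArg (fun k : Γ(X, ⊤) ⟶ Γ(_, ι ⁻¹ᵁ W) => k (show Γ(X, ⊤) from baseHom A X a))
        (ι.naturality (homOfLE (le_top (a := W))).op)).trans ?_
      refine Eq.trans (congrArg (fun z => (Spec (X.residueField x)).presheaf.map _ z) (h0 a ha)) ?_
      exact map_zero _
    exact (congrArg (· * (ι.app W).hom m) hnat).trans (zero_mul _)
  let g' : Formal.modPow I n O ⟶ _ := cokernel.desc (Formal.smulFamily (I ^ n) O) g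
    (Sigma.hom_ext _ _ fun a => by
      rw [comp_zero, ← Category.assoc]
      simp only [Formal.smulFamily, colimit.ι_desc, Cofan.mk_ι_app]
      exact hz a a.2)
  have hfac : Formal.modPowπ I n O ≫ g' = g := cokernel.π_desc _ _ _
  have hs0 : ι.app U s = 0 := by
    refine (hg U s).symm.trans ?_
    rw [← hfac]
    change g'.app U (piO I n U s) = 0
    rw [hs]
    exact map_zero _
  intro hxs
  have : IsLocalRing.closedPoint (X.residueField x) ∈ ι ⁻¹ᵁ X.basicOpen s := by
    show ι _ ∈ X.basicOpen s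
    exact (Scheme.fromSpecResidueField_apply x _).symm ▸ hxs
  rw [Scheme.preimage_basicOpen, hs0, Scheme.basicOpen_zero] at this
  exact this

variable (V : Set X)

/-- An approximate indicator function of `V` near the special fibre. -/
def Good (n : ℕ) (U : X.Opens) (f : Γ(X, U)) : Prop :=
  f * f - f ∈ J I U ^ n ∧ ∀ x ∈ U, x ∈ zset I → (x ∈ X.basicOpen f ↔ x ∈ V)

theorem Good.res {n : ℕ} {U W : X.Opens} {f : Γ(X, U)} (hf : Good I V n U f) (h : W ≤ U) :
    Good I V n W (res h f) := by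
  refine ⟨?_, fun x hx hxz => (basicOpen_res_mem h f hx).trans (hf.2 x (h hx) hxz)⟩
  rw [← map_mul, ← map_sub]
  exact res_mem I h hf.1

theorem Good.mono {n m : ℕ} (hmn : m ≤ n) {U : X.Opens} {f : Γ(X, U)} (hf : Good I V n U f) :
    Good I V m U f :=
  ⟨Ideal.pow_le_pow_right hmn hf.1, hf.2⟩

theorem fromSpec_mem_zset {U : X.Opens} (hU : IsAffineOpen U) (p : PrimeSpectrum Γ(X, U)) :
    hU.fromSpec p ∈ zset I ↔ J I U ≤ p.asIdeal := by
  have hmem : hU.fromSpec p ∈ U := hU.range_fromSpec.le ⟨p, rfl⟩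
  rw [J, Ideal.map_le_iff_le_comap]
  refine forall₂_congr fun a ha => ?_
  rw [Ideal.mem_comap, ← not_not (a := rh U a ∈ p.asIdeal)]
  refine not_congr ?_
  show _ ↔ p ∈ PrimeSpectrum.basicOpen (rh U a)
  rw [← hU.fromSpec_preimage_basicOpen]
  exact (basicOpen_res_mem le_top _ hmem).symm

theorem fromSpec_mem_basicOpen {U : X.Opens} (hU : IsAffineOpen U) (p : PrimeSpectrum Γ(X, U))
    (f : Γ(X, U)) : hU.fromSpec p ∈ X.basicOpen f ↔ f ∉ p.asIdeal := by
  show p ∈ hU.fromSpec ⁻¹ᵁ X.basicOpen f ↔ _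
  rw [hU.fromSpec_preimage_basicOpen]
  rfl

theorem good_unique {n : ℕ} {U : X.Opens} (hU : IsAffineOpen U) {f f' : Γ(X, U)}
    (hf : Good I V n U f) (hf' : Good I V n U f') : f - f' ∈ J I U ^ n := by
  rcases Nat.eq_zero_or_pos n with rfl | hn
  · rw [pow_zero, Ideal.one_eq_top]; trivial
  have hrad : f - f' ∈ (J I U).radical := by
    rw [Ideal.radical_eq_sInf, Submodule.mem_sInf]
    rintro P ⟨hJP, hP⟩
    let p : PrimeSpectrum Γ(X, U) := ⟨P, hP⟩
    have hpz : hU.fromSpec p ∈ zset I := (fromSpec_mem_zset I hU p).mpr hJP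
    have hpU : hU.fromSpec p ∈ U := hU.range_fromSpec.le ⟨p, rfl⟩
    have h1 := hf.2 _ hpU hpz
    have h2 := hf'.2 _ hpU hpz
    rw [fromSpec_mem_basicOpen] at h1 h2
    by_cases hV : hU.fromSpec p ∈ V
    · have key : ∀ g : Γ(X, U), g * g - g ∈ J I U ^ n → g ∉ P → g - 1 ∈ P := fun g hg hgP => by
        have : g * (g - 1) ∈ P := by
          rw [mul_sub, mul_one]
          exact hJP (Ideal.pow_le_self (by omega) hg)
        exact (hP.mem_or_mem this).resolve_left hgP
      have := P.sub_mem (key f hf.1 (h1.mpr hV)) (key f' hf'.1 (h2.mpr hV))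
      simpa using this
    · exact P.sub_mem (not_not.mp fun h => hV (h1.mp h)) (not_not.mp fun h => hV (h2.mp h))
  obtain ⟨m, hm⟩ := hrad
  set d := f - f'
  have hcube : d ^ 3 - d ∈ J I U ^ n := by
    have : d ^ 3 - d = (f + 1 - 3 * f') * (f * f - f) + (3 * f - f' - 1) * (f' * f' - f') := by
      simp only [d]; ring
    rw [this]
    exact add_mem (Ideal.mul_mem_left _ _ hf.1) (Ideal.mul_mem_left _ _ hf'.1)
  have hodd : ∀ j : ℕ, d ^ (2 * j + 1) - d ∈ J I U ^ n := by
    intro j
    induction j with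
    | zero => simp
    | succ j ih =>
      have : d ^ (2 * (j + 1) + 1) - d = d ^ 2 * (d ^ (2 * j + 1) - d) + (d ^ 3 - d) := by ring
      rw [this]
      exact add_mem (Ideal.mul_mem_left _ _ ih) hcube
  have hbig : d ^ (2 * (m * n) + 1) ∈ J I U ^ n := by
    rw [show 2 * (m * n) + 1 = m * n + (m * n + 1) by ring, pow_add, pow_mul]
    exact Ideal.mul_mem_right _ _ (Ideal.pow_mem_pow hm n)
  have := Ideal.sub_mem _ hbig (hodd (m * n))
  rwa [sub_sub_cancel] at this

variable (hVc : IsClosed V) (hVc' : IsClosed (zset I \ V)) (hVsub : V ⊆ zset I)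

include hVc hVc' hVsub

theorem good_exists {n : ℕ} (hn : 1 ≤ n) {U : X.Opens} (hU : IsAffineOpen U) :
    ∃ f, Good I V n U f := by
  let R := Γ(X, U)
  let φ : PrimeSpectrum (R ⧸ J I U ^ n) → X :=
    fun q => hU.fromSpec (PrimeSpectrum.comap (Ideal.Quotient.mk (J I U ^ n)) q)
  have hφ : Continuous φ := hU.fromSpec.continuous.comp (PrimeSpectrum.continuous_comap _)
  have hφz : ∀ q, φ q ∈ zset I := fun q => by
    refine (fromSpec_mem_zset I hU _).mpr fun s hs => ?_
    have h1 : s ^ n ∈ (PrimeSpectrum.comap (Ideal.Quotient.mk (J I U ^ n)) q).asIdeal := by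
      show Ideal.Quotient.mk _ (s ^ n) ∈ q.asIdeal
      rw [Ideal.Quotient.eq_zero_iff_mem.mpr (Ideal.pow_mem_pow hs n)]
      exact zero_mem _
    exact (PrimeSpectrum.comap (Ideal.Quotient.mk (J I U ^ n)) q).isPrime.mem_of_pow_mem n h1
  have hcl : IsClopen (φ ⁻¹' V) := by
    refine ⟨hVc.preimage hφ, ?_⟩
    rw [← isClosed_compl_iff]
    convert hVc'.preimage hφ using 1
    ext q
    exact ⟨fun h => ⟨hφz q, h⟩, fun h => h.2⟩
  obtain ⟨e, he, heV⟩ := PrimeSpectrum.exists_idempotent_basicOpen_eq_of_isClopen hcl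
  obtain ⟨f, rfl⟩ := Ideal.Quotient.mk_surjective e
  refine ⟨f, ?_, fun x hx hxz => ?_⟩
  · rw [← Ideal.Quotient.eq_zero_iff_mem, map_sub, map_mul, he.eq, sub_self]
  · obtain ⟨p, rfl⟩ := hU.range_fromSpec.ge hx
    have hp := (fromSpec_mem_zset I hU p).mp hxz
    obtain ⟨q, rfl⟩ : p ∈ Set.range (PrimeSpectrum.comap (Ideal.Quotient.mk (J I U ^ n))) := by
      rw [range_comap_of_surjective _ _ Ideal.Quotient.mk_surjective, Ideal.mk_ker]
      exact fun s hs => hp (Ideal.pow_le_self (by omega) hs)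
    rw [fromSpec_mem_basicOpen]
    exact (Set.ext_iff.mp heV q).symm

theorem eq_of_good {n : ℕ} {U : X.Opens} (hU : IsAffineOpen U) {f f' : Γ(X, U)}
    (hf : Good I V n U f) (hf' : Good I V n U f') : piO I n U f = piO I n U f' := by
  rw [← sub_eq_zero, ← map_sub]
  exact piO_eq_zero_of_mem I (good_unique I V hU hf hf')

omit hVc hVc' hVsub in
theorem hom_ext_affine {M : X.Modules} {U : X.Opens} {s t : Γ(M, U)}
    (h : ∀ (W : X.Opens) (hW : W ≤ U), IsAffineOpen W →
      M.presheaf.map (homOfLE hW).op s = M.presheaf.map (homOfLE hW).op t) : s = t := by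
  refine TopCat.Sheaf.eq_of_locally_eq' ⟨M.presheaf, M.isSheaf⟩
    (fun W : {W : X.Opens // IsAffineOpen W ∧ W ≤ U} => W.1) U (fun W => homOfLE W.2.2) ?_ s t
    fun W => h W.1 W.2.2 W.2.1
  intro x hx
  obtain ⟨W, hW, hxW, hWU⟩ := Opens.isBasis_iff_nbhd.mp X.isBasis_affineOpens hx
  exact Opens.mem_iSup.mpr ⟨⟨W, hW, hWU⟩, hxW⟩

theorem exists_section {n : ℕ} (hn : 1 ≤ n) :
    ∃ e : Γ(Formal.modPow I n O, ⊤), ∀ (U : X.Opens) (_ : IsAffineOpen U) (f : Γ(X, U)),
      Good I V n U f →
        (Formal.modPow I n O).presheaf.map (homOfLE (le_top (a := U))).op e = piO I n U f := by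
  choose f hf using fun U : {W : X.Opens // IsAffineOpen W} => good_exists I V hVc hVc' hVsub hn U.2
  obtain ⟨e, he, -⟩ := TopCat.Sheaf.existsUnique_gluing'
    (⟨(Formal.modPow I n O).presheaf, (Formal.modPow I n O).isSheaf⟩ : TopCat.Sheaf Ab X)
    (fun U : {W : X.Opens // IsAffineOpen W} => U.1) ⊤ (fun U => homOfLE le_top)
    (fun x _ => by
      obtain ⟨W, hW, hxW, -⟩ := Opens.isBasis_iff_nbhd.mp X.isBasis_affineOpens
        (show x ∈ (⊤ : X.Opens) from trivial)
      exact Opens.mem_iSup.mpr ⟨⟨W, hW⟩, hxW⟩)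
    (fun U => piO I n U.1 (f U)) (fun U U' => by
      refine hom_ext_affine fun W hW hWaff => ?_
      have h1 : W ≤ U.1 := hW.trans inf_le_left
      have h2 : W ≤ U'.1 := hW.trans inf_le_right
      simp only [← ConcreteCategory.comp_apply, ← Functor.map_comp, ← op_comp, homOfLE_comp]
      erw [← ConcreteCategory.comp_apply, ← Functor.map_comp, ← ConcreteCategory.comp_apply,
        ← Functor.map_comp]
      refine (piO_res I n h1 (f U)).trans ((eq_of_good I V hVc hVc' hVsub hWaff ((hf U).res I V h1)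
        ((hf U').res I V h2)).trans (piO_res I n h2 (f U')).symm))
  refine ⟨e, fun U hU g hg => ?_⟩
  exact (he ⟨U, hU⟩).trans (eq_of_good I V hVc hVc' hVsub hU (hf ⟨U, hU⟩) hg)

omit hVc hVc' hVsub in
/-- `Γ(X, M) ≃ H^0(X, M)`. -/
noncomputable def phi (M : X.Modules) : GA (baseHom A X) M ≃ₗ[A] Coh.HH X M 0 :=
  (secA (baseHom A X) M).symm.trans (HHA (A := A) M 0).symm

omit hVc hVc' hVsub in
theorem phi_natural {M N : X.Modules} (g : M ⟶ N) (s : GA (baseHom A X) M) :
    Sheaf.H.map ((SheafOfModules.toSheaf _).map g) 0 (phi (A := A) M s) =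
      phi (A := A) N (g.app ⊤ s) := by
  refine (HHA (A := A) N 0).injective ((HHA_natural M g 0 _).trans ?_)
  refine Eq.trans ?_ ((HHA (A := A) N 0).apply_symm_apply _).symm
  refine (secA (baseHom A X) N).injective ?_
  refine Eq.trans ?_ ((secA (baseHom A X) N).apply_symm_apply _).symm
  rw [secA_natural]
  refine congrArg (mapGA (baseHom A X) g) ?_
  refine (congrArg (secA (baseHom A X) M) ((HHA (A := A) M 0).apply_symm_apply _)).trans ?_
  exact (secA (baseHom A X) M).apply_symm_apply _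

variable [IsNoetherianRing A] [IsProper (X ↘ Spec (CommRingCat.of A))]

/-- An approximate global indicator of `V`. -/
theorem exists_approx : ∃ b : Γ(X, ⊤), b * b - b ∈ I.map (baseHom A X) ∧
    ∀ x ∈ zset I, (x ∈ X.basicOpen b ↔ x ∈ V) := by
  have : IsLocallyNoetherian X :=
    LocallyOfFiniteType.isLocallyNoetherian (X ↘ Spec (CommRingCat.of A))
  have hO : Coh.IsCoh O := isCoh_structureModule X
  obtain ⟨c₁, hc₁⟩ := exists_imPow_le I hO 0
  obtain ⟨c₂, hc₂⟩ := exists_range_eq I hO 0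
  choose e he using fun n : ℕ => exists_section I V hVc hVc' hVsub (n := n + 1) (by omega)
  set τ : Formal.modPow I (c₁ + c₂ + 1) O ⟶ Formal.modPow I (c₁ + 1) O :=
    (Formal.completion I O).map (homOfLE (Nat.le_add_right c₁ c₂)).op with hτ
  have hτe : τ.app ⊤ (e (c₁ + c₂)) = e c₁ := by
    refine hom_ext_affine fun W hW hWaff => ?_
    obtain ⟨f, hf⟩ := good_exists I V hVc hVc' hVsub (n := c₁ + c₂ + 1) (by omega) hWaff
    refine Eq.trans ?_ (he c₁ W hWaff f (hf.mono I V (by omega))).symm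
    refine (ConcreteCategory.congr_hom (τ.mapPresheaf.naturality (homOfLE hW).op) (e (c₁ + c₂))).symm.trans ?_
    refine (congrArg (τ.app W) (he (c₁ + c₂) W hWaff f hf)).trans ?_
    exact congrArg (fun k : O ⟶ Formal.modPow I (c₁ + 1) O => k.app W f)
      (modPowπ_completion_map I O (Nat.le_add_right c₁ c₂))
  obtain ⟨y, hy⟩ : phi (A := A) _ (e c₁) ∈ Set.range (Formal.toHHmodPow I O 0 c₁) := by
    rw [← hc₂ c₁ (c₁ + c₂) (Nat.le_add_right _ _) le_rfl]
    exact ⟨phi (A := A) _ (e (c₁ + c₂)), (phi_natural τ _).trans (congrArg _ hτe)⟩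
  obtain ⟨b, rfl⟩ := (phi (A := A) O).surjective y
  have hπb : piO I (c₁ + 1) ⊤ (show Γ(X, ⊤) from b) = e c₁ :=
    (phi (A := A) _).injective ((phi_natural (Formal.modPowπ I (c₁ + 1) O) b).symm.trans hy)
  have hloc : ∀ (W : X.Opens) (hWaff : IsAffineOpen W) (f : Γ(X, W)), Good I V (c₁ + 1) W f →
      piO I (c₁ + 1) W (res le_top (show Γ(X, ⊤) from b)) = piO I (c₁ + 1) W f := fun W hW f hf => by
    rw [← piO_res, hπb]
    exact he c₁ W hW f hf
  set b' : Γ(X, ⊤) := b
  refine ⟨b', ?_, fun x hx => ?_⟩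
  · have h0 : piO I (c₁ + 1) ⊤ (b' * b' - b') = 0 := by
      refine hom_ext_affine fun W hW hWaff => ?_
      rw [piO_res, map_zero]
      obtain ⟨f, hf⟩ := good_exists I V hVc hVc' hVsub (n := c₁ + 1) (by omega) hWaff
      have hb := hloc W hWaff f hf
      have h1 : piO I (c₁ + 1) W (f * f - f) = 0 := piO_eq_zero_of_mem I hf.1
      rw [map_sub, sub_eq_zero] at h1
      rw [map_sub, map_mul, map_sub, sub_eq_zero, piO_mul, hb, ← piO_mul, mul_comm, piO_mul, hb,
        ← piO_mul]
      exact h1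
    have h2 : phi (A := A) O (show GA (baseHom A X) O from (b' * b' - b' : Γ(X, ⊤))) ∈
        imPow I O 0 (c₁ + 1) := by
      rw [mem_imPow_succ_iff]
      refine (phi_natural _ _).trans ?_
      exact (congrArg (phi (A := A) _) h0).trans (map_zero _)
    have h3 : phi (A := A) O (show GA (baseHom A X) O from (b' * b' - b' : Γ(X, ⊤))) ∈
        I • (⊤ : Submodule A (Coh.HH X O 0)) := by
      refine Submodule.smul_mono_left ?_ (hc₁ (c₁ + 1) (by omega) h2)
      rw [Nat.add_sub_cancel_left, pow_one]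
    have key : ∀ z ∈ I • (⊤ : Submodule A (Coh.HH X O 0)),
        (show Γ(X, ⊤) from (phi (A := A) O).symm z) ∈ I.map (baseHom A X) := by
      intro z hz
      refine Submodule.smul_induction_on hz (fun a ha m _ => ?_) (fun z w hz hw => ?_)
      · rw [map_smul]
        exact Ideal.mul_mem_right _ _ (Ideal.mem_map_of_mem _ ha)
      · rw [map_add]
        exact Ideal.add_mem _ hz hw
    have := key _ h3
    rwa [LinearEquiv.symm_apply_apply] at this
  · obtain ⟨W, hW, hxW, -⟩ := Opens.isBasis_iff_nbhd.mp X.isBasis_affineOpens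
      (show x ∈ (⊤ : X.Opens) from trivial)
    replace hW : IsAffineOpen W := hW
    obtain ⟨f, hf⟩ := good_exists I V hVc hVc' hVsub (n := c₁ + 1) (by omega) hW
    rw [← hf.2 x hxW hx, ← basicOpen_res_mem le_top b' hxW]
    obtain ⟨p, rfl⟩ := hW.range_fromSpec.ge hxW
    have hd : res le_top b' - f ∈ p.asIdeal := by
      by_contra h
      refine notMem_basicOpen_of_piO_eq_zero I (n := c₁ + 1) (by omega) ?_ hxW hx
        ((fromSpec_mem_basicOpen hW p _).mpr h)
      rw [map_sub, hloc W hW f hf, sub_self]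
    refine (fromSpec_mem_basicOpen hW p _).trans (Iff.trans ?_ (fromSpec_mem_basicOpen hW p _).symm)
    exact not_congr ⟨fun h => by simpa using p.asIdeal.sub_mem h hd,
      fun h => by simpa using p.asIdeal.add_mem hd h⟩

variable [HenselianRing A I]

/-- The global indicator idempotent of `V`. -/
theorem exists_indicator : ∃ b : Γ(X, ⊤), IsIdempotentElem b ∧
    ∀ x ∈ zset I, (x ∈ X.basicOpen b ↔ x ∈ V) := by
  obtain ⟨b, hbb, hb⟩ := exists_approx I V hVc hVc' hVsub
  have : IsLocallyNoetherian X :=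
    LocallyOfFiniteType.isLocallyNoetherian (X ↘ Spec (CommRingCat.of A))
  letI alg : Algebra A Γ(X, ⊤) := RingHom.toAlgebra (baseHom A X)
  haveI := finite_HH (A := A) (isCoh_structureModule X) 0
  haveI : Module.Finite A (GA (baseHom A X) O) := Module.Finite.equiv (phi (A := A) O).symm
  haveI : Module.Finite A Γ(X, ⊤) :=
    Module.Finite.of_surjective
      ({ toFun := fun s => s, map_add' := fun _ _ => rfl, map_smul' := fun _ _ => rfl } :
        GA (baseHom A X) O →ₗ[A] Γ(X, ⊤)) fun s => ⟨s, rfl⟩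
  obtain ⟨e, he, hed⟩ := HenselLib.exists_idempotent I b hbb
  refine ⟨e, he, fun x hx => ?_⟩
  rw [← hb x hx]
  let P : Ideal Γ(X, ⊤) := (IsLocalRing.maximalIdeal _).comap (X.presheaf.germ ⊤ x trivial).hom
  have hP : ∀ s : Γ(X, ⊤), x ∈ X.basicOpen s ↔ s ∉ P := fun s => by
    rw [Scheme.mem_basicOpen X s x trivial, Ideal.mem_comap, IsLocalRing.mem_maximalIdeal,
      mem_nonunits_iff, not_not]
  have hIP : I.map (baseHom A X) ≤ P :=
    Ideal.map_le_iff_le_comap.mpr fun a ha => not_not.mp fun h => hx a ha ((hP _).mpr h)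
  rw [hP, hP]
  exact not_congr ⟨fun h => by simpa using P.sub_mem h (hIP hed),
    fun h => by simpa using P.add_mem (hIP hed) h⟩

omit hVc hVc' hVsub

/-- Closed nonempty subsets meet the special fibre. -/
theorem closed_meets {C : Set X} (hC : IsClosed C) (hne : C.Nonempty) : (C ∩ zset I).Nonempty := by
  let f := X ↘ Spec (CommRingCat.of A)
  obtain ⟨x, hxC⟩ := hne
  obtain ⟨m, hm, hle⟩ := Ideal.exists_le_maximal (f x).asIdeal (f x).isPrime.ne_top
  have hcl : IsClosed (f '' C) := f.isClosedMap C hC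
  have hs : f x ⤳ (⟨m, hm.isPrime⟩ : PrimeSpectrum A) :=
    (PrimeSpectrum.le_iff_specializes _ _).mp hle
  obtain ⟨y, hyC, hy⟩ := hs.mem_closed hcl ⟨x, hxC, rfl⟩
  refine ⟨y, hyC, fun a ha hya => ?_⟩
  have hIm : I ≤ m := (HenselianRing.jac (I := I)).trans (sInf_le ⟨bot_le, hm⟩)
  have h1 : y ∈ f ⁻¹ᵁ ((Spec (CommRingCat.of A)).basicOpen
      ((Scheme.ΓSpecIso (CommRingCat.of A)).inv a)) := by
    rw [Scheme.preimage_basicOpen_top]
    exact hya
  rw [basicOpen_eq_of_affine] at h1
  have h2 : f y ∈ PrimeSpectrum.basicOpen a := h1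
  rw [hy] at h2
  exact h2 (hIm ha)

theorem isClosed_zset : IsClosed (zset I : Set X) := by
  have : (zset I : Set X) = ⋂ a ∈ I, ((X.basicOpen (show Γ(X, ⊤) from baseHom A X a) : Set X))ᶜ := by
    ext x; simp [zset]
  rw [this]
  exact isClosed_biInter fun a _ => (X.basicOpen _).isOpen.isClosed_compl

/-- Open-closed subsets of the special fibre lift uniquely. -/
theorem lifts_zset : ClopenLift.Lifts (zset I : Set X) := by
  intro W hW
  have hV1 : IsClosed (Subtype.val '' W : Set X) :=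
    (isClosed_zset I).isClosedEmbedding_subtypeVal.isClosedMap _ hW.1
  have hV2 : IsClosed (zset I \ Subtype.val '' W : Set X) := by
    have : zset I \ Subtype.val '' W = (Subtype.val '' Wᶜ : Set X) := by
      ext x
      constructor
      · rintro ⟨hx, hxW⟩
        exact ⟨⟨x, hx⟩, fun h => hxW ⟨_, h, rfl⟩, rfl⟩
      · rintro ⟨⟨x, hx⟩, h, rfl⟩
        exact ⟨hx, fun ⟨y, hy, hyx⟩ => h (Subtype.ext hyx ▸ hy)⟩
    rw [this]
    exact (isClosed_zset I).isClosedEmbedding_subtypeVal.isClosedMap _ hW.compl.1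
  obtain ⟨e, he, heV⟩ := exists_indicator I _ hV1 hV2 (by rintro _ ⟨w, -, rfl⟩; exact w.2)
  have hec : IsClopen (X.basicOpen e : Set X) := by
    refine ⟨?_, (X.basicOpen e).isOpen⟩
    have : (X.basicOpen e : Set X) = ((X.basicOpen (1 - e) : Set X))ᶜ := by
      ext x
      rw [Set.mem_compl_iff, SetLike.mem_coe, SetLike.mem_coe, Scheme.mem_basicOpen (U := ⊤) X e x trivial,
        Scheme.mem_basicOpen (U := ⊤) X (1 - e) x trivial, map_sub, map_one]
      set a := X.presheaf.germ ⊤ x trivial e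
      have ha : a * a = a := by rw [← map_mul, he.eq]
      constructor
      · intro h1 h2
        exact not_isUnit_zero ((show a * (1 - a) = 0 by rw [mul_sub, mul_one, ha, sub_self]) ▸ h1.mul h2)
      · intro h
        exact (IsLocalRing.isUnit_or_isUnit_one_sub_self a).resolve_right h
    rw [this]
    exact (X.basicOpen (1 - e)).isOpen.isClosed_compl
  refine ⟨X.basicOpen e, ⟨hec, ?_⟩, fun U hU => ?_⟩
  · ext ⟨x, hx⟩
    refine (heV x hx).trans ⟨?_, fun h => ⟨_, h, rfl⟩⟩
    rintro ⟨y, hy, hyx⟩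
    exact (show y = ⟨_, _⟩ from Subtype.ext hyx) ▸ hy
  · have hUe : ∀ z ∈ zset I, (z ∈ U ↔ z ∈ X.basicOpen e) := fun z hz =>
      (Set.ext_iff.mp hU.2 ⟨z, hz⟩).trans
        ⟨fun h => (heV z hz).mpr ⟨_, h, rfl⟩, fun h => by
          obtain ⟨y, hy, hyx⟩ := (heV z hz).mp h
          exact (show y = ⟨_, _⟩ from Subtype.ext hyx) ▸ hy⟩
    by_contra hne
    obtain ⟨z, hz, hz'⟩ := closed_meets I
      (C := (U \ X.basicOpen e) ∪ ((X.basicOpen e : Set X) \ U))
      ((hU.1.diff hec).1.union (hec.diff hU.1).1) (by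
        by_contra h0
        rw [Set.not_nonempty_iff_eq_empty, Set.union_empty_iff] at h0
        exact hne (Set.Subset.antisymm (Set.sdiff_eq_empty.mp h0.1) (Set.sdiff_eq_empty.mp h0.2)))
    rcases hz with ⟨h1, h2⟩ | ⟨h1, h2⟩
    · exact h2 ((hUe z hz').mp h1)
    · exact h2 ((hUe z hz').mpr h1)

omit [X.Over (Spec (CommRingCat.of A))] [IsProper (X ↘ Spec (CommRingCat.of A))]

/-- Open-closed subsets of the closed fibre of a proper scheme over a Noetherian henselian pair
lift uniquely. -/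
theorem lifts_preimage_zeroLocus (f : X ⟶ Spec (CommRingCat.of A)) [IsProper f] :
    ClopenLift.Lifts (f ⁻¹' PrimeSpectrum.zeroLocus (I : Set A) : Set X) := by
  letI : X.Over (Spec (CommRingCat.of A)) := ⟨f⟩
  haveI : IsProper (X ↘ Spec (CommRingCat.of A)) := ‹IsProper f›
  convert lifts_zset (X := X) I using 1
  ext x
  refine forall₂_congr fun a ha => ?_
  have : (X.basicOpen (show Γ(X, ⊤) from baseHom A X a)) = f ⁻¹ᵁ ((Spec (CommRingCat.of A)).basicOpen
      ((Scheme.ΓSpecIso (CommRingCat.of A)).inv a)) := (Scheme.preimage_basicOpen_top _ _).symm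
  rw [this, basicOpen_eq_of_affine]
  exact not_not.symm

end Groth.Agent.HenselLib.FormalClopen
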