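import Mathlib.FieldTheory.IsAlgClosed.Basic
import Mathlib.LinearAlgebra.FiniteDimensional.Lemmas
import Mathlib.LinearAlgebra.TensorProduct.RightExactness
import Mathlib.RingTheory.TensorProduct.Basic
import Mathlib.RingTheory.Flat.Basic
import Mathlib.Algebra.CharP.Algebra

/-!
# Frobenius-semilinear endomorphisms of finite-dimensional spaces over algebraically closed fields
-/

set_option autoImplicit false
universe u

open Polynomial TensorProduct

namespace Groth.Agent.HenselLib.Frob

variable {k : Type u} [Field k] (p : ℕ)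

/-- Auxiliary polynomials. -/
noncomputable def xP (a : ℕ → k) : ℕ → k[X]
  | 0 => C (a 0) * X ^ p
  | i + 1 => xP a i ^ p + C (a (i + 1)) * X ^ p

theorem X_pow_dvd_xP [hp : Fact p.Prime] (a : ℕ → k) : ∀ i, X ^ p ∣ xP p a i
  | 0 => dvd_mul_left _ _
  | i + 1 => dvd_add ((X_pow_dvd_xP a i).trans (dvd_pow_self _ hp.out.ne_zero)) (dvd_mul_left _ _)

theorem xP_ne_zero [hp : Fact p.Prime] (a : ℕ → k) : ∀ i, (∃ j ≤ i, a j ≠ 0) → xP p a i ≠ 0
  | 0, ⟨j, hj, h⟩ => by
    obtain rfl : j = 0 := by omega
    exact mul_ne_zero (C_ne_zero.mpr h) (pow_ne_zero _ X_ne_zero)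
  | i + 1, ⟨j, hj, h⟩ => by
    by_cases h1 : a (i + 1) = 0
    · have : j ≤ i := by
        rcases Nat.lt_or_ge i j with h2 | h2
        · obtain rfl : j = i + 1 := by omega
          exact absurd h1 h
        · exact h2
      simpa [xP, h1] using pow_ne_zero p (xP_ne_zero a i ⟨j, this, h⟩)
    · intro h0
      have h2 : (xP p a (i + 1)).coeff p = a (i + 1) := by
        obtain ⟨S, hS⟩ := pow_dvd_pow_of_dvd (X_pow_dvd_xP p a i) p
        rw [← pow_mul] at hS
        have hlt : ¬ p * p ≤ p := by nlinarith [hp.out.two_le]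
        simp [xP, hS, coeff_X_pow_mul', hlt]
      rw [h0, coeff_zero] at h2
      exact h1 h2.symm

variable {V : Type u} [AddCommGroup V] [Module k V] [FiniteDimensional k V]

theorem exists_eigenvector [hp : Fact p.Prime] [IsAlgClosed k] [Nontrivial V] (F : V →+ V)
    (hF : ∀ (c : k) (v : V), F (c • v) = c ^ p • F v) :
    ∃ (w : V) (c : k), w ≠ 0 ∧ F w = c • w := by
  classical
  obtain ⟨v, hv⟩ := exists_ne (0 : V)
  let e : ℕ → V := fun i => F^[i] v
  have hex : ∃ n, ¬ LinearIndependent k (fun i : Fin (n + 1) => e i) := by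
    refine ⟨Module.finrank k V, fun h => ?_⟩
    have := h.fintype_card_le_finrank
    simp at this
  let n := Nat.find hex
  have hdep : ¬ LinearIndependent k (fun i : Fin (n + 1) => e i) := Nat.find_spec hex
  have hn0 : n ≠ 0 := by
    intro h
    apply hdep
    rw [h]
    rw [Fintype.linearIndependent_iff]
    intro g hg i
    fin_cases i
    simpa [hv, e] using hg
  obtain ⟨m, hm⟩ := Nat.exists_eq_succ_of_ne_zero hn0
  have hind : LinearIndependent k (fun i : Fin (m + 1) => e i) := by
    by_contra h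
    exact Nat.find_min hex (show m < n by omega) h
  rw [hm] at hdep
  have hspan : e (m + 1) ∈ Submodule.span k (Set.range (fun i : Fin (m + 1) => e i)) := by
    by_contra h
    apply hdep
    rw [linearIndependent_fin_succ']
    exact ⟨hind, h⟩
  obtain ⟨b, hb⟩ := (Submodule.mem_span_range_iff_exists_fun k).mp hspan
  let a : ℕ → k := fun i => if h : i < m + 1 then b ⟨i, h⟩ else 0
  have ha : e (m + 1) = ∑ i ∈ Finset.range (m + 1), a i • e i := by
    rw [← hb, Finset.sum_range]
    exact Finset.sum_congr rfl fun i _ => by simp only [a]; rw [dif_pos i.2]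
  have hFe : ∀ i, F (e i) = e (i + 1) := fun i => (Function.iterate_succ_apply' F i v).symm
  have hne : ∀ i : Fin (m + 1), e i ≠ 0 := fun i => hind.ne_zero i
  by_cases h0 : ∀ j ≤ m, a j = 0
  · refine ⟨e m, 0, hne ⟨m, by omega⟩, ?_⟩
    rw [hFe, ha, zero_smul]
    exact Finset.sum_eq_zero fun i hi => by rw [h0 i (by simp at hi; omega), zero_smul]
  push Not at h0
  obtain ⟨S, hS⟩ := X_pow_dvd_xP p a m
  have hS0 : S ≠ 0 := fun h => xP_ne_zero p a m h0 (by rw [hS, h, mul_zero])
  have hp1 : p - 1 ≠ 0 := by have := hp.out.two_le; omega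
  have hdeg : (X ^ (p - 1) * S - 1 : k[X]).degree ≠ 0 := by
    intro h
    have h1 := natDegree_eq_of_degree_eq_some (n := 0) h
    have h2 : (X ^ (p - 1) * S - 1 : k[X]).natDegree = (X ^ (p - 1) * S).natDegree := by
      rw [← C_1, natDegree_sub_C]
    rw [h2, natDegree_mul (pow_ne_zero _ X_ne_zero) hS0, natDegree_X_pow] at h1
    omega
  obtain ⟨t, ht⟩ := IsAlgClosed.exists_root _ hdeg
  simp only [IsRoot, eval_sub, eval_mul, eval_pow, eval_X, eval_one, sub_eq_zero] at ht
  have ht0 : t ≠ 0 := by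
    rintro rfl
    rw [zero_pow hp1, zero_mul] at ht
    exact zero_ne_one ht
  let x : ℕ → k := fun i => (xP p a i).eval t
  have hxm : x m = t := by
    simp only [x, hS, eval_mul, eval_pow, eval_X]
    calc t ^ p * S.eval t = t * (t ^ (p - 1) * S.eval t) := by
          rw [← mul_assoc, ← pow_succ', Nat.sub_add_cancel hp.out.one_le]
      _ = t := by rw [ht, mul_one]
  refine ⟨∑ i ∈ Finset.range (m + 1), x i • e i, 1, ?_, ?_⟩
  · intro h
    rw [Finset.sum_range] at h
    have := Fintype.linearIndependent_iff.mp hind (fun i : Fin (m + 1) => x i) h ⟨m, by omega⟩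
    exact ht0 (hxm ▸ this)
  · rw [one_smul, map_sum]
    simp only [hF, hFe]
    rw [Finset.sum_range_succ, hxm, ha, Finset.smul_sum, Finset.sum_range_succ' (fun i => t ^ p • a i • e i),
      Finset.sum_range_succ' (fun i => x i • e i), ← add_assoc, ← Finset.sum_add_distrib]
    refine congrArg₂ (· + ·) (Finset.sum_congr rfl fun i _ => ?_) ?_
    · rw [smul_smul, ← add_smul]
      congr 1
      simp only [x, xP, eval_add, eval_pow, eval_mul, eval_C, eval_X]
      ring
    · rw [smul_smul]
      congr 1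
      simp only [x, xP, eval_add, eval_pow, eval_mul, eval_C, eval_X]
      ring

theorem exists_line [hp : Fact p.Prime] [IsAlgClosed k] (c d : k) : ∃ x : k, c * x ^ p - x = d := by
  have hdeg : (C c * X ^ p - X - C d : k[X]).degree ≠ 0 := by
    intro h
    have h1 : (C c * X ^ p - X - C d : k[X]).coeff 1 = 0 :=
      coeff_eq_zero_of_degree_lt (by rw [h]; norm_num)
    simp [hp.out.ne_one.symm, coeff_C] at h1
  obtain ⟨x, hx⟩ := IsAlgClosed.exists_root _ hdeg
  exact ⟨x, by simpa [IsRoot, sub_eq_zero] using hx⟩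

theorem linePoly_ne_zero [hp : Fact p.Prime] (c : k) : (C c * X ^ p - X : k[X]) ≠ 0 := by
  intro h
  have := congrArg (fun q => q.coeff 1) h
  simp [hp.out.ne_one.symm] at this

theorem line_finite [hp : Fact p.Prime] (c : k) :
    {x : k | c * x ^ p = x}.Finite ∧ Nat.card {x : k | c * x ^ p = x} ≤ p := by
  classical
  have hsub : {x : k | c * x ^ p = x} ⊆ ↑((C c * X ^ p - X : k[X]).roots.toFinset) := by
    intro x hx
    simp [linePoly_ne_zero p c, sub_eq_zero]
    exact hx
  refine ⟨(Finset.finite_toSet _).subset hsub, ?_⟩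
  refine (Nat.card_mono (Finset.finite_toSet _) hsub).trans ?_
  rw [Nat.card_coe_set_eq, Set.ncard_coe_finset]
  refine (Multiset.toFinset_card_le _).trans ((card_roots' _).trans ?_)
  refine (natDegree_sub_le _ _).trans (max_le ?_ (by simpa using hp.out.one_le))
  exact natDegree_C_mul_X_pow_le _ _

/-- The semilinear endomorphism induced on the quotient by a stable line. -/
theorem exists_quot [hp : Fact p.Prime] (F : V →+ V)
    (hF : ∀ (c : k) (v : V), F (c • v) = c ^ p • F v) {w : V} {c : k} (hw : F w = c • w) :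
    ∃ G : (V ⧸ k ∙ w) →+ (V ⧸ k ∙ w), (∀ (c : k) (q : V ⧸ k ∙ w), G (c • q) = c ^ p • G q) ∧
      ∀ v, G (Submodule.Quotient.mk v) = Submodule.Quotient.mk (F v) := by
  refine ⟨QuotientAddGroup.map _ _ F ?_, ?_, fun v => rfl⟩
  · intro v hv
    obtain ⟨r, rfl⟩ := Submodule.mem_span_singleton.mp hv
    show F (r • w) ∈ k ∙ w
    rw [hF, hw, smul_smul]
    exact Submodule.smul_mem _ _ (Submodule.mem_span_singleton_self w)
  · intro r q
    induction q using Submodule.Quotient.induction_on with
    | _ v => exact congrArg Submodule.Quotient.mk (hF r v)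

theorem finrank_quot_lt {w : V} (hw : w ≠ 0) : Module.finrank k (V ⧸ k ∙ w) + 1 = Module.finrank k V := by
  rw [← Submodule.finrank_quotient_add_finrank (k ∙ w), finrank_span_singleton hw]

theorem surjective_sub [hp : Fact p.Prime] [IsAlgClosed k] (F : V →+ V)
    (hF : ∀ (c : k) (v : V), F (c • v) = c ^ p • F v) : Function.Surjective fun v => F v - v := by
  induction hn : Module.finrank k V using Nat.strong_induction_on generalizing V with
  | _ n ih =>
  intro b
  rcases subsingleton_or_nontrivial V with h | h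
  · exact ⟨b, Subsingleton.elim _ _⟩
  obtain ⟨w, c, hw0, hw⟩ := exists_eigenvector p F hF
  obtain ⟨G, hG, hmk⟩ := exists_quot p F hF hw
  obtain ⟨q, hq⟩ := ih _ (by have := finrank_quot_lt (k := k) hw0; omega) G hG rfl (Submodule.Quotient.mk b)
  induction q using Submodule.Quotient.induction_on with
  | _ v =>
  simp only [hmk, ← Submodule.Quotient.mk_sub] at hq
  obtain ⟨d, hd⟩ := Submodule.mem_span_singleton.mp ((Submodule.Quotient.eq _).mp hq)
  obtain ⟨x, hx⟩ := exists_line p c (-d)
  refine ⟨v + x • w, ?_⟩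
  show F (v + x • w) - (v + x • w) = b
  rw [map_add, hF, hw, smul_smul]
  have : (x ^ p * c) • w = (x + -d) • w := by rw [← hx]; congr 1; ring
  rw [this, add_smul, neg_smul, hd]
  abel

theorem fixed_finite [hp : Fact p.Prime] [IsAlgClosed k] (F : V →+ V)
    (hF : ∀ (c : k) (v : V), F (c • v) = c ^ p • F v) :
    Set.Finite {v : V | F v = v} ∧ Nat.card {v : V | F v = v} ≤ p ^ Module.finrank k V := by
  induction hn : Module.finrank k V using Nat.strong_induction_on generalizing V with
  | _ n ih =>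
  rcases subsingleton_or_nontrivial V with h | h
  · refine ⟨Set.toFinite _, ?_⟩
    exact (Finite.card_le_one_iff_subsingleton.mpr inferInstance).trans (Nat.one_le_pow _ _ hp.out.pos)
  obtain ⟨w, c, hw0, hw⟩ := exists_eigenvector p F hF
  obtain ⟨G, hG, hmk⟩ := exists_quot p F hF hw
  obtain ⟨hfin, hcard⟩ := ih _ (by have := finrank_quot_lt (k := k) hw0; omega) G hG rfl
  obtain ⟨hlfin, hlcard⟩ := line_finite (k := k) p c
  haveI : Finite {q // G q = q} := hfin.to_subtype
  haveI := hlfin.to_subtype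
  classical
  let sec : (V ⧸ k ∙ w) → V := fun q =>
    if hq : ∃ v, F v = v ∧ Submodule.Quotient.mk v = q then hq.choose else 0
  have key : {v : V | F v = v} ⊆ Set.range (fun z : {q // G q = q} × {x : k | c * x ^ p = x} =>
      sec z.1.1 + z.2.1 • w) := by
    intro v hv
    have hq : ∃ u, F u = u ∧ (Submodule.Quotient.mk u : V ⧸ k ∙ w) = Submodule.Quotient.mk v := ⟨v, hv, rfl⟩
    have hfix : G (Submodule.Quotient.mk v) = Submodule.Quotient.mk v := by rw [hmk, hv]
    obtain ⟨hu, hu'⟩ := hq.choose_spec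
    obtain ⟨x, hx⟩ := Submodule.mem_span_singleton.mp ((Submodule.Quotient.eq _).mp hu'.symm)
    refine ⟨(⟨_, hfix⟩, ⟨x, ?_⟩), ?_⟩
    · apply smul_left_injective k hw0
      have : F (v - hq.choose) = v - hq.choose := by rw [map_sub, hv, hu]
      rw [← hx, hF, hw, smul_smul] at this
      simpa [mul_comm] using this
    · simp only [sec, dif_pos hq]
      rw [hx]
      abel
  refine ⟨(Set.finite_range _).subset key, ?_⟩
  refine (Nat.card_mono (Set.finite_range _) key).trans ((Finite.card_range_le _).trans ?_)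
  rw [Nat.card_prod]
  refine (Nat.mul_le_mul hcard hlcard).trans (le_of_eq ?_)
  rw [← pow_succ, finrank_quot_lt hw0, hn]

theorem fixed_baseChange [hp : Fact p.Prime] [IsAlgClosed k] {k' : Type u} [Field k'] [Algebra k k']
    [CharP k p] (F : V →+ V) (hF : ∀ (c : k) (v : V), F (c • v) = c ^ p • F v)
    (F' : k' ⊗[k] V →+ k' ⊗[k] V) (hF' : ∀ (c : k') (v : V), F' (c ⊗ₜ[k] v) = (c ^ p) ⊗ₜ[k] F v)
    (z : k' ⊗[k] V) (hz : F' z = z) : ∃ v : V, F v = v ∧ (1 : k') ⊗ₜ[k] v = z := by
  induction hn : Module.finrank k V using Nat.strong_induction_on generalizing V with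
  | _ n ih =>
  rcases subsingleton_or_nontrivial V with h | h
  · exact ⟨0, map_zero F, Subsingleton.elim _ _⟩
  obtain ⟨w, c, hw0, hw⟩ := exists_eigenvector p F hF
  obtain ⟨G, hG, hmk⟩ := exists_quot p F hF hw
  let π : V →ₗ[k] V ⧸ k ∙ w := (k ∙ w).mkQ
  haveI : CharP k' p := charP_of_injective_algebraMap (algebraMap k k').injective p
  let G' : k' ⊗[k] (V ⧸ k ∙ w) →+ k' ⊗[k] (V ⧸ k ∙ w) :=
    TensorProduct.liftAddHom
      { toFun := fun a =>
          { toFun := fun q => (a ^ p) ⊗ₜ[k] G q
            map_zero' := by simp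
            map_add' := fun x y => by simp [tmul_add] }
        map_zero' := by ext q; simp [zero_pow hp.out.ne_zero]
        map_add' := fun a b => by ext q; simp [add_pow_char, add_tmul] }
      (fun r a q => by
        simp only [AddMonoidHom.coe_mk, ZeroHom.coe_mk, hG, tmul_smul, smul_tmul', smul_pow])
  have hG' : ∀ (a : k') (q : V ⧸ k ∙ w), G' (a ⊗ₜ[k] q) = (a ^ p) ⊗ₜ[k] G q := fun _ _ => rfl
  have hcomp : ∀ y, G' (π.lTensor k' y) = π.lTensor k' (F' y) := by
    intro y
    induction y using TensorProduct.induction_on with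
    | zero => simp
    | tmul a v => simp [hG', hF', π, hmk]
    | add a b ha hb => simp only [map_add, ha, hb]
  obtain ⟨q, hq, hqz⟩ := ih _ (by have := finrank_quot_lt (k := k) hw0; omega) G hG G' hG'
    (π.lTensor k' z) (by rw [hcomp, hz]) rfl
  induction q using Submodule.Quotient.induction_on with
  | _ v =>
  rw [hmk] at hq
  obtain ⟨d, hd⟩ := Submodule.mem_span_singleton.mp ((Submodule.Quotient.eq _).mp hq)
  obtain ⟨x, hx⟩ := exists_line p c (-d)
  have hv : F (v + x • w) = v + x • w := by
    rw [map_add, hF, hw, smul_smul]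
    have : (x ^ p * c) • w = (x + -d) • w := by rw [← hx]; congr 1; ring
    rw [this, add_smul, neg_smul, hd]
    abel
  have hker : z - (1 : k') ⊗ₜ[k] (v + x • w) ∈ LinearMap.ker (π.lTensor k') := by
    have hw' : π w = 0 := (Submodule.Quotient.mk_eq_zero _).mpr (Submodule.mem_span_singleton_self w)
    rw [LinearMap.mem_ker, map_sub, ← hqz, LinearMap.lTensor_tmul, map_add, map_smul, hw', smul_zero,
      add_zero]
    exact sub_self _
  obtain ⟨y, hy⟩ : ∃ y : k', y ⊗ₜ[k] w = z - (1 : k') ⊗ₜ[k] (v + x • w) := by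
    obtain ⟨t, ht⟩ := ((lTensor_exact k' (LinearMap.exact_subtype_mkQ (k ∙ w)) (Submodule.mkQ_surjective _)) _).mp hker
    rw [← ht]
    clear ht
    induction t using TensorProduct.induction_on with
    | zero => exact ⟨0, by simp⟩
    | tmul a u =>
        obtain ⟨r, hr⟩ := Submodule.mem_span_singleton.mp u.2
        exact ⟨r • a, by rw [LinearMap.lTensor_tmul, Submodule.subtype_apply, ← hr, smul_tmul]⟩
    | add a b ha hb =>
        obtain ⟨s, hs⟩ := ha
        obtain ⟨t, ht⟩ := hb
        exact ⟨s + t, by rw [map_add, add_tmul, hs, ht]⟩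
  have hyfix : algebraMap k k' c * y ^ p = y := by
    have h1 : F' (y ⊗ₜ[k] w) = y ⊗ₜ[k] w := by
      rw [hy, map_sub, hz, hF', one_pow, hv]
    rw [hF', hw, ← smul_tmul, ← sub_eq_zero, ← sub_tmul] at h1
    have hinj : Function.Injective ((LinearMap.toSpanSingleton k V w).lTensor k') :=
      Module.Flat.lTensor_preserves_injective_linearMap _ (smul_left_injective k hw0)
    have h2 : ((c • y ^ p - y) ⊗ₜ[k] (1 : k) : k' ⊗[k] k) = 0 :=
      hinj (by rw [LinearMap.lTensor_tmul, map_zero, LinearMap.toSpanSingleton_apply, one_smul, h1])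
    have h3 := congrArg (TensorProduct.rid k k') h2
    rw [TensorProduct.rid_tmul, one_smul, map_zero, sub_eq_zero] at h3
    rwa [Algebra.smul_def] at h3
  obtain ⟨r, hr⟩ : ∃ r : k, algebraMap k k' r = y := by
    have hint : IsIntegral k y := IsAlgebraic.isIntegral
      ⟨C c * X ^ p - X, linePoly_ne_zero p c, by simp [hyfix]⟩
    haveI := IntermediateField.isAlgebraic_adjoin_simple hint
    obtain ⟨r, hr⟩ := (IsAlgClosed.algebraMap_bijective_of_isIntegral
      (k := k) (K := IntermediateField.adjoin k {y})).2 ⟨y, IntermediateField.mem_adjoin_simple_self k y⟩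
    exact ⟨r, congrArg Subtype.val hr⟩
  refine ⟨v + x • w + r • w, ?_, ?_⟩
  · have h1 : c * r ^ p = r := (algebraMap k k').injective (by rw [map_mul, map_pow, hr, hyfix])
    rw [map_add, hv, hF, hw, smul_smul, mul_comm, h1]
  · rw [tmul_add, tmul_smul, smul_tmul', Algebra.smul_def, mul_one, hr, hy]
    abel

end Groth.Agent.HenselLib.Frob
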