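import Mathlib.RingTheory.ZariskisMainTheorem
import Mathlib.RingTheory.Etale.Basic
import Mathlib.RingTheory.Spectrum.Prime.Topology

/-!
# Shrinking to principal neighbourhoods of a closed subset
-/

set_option autoImplicit false
set_option linter.all false

universe u

open PrimeSpectrum

namespace Groth.Agent.HenselLib.ZeroLocusShrink

variable {R : Type u} [CommRing R]

/-- Inverting an element congruent to one does not change the quotient. -/
theorem bijective_quotientMap_away (J : Ideal R) (g : R) (hg : g - 1 ∈ J) :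
    Function.Bijective (Ideal.quotientMap (J.map (algebraMap R (Localization.Away g)))
      (algebraMap R (Localization.Away g)) Ideal.le_comap_map) := by
  have hgn : ∀ n : ℕ, Ideal.Quotient.mk J (g ^ n) = 1 := fun n => by
    rw [map_pow, show Ideal.Quotient.mk J g = 1 from
      ((Ideal.Quotient.mk_eq_mk_iff_sub_mem g 1).mpr hg).trans (map_one _), one_pow]
  constructor
  · refine (injective_iff_map_eq_zero _).mpr fun x hx => ?_
    obtain ⟨x, rfl⟩ := Ideal.Quotient.mk_surjective x
    rw [Ideal.quotientMap_mk, Ideal.Quotient.eq_zero_iff_mem,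
      IsLocalization.algebraMap_mem_map_algebraMap_iff (Submonoid.powers g)] at hx
    obtain ⟨s, ⟨n, rfl⟩, hsx⟩ := hx
    have h := Ideal.Quotient.eq_zero_iff_mem.mpr hsx
    rwa [map_mul, hgn, one_mul] at h
  · intro y
    obtain ⟨y, rfl⟩ := Ideal.Quotient.mk_surjective y
    obtain ⟨x, ⟨s, n, rfl⟩, rfl⟩ := IsLocalization.exists_mk'_eq (Submonoid.powers g) y
    refine ⟨Ideal.Quotient.mk J x, ?_⟩
    rw [Ideal.quotientMap_mk, Ideal.Quotient.mk_eq_mk_iff_sub_mem]
    have h : x * g ^ n - x ∈ J := by
      rw [← Ideal.Quotient.eq_zero_iff_mem, map_sub, map_mul, hgn, mul_one, sub_self]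
    have hu := IsLocalization.map_units (Localization.Away g) (⟨g ^ n, n, rfl⟩ : Submonoid.powers g)
    rw [← Ideal.mul_unit_mem_iff_mem _ hu, sub_mul, IsLocalization.mk'_spec, ← map_mul, ← map_sub]
    exact Ideal.mem_map_of_mem _ h

/-- An open set containing `V(J)` contains a basic open `D(g)` with `g ≡ 1` modulo `J`. -/
theorem exists_away (J : Ideal R) {U : Set (PrimeSpectrum R)} (hU : IsOpen U)
    (h : zeroLocus (J : Set R) ⊆ U) :
    ∃ g : R, g - 1 ∈ J ∧ (basicOpen g : Set (PrimeSpectrum R)) ⊆ U := by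
  obtain ⟨K, hK⟩ := (isClosed_iff_zeroLocus_ideal _).mp hU.isClosed_compl
  have htop : J ⊔ K = ⊤ := by
    rw [← zeroLocus_empty_iff_eq_top, zeroLocus_sup, ← hK, Set.eq_empty_iff_forall_notMem]
    exact fun x hx => hx.2 (h hx.1)
  obtain ⟨j, hj, k, hk, hjk⟩ := Submodule.mem_sup.mp ((Ideal.eq_top_iff_one _).mp htop)
  refine ⟨k, ?_, fun x hx => ?_⟩
  · rw [show k - 1 = -j by rw [← hjk]; ring]
    exact neg_mem hj
  · by_contra hxU
    have hxK : x ∈ zeroLocus (K : Set R) := hK ▸ hxU
    exact hx (hxK hk)

variable (A : Type u) [CommRing A] [Algebra A R] [Algebra.FiniteType A R]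

theorem exists_quasiFinite_away (q : Ideal R) [q.IsPrime] [Algebra.QuasiFiniteAt A q] :
    ∃ r ∉ q, Algebra.QuasiFinite A (Localization.Away r) := by
  obtain ⟨S', hS', r, hrp, H⟩ :=
    Algebra.QuasiFiniteAt.exists_fg_and_exists_notMem_and_awayMap_bijective (R := A) q
  have : Module.Finite A S' := ⟨(Submodule.fg_top _).mpr hS'⟩
  have : Algebra.QuasiFinite A (Localization.Away r) := .trans _ S' _
  exact ⟨r.1, hrp, .of_surjective_algHom (Localization.awayMapₐ S'.val r) H.2⟩

/-- The quasi-finite locus is open and quasi-finiteness is local. -/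
theorem isOpen_quasiFiniteAt :
    IsOpen {x : PrimeSpectrum R | Algebra.QuasiFiniteAt A x.asIdeal} := by
  refine isOpen_iff_forall_mem_open.mpr fun x hx => ?_
  have : Algebra.QuasiFiniteAt A x.asIdeal := hx
  obtain ⟨r, hr, hqf⟩ := exists_quasiFinite_away A x.asIdeal
  refine ⟨basicOpen r, fun y hy => ?_, (basicOpen r).2, hr⟩
  have hy' : r ∈ y.asIdeal.primeCompl := hy
  let φ : Localization.Away r →ₐ[R] Localization.AtPrime y.asIdeal :=
    IsLocalization.Away.liftAlgHom r (f := Algebra.ofId _ _)
      (IsLocalization.map_units (M := y.asIdeal.primeCompl) _ ⟨r, hy'⟩)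
  refine Algebra.QuasiFinite.of_forall_exists_mul_mem_range (φ.restrictScalars A) fun z => ?_
  obtain ⟨z, ⟨s, hs⟩, rfl⟩ := IsLocalization.exists_mk'_eq y.asIdeal.primeCompl z
  exact ⟨algebraMap _ _ s, by simpa using IsLocalization.map_units _ ⟨s, hs⟩,
    algebraMap _ _ z, by simp⟩

theorem quasiFinite_away (g : R)
    (h : ∀ x ∈ basicOpen g, Algebra.QuasiFiniteAt A x.asIdeal) :
    Algebra.QuasiFinite A (Localization.Away g) := by
  classical
  have hc : IsCompact (basicOpen g : Set (PrimeSpectrum R)) := isCompact_basicOpen g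
  have hr : ∀ x : (basicOpen g : Set (PrimeSpectrum R)), ∃ r, r ∉ x.1.asIdeal ∧
      Algebra.QuasiFinite A (Localization.Away r) := fun x => by
    have := h x.1 x.2
    exact exists_quasiFinite_away A x.1.asIdeal
  choose r hr hqf using hr
  obtain ⟨t, ht⟩ := hc.elim_finite_subcover (fun x => (basicOpen (r x) : Set (PrimeSpectrum R)))
    (fun x => (basicOpen (r x)).2) fun x hx => Set.mem_iUnion.mpr ⟨⟨x, hx⟩, hr ⟨x, hx⟩⟩
  have : Algebra.FiniteType A (Localization.Away g) :=
    Algebra.FiniteType.trans (inferInstance : Algebra.FiniteType A R) inferInstance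
  rw [Algebra.QuasiFinite.iff_finite_comap_preimage_singleton]
  intro p
  have hfin : (⋃ x ∈ t, comap (algebraMap R (Localization.Away (r x))) ''
      (comap (algebraMap A (Localization.Away (r x))) ⁻¹' {p})).Finite :=
    t.finite_toSet.biUnion fun x _ => by
      have := hqf x
      exact ((Algebra.QuasiFinite.iff_finite_comap_preimage_singleton.mp this) p).image _
  refine (hfin.preimage (localization_comap_injective (Localization.Away g)
    (Submonoid.powers g)).injOn).subset fun y hy => ?_
  have hy' : comap (algebraMap R (Localization.Away g)) y ∈ (basicOpen g : Set (PrimeSpectrum R)) := by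
    rw [← localization_away_comap_range (Localization.Away g) g]
    exact ⟨y, rfl⟩
  obtain ⟨x, hx, hyx⟩ := Set.mem_iUnion₂.mp (ht hy')
  rw [← localization_away_comap_range (Localization.Away (r x)) (r x)] at hyx
  obtain ⟨w, hw⟩ := hyx
  refine Set.mem_iUnion₂.mpr ⟨x, hx, w, ?_, hw⟩
  show comap (algebraMap A (Localization.Away (r x))) w = p
  rw [IsScalarTower.algebraMap_eq A R (Localization.Away (r x)), comap_comp_apply, hw,
    ← comap_comp_apply, ← IsScalarTower.algebraMap_eq]
  exact hy

end Groth.Agent.HenselLib.ZeroLocusShrink
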