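import Groth.Agent.HenselLib.PairNbhd
import Groth.Agent.HenselLib.HullFlat
import Groth.Agent.HenselLib.QFPart
import Groth.Agent.HenselLib.ZeroLocusShrink
import Mathlib.RingTheory.FinitePresentation

/-!
# Henselian finitely presented algebras: basic tools
-/

set_option autoImplicit false
set_option linter.all false

universe u

open scoped TensorProduct

namespace Groth.Agent.HenselLib.Hfp

variable {R : Type u} [CommRing R] {J : Ideal R} {B : Type u} [CommRing B] [Algebra R B]

/-- Maps out of a henselization agree when they agree on the base. -/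
theorem hom_ext (hB : IsPairHull R J B) {C : Type u} [CommRing C] (J' : Ideal C)
    [HenselianRing C J'] (f g : B →+* C) (h : f.comp (algebraMap R B) = g.comp (algebraMap R B))
    (hle : J.map (f.comp (algebraMap R B)) ≤ J') : f = g :=
  (hB.2 C J' _ ‹_› hle).unique rfl h.symm

/-- Henselization commutes with quotients. -/
theorem quotient (hB : IsPairHull R J B) (K : Ideal R) [Algebra (R ⧸ K) (B ⧸ K.map (algebraMap R B))]
    (halg : ∀ r, algebraMap (R ⧸ K) (B ⧸ K.map (algebraMap R B)) (Ideal.Quotient.mk K r) =
      Ideal.Quotient.mk _ (algebraMap R B r)) :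
    IsPairHull (R ⧸ K) (J.map (Ideal.Quotient.mk K)) (B ⧸ K.map (algebraMap R B)) := by
  have hcomp : (algebraMap (R ⧸ K) (B ⧸ K.map (algebraMap R B))).comp (Ideal.Quotient.mk K) =
      (Ideal.Quotient.mk _).comp (algebraMap R B) := RingHom.ext halg
  constructor
  · rw [Ideal.map_map, hcomp, ← Ideal.map_map]
    have := hB.1
    exact henselianRing_quotient _ _
  · intro C _ J' f hJ' hle
    obtain ⟨g, hg, huniq⟩ := hB.2 C J' (f.comp (Ideal.Quotient.mk K)) hJ'
      (by rw [← Ideal.map_map]; exact hle)
    have hker : ∀ b ∈ K.map (algebraMap R B), g b = 0 := fun b hb => by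
      have h0 : (K.map (algebraMap R B)).map g = ⊥ := by
        rw [Ideal.map_map, hg, ← Ideal.map_map, Ideal.map_quotient_self, Ideal.map_bot]
      exact Ideal.mem_bot.mp (h0 ▸ Ideal.mem_map_of_mem g hb)
    refine ⟨Ideal.Quotient.lift _ g hker, Ideal.Quotient.ringHom_ext (RingHom.ext fun r => ?_),
      fun g' hg' => Ideal.Quotient.ringHom_ext ?_⟩
    · show Ideal.Quotient.lift _ g hker (algebraMap (R ⧸ K) _ (Ideal.Quotient.mk K r)) = _
      rw [halg]
      exact congr($hg r)
    · refine (huniq _ ?_).trans ?_
      · show (g'.comp (Ideal.Quotient.mk _)).comp (algebraMap R B) = _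
        rw [RingHom.comp_assoc, ← hcomp, ← RingHom.comp_assoc, hg']
      · exact RingHom.ext fun b => rfl

theorem exists_sub_mem {R' : Type u} [CommRing R'] [Algebra R R']
    (hR' : Function.Bijective (quotθ J R')) (x : R') :
    ∃ r : R, x - algebraMap R R' r ∈ J.map (algebraMap R R') := by
  obtain ⟨y, hy⟩ := hR'.2 (Ideal.Quotient.mk _ x)
  obtain ⟨r, rfl⟩ := Ideal.Quotient.mk_surjective y
  exact ⟨r, Ideal.Quotient.eq.mp hy.symm⟩

/-- A henselization is also a henselization of each etale neighbourhood. -/
theorem of_nbhd (hB : IsPairHull R J B) {R' : Type u} [CommRing R'] [Algebra R R']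
    [Algebra.Etale R R'] (hR' : Function.Bijective (quotθ J R')) [Algebra R' B]
    [IsScalarTower R R' B] :
    IsPairHull R' (J.map (algebraMap R R')) B := by
  constructor
  · rw [Ideal.map_map, ← IsScalarTower.algebraMap_eq]
    exact hB.1
  · intro C _ J' f hJ' hle
    rw [Ideal.map_map] at hle
    obtain ⟨g, hg, huniq⟩ := hB.2 C J' (f.comp (algebraMap R R')) hJ' hle
    refine ⟨g, ?_, fun g' hg' => huniq g' ?_⟩
    · let : Algebra R C := (f.comp (algebraMap R R')).toAlgebra
      let f' : R' →ₐ[R] C := { f with commutes' := fun _ => rfl }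
      let g' : R' →ₐ[R] C :=
        { g.comp (algebraMap R' B) with
          commutes' := fun r => (congrArg g (IsScalarTower.algebraMap_apply R R' B r).symm).trans
            congr($hg r) }
      have heq : g' = f' := by
        refine algHom_ext_of_le_jacobson hJ'.jac fun x => ?_
        obtain ⟨r, hr⟩ := exists_sub_mem hR' x
        have h1 : ∀ φ : R' →ₐ[R] C, φ x - algebraMap R C r ∈ J' := fun φ => by
          have h2 := mem_map_algHom φ J hr
          rw [map_sub, φ.commutes] at h2
          exact hle h2
        have h3 := sub_mem (h1 g') (h1 f')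
        rwa [sub_sub_sub_cancel_right] at h3
      exact congrArg AlgHom.toRingHom heq
    · show g'.comp (algebraMap R B) = _
      rw [IsScalarTower.algebraMap_eq R R' B, ← RingHom.comp_assoc, hg']

/-- Finitely many elements of a henselization come from an etale neighbourhood. -/
theorem exists_nbhd_finset (hB : IsPairHull R J B) (s : Finset B) :
    ∃ (R' : Type u) (_ : CommRing R') (_ : Algebra R R') (_ : Algebra.Etale R R') (ψ : R' →ₐ[R] B),
      Function.Bijective (quotθ J R') ∧ ∀ b ∈ s, ∃ x, ψ x = b := by
  obtain ⟨e⟩ := hB.equiv_pairH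
  obtain ⟨P, x, hx⟩ := exists_rep_finset s fun b => e.symm b
  obtain ⟨Q, m, hQ⟩ := exists_hom_nbhd J P
  refine ⟨Q.Ring, inferInstance, inferInstance, Q.etale, e.toAlgHom.comp (ι Q),
    bijective_quotθ_pt J hQ, fun b hb => ⟨m.map (x b), ?_⟩⟩
  show e (ι Q (m.map (x b))) = b
  rw [ι_map m, hx b hb, e.apply_symm_apply]

/-- Over a henselian pair, a finitely presented algebra finite modulo the ideal has a finite direct
factor, which is its henselization. -/
theorem exists_finite_factor {A : Type u} [CommRing A] (I : Ideal A) [HenselianRing A I]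
    [Algebra A R] [Algebra.FinitePresentation A R] [Algebra A B] [IsScalarTower A R B]
    (hB : IsPairHull R (I.map (algebraMap A R)) B)
    (hfin : Module.Finite A (R ⧸ I.map (algebraMap A R))) :
    ∃ (e : R), IsIdempotentElem e ∧ Module.Finite A (R ⧸ Ideal.span {1 - e}) ∧
      Algebra.FinitePresentation A (R ⧸ Ideal.span {1 - e}) ∧
      Nonempty ((R ⧸ Ideal.span {1 - e}) ≃ₐ[A] B) := by
  classical
  set IR := I.map (algebraMap A R) with hIR
  have hspan : Ideal.span (zmtLocus A R : Set R) ⊔ IR = ⊤ := by
    by_contra h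
    obtain ⟨q, hq, hle⟩ := Ideal.exists_le_maximal _ h
    have hIq : IR ≤ q := le_sup_right.trans hle
    have hqfat : Algebra.QuasiFiniteAt A q := by
      refine Algebra.QuasiFiniteAt.of_isOpen_singleton_fiber (⟨q, hq.isPrime⟩ : PrimeSpectrum R) ?_
      let p := PrimeSpectrum.comap (algebraMap A R) ⟨q, hq.isPrime⟩
      have hqp : Ideal.map (algebraMap A R) I ≤ q := hIq
      have hd := (Algebra.QuasiFinite.isDiscrete_comap_preimage_singleton (R := A) (S := R ⧸ IR) p)
      have hd' := hd.image (PrimeSpectrum.isClosedEmbedding_comap_of_surjective (R ⧸ IR)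
        (Ideal.Quotient.mk IR) Ideal.Quotient.mk_surjective).isInducing
      have himage : (PrimeSpectrum.comap (Ideal.Quotient.mk IR)) ''
          (PrimeSpectrum.comap (algebraMap A (R ⧸ IR)) ⁻¹' {p}) =
          PrimeSpectrum.comap (algebraMap A R) ⁻¹' {p} := by
        have hcomp : PrimeSpectrum.comap (algebraMap A (R ⧸ IR)) =
            PrimeSpectrum.comap (algebraMap A R) ∘ PrimeSpectrum.comap (Ideal.Quotient.mk IR) := by
          rw [← PrimeSpectrum.comap_comp]; rfl
        rw [hcomp, Set.preimage_comp, Set.image_preimage_eq_inter_range, Set.inter_eq_left]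
        intro y hy
        rw [range_comap_of_surjective _ _ Ideal.Quotient.mk_surjective, Ideal.mk_ker]
        refine Ideal.map_le_iff_le_comap.mpr ?_
        have hyp : y.asIdeal.comap (algebraMap A R) = q.comap (algebraMap A R) :=
          congrArg PrimeSpectrum.asIdeal hy
        rw [hyp]
        exact Ideal.map_le_iff_le_comap.mp hqp
      rw [himage] at hd'
      have := hd'.to_subtype
      exact isOpen_discrete _
    obtain ⟨r, hrq, hr, H⟩ :=
      Algebra.zariskisMainProperty_iff.mp (Algebra.ZariskisMainProperty.of_finiteType (R := A) q)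
    exact hrq (hle (Submodule.mem_sup_left (Ideal.subset_span ⟨hr, H⟩)))
  obtain ⟨G, hG⟩ := hfin.fg_top
  choose g hg using fun x : R ⧸ IR => Ideal.Quotient.mk_surjective x
  have hfin' : ∃ G' : Finset R, ∀ x : R, ∃ c : R → A, 1 * x - ∑ y ∈ G', c y • y ∈ IR := by
    refine ⟨G.image g, fun x => ?_⟩
    have hx : Ideal.Quotient.mk IR x ∈ Submodule.span A (G : Set (R ⧸ IR)) := by rw [hG]; trivial
    obtain ⟨c, -, hc⟩ := Submodule.mem_span_finset.mp hx
    refine ⟨fun y => c (Ideal.Quotient.mk IR y), ?_⟩
    rw [one_mul, ← Ideal.Quotient.eq, ← hc, map_sum]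
    rw [Finset.sum_image fun a _ b _ hab => by rw [← hg a, ← hg b, hab]]
    refine Finset.sum_congr rfl fun y _ => ?_
    show c y • y = Ideal.Quotient.mkₐ A IR (c (Ideal.Quotient.mk IR (g y)) • g y)
    rw [map_smul, Ideal.Quotient.mkₐ_eq_mk, hg]
  obtain ⟨e, he, he1, hefin⟩ := exists_finite_part I (1 : R) (by simp)
    (by rw [hspan]; trivial) hfin'
  let R₁ := R ⧸ Ideal.span ({1 - e} : Set R)
  have hfp : Algebra.FinitePresentation A R₁ :=
    Algebra.FinitePresentation.quotient ⟨{1 - e}, by simp⟩
  refine ⟨e, he, hefin, hfp, ?_⟩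
  have hhens : HenselianRing R₁ (I.map (algebraMap A R₁)) := henselianRing_of_isIntegral I R₁
  have hR₁ : IsPairHull R IR R₁ := by
    constructor
    · rw [hIR, Ideal.map_map, ← IsScalarTower.algebraMap_eq]
      exact hhens
    · intro C _ J' f hJ' hle
      have hu : IsUnit (f e) := by
        have h1 : f e - 1 ∈ J' := by
          rw [← map_one f, ← map_sub]
          exact hle (Ideal.mem_map_of_mem f he1)
        have := Ideal.mem_jacobson_bot.mp (hJ'.jac h1) 1
        simpa using this
      have hker : ∀ x ∈ Ideal.span ({1 - e} : Set R), f x = 0 := fun x hx => by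
        obtain ⟨y, rfl⟩ := Ideal.mem_span_singleton.mp hx
        have h1 : f e = 1 := hu.mul_left_cancel (by rw [← map_mul, he.eq, mul_one])
        rw [map_mul, map_sub, map_one, h1, sub_self, zero_mul]
      exact ⟨Ideal.Quotient.lift _ f hker, RingHom.ext fun r => rfl,
        fun g' hg' => Ideal.Quotient.ringHom_ext hg'⟩
  obtain ⟨ε⟩ := hR₁.nonempty_equiv hB
  exact ⟨ε.restrictScalars A⟩

end Groth.Agent.HenselLib.Hfp

namespace Groth.Agent.HenselLib.Hfp

variable {A : Type u} [CommRing A] {R : Type u} [CommRing R] [Algebra A R] {B : Type u} [CommRing B]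
  [Algebra R B] [Algebra A B] [IsScalarTower A R B]

/-- If the reduction of a henselian finitely presented algebra is finite, so is the algebra. -/
theorem finite_of_quotient_finite (I : Ideal A) [HenselianRing A I]
    [Algebra.FinitePresentation A R] (hB : IsPairHull R (I.map (algebraMap A R)) B)
    (hfin : (Ideal.quotientMap (I.map (algebraMap A B)) (algebraMap A B) Ideal.le_comap_map).Finite) :
    Module.Finite A B ∧ Algebra.FinitePresentation A B := by
  have hmap : (I.map (algebraMap A R)).map (algebraMap R B) = I.map (algebraMap A B) := by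
    rw [Ideal.map_map, ← IsScalarTower.algebraMap_eq]
  have h1 := hB.bijective_quotientMap 1
  rw [pow_one] at h1
  have hA : (algebraMap A (B ⧸ I.map (algebraMap A B))).Finite := by
    have h2 : (Ideal.Quotient.mk I).Finite :=
      RingHom.Finite.of_surjective _ Ideal.Quotient.mk_surjective
    have h3 := hfin.comp h2
    rwa [show (Ideal.quotientMap (I.map (algebraMap A B)) (algebraMap A B) Ideal.le_comap_map).comp
      (Ideal.Quotient.mk I) = algebraMap A (B ⧸ I.map (algebraMap A B)) from RingHom.ext fun _ => rfl]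
      at h3
  have hBfin : Module.Finite A (B ⧸ I.map (algebraMap A B)) := RingHom.finite_algebraMap.mp hA
  have : Module.Finite A (R ⧸ I.map (algebraMap A R)) := by
    let φ : (R ⧸ I.map (algebraMap A R)) →ₐ[A] B ⧸ (I.map (algebraMap A R)).map (algebraMap R B) :=
      { Ideal.quotientMap ((I.map (algebraMap A R)).map (algebraMap R B)) (algebraMap R B)
          Ideal.le_comap_map with
        commutes' := fun a => by
          show Ideal.Quotient.mk _ (algebraMap R B (algebraMap A R a)) = _
          rw [← IsScalarTower.algebraMap_apply]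
          rfl }
    have : Module.Finite A (B ⧸ (I.map (algebraMap A R)).map (algebraMap R B)) :=
      Module.Finite.equiv (Ideal.quotientEquivAlgOfEq A hmap.symm).toLinearEquiv
    exact Module.Finite.equiv (AlgEquiv.ofBijective φ h1).symm.toLinearEquiv
  obtain ⟨e, -, h2, h3, ⟨ε⟩⟩ := exists_finite_factor I hB this
  exact ⟨Module.Finite.equiv ε.toLinearEquiv, Algebra.FinitePresentation.equiv ε⟩

theorem surjective_of_quotient_surjective (I : Ideal A) [HenselianRing A I]
    [Algebra.FinitePresentation A R] (hB : IsPairHull R (I.map (algebraMap A R)) B)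
    (hsurj : Function.Surjective
      (Ideal.quotientMap (I.map (algebraMap A B)) (algebraMap A B) Ideal.le_comap_map)) :
    Function.Surjective (algebraMap A B) := by
  have hfin := (finite_of_quotient_finite I hB (RingHom.Finite.of_surjective _ hsurj)).1
  have hI : I ≤ Ideal.jacobson ⊥ := (inferInstance : HenselianRing A I).jac
  have htop : (⊤ : Submodule A B) ≤ LinearMap.range (Algebra.linearMap A B) := by
    refine Submodule.le_of_le_smul_of_le_jacobson_bot hfin.fg_top hI ?_
    intro b _
    obtain ⟨y, hy⟩ := hsurj (Ideal.Quotient.mk _ b)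
    obtain ⟨a, rfl⟩ := Ideal.Quotient.mk_surjective y
    rw [Ideal.quotientMap_mk, Ideal.Quotient.eq] at hy
    refine Submodule.mem_sup.mpr ⟨algebraMap A B a, ⟨a, rfl⟩, -(algebraMap A B a - b), ?_, by ring⟩
    rw [Ideal.smul_top_eq_map]
    exact neg_mem (Submodule.restrictScalars_mem _ _ _ |>.mpr hy)
  exact fun b => htop (Submodule.mem_top (x := b))

end Groth.Agent.HenselLib.Hfp
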