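import Groth.Agent.HenselLib.Hfp
import Groth.Agent.HenselLib.PairQuot
import Groth.Agent.HenselLib.HEtale
import Groth.Agent.HenselLib.WEtale
import Groth.Agent.EGA43.FlatDescent.Global

/-!
# Flat Henselian finitely presented algebras
-/

set_option autoImplicit false
set_option linter.all false

universe u

namespace Groth.Agent.HenselLib.HfpFlat

variable {A : Type u} [CommRing A] {I : Ideal A} {R : Type u} [CommRing R] [Algebra A R]
  {B : Type u} [CommRing B] [Algebra R B] [Algebra A B] [IsScalarTower A R B]

/-- A flat henselization of a finitely presented algebra: the algebra is flat at the closed subset. -/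
theorem flat_atPrime (hB : IsPairHull R (I.map (algebraMap A R)) B) [Module.Flat A B]
    (p : Ideal R) [p.IsPrime] (hp : I.map (algebraMap A R) ≤ p) :
    Module.Flat A (Localization.AtPrime p) := by
  set J := I.map (algebraMap A R) with hJ
  have hbij := IsPairHull.bijective_quotientMap hB 1
  set J1 := J ^ 1 with hJ1
  have hJ1p : J1 ≤ p := by rw [hJ1, pow_one]; exact hp
  let e : R ⧸ J1 ≃+* B ⧸ J1.map (algebraMap R B) := RingEquiv.ofBijective _ hbij
  have : (p.map (Ideal.Quotient.mk J1)).IsPrime :=
    Ideal.map_isPrime_of_surjective Ideal.Quotient.mk_surjective (by rwa [Ideal.mk_ker])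
  let Q : Ideal B := ((p.map (Ideal.Quotient.mk J1)).comap e.symm.toRingHom).comap
    (Ideal.Quotient.mk (J1.map (algebraMap R B)))
  have : Q.IsPrime := Ideal.IsPrime.comap _
  have : Q.LiesOver p := ⟨by
    ext r
    have h1 : e.symm (Ideal.Quotient.mk _ (algebraMap R B r)) = Ideal.Quotient.mk J1 r := by
      rw [RingEquiv.symm_apply_eq]
      exact (Ideal.quotientMap_mk (J := J1) (f := algebraMap R B) (H := Ideal.le_comap_map) (x := r)).symm
    show r ∈ p ↔ e.symm (Ideal.Quotient.mk _ (algebraMap R B r)) ∈ p.map (Ideal.Quotient.mk J1)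
    rw [h1, ← Ideal.mem_comap, Ideal.comap_map_mk hJ1p]⟩
  let : Algebra (Localization.AtPrime p) (Localization.AtPrime Q) :=
    Localization.AtPrime.algebraOfLiesOver p Q
  have : Module.Flat R B := by
    obtain ⟨e'⟩ := hB.equiv_pairH
    exact Module.Flat.of_linearEquiv e'.symm.toLinearEquiv
  have : IsLocalHom (algebraMap (Localization.AtPrime p) (Localization.AtPrime Q)) := by
    rw [Localization.AtPrime.IsLiesOverAlgebra.algebraMap_eq]
    exact Localization.isLocalHom_localRingHom p Q (algebraMap R B) Ideal.LiesOver.over
  have : Module.FaithfullyFlat (Localization.AtPrime p) (Localization.AtPrime Q) :=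
    Module.FaithfullyFlat.of_flat_of_isLocalHom
  have : Module.Flat A (Localization.AtPrime Q) := Module.Flat.trans A B _
  exact WEt.flat_of_faithfullyFlat (A := A) (C := Localization.AtPrime Q)

/-- The algebra is flat on a principal neighbourhood of the closed subset. -/
theorem exists_flat_away [Algebra.FinitePresentation A R]
    (hB : IsPairHull R (I.map (algebraMap A R)) B) [Module.Flat A B] :
    ∃ g : R, g - 1 ∈ I.map (algebraMap A R) ∧ Module.Flat A (Localization.Away g) := by
  have hU : IsOpen {q : PrimeSpectrum R | Module.Flat A (LocalizedModule q.asIdeal.primeCompl R)} :=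
    EGA43.FlatDescent.isOpen_setOf_flat
  obtain ⟨g, hg, hgU⟩ := ZeroLocusShrink.exists_away (I.map (algebraMap A R)) hU fun q hq => by
    have := flat_atPrime hB q.asIdeal hq
    exact Module.Flat.of_linearEquiv ((IsLocalizedModule.iso q.asIdeal.primeCompl
      (Algebra.linearMap R (Localization.AtPrime q.asIdeal))).restrictScalars A)
  refine ⟨g, hg, Module.flat_of_isLocalized_maximal (S := Localization.Away g) (Localization.Away g)
    (fun P => Localization.AtPrime P) (fun P => Algebra.linearMap _ _) fun P _ => ?_⟩
  let q : PrimeSpectrum R := PrimeSpectrum.comap (algebraMap R _) (⟨P, inferInstance⟩ :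
    PrimeSpectrum (Localization.Away g))
  have hq : q ∈ PrimeSpectrum.basicOpen g := by
    intro h
    exact (inferInstance : P.IsPrime).ne_top (Ideal.eq_top_of_isUnit_mem _ h
      (IsLocalization.Away.algebraMap_isUnit g))
  have : IsLocalization q.asIdeal.primeCompl (Localization.AtPrime P) :=
    IsLocalization.isLocalization_isLocalization_atPrime_isLocalization (Submonoid.powers g)
      (Localization.AtPrime P) P
  have : IsLocalizedModule q.asIdeal.primeCompl (Algebra.linearMap R (Localization.AtPrime P)) :=
    inferInstance
  have : Module.Flat A (LocalizedModule q.asIdeal.primeCompl R) := hgU hq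
  exact Module.Flat.of_linearEquiv ((IsLocalizedModule.iso q.asIdeal.primeCompl
      (Algebra.linearMap R (Localization.AtPrime P))).restrictScalars A).symm

end Groth.Agent.HenselLib.HfpFlat
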