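import Groth.Agent.HenselLib.HfpMaps
import Groth.Agent.S1998
import Mathlib.Algebra.Colimit.DirectLimit

/-!
# Henselian finitely presented algebras and directed colimits
-/

set_option autoImplicit false
set_option linter.all false

universe u

namespace Groth.Agent.HenselLib.HfpLimit

variable {κ : Type u} [Preorder κ] [IsDirectedOrder κ] [Nonempty κ] {G : κ → Type u}
  [∀ a, CommRing (G a)] {t : ∀ a b : κ, a ≤ b → (G a →+* G b)}
  [DirectedSystem G (fun a b h => t a b h)]

theorem of_eq_of_iff {a : κ} (x y : G a) :
    DirectLimit.Ring.of G t a x = DirectLimit.Ring.of G t a y ↔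
      ∃ (b : κ) (h : a ≤ b), t a b h x = t a b h y := by
  constructor
  · intro h
    obtain ⟨b, h₁, h₂, hb⟩ := Quotient.exact h
    exact ⟨b, h₁, hb⟩
  · rintro ⟨b, h, hb⟩
    rw [← DirectLimit.Ring.of_f h, hb, DirectLimit.Ring.of_f]

theorem exists_of (z : DirectLimit G (fun a b h => t a b h)) :
    ∃ (a : κ) (x : G a), DirectLimit.Ring.of G t a x = z := by
  obtain ⟨a, x, rfl⟩ := DirectLimit.exists_eq_mk _ z
  exact ⟨a, x, rfl⟩

theorem exists_family {ι : Type*} [Finite ι] (z : ι → DirectLimit G (fun a b h => t a b h)) :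
    ∃ (a : κ) (x : ι → G a), ∀ i, DirectLimit.Ring.of G t a (x i) = z i := by
  choose b y hy using fun i => exists_of (z i)
  obtain ⟨a, ha⟩ := Finite.exists_le b
  exact ⟨a, fun i => t (b i) a (ha i) (y i), fun i => by rw [DirectLimit.Ring.of_f, hy]⟩

theorem henselianRing_directLimit {A : Type u} [CommRing A] (I : Ideal A) [∀ a, Algebra A (G a)]
    [∀ a, HenselianRing (G a) (I.map (algebraMap A (G a)))]
    (ht : ∀ (a b : κ) (h : a ≤ b), (t a b h).comp (algebraMap A (G a)) = algebraMap A (G b))
    [Algebra A (DirectLimit G (fun a b h => t a b h))]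
    (halg : ∀ (a : κ) (x : A), algebraMap A (DirectLimit G (fun a b h => t a b h)) x =
      DirectLimit.Ring.of G t a (algebraMap A (G a) x)) :
    HenselianRing (DirectLimit G (fun a b h => t a b h))
      (I.map (algebraMap A (DirectLimit G (fun a b h => t a b h)))) := by
  classical
  have hI' : ∀ a b (h : a ≤ b), (I.map (algebraMap A (G a))).map (t a b h) ≤
      I.map (algebraMap A (G b)) := fun a b h => by rw [Ideal.map_map, ht]
  have h1 := Groth.Agent.S1998.result G t (fun a => I.map (algebraMap A (G a))) hI'
    (fun a => inferInstance)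
  let e := Ring.DirectLimit.ringEquiv G t
  let : Algebra (Ring.DirectLimit G fun a b h => t a b h) (DirectLimit G (fun a b h => t a b h)) :=
    e.toRingHom.toAlgebra
  have : Algebra.IsIntegral (Ring.DirectLimit G fun a b h => t a b h)
      (DirectLimit G (fun a b h => t a b h)) := ⟨fun y => by
    obtain ⟨x, rfl⟩ := e.surjective y
    exact isIntegral_algebraMap⟩
  have := h1
  have h2 := henselianRing_of_isIntegral
    (⨆ a, (I.map (algebraMap A (G a))).map (Ring.DirectLimit.of G (fun a b h => t a b h) a))
    (DirectLimit G (fun a b h => t a b h))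
  have he : ∀ a, e.toRingHom.comp ((Ring.DirectLimit.of G (fun a b h => t a b h) a).comp
      (algebraMap A (G a))) = algebraMap A (DirectLimit G (fun a b h => t a b h)) := fun a =>
    RingHom.ext fun x => (Ring.DirectLimit.ringEquiv_of G t).trans (halg a x).symm
  have heq : (⨆ a, (I.map (algebraMap A (G a))).map
      (Ring.DirectLimit.of G (fun a b h => t a b h) a)).map
      (algebraMap (Ring.DirectLimit G fun a b h => t a b h) (DirectLimit G (fun a b h => t a b h))) =
      I.map (algebraMap A (DirectLimit G (fun a b h => t a b h))) := by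
    simp only [Ideal.map_iSup, Ideal.map_map, RingHom.algebraMap_toAlgebra, RingHom.comp_assoc, he,
      iSup_const]
  exact heq ▸ h2

end Groth.Agent.HenselLib.HfpLimit
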