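import Groth.Agent.HenselLib.Hfp
import Groth.Agent.HenselLib.HEtale
import Mathlib.RingTheory.Smooth.Basic
import Mathlib.RingTheory.Etale.Basic

/-!
# Maps out of henselian finitely presented algebras, h-formal smoothness
-/

set_option autoImplicit false
set_option linter.all false

universe u

namespace Groth.Agent.HenselLib.HfpMaps

variable {A : Type u} [CommRing A] {I : Ideal A} {R : Type u} [CommRing R] [Algebra A R]
  {B : Type u} [CommRing B] [Algebra R B] [Algebra A B] [IsScalarTower A R B]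

theorem algHom_ext (hB : IsPairHull R (I.map (algebraMap A R)) B) {C : Type u} [CommRing C]
    [Algebra A C] [HenselianRing C (I.map (algebraMap A C))] (φ ψ : B →ₐ[A] C)
    (h : ∀ r, φ (algebraMap R B r) = ψ (algebraMap R B r)) : φ = ψ := by
  have := Hfp.hom_ext hB (I.map (algebraMap A C)) φ.toRingHom ψ.toRingHom (RingHom.ext h) (by
    rw [← Ideal.map_map, Ideal.map_map (algebraMap A R), ← IsScalarTower.algebraMap_eq,
      Ideal.map_map]
    exact (congrArg (Ideal.map · I) φ.comp_algebraMap).le)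
  exact AlgHom.ext fun x => congr($this x)

theorem exists_extend (hB : IsPairHull R (I.map (algebraMap A R)) B) {C : Type u} [CommRing C]
    [Algebra A C] [hC : HenselianRing C (I.map (algebraMap A C))] (f : R →ₐ[A] C) :
    ∃ φ : B →ₐ[A] C, ∀ r, φ (algebraMap R B r) = f r := by
  obtain ⟨g, hg, -⟩ := hB.2 C _ f.toRingHom hC (by
    rw [Ideal.map_map]
    exact (congrArg (Ideal.map · I) f.comp_algebraMap).le)
  have hA : ∀ a, g (algebraMap A B a) = algebraMap A C a := fun a => by
    rw [IsScalarTower.algebraMap_apply A R B]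
    exact (congr($hg (algebraMap A R a))).trans (f.commutes a)
  exact ⟨{ g with commutes' := hA }, fun r => congr($hg r)⟩

theorem henselianRing_of_pow_eq_bot (I : Ideal A) (C : Type u) [CommRing C] [Algebra A C] (N : ℕ)
    (h : (I ^ N).map (algebraMap A C) = ⊥) : HenselianRing C (I.map (algebraMap A C)) :=
  henselianRing_of_nilpotent _ fun x hx => ⟨N, by
    rw [← Ideal.mem_bot, ← h, Ideal.map_pow]
    exact Ideal.pow_mem_pow hx N⟩

/-- Maps between henselizations of etale algebras over a henselian pair reduce bijectively. -/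
theorem bijective_reduction [Algebra.Etale A R] (hB : IsPairHull R (I.map (algebraMap A R)) B)
    {B' : Type u} [CommRing B'] [Algebra A B'] [hB' : HenselianRing B' (I.map (algebraMap A B'))] :
    (∀ φ ψ : B →ₐ[A] B', (∀ b : B, φ b - ψ b ∈ I.map (algebraMap A B')) → φ = ψ) ∧
    ∀ χ : (B ⧸ I.map (algebraMap A B)) →ₐ[A] (B' ⧸ I.map (algebraMap A B')),
      ∃ φ : B →ₐ[A] B', ∀ b : B, Ideal.Quotient.mk (I.map (algebraMap A B')) (φ b) =
        χ (Ideal.Quotient.mk (I.map (algebraMap A B)) b) := by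
  refine ⟨fun φ ψ h => algHom_ext hB φ ψ fun r => ?_, fun χ => ?_⟩
  · have : φ.comp (IsScalarTower.toAlgHom A R B) = ψ.comp (IsScalarTower.toAlgHom A R B) :=
      algHom_ext_of_le_jacobson hB'.jac fun x => h _
    exact congr($this r)
  · obtain ⟨τ, hτ, -⟩ := existsUnique_lift (I.map (algebraMap A B'))
      ((χ.comp (Ideal.Quotient.mkₐ A _)).comp (IsScalarTower.toAlgHom A R B))
    obtain ⟨φ, hφ⟩ := exists_extend hB τ
    refine ⟨φ, fun b => ?_⟩
    have := henselianRing_of_pow_eq_bot I (B' ⧸ I.map (algebraMap A B')) 1 (by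
      rw [pow_one, show algebraMap A (B' ⧸ I.map (algebraMap A B')) =
        (Ideal.Quotient.mk _).comp (algebraMap A B') from rfl, ← Ideal.map_map, Ideal.map_quotient_self])
    have heq : (Ideal.Quotient.mkₐ A _).comp φ = χ.comp (Ideal.Quotient.mkₐ A _) :=
      algHom_ext hB _ _ fun r => by
        show Ideal.Quotient.mk _ (φ (algebraMap R B r)) = _
        rw [hφ]
        exact congr($hτ r)
    exact congr($heq b)

section Formal

variable (I) (B)

/-- Lifting along nilpotent thickenings of algebras killed by a power of `I`. -/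
def LiftsSurj : Prop :=
  ∀ (E C : Type u) [CommRing E] [CommRing C] [Algebra A E] [Algebra A C] (N : ℕ), 1 ≤ N →
    (I ^ N).map (algebraMap A E) = ⊥ → (I ^ N).map (algebraMap A C) = ⊥ →
    ∀ (p : E →ₐ[A] C), Function.Surjective p → (∃ M : ℕ, 1 ≤ M ∧ RingHom.ker p ^ M = ⊥) →
    ∀ u : B →ₐ[A] C, ∃ v : B →ₐ[A] E, p.comp v = u

/-- Uniqueness of lifts along nilpotent thickenings of algebras killed by a power of `I`. -/
def LiftsInj : Prop :=
  ∀ (E C : Type u) [CommRing E] [CommRing C] [Algebra A E] [Algebra A C] (N : ℕ), 1 ≤ N →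
    (I ^ N).map (algebraMap A E) = ⊥ → (I ^ N).map (algebraMap A C) = ⊥ →
    ∀ (p : E →ₐ[A] C), Function.Surjective p → (∃ M : ℕ, 1 ≤ M ∧ RingHom.ker p ^ M = ⊥) →
    ∀ v v' : B →ₐ[A] E, p.comp v = p.comp v' → v = v'

variable {I} {B}

theorem kills (K : Ideal A) {C : Type u} [CommRing C] [Algebra A C]
    (hC : K.map (algebraMap A C) = ⊥) (f : B →ₐ[A] C) :
    ∀ b ∈ K.map (algebraMap A B), f b = 0 := fun b hb =>
  Ideal.mem_bot.mp (hC ▸ mem_map_algHom f K hb)

omit [Algebra A R] [Algebra R B] [IsScalarTower A R B] [CommRing R] in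
theorem liftsSurj_iff :
    LiftsSurj I B ↔
      ∀ r : ℕ, 1 ≤ r → Algebra.FormallySmooth (A ⧸ I ^ r) (B ⧸ (I ^ r).map (algebraMap A B)) := by
  constructor
  · intro h r hr
    rw [Algebra.FormallySmooth.iff_comp_surjective]
    intro E _ _ J hJ f
    letI : Algebra A E := ((algebraMap (A ⧸ I ^ r) E).comp (Ideal.Quotient.mk _)).toAlgebra
    have : IsScalarTower A (A ⧸ I ^ r) E := IsScalarTower.of_algebraMap_eq fun _ => rfl
    have hE : (I ^ r).map (algebraMap A E) = ⊥ := by
      rw [show algebraMap A E = (algebraMap (A ⧸ I ^ r) E).comp (Ideal.Quotient.mk _) from rfl,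
        ← Ideal.map_map, Ideal.map_quotient_self, Ideal.map_bot]
    have hC : (I ^ r).map (algebraMap A (E ⧸ J)) = ⊥ := by
      rw [← (Ideal.Quotient.mkₐ A J).comp_algebraMap, ← Ideal.map_map, hE, Ideal.map_bot]
    obtain ⟨v, hv⟩ := h E (E ⧸ J) r hr hE hC (Ideal.Quotient.mkₐ A J) Ideal.Quotient.mk_surjective
      ⟨2, by omega, (congrArg (· ^ 2) (Ideal.mk_ker (I := J))).trans hJ⟩
      ((f.restrictScalars A).comp (Ideal.Quotient.mkₐ A _))
    refine ⟨(Ideal.Quotient.liftₐ _ v (kills _ hE v)).extendScalarsOfSurjective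
      Ideal.Quotient.mk_surjective, AlgHom.ext fun x => ?_⟩
    obtain ⟨x, rfl⟩ := Ideal.Quotient.mk_surjective x
    exact congr($hv x)
  · intro h E C _ _ _ _ N hN hE hC p hp hM u
    have := h N hN
    letI : Algebra (A ⧸ I ^ N) E :=
      (Ideal.Quotient.lift (I ^ N) (algebraMap A E) fun a ha =>
        Ideal.mem_bot.mp (hE ▸ Ideal.mem_map_of_mem _ ha)).toAlgebra
    have : IsScalarTower A (A ⧸ I ^ N) E := IsScalarTower.of_algebraMap_eq fun _ => rfl
    letI : Algebra (A ⧸ I ^ N) C :=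
      (Ideal.Quotient.lift (I ^ N) (algebraMap A C) fun a ha =>
        Ideal.mem_bot.mp (hC ▸ Ideal.mem_map_of_mem _ ha)).toAlgebra
    have : IsScalarTower A (A ⧸ I ^ N) C := IsScalarTower.of_algebraMap_eq fun _ => rfl
    let p' : E →ₐ[A ⧸ I ^ N] C := p.extendScalarsOfSurjective Ideal.Quotient.mk_surjective
    let u' : (B ⧸ (I ^ N).map (algebraMap A B)) →ₐ[A ⧸ I ^ N] C :=
      (Ideal.Quotient.liftₐ _ u (kills _ hC u)).extendScalarsOfSurjective Ideal.Quotient.mk_surjective
    obtain ⟨M, -, hM⟩ := hM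
    let v := Algebra.FormallySmooth.liftOfSurjective u' p' hp ⟨M, hM⟩
    refine ⟨(v.restrictScalars A).comp (Ideal.Quotient.mkₐ A _), AlgHom.ext fun b => ?_⟩
    exact Algebra.FormallySmooth.liftOfSurjective_apply u' p' hp ⟨M, hM⟩ (Ideal.Quotient.mk _ b)

omit [Algebra A R] [Algebra R B] [IsScalarTower A R B] [CommRing R] in
theorem liftsInj_iff :
    LiftsInj I B ↔
      ∀ r : ℕ, 1 ≤ r → Algebra.FormallyUnramified (A ⧸ I ^ r) (B ⧸ (I ^ r).map (algebraMap A B)) := by
  constructor
  · intro h r hr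
    rw [Algebra.FormallyUnramified.iff_comp_injective]
    intro E _ _ J hJ f g hfg
    letI : Algebra A E := ((algebraMap (A ⧸ I ^ r) E).comp (Ideal.Quotient.mk _)).toAlgebra
    have : IsScalarTower A (A ⧸ I ^ r) E := IsScalarTower.of_algebraMap_eq fun _ => rfl
    have hE : (I ^ r).map (algebraMap A E) = ⊥ := by
      rw [show algebraMap A E = (algebraMap (A ⧸ I ^ r) E).comp (Ideal.Quotient.mk _) from rfl,
        ← Ideal.map_map, Ideal.map_quotient_self, Ideal.map_bot]
    have hC : (I ^ r).map (algebraMap A (E ⧸ J)) = ⊥ := by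
      rw [← (Ideal.Quotient.mkₐ A J).comp_algebraMap, ← Ideal.map_map, hE, Ideal.map_bot]
    have := h E (E ⧸ J) r hr hE hC (Ideal.Quotient.mkₐ A J) Ideal.Quotient.mk_surjective
      ⟨2, by omega, (congrArg (· ^ 2) (Ideal.mk_ker (I := J))).trans hJ⟩
      ((f.restrictScalars A).comp (Ideal.Quotient.mkₐ A _))
      ((g.restrictScalars A).comp (Ideal.Quotient.mkₐ A _))
      (AlgHom.ext fun b => congr($hfg (Ideal.Quotient.mk _ b)))
    refine AlgHom.ext fun x => ?_
    obtain ⟨x, rfl⟩ := Ideal.Quotient.mk_surjective x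
    exact congr($this x)
  · intro h E C _ _ _ _ N hN hE hC p hp hM v v' hvv
    have := h N hN
    letI : Algebra (A ⧸ I ^ N) E :=
      (Ideal.Quotient.lift (I ^ N) (algebraMap A E) fun a ha =>
        Ideal.mem_bot.mp (hE ▸ Ideal.mem_map_of_mem _ ha)).toAlgebra
    have : IsScalarTower A (A ⧸ I ^ N) E := IsScalarTower.of_algebraMap_eq fun _ => rfl
    obtain ⟨M, -, hM⟩ := hM
    let w : (B →ₐ[A] E) → (B ⧸ (I ^ N).map (algebraMap A B)) →ₐ[A ⧸ I ^ N] E := fun v =>
      (Ideal.Quotient.liftₐ _ v (kills _ hE v)).extendScalarsOfSurjective Ideal.Quotient.mk_surjective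
    have heq : w v = w v' := Algebra.FormallyUnramified.ext' p.toRingHom ⟨M, hM⟩ _ _ fun x => by
      obtain ⟨x, rfl⟩ := Ideal.Quotient.mk_surjective x
      exact congr($hvv x)
    exact AlgHom.ext fun b => congr($heq (Ideal.Quotient.mk _ b))

theorem finitePresentation_quotient_pow [Algebra.FinitePresentation A R]
    (hB : IsPairHull R (I.map (algebraMap A R)) B) (r : ℕ) :
    Algebra.FinitePresentation (A ⧸ I ^ r) (B ⧸ (I ^ r).map (algebraMap A B)) := by
  obtain ⟨e⟩ := exists_equiv_quotient_pow hB r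
  exact Algebra.FinitePresentation.equiv e

end Formal

end Groth.Agent.HenselLib.HfpMaps
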