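import Groth.Agent.HenselLib.HfpMaps
import Mathlib.RingTheory.FinitePresentation
import Mathlib.LinearAlgebra.TensorProduct.Basis
import Mathlib.RingTheory.TensorProduct.MvPolynomial

/-!
# Models of henselian finitely presented algebras
-/

set_option autoImplicit false
set_option linter.all false

universe u

open scoped TensorProduct

namespace Groth.Agent.HenselLib.HfpModels

/-- Henselization commutes with surjections. -/
theorem of_surjective {S R P Q : Type u} [CommRing S] [CommRing R] [CommRing P] [CommRing Q]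
    [Algebra S P] [Algebra R Q] {J : Ideal S} (hP : IsPairHull S J P) (π : S →+* R)
    (hπ : Function.Surjective π) (θ : P →+* Q) (hθ : Function.Surjective θ)
    (hker : RingHom.ker θ = (RingHom.ker π).map (algebraMap S P))
    (hcomm : θ.comp (algebraMap S P) = (algebraMap R Q).comp π) :
    IsPairHull R (J.map π) Q := by
  constructor
  · rw [Ideal.map_map, ← hcomm, ← Ideal.map_map]
    have := hP.1
    let : Algebra P Q := θ.toAlgebra
    have : Algebra.IsIntegral P Q := ⟨fun q => by
      obtain ⟨x, rfl⟩ := hθ q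
      exact isIntegral_algebraMap⟩
    exact henselianRing_of_isIntegral (J.map (algebraMap S P)) Q
  · intro C _ J' f hJ' hle
    obtain ⟨g, hg, huniq⟩ := hP.2 C J' (f.comp π) hJ' (by rw [← Ideal.map_map]; exact hle)
    have hkg : RingHom.ker θ ≤ RingHom.ker g := by
      rw [hker, Ideal.map_le_iff_le_comap, RingHom.comap_ker, hg]
      exact fun x hx => by
        show f (π x) = 0
        rw [RingHom.mem_ker.mp hx, map_zero]
    let g₁ := θ.liftOfSurjective hθ ⟨g, hkg⟩
    have hg₁ : g₁.comp θ = g := θ.liftOfSurjective_comp hθ ⟨g, hkg⟩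
    refine ⟨g₁, ?_, fun g' hg' => ?_⟩
    · refine RingHom.ext fun r => ?_
      obtain ⟨s, rfl⟩ := hπ r
      show g₁ (algebraMap R Q (π s)) = _
      rw [show algebraMap R Q (π s) = θ (algebraMap S P s) from congr($hcomm.symm s),
        show g₁ (θ (algebraMap S P s)) = g (algebraMap S P s) from congr($hg₁ _)]
      exact congr($hg s)
    · have h1 : g'.comp θ = g := huniq _ (by
        show (g'.comp θ).comp (algebraMap S P) = f.comp π
        rw [RingHom.comp_assoc, hcomm, ← RingHom.comp_assoc, hg'])
      refine RingHom.ext fun q => ?_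
      obtain ⟨x, rfl⟩ := hθ q
      exact (congr($h1 x)).trans (congr($hg₁ x)).symm

variable (A : Type u) [CommRing A] (I : Ideal A)

/-- A henselization of a finitely presented algebra is a quotient of a henselized polynomial ring. -/
theorem exists_presentation (R B : Type u) [CommRing R] [CommRing B] [Algebra A R] [Algebra A B]
    [Algebra R B] [IsScalarTower A R B] [Algebra.FinitePresentation A R]
    (hB : IsPairHull R (I.map (algebraMap A R)) B) :
    ∃ (n : ℕ) (P : Type u) (_ : CommRing P) (_ : Algebra (MvPolynomial (Fin n) A) P) (_ : Algebra A P)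
        (_ : IsScalarTower A (MvPolynomial (Fin n) A) P),
        IsPairHull (MvPolynomial (Fin n) A) (I.map (algebraMap A (MvPolynomial (Fin n) A))) P ∧
        ∃ φ : P →ₐ[A] B, Function.Surjective φ ∧ (RingHom.ker φ).FG := by
  obtain ⟨n, π, hπ, hfg⟩ := Algebra.FinitePresentation.out (R := A) (A := R)
  let S := MvPolynomial (Fin n) A
  let P := PairH S (I.map (algebraMap A S))
  have hP : IsPairHull S (I.map (algebraMap A S)) P := isPairHull_pairH _ _
  letI : Algebra A P := ((algebraMap S P).comp (algebraMap A S)).toAlgebra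
  have : IsScalarTower A S P := IsScalarTower.of_algebraMap_eq fun _ => rfl
  let KP := (RingHom.ker π.toRingHom).map (algebraMap S P)
  let Q := P ⧸ KP
  let f : S →+* Q := (Ideal.Quotient.mk KP).comp (algebraMap S P)
  have hf : RingHom.ker π.toRingHom ≤ RingHom.ker f := fun x hx =>
    Ideal.Quotient.eq_zero_iff_mem.mpr (Ideal.mem_map_of_mem _ hx)
  letI algRQ : Algebra R Q := (π.toRingHom.liftOfSurjective hπ ⟨f, hf⟩).toAlgebra
  have hcomm : (Ideal.Quotient.mk KP).comp (algebraMap S P) = (algebraMap R Q).comp π.toRingHom :=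
    (π.toRingHom.liftOfSurjective_comp hπ ⟨f, hf⟩).symm
  have hQ := of_surjective hP π.toRingHom hπ (Ideal.Quotient.mk KP) Ideal.Quotient.mk_surjective
    Ideal.mk_ker hcomm
  rw [Ideal.map_map, show π.toRingHom.comp (algebraMap A S) = algebraMap A R from π.comp_algebraMap]
    at hQ
  obtain ⟨e⟩ := hQ.nonempty_equiv hB
  let φ₀ : P →+* B := e.toRingEquiv.toRingHom.comp (Ideal.Quotient.mk KP)
  have hφA : ∀ a, φ₀ (algebraMap A P a) = algebraMap A B a := fun a => by
    show e (Ideal.Quotient.mk KP (algebraMap S P (algebraMap A S a))) = _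
    rw [show Ideal.Quotient.mk KP (algebraMap S P (algebraMap A S a)) =
      algebraMap R Q (π (algebraMap A S a)) from congr($hcomm _), e.commutes, π.commutes,
      ← IsScalarTower.algebraMap_apply]
  refine ⟨n, P, inferInstance, inferInstance, inferInstance, inferInstance, hP,
    { φ₀ with commutes' := hφA }, e.surjective.comp Ideal.Quotient.mk_surjective, ?_⟩
  show (RingHom.ker φ₀).FG
  rw [show RingHom.ker φ₀ = KP from
    (RingHom.ker_comp_of_injective _ e.injective).trans Ideal.mk_ker]
  exact hfg.map _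

/-- A quotient of a henselized polynomial ring by a finitely generated ideal is the henselization of
a finitely presented algebra. -/
theorem exists_model (n : ℕ) (P B : Type u) [CommRing P] [Algebra (MvPolynomial (Fin n) A) P]
    [Algebra A P] [IsScalarTower A (MvPolynomial (Fin n) A) P] [CommRing B] [Algebra A B]
    (hP : IsPairHull (MvPolynomial (Fin n) A) (I.map (algebraMap A (MvPolynomial (Fin n) A))) P)
    (φ : P →ₐ[A] B) (hφ : Function.Surjective φ) (hfg : (RingHom.ker φ).FG) :
    ∃ (R : Type u) (_ : CommRing R) (_ : Algebra A R) (_ : Algebra R B) (_ : IsScalarTower A R B),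
      Algebra.FinitePresentation A R ∧ IsPairHull R (I.map (algebraMap A R)) B := by
  classical
  obtain ⟨s, hs⟩ := hfg
  obtain ⟨R₁, _, _, _, ψ, hb, hψ⟩ := Hfp.exists_nbhd_finset hP s
  choose x hx using hψ
  let K : Ideal R₁ := Ideal.span (Set.range fun b : s => x b.1 b.2)
  letI : Algebra A R₁ :=
    ((algebraMap (MvPolynomial (Fin n) A) R₁).comp (algebraMap A (MvPolynomial (Fin n) A))).toAlgebra
  have : IsScalarTower A (MvPolynomial (Fin n) A) R₁ := IsScalarTower.of_algebraMap_eq fun _ => rfl
  letI : Algebra R₁ P := ψ.toRingHom.toAlgebra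
  have : IsScalarTower (MvPolynomial (Fin n) A) R₁ P :=
    IsScalarTower.of_algebraMap_eq fun r => (ψ.commutes r).symm
  have hP₁ := Hfp.of_nbhd hP hb
  have hker : (K.map (algebraMap R₁ P)) = RingHom.ker φ := by
    rw [← hs, Ideal.map_span]
    refine congrArg Ideal.span (Set.ext fun b => ⟨?_, fun hb => ?_⟩)
    · rintro ⟨_, ⟨b, rfl⟩, rfl⟩
      rw [show algebraMap R₁ P (x b.1 b.2) = b.1 from hx b.1 b.2]
      exact b.2
    · exact ⟨x b hb, ⟨⟨b, hb⟩, rfl⟩, hx b hb⟩
  let f : R₁ →+* B := φ.toRingHom.comp ψ.toRingHom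
  have hKf : ∀ y ∈ K, f y = 0 := fun y hy =>
    RingHom.mem_ker.mp (hker.le (Ideal.mem_map_of_mem (algebraMap R₁ P) hy))
  letI : Algebra (R₁ ⧸ K) B := (Ideal.Quotient.lift K f hKf).toAlgebra
  have hA : ∀ a, algebraMap A B a = algebraMap (R₁ ⧸ K) B (algebraMap A (R₁ ⧸ K) a) := fun a => by
    show _ = φ (ψ (algebraMap (MvPolynomial (Fin n) A) R₁ (algebraMap A _ a)))
    rw [ψ.commutes, ← IsScalarTower.algebraMap_apply, φ.commutes]
  have : Algebra.FinitePresentation A R₁ :=
    Algebra.FinitePresentation.trans A (MvPolynomial (Fin n) A) R₁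
  have hfp : Algebra.FinitePresentation A (R₁ ⧸ K) :=
    Algebra.FinitePresentation.quotient ⟨Finset.univ.image fun b : s => x b.1 b.2, by simp [K]⟩
  refine ⟨R₁ ⧸ K, inferInstance, inferInstance, inferInstance, IsScalarTower.of_algebraMap_eq hA,
    hfp, ?_⟩
  have := of_surjective hP₁ (Ideal.Quotient.mk K) Ideal.Quotient.mk_surjective φ.toRingHom hφ
    (by rw [Ideal.mk_ker, hker]; rfl) (RingHom.ext fun y => rfl)
  rwa [Ideal.map_map, Ideal.map_map] at this

variable (R B : Type u) [CommRing R] [CommRing B] [Algebra A R] [Algebra A B] [Algebra R B]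
  [IsScalarTower A R B]

/-- Composites of henselian finitely presented maps. -/
theorem exists_model_comp [Algebra.FinitePresentation A R]
    (hB : IsPairHull R (I.map (algebraMap A R)) B)
    (S C : Type u) [CommRing S] [CommRing C] [Algebra B S] [Algebra A S] [IsScalarTower A B S]
    [Algebra.FinitePresentation B S] [Algebra S C] [Algebra B C] [Algebra A C] [IsScalarTower B S C]
    [IsScalarTower A B C] (hC : IsPairHull S (I.map (algebraMap A S)) C) :
    ∃ (T : Type u) (_ : CommRing T) (_ : Algebra A T) (_ : Algebra T C) (_ : IsScalarTower A T C),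
      Algebra.FinitePresentation A T ∧ IsPairHull T (I.map (algebraMap A T)) C := by
  classical
  obtain ⟨m, σ, hσ, ⟨G, hG⟩⟩ := Algebra.FinitePresentation.out (R := B) (A := S)
  obtain ⟨R₁, _, _, _, ψ, hb, hψ⟩ :=
    Hfp.exists_nbhd_finset hB (G.biUnion fun g => g.coeffs)
  letI : Algebra A R₁ := ((algebraMap R R₁).comp (algebraMap A R)).toAlgebra
  have : IsScalarTower A R R₁ := IsScalarTower.of_algebraMap_eq fun _ => rfl
  letI : Algebra R₁ B := ψ.toRingHom.toAlgebra
  have : IsScalarTower R R₁ B := IsScalarTower.of_algebraMap_eq fun r => (ψ.commutes r).symm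
  have hB₁ := Hfp.of_nbhd hB hb
  rw [Ideal.map_map, ← IsScalarTower.algebraMap_eq A R R₁] at hB₁
  have hlift : ∀ g ∈ G, g ∈ Set.range (MvPolynomial.map (σ := Fin m) ψ.toRingHom) := fun g hg => by
    rw [MvPolynomial.mem_range_map_iff_coeffs_subset]
    intro c hc
    obtain ⟨x, hx⟩ := hψ c (Finset.mem_biUnion.mpr ⟨g, hg, hc⟩)
    exact ⟨x, hx⟩
  choose G' hG' using hlift
  let K : Ideal (MvPolynomial (Fin m) R₁) := Ideal.span (Set.range fun g : G => G' g.1 g.2)
  let π₀ : MvPolynomial (Fin m) R₁ →+* S := σ.toRingHom.comp (MvPolynomial.map ψ.toRingHom)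
  have hK : ∀ y ∈ K, π₀ y = 0 := fun y hy => by
    have hle : K ≤ RingHom.ker π₀ := Ideal.span_le.mpr fun _ ⟨g, hg⟩ => by
      subst hg
      show σ (MvPolynomial.map ψ.toRingHom (G' g.1 g.2)) = 0
      rw [hG']
      exact RingHom.mem_ker.mp (hG.le (Ideal.subset_span g.2))
    exact RingHom.mem_ker.mp (hle hy)
  let T := MvPolynomial (Fin m) R₁ ⧸ K
  let π : T →+* S := Ideal.Quotient.lift K π₀ hK
  letI : Algebra T C := ((algebraMap S C).comp π).toAlgebra
  have hπR : ∀ r, π (Ideal.Quotient.mk K (MvPolynomial.C r)) = algebraMap B S (algebraMap R₁ B r) :=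
    fun r => by
      show σ (MvPolynomial.map ψ.toRingHom (MvPolynomial.C r)) = _
      rw [MvPolynomial.map_C, ← MvPolynomial.algebraMap_eq, σ.commutes]
      rfl
  have hπA : ∀ a, π (algebraMap A T a) = algebraMap A S a := fun a => by
    show π (Ideal.Quotient.mk K (MvPolynomial.C (algebraMap A R₁ a))) = _
    rw [hπR, IsScalarTower.algebraMap_apply A B S]
    congr 1
    show ψ (algebraMap R R₁ (algebraMap A R a)) = _
    rw [ψ.commutes, ← IsScalarTower.algebraMap_apply]
  have hA : ∀ a, algebraMap A C a = algebraMap T C (algebraMap A T a) := fun a => by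
    show _ = algebraMap S C (π (algebraMap A T a))
    rw [hπA, IsScalarTower.algebraMap_apply A B S, ← IsScalarTower.algebraMap_apply B S C,
      ← IsScalarTower.algebraMap_apply]
  have : Algebra.FinitePresentation A R₁ := Algebra.FinitePresentation.trans A R R₁
  have : Algebra.FinitePresentation A (MvPolynomial (Fin m) R₁) :=
    Algebra.FinitePresentation.trans A R₁ _
  have hfp : Algebra.FinitePresentation A T :=
    Algebra.FinitePresentation.quotient ⟨Finset.univ.image fun g : G => G' g.1 g.2, by simp [K]⟩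
  have htower : IsScalarTower A T C := IsScalarTower.of_algebraMap_eq hA
  refine ⟨T, inferInstance, inferInstance, inferInstance, htower, hfp, ?_, ?_⟩
  · have h1 := hC.1
    have hSC : IsScalarTower A S C := IsScalarTower.of_algebraMap_eq fun a => by
      rw [IsScalarTower.algebraMap_apply A B S, ← IsScalarTower.algebraMap_apply B S C,
        ← IsScalarTower.algebraMap_apply]
    rwa [Ideal.map_map, ← IsScalarTower.algebraMap_eq, IsScalarTower.algebraMap_eq A S C,
      ← Ideal.map_map]
  intro D _ J f hJ hle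
  let fR : R₁ →+* D := f.comp ((Ideal.Quotient.mk K).comp MvPolynomial.C)
  have hfRA : fR.comp (algebraMap A R₁) = f.comp (algebraMap A T) := RingHom.ext fun _ => rfl
  obtain ⟨h, hh, hhuniq⟩ := hB₁.2 D J fR hJ (by
    rw [Ideal.map_map] at hle ⊢
    rwa [hfRA])
  let X' : Fin m → D := fun i => f (Ideal.Quotient.mk K (MvPolynomial.X i))
  let fS₀ : MvPolynomial (Fin m) B →+* D := MvPolynomial.eval₂Hom h X'
  have hfS : fS₀.comp (MvPolynomial.map ψ.toRingHom) = f.comp (Ideal.Quotient.mk K) := by
    refine MvPolynomial.ringHom_ext (fun r => ?_) (fun i => ?_)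
    · show fS₀ (MvPolynomial.map ψ.toRingHom (MvPolynomial.C r)) = _
      rw [MvPolynomial.map_C, show fS₀ (MvPolynomial.C (ψ.toRingHom r)) = h (ψ.toRingHom r) from
        MvPolynomial.eval₂Hom_C _ _ _]
      exact congr($hh r)
    · simp [fS₀, X']
  have hkS : RingHom.ker σ.toRingHom ≤ RingHom.ker fS₀ := by
    rw [show RingHom.ker σ.toRingHom = Ideal.span (G : Set _) from hG.symm]
    refine Ideal.span_le.mpr fun g hg => ?_
    show fS₀ g = 0
    rw [← hG' g hg, show fS₀ (MvPolynomial.map ψ.toRingHom (G' g hg)) =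
      f (Ideal.Quotient.mk K (G' g hg)) from congr($hfS _),
      show Ideal.Quotient.mk K (G' g hg) = 0 from
        Ideal.Quotient.eq_zero_iff_mem.mpr (Ideal.subset_span ⟨⟨g, hg⟩, rfl⟩), map_zero]
  let fS := σ.toRingHom.liftOfSurjective hσ ⟨fS₀, hkS⟩
  have hfSσ : fS.comp σ.toRingHom = fS₀ := σ.toRingHom.liftOfSurjective_comp hσ ⟨fS₀, hkS⟩
  have hfSπ : fS.comp π = f := Ideal.Quotient.ringHom_ext (RingHom.ext fun y => by
    show fS (σ.toRingHom (MvPolynomial.map ψ.toRingHom y)) = _
    rw [show fS (σ.toRingHom (MvPolynomial.map ψ.toRingHom y)) = fS₀ _ from congr($hfSσ _)]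
    exact congr($hfS y))
  have hfSA : fS.comp (algebraMap A S) = f.comp (algebraMap A T) := RingHom.ext fun a => by
    show fS (algebraMap A S a) = _
    rw [← hπA]
    exact congr($hfSπ _)
  obtain ⟨g, hg, hguniq⟩ := hC.2 D J fS hJ (by
    rw [Ideal.map_map] at hle ⊢
    rwa [hfSA])
  refine ⟨g, RingHom.ext fun t => (congr($hg (π t))).trans congr($hfSπ t), fun g' hg' => ?_⟩
  refine hguniq g' ?_
  show g'.comp (algebraMap S C) = fS
  have hgT : ∀ t, g' (algebraMap S C (π t)) = f t := fun t => congr($hg' t)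
  have hgB : g'.comp (algebraMap B C) = h := hhuniq _ (RingHom.ext fun r => by
    show g' (algebraMap B C (algebraMap R₁ B r)) = _
    rw [IsScalarTower.algebraMap_apply B S C, ← hπR, hgT]
    rfl)
  have hσext : (g'.comp (algebraMap S C)).comp σ.toRingHom = fS.comp σ.toRingHom := by
    rw [hfSσ]
    refine MvPolynomial.ringHom_ext (fun b => ?_) (fun i => ?_)
    · show g' (algebraMap S C (σ (MvPolynomial.C b))) = fS₀ (MvPolynomial.C b)
      rw [← MvPolynomial.algebraMap_eq, σ.commutes, ← IsScalarTower.algebraMap_apply,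
        MvPolynomial.algebraMap_eq, show fS₀ (MvPolynomial.C b) = h b from MvPolynomial.eval₂Hom_C _ _ _]
      exact congr($hgB b)
    · show g' (algebraMap S C (σ (MvPolynomial.X i))) = fS₀ (MvPolynomial.X i)
      rw [show fS₀ (MvPolynomial.X i) = X' i from MvPolynomial.eval₂Hom_X' _ _ _,
        show σ (MvPolynomial.X i) = π (Ideal.Quotient.mk K (MvPolynomial.X i)) from
          (congrArg σ (MvPolynomial.map_X ψ.toRingHom i)).symm]
      exact hgT _
  refine RingHom.ext fun s => ?_
  obtain ⟨y, rfl⟩ := hσ s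
  exact congr($hσext y)

/-- Maps between henselian finitely presented algebras are henselian finitely presented. -/
theorem exists_model_hom [Algebra.FinitePresentation A R]
    (hB : IsPairHull R (I.map (algebraMap A R)) B)
    (S C : Type u) [CommRing S] [CommRing C] [Algebra A S] [Algebra S C] [Algebra A C]
    [IsScalarTower A S C] [Algebra.FinitePresentation A S]
    (hC : IsPairHull S (I.map (algebraMap A S)) C) [Algebra B C] [IsScalarTower A B C] :
    ∃ (T : Type u) (_ : CommRing T) (_ : Algebra B T) (_ : Algebra T C) (_ : IsScalarTower B T C),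
      Algebra.FinitePresentation B T ∧
      IsPairHull T ((I.map (algebraMap A B)).map (algebraMap B T)) C := by
  classical
  obtain ⟨Gx, hGx⟩ := Algebra.FiniteType.out (R := A) (A := R)
  obtain ⟨S₁, _, _, _, ψ, hb, hψ⟩ :=
    Hfp.exists_nbhd_finset hC (Gx.image fun x => algebraMap B C (algebraMap R B x))
  choose s hs using fun x : Gx => hψ _ (Finset.mem_image_of_mem _ x.2)
  letI : Algebra A S₁ := ((algebraMap S S₁).comp (algebraMap A S)).toAlgebra
  have : IsScalarTower A S S₁ := IsScalarTower.of_algebraMap_eq fun _ => rfl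
  letI : Algebra S₁ C := ψ.toRingHom.toAlgebra
  have : IsScalarTower S S₁ C := IsScalarTower.of_algebraMap_eq fun r => (ψ.commutes r).symm
  have : IsScalarTower A S₁ C := IsScalarTower.of_algebraMap_eq fun a => by
    show _ = ψ (algebraMap S S₁ (algebraMap A S a))
    rw [ψ.commutes, ← IsScalarTower.algebraMap_apply]
  have hC₁ := Hfp.of_nbhd hC hb
  rw [Ideal.map_map, ← IsScalarTower.algebraMap_eq A S S₁] at hC₁
  have : Algebra.FinitePresentation A S₁ := Algebra.FinitePresentation.trans A S S₁
  let rel : Gx → B ⊗[A] S₁ := fun x => (algebraMap R B x.1) ⊗ₜ[A] (1 : S₁) - (1 : B) ⊗ₜ[A] s x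
  let K : Ideal (B ⊗[A] S₁) := Ideal.span (Set.range rel)
  let π : B ⊗[A] S₁ →ₐ[B] C := Algebra.TensorProduct.lift (Algebra.ofId B C)
    (IsScalarTower.toAlgHom A S₁ C) fun _ _ => Commute.all _ _
  have hK : ∀ y ∈ K, π y = 0 := fun y hy => by
    have hle : K ≤ RingHom.ker π.toRingHom := Ideal.span_le.mpr fun _ ⟨x, hx⟩ => by
      subst hx
      show π (rel x) = 0
      simp [rel, π]
      exact sub_eq_zero.mpr (hs x).symm
    exact RingHom.mem_ker.mp (hle hy)
  let T := (B ⊗[A] S₁) ⧸ K
  let π' : T →ₐ[B] C := Ideal.Quotient.liftₐ K π hK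
  letI : Algebra T C := π'.toRingHom.toAlgebra
  have : IsScalarTower B T C := IsScalarTower.of_algebraMap_eq fun b => (π'.commutes b).symm
  have hfp : Algebra.FinitePresentation B T :=
    Algebra.FinitePresentation.quotient ⟨Finset.univ.image rel, by simp [K]⟩
  refine ⟨T, inferInstance, inferInstance, inferInstance, inferInstance, hfp, ?_, ?_⟩
  · rw [Ideal.map_map, ← IsScalarTower.algebraMap_eq, Ideal.map_map, ← IsScalarTower.algebraMap_eq,
      IsScalarTower.algebraMap_eq A S C, ← Ideal.map_map]
    exact hC.1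
  intro D _ J f hJ hle
  let iS : S₁ →+* T :=
    (Ideal.Quotient.mk K).comp (Algebra.TensorProduct.includeRight : S₁ →ₐ[A] B ⊗[A] S₁).toRingHom
  have hiSA : iS.comp (algebraMap A S₁) = (algebraMap B T).comp (algebraMap A B) :=
    RingHom.ext fun a => congrArg (Ideal.Quotient.mk K)
      (((Algebra.TensorProduct.includeRight : S₁ →ₐ[A] B ⊗[A] S₁).commutes a).trans
        ((Algebra.TensorProduct.includeLeft : B →ₐ[A] B ⊗[A] S₁).commutes a).symm)
  obtain ⟨g, hg, hguniq⟩ := hC₁.2 D J (f.comp iS) hJ (by
    rw [Ideal.map_map, Ideal.map_map] at hle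
    rw [Ideal.map_map]
    rwa [RingHom.comp_assoc, hiSA])
  have hπS : ∀ y, algebraMap T C (iS y) = algebraMap S₁ C y := fun y => by
    show π ((1 : B) ⊗ₜ[A] y) = _
    simp [π]
  have hgB : g.comp (algebraMap B C) = f.comp (algebraMap B T) := by
    letI : Algebra A D := (f.comp ((algebraMap B T).comp (algebraMap A B))).toAlgebra
    have hgA : ∀ a, g (algebraMap B C (algebraMap A B a)) = algebraMap A D a := fun a => by
      rw [← IsScalarTower.algebraMap_apply A B C, IsScalarTower.algebraMap_apply A S₁ C]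
      refine (congr($hg _)).trans ?_
      show f (iS (algebraMap A S₁ a)) = _
      rw [show iS (algebraMap A S₁ a) = algebraMap B T (algebraMap A B a) from congr($hiSA a)]
      rfl
    let φ₁ : B →ₐ[A] D := { g.comp (algebraMap B C) with commutes' := hgA }
    let φ₂ : B →ₐ[A] D := { f.comp (algebraMap B T) with commutes' := fun _ => rfl }
    have : HenselianRing D (I.map (algebraMap A D)) := by
      refine henselianRing_of_le (J := J) ?_ (hJ := hJ)
      rw [Ideal.map_map, Ideal.map_map] at hle
      exact hle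
    have hR : φ₁.comp (IsScalarTower.toAlgHom A R B) = φ₂.comp (IsScalarTower.toAlgHom A R B) :=
      AlgHom.ext_of_adjoin_eq_top hGx fun x hx => by
        show g (algebraMap B C (algebraMap R B x)) = f (algebraMap B T (algebraMap R B x))
        rw [← hs ⟨x, hx⟩]
        refine (congr($hg _)).trans ?_
        show f (iS (s ⟨x, hx⟩)) = _
        congr 1
        symm
        show Ideal.Quotient.mk K (algebraMap R B x ⊗ₜ[A] (1 : S₁)) =
          Ideal.Quotient.mk K ((1 : B) ⊗ₜ[A] s ⟨x, hx⟩)
        exact Ideal.Quotient.eq.mpr (Ideal.subset_span ⟨⟨x, hx⟩, rfl⟩)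
    exact congrArg AlgHom.toRingHom (HfpMaps.algHom_ext hB φ₁ φ₂ fun r => congr($hR r))
  refine ⟨g, Ideal.Quotient.ringHom_ext (RingHom.ext fun y => ?_), fun g' hg' => hguniq g' ?_⟩
  · show g (π y) = f (Ideal.Quotient.mk K y)
    induction y using TensorProduct.induction_on with
    | zero => simp
    | tmul b y =>
      rw [show b ⊗ₜ[A] y = (b ⊗ₜ[A] (1 : S₁)) * ((1 : B) ⊗ₜ[A] y) by simp, map_mul π, map_mul g,
        map_mul (Ideal.Quotient.mk K), map_mul f]
      refine congrArg₂ (· * ·) ?_ ?_
      · rw [show π (b ⊗ₜ[A] (1 : S₁)) = algebraMap B C b by simp [π]]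
        exact congr($hgB b)
      · rw [show π ((1 : B) ⊗ₜ[A] y) = algebraMap S₁ C y by simp [π]]
        exact congr($hg y)
    | add x y hx hy => rw [map_add π, map_add g, hx, hy, map_add (Ideal.Quotient.mk K), map_add f]
  · show g'.comp (algebraMap S₁ C) = _
    refine RingHom.ext fun y => ?_
    show g' (algebraMap S₁ C y) = f (iS y)
    rw [← hπS]
    exact congr($hg' (iS y))

end Groth.Agent.HenselLib.HfpModels
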