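import Groth.Agent.HenselLib.HfpFlat
import Groth.Agent.HenselLib.HfpModels
import Groth.Agent.HenselLib.HfpMaps
import Groth.Agent.HenselLib.Lift
import Mathlib.RingTheory.Smooth.Fiber
import Mathlib.RingTheory.Nakayama

/-!
# Henselian finitely presented algebras with etale or smooth reductions
-/

set_option autoImplicit false
set_option linter.all false

universe u

open scoped TensorProduct

namespace Groth.Agent.HenselLib.HfpSmoothModel

/-- An endomorphism congruent to the identity modulo a nilpotent ideal is bijective. -/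
theorem bijective_of_sub_mem {A X : Type u} [CommRing A] [AddCommGroup X] [Module A X] (N : Ideal A)
    (hN : IsNilpotent N) (h : X →ₗ[A] X) (hh : ∀ x, h x - x ∈ N • (⊤ : Submodule A X)) :
    Function.Bijective h := by
  let δ : X →ₗ[A] X := h - LinearMap.id
  obtain ⟨k, hk⟩ := hN
  have hmap : ∀ j : ℕ, ∀ x, (δ ^ j) x ∈ (N ^ j) • (⊤ : Submodule A X) := fun j => by
    induction j with
    | zero => intro x; simp
    | succ j ih =>
      intro x
      rw [pow_succ' δ, Module.End.mul_apply]
      have h2 : ((N ^ j) • (⊤ : Submodule A X)).map δ ≤ (N ^ (j + 1)) • ⊤ := by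
        rw [Submodule.map_smul'', pow_succ, Submodule.mul_smul]
        exact Submodule.smul_mono le_rfl fun y ⟨z, _, hz⟩ => hz ▸ hh z
      exact h2 ⟨_, ih x, rfl⟩
  have hδ : IsNilpotent δ := ⟨k, LinearMap.ext fun x => by
    have := hmap k x
    rw [hk, Submodule.zero_eq_bot, Submodule.bot_smul] at this
    simpa using this⟩
  have hu : IsUnit (h : Module.End A X) := by
    have : (h : Module.End A X) = 1 + δ := by ext x; simp [δ]
    rw [this]
    exact hδ.isUnit_one_add
  exact (Module.End.isUnit_iff h).mp hu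

/-- A map to a formally smooth algebra bijective modulo a nilpotent ideal is bijective. -/
theorem bijective_of_formallySmooth {A X Y : Type u} [CommRing A] [CommRing X] [CommRing Y] [Algebra A X]
    [Algebra A Y] [Algebra.FormallySmooth A Y] (f : X →ₐ[A] Y) (N : Ideal A) (hN : IsNilpotent N)
    (hs : ∀ y, ∃ x, f x - y ∈ N.map (algebraMap A Y))
    (hi : ∀ x, f x ∈ N.map (algebraMap A Y) → x ∈ N.map (algebraMap A X)) :
    Function.Bijective f := by
  let fb : X ⧸ N.map (algebraMap A X) →ₐ[A] Y ⧸ N.map (algebraMap A Y) :=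
    Ideal.Quotient.liftₐ _ ((Ideal.Quotient.mkₐ A _).comp f) fun x hx =>
      Ideal.Quotient.eq_zero_iff_mem.mpr (mem_map_algHom f N hx)
  have hfb : Function.Bijective fb := by
    constructor
    · refine (injective_iff_map_eq_zero fb).mpr fun x hx => ?_
      obtain ⟨x, rfl⟩ := Ideal.Quotient.mk_surjective x
      exact Ideal.Quotient.eq_zero_iff_mem.mpr (hi x (Ideal.Quotient.eq_zero_iff_mem.mp hx))
    · intro y
      obtain ⟨y, rfl⟩ := Ideal.Quotient.mk_surjective y
      obtain ⟨x, hx⟩ := hs y
      exact ⟨Ideal.Quotient.mk _ x, Ideal.Quotient.eq.mpr hx⟩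
  let e := AlgEquiv.ofBijective fb hfb
  have hnil : IsNilpotent (N.map (algebraMap A X)) := by
    obtain ⟨k, hk⟩ := hN
    exact ⟨k, by rw [← Ideal.map_pow, hk, Ideal.zero_eq_bot, Ideal.map_bot, Ideal.zero_eq_bot]⟩
  let g : Y →ₐ[A] X := Algebra.FormallySmooth.lift _ hnil (e.symm.toAlgHom.comp (Ideal.Quotient.mkₐ A _))
  have hg : ∀ y, Ideal.Quotient.mk _ (g y) = e.symm (Ideal.Quotient.mk _ y) :=
    Algebra.FormallySmooth.mk_lift _ hnil _
  have hfg : ∀ y, f (g y) - y ∈ N.map (algebraMap A Y) := fun y => by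
    rw [← Ideal.Quotient.eq]
    show fb (Ideal.Quotient.mk _ (g y)) = _
    rw [hg]
    exact e.apply_symm_apply _
  have h1 := bijective_of_sub_mem N hN (f.comp g).toLinearMap fun y => by
    rw [Ideal.smul_top_eq_map, Submodule.restrictScalars_mem]
    exact hfg y
  have h2 := bijective_of_sub_mem N hN (g.comp f).toLinearMap fun x => by
    rw [Ideal.smul_top_eq_map, Submodule.restrictScalars_mem]
    refine hi _ ?_
    rw [map_sub]
    exact hfg (f x)
  exact ⟨(show Function.Injective (g ∘ f) from h2.1).of_comp,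
    (show Function.Surjective (f ∘ g) from h1.2).of_comp⟩

variable {A : Type u} [CommRing A] {I : Ideal A}

/-- The kernel of a surjection of henselizations of finitely presented algebras is finitely generated. -/
theorem ker_fg [HenselianRing A I] {R H : Type u} [CommRing R] [CommRing H] [Algebra A R] [Algebra R H]
    [Algebra A H] [IsScalarTower A R H] [Algebra.FinitePresentation A R]
    (hH : IsPairHull R (I.map (algebraMap A R)) H)
    {R₀ B : Type u} [CommRing R₀] [CommRing B] [Algebra A R₀] [Algebra R₀ B] [Algebra A B]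
    [IsScalarTower A R₀ B] [Algebra.FinitePresentation A R₀]
    (hB : IsPairHull R₀ (I.map (algebraMap A R₀)) B) (φ : H →ₐ[A] B) (hφ : Function.Surjective φ) :
    (RingHom.ker φ).FG := by
  letI : Algebra H B := φ.toRingHom.toAlgebra
  haveI : IsScalarTower A H B := IsScalarTower.of_algebraMap_eq fun a => (φ.commutes a).symm
  haveI hHh : HenselianRing H (I.map (algebraMap A H)) := by
    have := hH.1
    rwa [Ideal.map_map, ← IsScalarTower.algebraMap_eq] at this
  haveI hBh : HenselianRing B ((I.map (algebraMap A H)).map (algebraMap H B)) := by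
    have := hB.1
    rw [Ideal.map_map, ← IsScalarTower.algebraMap_eq] at this
    rwa [Ideal.map_map, ← IsScalarTower.algebraMap_eq]
  obtain ⟨T, _, _, _, _, hT, hTB⟩ := HfpModels.exists_model_hom A I R H hH R₀ B hB
  haveI : HenselianRing H ((I.map (algebraMap A H)).map (algebraMap H H)) := by
    rwa [Algebra.algebraMap_self, Ideal.map_id]
  obtain ⟨n, P, _, _, _, _, hP, ψ, hψ, hfg⟩ := HfpModels.exists_presentation H _ T B hTB
  choose h hh using fun i : Fin n => hφ (ψ (algebraMap (MvPolynomial (Fin n) H) P (MvPolynomial.X i)))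
  obtain ⟨χ, hχ⟩ := HfpMaps.exists_extend hP (MvPolynomial.aeval h : MvPolynomial (Fin n) H →ₐ[H] H)
  have hagree : (Algebra.ofId H B).comp χ = ψ := HfpMaps.algHom_ext hP _ _ fun r => by
    have : ((Algebra.ofId H B).comp χ).comp (IsScalarTower.toAlgHom H (MvPolynomial (Fin n) H) P) =
        ψ.comp (IsScalarTower.toAlgHom H (MvPolynomial (Fin n) H) P) := MvPolynomial.algHom_ext fun i => by
      show algebraMap H B (χ (algebraMap (MvPolynomial (Fin n) H) P (MvPolynomial.X i))) = _
      rw [hχ, MvPolynomial.aeval_X]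
      exact hh i
    exact congr($this r)
  have : RingHom.ker φ = (RingHom.ker ψ).map χ := by
    refine le_antisymm (fun x hx => ?_) (Ideal.map_le_iff_le_comap.mpr fun x hx => ?_)
    · have hx' : algebraMap H P x ∈ RingHom.ker ψ := by
        rw [RingHom.mem_ker, ψ.commutes]
        exact hx
      have h1 := Ideal.mem_map_of_mem χ hx'
      rw [χ.commutes] at h1
      exact h1
    · show algebraMap H B (χ x) = 0
      exact (congr($hagree x)).trans hx
  rw [this]
  exact hfg.map _

/-- A henselian finitely presented algebra with smooth truncations is, up to a finitely generated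
kernel contained in all powers of the ideal, the henselization of any lift of its reduction. -/
theorem exists_cover [HenselianRing A I] (R : Type u) [CommRing R] [Algebra A R]
    [Algebra.Smooth A R] {R₀ B : Type u} [CommRing R₀] [CommRing B] [Algebra A R₀] [Algebra R₀ B]
    [Algebra A B] [IsScalarTower A R₀ B] [Algebra.FinitePresentation A R₀]
    (hB : IsPairHull R₀ (I.map (algebraMap A R₀)) B)
    (het : ∀ r : ℕ, 1 ≤ r →
      Algebra.FormallySmooth (A ⧸ I ^ r) (B ⧸ (I ^ r).map (algebraMap A B)))
    (θ : R →ₐ[A] B ⧸ I.map (algebraMap A B)) (hθ : Function.Surjective θ)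
    (hker : ∀ x, θ x = 0 → x ∈ I.map (algebraMap A R)) :
    ∃ (H : Type u) (_ : CommRing H) (_ : Algebra R H) (_ : Algebra A H) (_ : IsScalarTower A R H),
      IsPairHull R (I.map (algebraMap A R)) H ∧
      ∃ φ : H →ₐ[A] B, Function.Surjective φ ∧ (RingHom.ker φ).FG ∧
        ∀ n : ℕ, RingHom.ker φ ≤ (I ^ n).map (algebraMap A H) := by
  let H := PairH R (I.map (algebraMap A R))
  have hH : IsPairHull R (I.map (algebraMap A R)) H := isPairHull_pairH _ _
  letI : Algebra A H := ((algebraMap R H).comp (algebraMap A R)).toAlgebra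
  haveI : IsScalarTower A R H := IsScalarTower.of_algebraMap_eq fun _ => rfl
  haveI hHh : HenselianRing H (I.map (algebraMap A H)) := by
    have := hH.1
    rwa [Ideal.map_map, ← IsScalarTower.algebraMap_eq] at this
  haveI hBh : HenselianRing B (I.map (algebraMap A B)) := by
    have := hB.1
    rwa [Ideal.map_map, ← IsScalarTower.algebraMap_eq] at this
  let σ : B ⊗[A] R →ₐ[B] B ⧸ I.map (algebraMap A B) :=
    Algebra.TensorProduct.lift (Algebra.ofId B _) θ fun _ _ => Commute.all _ _
  obtain ⟨τ, hτ⟩ := exists_lift_of_smooth _ σ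
  let τ₀ : R →ₐ[A] B := (τ.restrictScalars A).comp Algebra.TensorProduct.includeRight
  have hτ₀ : ∀ r, Ideal.Quotient.mk _ (τ₀ r) = θ r := fun r => by
    have := congr($hτ ((1 : B) ⊗ₜ[A] r))
    simpa [σ, τ₀] using this
  obtain ⟨φ, hφ⟩ := HfpMaps.exists_extend hH τ₀
  refine ⟨H, inferInstance, inferInstance, inferInstance, inferInstance, hH, φ, ?_⟩
  have hs : ∀ b, ∃ x, φ x - b ∈ I.map (algebraMap A B) := fun b => by
    obtain ⟨r, hr⟩ := hθ (Ideal.Quotient.mk _ b)
    exact ⟨algebraMap R H r, by rw [← Ideal.Quotient.eq, hφ, hτ₀, hr]⟩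
  have hi : ∀ x, φ x ∈ I.map (algebraMap A B) → x ∈ I.map (algebraMap A H) := fun x hx => by
    have h1 := hH.bijective_quotientMap 1
    obtain ⟨y, hy⟩ := h1.2 (Ideal.Quotient.mk _ x)
    obtain ⟨r, rfl⟩ := Ideal.Quotient.mk_surjective y
    rw [Ideal.quotientMap_mk, Ideal.Quotient.eq] at hy
    rw [pow_one, Ideal.map_map, ← IsScalarTower.algebraMap_eq] at hy
    have h2 : φ (algebraMap R H r) ∈ I.map (algebraMap A B) := by
      have := add_mem (mem_map_algHom φ I hy) hx
      rwa [map_sub, sub_add_cancel] at this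
    rw [← Ideal.Quotient.eq_zero_iff_mem, hφ, hτ₀] at h2
    have h3 : algebraMap R H r ∈ I.map (algebraMap A H) := by
      rw [IsScalarTower.algebraMap_eq A R H, ← Ideal.map_map]
      exact Ideal.mem_map_of_mem _ (hker r h2)
    exact (Submodule.sub_mem_iff_right _ h3).mp hy
  have hinj : ∀ n : ℕ, RingHom.ker φ ≤ (I ^ n).map (algebraMap A H) := fun n => by
    rcases Nat.eq_zero_or_pos n with rfl | hn
    · simp [Ideal.map_top]
    intro x hx
    set J := I ^ n with hJ
    have := het n hn
    have hJI : J ≤ I := hJ ▸ Ideal.pow_le_self hn.ne'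
    let f₀ : H ⧸ J.map (algebraMap A H) →ₐ[A] B ⧸ J.map (algebraMap A B) :=
      Ideal.Quotient.liftₐ _ ((Ideal.Quotient.mkₐ A _).comp φ) fun y hy =>
        Ideal.Quotient.eq_zero_iff_mem.mpr (mem_map_algHom φ J hy)
    let f := f₀.extendScalarsOfSurjective (S := A ⧸ J) Ideal.Quotient.mk_surjective
    let N : Ideal (A ⧸ J) := I.map (Ideal.Quotient.mk J)
    have hN : IsNilpotent N := ⟨n, by rw [← Ideal.map_pow, Ideal.map_quotient_self, Ideal.zero_eq_bot]⟩
    have hNmap : ∀ {C : Type u} [CommRing C] [Algebra A C] (c : C),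
        Ideal.Quotient.mk (J.map (algebraMap A C)) c ∈ N.map (algebraMap (A ⧸ J) (C ⧸ J.map (algebraMap A C))) ↔
          c ∈ I.map (algebraMap A C) := fun {C} _ _ c => by
      rw [Ideal.map_map, show (algebraMap (A ⧸ J) (C ⧸ J.map (algebraMap A C))).comp (Ideal.Quotient.mk J) =
        (Ideal.Quotient.mk (J.map (algebraMap A C))).comp (algebraMap A C) from RingHom.ext fun a => rfl,
        ← Ideal.map_map, ← Ideal.mem_comap, Ideal.comap_map_mk (Ideal.map_mono hJI)]
    have hb := bijective_of_formallySmooth f N hN (fun y => by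
      obtain ⟨b, rfl⟩ := Ideal.Quotient.mk_surjective y
      obtain ⟨z, hz⟩ := hs b
      refine ⟨Ideal.Quotient.mk _ z, ?_⟩
      show Ideal.Quotient.mk _ (φ z) - Ideal.Quotient.mk _ b ∈ _
      rw [← map_sub, hNmap]
      exact hz) fun z hz => by
      obtain ⟨z, rfl⟩ := Ideal.Quotient.mk_surjective z
      rw [hNmap]
      exact hi z ((hNmap (φ z)).mp hz)
    rw [← Ideal.Quotient.eq_zero_iff_mem]
    refine hb.1 ?_
    show Ideal.Quotient.mk _ (φ x) = f (0 : H ⧸ J.map (algebraMap A H))
    rw [RingHom.mem_ker.mp hx, map_zero, map_zero]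
  have hsurj : Function.Surjective φ := by
    letI : Algebra H B := φ.toRingHom.toAlgebra
    haveI : IsScalarTower A H B := IsScalarTower.of_algebraMap_eq fun a => (φ.commutes a).symm
    obtain ⟨T, _, _, _, _, hT, hTB⟩ := HfpModels.exists_model_hom A I R H hH R₀ B hB
    refine Hfp.surjective_of_quotient_surjective (I.map (algebraMap A H)) hTB fun y => ?_
    obtain ⟨b, rfl⟩ := Ideal.Quotient.mk_surjective y
    obtain ⟨x, hx⟩ := hs b
    refine ⟨Ideal.Quotient.mk _ x, ?_⟩
    rw [Ideal.quotientMap_mk, Ideal.Quotient.eq, Ideal.map_map, ← IsScalarTower.algebraMap_eq]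
    exact hx
  exact ⟨hsurj, ker_fg hH hB φ hsurj, hinj⟩

/-- The fibre of a flat algebra with smooth reduction is smooth at the primes of the closed subset. -/
theorem isSmoothAt_of_smooth_quotient {R : Type u} [CommRing R] [Algebra A R] [Module.Flat A R]
    [Algebra.FinitePresentation A R] (J : Ideal A) [Algebra.Smooth (A ⧸ J) ((A ⧸ J) ⊗[A] R)]
    (q : Ideal R) [q.IsPrime] (hq : J.map (algebraMap A R) ≤ q) : Algebra.IsSmoothAt A q := by
  let p := q.under A
  have hJp : ∀ a ∈ J, algebraMap A p.ResidueField a = 0 := fun a ha => by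
    rw [Ideal.algebraMap_residueField_eq_zero]
    exact hq (Ideal.mem_map_of_mem _ ha)
  letI : Algebra (A ⧸ J) p.ResidueField := (Ideal.Quotient.lift J (algebraMap A p.ResidueField) hJp).toAlgebra
  haveI : IsScalarTower A (A ⧸ J) p.ResidueField := IsScalarTower.of_algebraMap_eq fun a => rfl
  let e : p.ResidueField ⊗[A ⧸ J] ((A ⧸ J) ⊗[A] R) ≃ₐ[p.ResidueField] p.Fiber R :=
    Algebra.TensorProduct.cancelBaseChange A (A ⧸ J) p.ResidueField p.ResidueField R
  haveI : Algebra.FormallySmooth p.ResidueField (p.Fiber R) := Algebra.FormallySmooth.of_equiv (R := p.ResidueField) (A := p.ResidueField ⊗[A ⧸ J] ((A ⧸ J) ⊗[A] R)) e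
  exact Algebra.IsSmoothAt.of_formallySmooth_fiber p q

theorem exists_smooth_away {R : Type u} [CommRing R] [Algebra A R] [Module.Flat A R]
    [Algebra.FinitePresentation A R] (J : Ideal A) [Algebra.Smooth (A ⧸ J) ((A ⧸ J) ⊗[A] R)] :
    ∃ g : R, g - 1 ∈ J.map (algebraMap A R) ∧
      (PrimeSpectrum.basicOpen g : Set (PrimeSpectrum R)) ⊆ Algebra.smoothLocus A R :=
  ZeroLocusShrink.exists_away _ Algebra.isOpen_smoothLocus fun q hq =>
    isSmoothAt_of_smooth_quotient J q.asIdeal hq

/-- An algebra with unramified reduction is unramified near the closed subset. -/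
theorem exists_unramified_away {R : Type u} [CommRing R] [Algebra A R] [Algebra.FiniteType A R]
    (J : Ideal A) [Algebra.FormallyUnramified (A ⧸ J) ((A ⧸ J) ⊗[A] R)] :
    ∃ g : R, g - 1 ∈ J.map (algebraMap A R) ∧
      (PrimeSpectrum.basicOpen g : Set (PrimeSpectrum R)) ⊆ Algebra.unramifiedLocus A R := by
  refine ZeroLocusShrink.exists_away _ Algebra.isOpen_unramifiedLocus ?_
  intro q hq
  let K := J.map (algebraMap A R)
  haveI : Algebra.FormallyUnramified (A ⧸ J) (R ⧸ K) :=
    Algebra.FormallyUnramified.of_equiv (Algebra.TensorProduct.quotIdealMapEquivQuotTensor R J).symm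
  haveI : Algebra.FormallyUnramified A (A ⧸ J) :=
    Algebra.FormallyUnramified.of_surjective (Algebra.ofId A (A ⧸ J)) Ideal.Quotient.mk_surjective
  haveI : Algebra.FormallyUnramified A (R ⧸ K) := Algebra.FormallyUnramified.comp A (A ⧸ J) (R ⧸ K)
  let N : Submodule R Ω[R⁄A] := K • ⊤
  let D : R →ₗ[A] Ω[R⁄A] ⧸ N := (N.mkQ.restrictScalars A).comp (KaehlerDifferential.D A R).toLinearMap
  have hD : (K.restrictScalars A) ≤ LinearMap.ker D := by
    show (K.restrictScalars A) ≤ _
    rw [show K.restrictScalars A = J • (⊤ : Submodule A R) from (Ideal.smul_top_eq_map J).symm]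
    refine Submodule.smul_le.mpr fun a ha x _ => ?_
    rw [LinearMap.mem_ker, map_smul, ← algebraMap_smul R a (D x)]
    obtain ⟨y, hy⟩ := N.mkQ_surjective (D x)
    rw [← hy, ← map_smul, Submodule.mkQ_apply, Submodule.Quotient.mk_eq_zero]
    exact Submodule.smul_mem_smul (Ideal.mem_map_of_mem _ ha) trivial
  let D' : Derivation A (R ⧸ K) (Ω[R⁄A] ⧸ N) := Derivation.mk'
    ((K.restrictScalars A).liftQ D hD ∘ₗ (Submodule.Quotient.restrictScalarsEquiv A K).symm.toLinearMap) (by
      intro a b
      obtain ⟨a, rfl⟩ := Ideal.Quotient.mk_surjective a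
      obtain ⟨b, rfl⟩ := Ideal.Quotient.mk_surjective b
      show N.mkQ (KaehlerDifferential.D A R (a * b)) =
        Ideal.Quotient.mk K a • N.mkQ (KaehlerDifferential.D A R b) +
          Ideal.Quotient.mk K b • N.mkQ (KaehlerDifferential.D A R a)
      rw [Derivation.leibniz, map_add, map_smul, map_smul]
      rfl)
  have hzero : ∀ x, N.mkQ (KaehlerDifferential.D A R x) = 0 := fun x => by
    show D' (Ideal.Quotient.mk K x) = 0
    rw [← Derivation.liftKaehlerDifferential_comp_D D', Subsingleton.elim
      (KaehlerDifferential.D A (R ⧸ K) (Ideal.Quotient.mk K x)) 0, map_zero]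
  have htop : (⊤ : Submodule R Ω[R⁄A]) ≤ K • ⊤ := by
    refine le_trans (KaehlerDifferential.span_range_derivation A R).ge (Submodule.span_le.mpr ?_)
    rintro _ ⟨x, rfl⟩
    exact (Submodule.Quotient.mk_eq_zero N).mp (hzero x)
  obtain ⟨r, hr, hr'⟩ := Submodule.exists_sub_one_mem_and_smul_eq_zero_of_fg_of_le_smul K ⊤
    Module.Finite.fg_top htop
  have hrq : r ∉ q.asIdeal := fun h => q.2.ne_top ((Ideal.eq_top_iff_one _).mpr (by
    simpa using sub_mem h (hq hr)))
  rw [Algebra.unramifiedLocus_eq_compl_support, Set.mem_compl_iff, Module.notMem_support_iff']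
  exact fun m => ⟨r, hrq, hr' m trivial⟩

/-- A henselization is a henselization of a principal neighbourhood of the closed subset. -/
theorem exists_away_hull {R : Type u} [CommRing R] [Algebra A R] {B : Type u} [CommRing B]
    [Algebra R B] [Algebra A B] [IsScalarTower A R B]
    (hB : IsPairHull R (I.map (algebraMap A R)) B) (g : R) (hg : g - 1 ∈ I.map (algebraMap A R)) :
    ∃ (_ : Algebra (Localization.Away g) B) (_ : IsScalarTower A (Localization.Away g) B),
      IsPairHull (Localization.Away g) (I.map (algebraMap A (Localization.Away g))) B := by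
  have hu : IsUnit (algebraMap R B g) := by
    refine isUnit_of_sub_one_mem hB.1.jac ?_
    rw [← map_one (algebraMap R B), ← map_sub]
    exact Ideal.mem_map_of_mem _ hg
  letI : Algebra (Localization.Away g) B := (IsLocalization.Away.lift g hu).toAlgebra
  haveI : IsScalarTower R (Localization.Away g) B :=
    .of_algebraMap_eq fun r => (IsLocalization.Away.lift_eq g hu r).symm
  haveI : IsScalarTower A (Localization.Away g) B := .of_algebraMap_eq fun a => by
    rw [IsScalarTower.algebraMap_apply A R B, IsScalarTower.algebraMap_apply A R (Localization.Away g),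
      ← IsScalarTower.algebraMap_apply R (Localization.Away g) B]
  refine ⟨inferInstance, inferInstance, ?_⟩
  have := Hfp.of_nbhd hB (R' := Localization.Away g) (ZeroLocusShrink.bijective_quotientMap_away _ g hg)
  rwa [Ideal.map_map, ← IsScalarTower.algebraMap_eq] at this

theorem mul_sub_one_mem {R : Type u} [CommRing R] {K : Ideal R} {a b : R} (ha : a - 1 ∈ K)
    (hb : b - 1 ∈ K) : a * b - 1 ∈ K := by
  rw [show a * b - 1 = a * (b - 1) + (a - 1) by ring]
  exact add_mem (K.mul_mem_left a hb) ha

end Groth.Agent.HenselLib.HfpSmoothModel
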