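import Groth.Agent.HenselLib.HullFlat
import Groth.Prelude.Def_PBC
import Mathlib.CategoryTheory.Comma.Over.Basic

/-!
# Hulls are ind-etale
-/

set_option autoImplicit false

namespace Groth.Agent.HenselLib

open CategoryTheory Limits

universe u

variable (R K : Type u) [CommRing R] [CommRing K] [Algebra R K]

/-- The diagram of pointed etale algebras under the base. -/
noncomputable def hullUnderDiagram : Pt R K ⥤ Under (CommRingCat.of R) where
  obj P := Under.mk (CommRingCat.ofHom (algebraMap R P.Ring))
  map f := Under.homMk (CommRingCat.ofHom f.map.toRingHom)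
    (CommRingCat.hom_ext f.map.comp_algebraMap)
  map_id _ := rfl
  map_comp _ _ := rfl

/-- The hull as a cocone under the base. -/
noncomputable def hullUnderCocone : Cocone (hullUnderDiagram R K) where
  pt := Under.mk (CommRingCat.ofHom (algebraMap R (Hull R K)))
  ι :=
    { app := fun P => Under.homMk (CommRingCat.ofHom (ι P).toRingHom)
        (CommRingCat.hom_ext (ι P).comp_algebraMap)
      naturality := fun P Q f => Under.UnderMorphism.ext
        (CommRingCat.hom_ext (RingHom.ext fun x => ι_map f x)) }

/-- The hull is the colimit of the pointed etale algebras under the base. -/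
theorem nonempty_isColimit_hullUnderCocone : Nonempty (IsColimit (hullUnderCocone R K)) := by
  have h : ∀ s : Cocone (hullUnderDiagram R K), ∃ m : (hullUnderCocone R K).pt ⟶ s.pt,
      (∀ P, (hullUnderCocone R K).ι.app P ≫ m = s.ι.app P) ∧
      ∀ m' : (hullUnderCocone R K).pt ⟶ s.pt,
        (∀ P, (hullUnderCocone R K).ι.app P ≫ m' = s.ι.app P) → m' = m := fun s => by
    let : Algebra R s.pt.right := s.pt.hom.hom.toAlgebra
    let g : ∀ P : Pt R K, P.Ring →ₐ[R] s.pt.right := fun P =>
      { (s.ι.app P).right.hom with
        commutes' := fun r => congr($(Under.w (s.ι.app P)).hom r) }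
    obtain ⟨G, hG⟩ := exists_desc g fun P Q f => AlgHom.ext fun x =>
      congr(($(s.w f)).right.hom x)
    refine ⟨Under.homMk (CommRingCat.ofHom G.toRingHom) (CommRingCat.hom_ext G.comp_algebraMap),
      fun P => Under.UnderMorphism.ext (CommRingCat.hom_ext (RingHom.ext fun x => congr($(hG P) x))),
      fun m' hm' => Under.UnderMorphism.ext (CommRingCat.hom_ext (RingHom.ext fun x => ?_))⟩
    obtain ⟨P, y, rfl⟩ := exists_rep x
    exact (congr(($(hm' P)).right.hom y)).trans (congr($(hG P) y)).symm
  choose m hm hu using h
  exact ⟨{ desc := m, fac := hm, uniq := hu }⟩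

theorem isIndEtale_hull (S : Type u) [CommRing S] [Algebra R S] (e : Hull R K ≃ₐ[R] S) :
    EtPBC.IsIndEtale R S := by
  obtain ⟨hc⟩ := nonempty_isColimit_hullUnderCocone R K
  refine ⟨Pt R K, inferInstance, inferInstance, hullUnderDiagram R K, hullUnderCocone R K, hc,
    fun P => ?_, ⟨Under.isoMk e.toRingEquiv.toCommRingCatIso
      (CommRingCat.hom_ext (RingHom.ext e.commutes))⟩⟩
  have h : (algebraMap R P.Ring).toAlgebra = (inferInstance : Algebra R P.Ring) :=
    Algebra.algebra_ext _ _ fun r => rfl
  show @Algebra.Etale R P.Ring _ _ (algebraMap R P.Ring).toAlgebra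
  rw [h]
  infer_instance

end Groth.Agent.HenselLib
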