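import Groth.Agent.HenselLib.WEtField
import Mathlib.RingTheory.Etale.Field
import Mathlib.RingTheory.Filtration
import Mathlib.RingTheory.Jacobson.Ring
import Mathlib.RingTheory.Trace.Basic
import Mathlib.RingTheory.TensorProduct.Free
import Mathlib.FieldTheory.Galois.GaloisClosure
import Mathlib.FieldTheory.IsSepClosed
import Mathlib.FieldTheory.PurelyInseparable.Basic
import Mathlib.FieldTheory.IsAlgClosed.AlgebraicClosure
import Mathlib.LinearAlgebra.TensorProduct.RightExactness

/-!
# Idempotents and weakly etale elements after a field extension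
-/

set_option autoImplicit false
set_option linter.all false
universe u

open TensorProduct

namespace Groth.Agent.HenselLib.IdemBC

/-- Idempotents of `D ⊗ B` are constant for a Noetherian domain `D` with a rational point. -/
theorem idem_const {k B D : Type u} [Field k] [CommRing B] [Algebra k B] [CommRing D] [IsDomain D]
    [IsNoetherianRing D] [Algebra k D] (ε : D →ₐ[k] k) {e : D ⊗[k] B} (he : IsIdempotentElem e) :
    ∃ e₀ : B, e = 1 ⊗ₜ e₀ := by
  let π : D ⊗[k] B →ₐ[k] B :=
    (Algebra.TensorProduct.lid k B).toAlgHom.comp (Algebra.TensorProduct.map ε (AlgHom.id k B))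
  have hπ : ∀ (d : D) (b : B), π (d ⊗ₜ b) = ε d • b := fun d b => by simp [π]
  refine ⟨π e, ?_⟩
  let bB := Module.Basis.ofVectorSpace k B
  let bD := Algebra.TensorProduct.basis D bB
  set m : Ideal D := RingHom.ker ε with hm
  -- kernel of the point
  have hker : ∀ z, π z = 0 → z ∈ m.map (algebraMap D (D ⊗[k] B)) := by
    intro z hz
    rw [← bD.linearCombination_repr z, Finsupp.linearCombination_apply] at hz ⊢
    rw [Finsupp.sum, map_sum] at hz
    have hz' : ∑ i ∈ (bD.repr z).support, ε (bD.repr z i) • bB i = 0 := by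
      rw [← hz]
      refine Finset.sum_congr rfl fun i _ => ?_
      rw [Algebra.TensorProduct.basis_apply, TensorProduct.smul_tmul', smul_eq_mul, mul_one, hπ]
    have hc := linearIndependent_iff'.mp bB.linearIndependent _ _ hz'
    refine Ideal.sum_mem _ fun i hi => ?_
    dsimp only
    rw [Algebra.smul_def]
    exact Ideal.mul_mem_right _ _ (Ideal.mem_map_of_mem _ (RingHom.mem_ker.mpr (hc i hi)))
  have hcoord : ∀ (I : Ideal D) (z : D ⊗[k] B), z ∈ I.map (algebraMap D (D ⊗[k] B)) → ∀ i, bD.repr z i ∈ I := by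
    intro I z hz
    have hz' : z ∈ I • (⊤ : Submodule D (D ⊗[k] B)) := by rw [Ideal.smul_top_eq_map]; exact hz
    refine Submodule.smul_induction_on hz' (fun a ha v _ i => ?_) (fun v w hv hw i => ?_)
    · rw [map_smul, Finsupp.smul_apply, smul_eq_mul]; exact I.mul_mem_right _ ha
    · rw [map_add, Finsupp.add_apply]; exact add_mem (hv i) (hw i)
  have hzero : ∀ g : D ⊗[k] B, IsIdempotentElem g → π g = 0 → g = 0 := by
    intro g hg hg0
    refine bD.repr.injective (Finsupp.ext fun i => ?_)
    rw [map_zero, Finsupp.zero_apply, ← Submodule.mem_bot D]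
    rw [← Ideal.iInf_pow_eq_bot_of_isDomain (I := m) (RingHom.ker_ne_top _), Submodule.mem_iInf]
    intro n
    refine hcoord (m ^ n) g ?_ i
    rw [Ideal.map_pow]
    rcases n with _ | n
    · simp
    · rw [← hg.pow_succ_eq n]
      exact Ideal.pow_mem_pow (hker g hg0) _
  set f : D ⊗[k] B := 1 ⊗ₜ π e with hf
  have hπf : π f = π e := by rw [hf, hπ, map_one, one_smul]
  have hfi : IsIdempotentElem f := (he.map π).map (Algebra.TensorProduct.includeRight : B →ₐ[k] D ⊗[k] B)
  have hπe : π e * π e = π e := (he.map π).eq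
  have h1 := hzero _ (he.mul hfi.one_sub) (by rw [map_mul, map_sub, map_one, hπf, mul_sub, mul_one, hπe, sub_self])
  have h2 := hzero _ (hfi.mul he.one_sub) (by rw [map_mul, map_sub, map_one, hπf, mul_sub, mul_one, hπe, sub_self])
  linear_combination h1 - h2

/-- Over an algebraically closed field, no new idempotents after field extension. -/
theorem idem_of_isAlgClosed {k B L : Type u} [Field k] [IsAlgClosed k] [CommRing B] [Algebra k B] [Field L]
    [Algebra k L] {e : L ⊗[k] B} (he : IsIdempotentElem e) :
    ∃ e₀ : B, IsIdempotentElem e₀ ∧ e = 1 ⊗ₜ e₀ := by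
  classical
  obtain ⟨s, hs⟩ := TensorProduct.exists_finset e
  let D := Algebra.adjoin k ((s.image Prod.fst : Finset L) : Set L)
  haveI : Algebra.FiniteType k D := D.fg_iff_finiteType.mp ⟨_, rfl⟩
  haveI : IsNoetherianRing D := Algebra.FiniteType.isNoetherianRing k D
  let Φ : D ⊗[k] B →ₐ[k] L ⊗[k] B := Algebra.TensorProduct.map D.val (AlgHom.id k B)
  have hinj : Function.Injective Φ :=
    Module.Flat.rTensor_preserves_injective_linearMap (M := B) D.val.toLinearMap Subtype.val_injective
  obtain ⟨e', he'⟩ : ∃ e', Φ e' = e := by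
    refine ⟨∑ i ∈ s.attach, (⟨i.1.1, Algebra.subset_adjoin (Finset.mem_image_of_mem _ i.2)⟩ : D) ⊗ₜ[k] i.1.2, ?_⟩
    rw [hs, map_sum, ← Finset.sum_attach s]
    exact Finset.sum_congr rfl fun i _ => rfl
  have hid : IsIdempotentElem e' := hinj (by rw [map_mul, he']; exact he)
  obtain ⟨M, hM⟩ := Ideal.exists_maximal D
  letI := Ideal.Quotient.field M
  haveI : Module.Finite k (D ⧸ M) := finite_of_finite_type_of_isJacobsonRing k (D ⧸ M)
  let eM := AlgEquiv.ofBijective (Algebra.ofId k (D ⧸ M)) IsAlgClosed.algebraMap_bijective_of_isIntegral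
  obtain ⟨e₀, he₀⟩ := idem_const (eM.symm.toAlgHom.comp (Ideal.Quotient.mkₐ k M)) hid
  have heq : e = 1 ⊗ₜ e₀ := by rw [← he', he₀]; simp [Φ]
  refine ⟨e₀, ?_, heq⟩
  have hi : Function.Injective (Algebra.TensorProduct.includeRight : B →ₐ[k] L ⊗[k] B) :=
    Algebra.TensorProduct.includeRight_injective (algebraMap k L).injective
  exact hi (by rw [map_mul]; subst heq; exact he)

/-- Galois descent of idempotents: coefficients are weakly etale over the base. -/
theorem idem_mem_of_galois {K F A : Type u} [Field K] [Field F] [Algebra K F] [FiniteDimensional K F]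
    [IsGalois K F] [CommRing A] [Algebra K A] {e : F ⊗[K] A} (he : IsIdempotentElem e) :
    e ∈ Submodule.span F ((Algebra.TensorProduct.includeRight : A →ₐ[K] F ⊗[K] A) ''
      (EtAlgD.maxWeaklyEtale K A : Set A)) := by
  classical
  let W := EtAlgD.maxWeaklyEtale F (F ⊗[K] A)
  haveI : Algebra.WeaklyEtale F W := WEt.weaklyEtale_max
  let U : Subalgebra K A := (W.restrictScalars K).comap Algebra.TensorProduct.includeRight
  haveI : Algebra.Etale K F := by
    haveI : Algebra.FormallyEtale K F := Algebra.FormallyEtale.of_isSeparable K F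
    haveI : Algebra.FinitePresentation K F := Algebra.FinitePresentation.of_finiteType.mp inferInstance
    exact ⟨inferInstance, inferInstance⟩
  haveI : Algebra.WeaklyEtale K W := Algebra.WeaklyEtale.trans K F W
  let j : U →ₐ[K] W :=
    AlgHom.codRestrict ((Algebra.TensorProduct.includeRight : A →ₐ[K] F ⊗[K] A).comp U.val) (W.restrictScalars K)
      fun a => a.2
  have hj : Function.Injective j := fun a b h => Subtype.ext
    (Algebra.TensorProduct.includeRight_injective (algebraMap K F).injective (congrArg Subtype.val h :))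
  haveI : Algebra.WeaklyEtale K U := WEt.weaklyEtale_of_etFG (WEt.etFG_of_injective j hj WEt.etFG_of_weaklyEtale)
  have hU : U ≤ EtAlgD.maxWeaklyEtale K A := WEt.le_maxWeaklyEtale U
  let b := Module.finBasis K F
  let bd := (Algebra.traceForm K F).dualBasis (traceForm_nondegenerate K F) b
  have hidem : ∀ g : Gal(F/K), Algebra.TensorProduct.map g.toAlgHom (AlgHom.id K A) e ∈ W := by
    intro g
    have h := he.map (Algebra.TensorProduct.map g.toAlgHom (AlgHom.id K A))
    let ι : (Fin 2 → F) →ₐ[F] F ⊗[K] A :=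
      { toFun := fun v => v 0 • Algebra.TensorProduct.map g.toAlgHom (AlgHom.id K A) e +
          v 1 • (1 - Algebra.TensorProduct.map g.toAlgHom (AlgHom.id K A) e)
        map_one' := by simp
        map_mul' := fun v w => by
          simp only [Pi.mul_apply, mul_add, add_mul, smul_mul_smul_comm, h.eq, h.one_sub.eq, mul_sub, sub_mul,
            mul_one, one_mul, sub_self, smul_zero, add_zero, zero_add]
        map_zero' := by simp
        map_add' := fun v w => by simp [add_smul]; abel
        commutes' := fun r => by simp [Algebra.algebraMap_eq_smul_one, ← smul_add] }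
    haveI := WEt.weaklyEtale_range (K := F) ι
    exact WEt.le_maxWeaklyEtale ι.range ⟨![1, 0], by simp [ι]⟩
  let bT := Algebra.TensorProduct.basis F (Module.Basis.ofVectorSpace K A)
  -- coordinates with respect to the basis of `F`
  have hcoord : ∃ a : Fin (Module.finrank K F) → A, e = ∑ i, b i ⊗ₜ a i := by
    suffices ∀ z : F ⊗[K] A, ∃ a : Fin (Module.finrank K F) → A, z = ∑ i, b i ⊗ₜ a i from this e
    intro z
    induction z using TensorProduct.induction_on with
    | zero => exact ⟨0, by simp⟩
    | tmul x y =>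
      refine ⟨fun i => b.repr x i • y, ?_⟩
      conv_lhs => rw [← b.sum_repr x, TensorProduct.sum_tmul]
      exact Finset.sum_congr rfl fun i _ => TensorProduct.smul_tmul _ _ _
    | add u v hu hv =>
      obtain ⟨au, hau⟩ := hu
      obtain ⟨av, hav⟩ := hv
      refine ⟨au + av, ?_⟩
      simp only [Pi.add_apply, TensorProduct.tmul_add, Finset.sum_add_distrib, ← hau, ← hav]
  obtain ⟨a, ha⟩ := hcoord
  have hmem : ∀ i, a i ∈ U := by
    intro i
    show (1 : F) ⊗ₜ[K] a i ∈ W
    have h1 : (1 : F) ⊗ₜ[K] a i = ∑ g : Gal(F/K), g (bd i) • Algebra.TensorProduct.map g.toAlgHom (AlgHom.id K A) e := by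
      rw [ha]
      simp only [map_sum, Algebra.TensorProduct.map_tmul, AlgHom.coe_id, id_eq, Finset.smul_sum]
      rw [Finset.sum_comm]
      have h2 : ∀ l, ∑ g : Gal(F/K), g (bd i) • (g.toAlgHom (b l) ⊗ₜ[K] a l) =
          algebraMap K F (Algebra.traceForm K F (bd i) (b l)) ⊗ₜ[K] a l := fun l => by
        rw [Algebra.traceForm_apply, trace_eq_sum_automorphisms, TensorProduct.sum_tmul]
        exact Finset.sum_congr rfl fun g _ => by rw [TensorProduct.smul_tmul', smul_eq_mul, map_mul]; rfl
      simp only [h2, bd, LinearMap.BilinForm.apply_dualBasis_left]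
      rw [Finset.sum_eq_single i]
      · simp
      · intro l _ hl
        simp [hl]
      · simp
    rw [h1]
    exact sum_mem fun g _ => W.smul_mem (hidem g) _
  rw [ha]
  refine Submodule.sum_mem _ fun i _ => ?_
  have : b i ⊗ₜ[K] a i = b i • (Algebra.TensorProduct.includeRight : A →ₐ[K] F ⊗[K] A) (a i) := by
    simp [TensorProduct.smul_tmul']
  rw [this]
  exact Submodule.smul_mem _ _ (Submodule.subset_span ⟨_, hU (hmem i), rfl⟩)

/-- The span of the maximal weakly etale subalgebra. -/
noncomputable def P (K M A : Type u) [Field K] [Field M] [Algebra K M] [CommRing A] [Algebra K A] :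
    Submodule M (M ⊗[K] A) :=
  Submodule.span M ((Algebra.TensorProduct.includeRight : A →ₐ[K] M ⊗[K] A) '' (EtAlgD.maxWeaklyEtale K A : Set A))

theorem map_P {K M M' A : Type u} [Field K] [Field M] [Field M'] [Algebra K M] [Algebra K M'] [CommRing A]
    [Algebra K A] (φ : M →ₐ[K] M') {z : M ⊗[K] A} (hz : z ∈ P K M A) :
    Algebra.TensorProduct.map φ (AlgHom.id K A) z ∈ P K M' A := by
  induction hz using Submodule.span_induction with
  | mem x hx =>
    obtain ⟨a, ha, rfl⟩ := hx
    exact Submodule.subset_span ⟨a, ha, by simp⟩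
  | zero => simp
  | add x y _ _ hx hy => rw [map_add]; exact add_mem hx hy
  | smul c x _ hx =>
    rw [Algebra.smul_def, map_mul, Algebra.TensorProduct.algebraMap_apply, Algebra.TensorProduct.map_tmul, map_one,
      Algebra.algebraMap_self_apply, ← mul_one (φ c), ← smul_eq_mul (φ c) (1 : M'), ← TensorProduct.smul_tmul',
      smul_mul_assoc, ← Algebra.TensorProduct.one_def, one_mul]
    exact Submodule.smul_mem _ _ hx

/-- Idempotents over an algebraic closure come from the weakly etale part. -/
theorem idem_mem_algClosure {K A : Type u} [Field K] [CommRing A] [Algebra K A]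
    {e : AlgebraicClosure K ⊗[K] A} (he : IsIdempotentElem e) : e ∈ P K (AlgebraicClosure K) A := by
  classical
  rcases subsingleton_or_nontrivial A with hA | hA
  · haveI : Subsingleton (AlgebraicClosure K ⊗[K] A) := by
      refine subsingleton_of_forall_eq 0 fun z => ?_
      induction z using TensorProduct.induction_on with
      | zero => rfl
      | tmul x y => rw [Subsingleton.elim y 0, TensorProduct.tmul_zero]
      | add u v hu hv => rw [hu, hv, add_zero]
    rw [Subsingleton.elim e 0]
    exact zero_mem _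
  let Kb := AlgebraicClosure K
  let Ks := separableClosure K Kb
  haveI : Nontrivial (Kb ⊗[K] A) :=
    (Algebra.TensorProduct.includeRight_injective (A := Kb) (B := A) (algebraMap K Kb).injective).nontrivial
  obtain ⟨q, hq⟩ := ExpChar.exists K
  haveI := hq
  haveI : ExpChar (Kb ⊗[K] A) q := expChar_of_injective_ringHom (algebraMap K (Kb ⊗[K] A)).injective q
  haveI : ExpChar Kb q := expChar_of_injective_ringHom (algebraMap K Kb).injective q
  haveI : ExpChar Ks q := expChar_of_injective_ringHom (algebraMap K Ks).injective q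
  obtain ⟨s, hs⟩ := TensorProduct.exists_finset e
  have hpow : ∀ c : Kb, ∃ n, c ^ q ^ n ∈ (algebraMap Ks Kb).range := fun c =>
    (isPurelyInseparable_iff_pow_mem Ks q).mp inferInstance c
  choose nf hnf using hpow
  let N := s.sup fun i => nf i.1
  have hN : ∀ i ∈ s, i.1 ^ q ^ N ∈ (algebraMap Ks Kb).range := by
    intro i hi
    obtain ⟨d, hd⟩ := Nat.exists_eq_add_of_le (Finset.le_sup (f := fun i : Kb × A => nf i.1) hi)
    rw [show N = _ from hd, pow_add, pow_mul]
    exact Subring.pow_mem _ (hnf i.1) _
  choose df hdf using fun i : s => RingHom.mem_range.mp (hN i.1 i.2)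
  let F := FiniteGaloisIntermediateField.adjoin K (Set.range df)
  have hd : ∀ i, df i ∈ F.toIntermediateField := fun i =>
    FiniteGaloisIntermediateField.subset_adjoin K _ ⟨i, rfl⟩
  let ψ : F →ₐ[K] Kb := (IsScalarTower.toAlgHom K Ks Kb).comp F.toIntermediateField.val
  let Φ := Algebra.TensorProduct.map ψ (AlgHom.id K A)
  let e' : F ⊗[K] A := ∑ i : s, (⟨df i, hd i⟩ : F) ⊗ₜ[K] (i.1.2 ^ q ^ N)
  have hΦ : Φ e' = e := by
    have h1 : e ^ q ^ N = e := by
      obtain ⟨n, hn⟩ : ∃ n, q ^ N = n + 1 := ⟨q ^ N - 1, by have := expChar_pos K q; have := Nat.one_le_pow N q this; omega⟩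
      rw [hn, he.pow_succ_eq]
    conv_rhs => rw [← h1, hs, sum_pow_char_pow, ← Finset.sum_coe_sort]
    rw [map_sum]
    refine Finset.sum_congr rfl fun i _ => ?_
    rw [Algebra.TensorProduct.map_tmul, Algebra.TensorProduct.tmul_pow]
    congr 1
    exact hdf i
  have hinj : Function.Injective Φ :=
    Module.Flat.rTensor_preserves_injective_linearMap (M := A) ψ.toLinearMap ψ.toRingHom.injective
  have hid : IsIdempotentElem e' := hinj (by rw [map_mul, hΦ]; exact he)
  exact hΦ ▸ map_P ψ (idem_mem_of_galois hid)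

/-- Idempotents over any algebraically closed field extension. -/
theorem idem_mem_algClosed {K M A : Type u} [Field K] [Field M] [Algebra K M] [IsAlgClosed M] [CommRing A]
    [Algebra K A] {e : M ⊗[K] A} (he : IsIdempotentElem e) : e ∈ P K M A := by
  let Kb := AlgebraicClosure K
  let φ : Kb →ₐ[K] M := IsAlgClosed.lift
  letI : Algebra Kb M := φ.toRingHom.toAlgebra
  haveI : IsScalarTower K Kb M := IsScalarTower.of_algebraMap_eq fun c => (φ.commutes c).symm
  let θ := Algebra.TensorProduct.cancelBaseChange K Kb M M A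
  obtain ⟨e₀, he₀, heq⟩ := idem_of_isAlgClosed (he.map θ.symm)
  have : e = Algebra.TensorProduct.map φ (AlgHom.id K A) e₀ := by
    rw [← θ.apply_symm_apply e, heq]
    clear heq he₀
    induction e₀ using TensorProduct.induction_on with
    | zero => simp
    | tmul x y =>
      rw [Algebra.TensorProduct.map_tmul]
      show θ ((1 : M) ⊗ₜ[Kb] (x ⊗ₜ[K] y)) = _
      simp [θ, Algebra.smul_def, RingHom.algebraMap_toAlgebra]
    | add u v hu hv => rw [TensorProduct.tmul_add, map_add, map_add, hu, hv]
  rw [this]
  exact map_P φ (idem_mem_algClosure he₀)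

set_option maxHeartbeats 1600000 in
/-- Weakly etale elements over an algebraically closed field lie in the span of idempotents. -/
theorem weaklyEtale_mem_P {K L A : Type u} [Field K] [Field L] [Algebra K L] [CommRing A] [Algebra K A]
    {x : L ⊗[K] A} (hx : x ∈ EtAlgD.maxWeaklyEtale L (L ⊗[K] A)) :
    Algebra.TensorProduct.map (IsScalarTower.toAlgHom K L (AlgebraicClosure L)) (AlgHom.id K A) x ∈
      P K (AlgebraicClosure L) A := by
  classical
  let M := AlgebraicClosure L
  let J : L ⊗[K] A →ₐ[L] M ⊗[K] A := Algebra.TensorProduct.map (Algebra.ofId L M) (AlgHom.id K A)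
  have hJ : ∀ z, Algebra.TensorProduct.map (IsScalarTower.toAlgHom K L M) (AlgHom.id K A) z = J z := fun z => by
    induction z using TensorProduct.induction_on with
    | zero => simp
    | tmul a b => simp [J]
    | add u v hu hv => rw [map_add, map_add, hu, hv]
  rw [hJ]
  let S := EtAlgD.maxWeaklyEtale L (L ⊗[K] A)
  haveI : Algebra.WeaklyEtale L S := WEt.weaklyEtale_max
  let G : M ⊗[L] S →ₐ[M] M ⊗[K] A :=
    Algebra.TensorProduct.lift (Algebra.ofId M (M ⊗[K] A)) (J.comp S.val) fun _ _ => Commute.all _ _
  haveI := WEt.weaklyEtale_range (K := M) G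
  have hGx : J x ∈ G.range := ⟨(1 : M) ⊗ₜ[L] (⟨x, hx⟩ : S), by simp [G, ← Algebra.TensorProduct.one_def]⟩
  let U := Algebra.adjoin M ({⟨J x, hGx⟩} : Set G.range)
  haveI : Algebra.Etale M U := WEt.etFG_of_weaklyEtale U ⟨{⟨J x, hGx⟩}, by simp [U]⟩
  obtain ⟨ι, _, Fi, _, _, eU, hFi⟩ := (Algebra.Etale.iff_exists_algEquiv_prod (K := M) (A := U)).mp ‹_›
  haveI := Fintype.ofFinite ι
  let xU : U := ⟨⟨J x, hGx⟩, Algebra.self_mem_adjoin_singleton _ _⟩
  have hsurj : ∀ i, Function.Surjective (algebraMap M (Fi i)) := fun i => by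
    haveI := (hFi i).2
    haveI := (hFi i).1
    exact IsAlgClosed.algebraMap_bijective_of_isIntegral.2
  choose c hc using fun i => hsurj i (eU xU i)
  have hdec : xU = ∑ i, c i • eU.symm (Pi.single i 1) := by
    apply eU.injective
    rw [map_sum]
    funext j
    rw [Finset.sum_apply, Finset.sum_eq_single j]
    · rw [Algebra.smul_def, map_mul, AlgEquiv.commutes, AlgEquiv.apply_symm_apply, Pi.mul_apply,
        Pi.algebraMap_apply, Pi.single_eq_same, hc, mul_one]
    · intro i _ hij
      rw [Algebra.smul_def, map_mul, AlgEquiv.commutes, AlgEquiv.apply_symm_apply, Pi.mul_apply,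
        Pi.single_eq_of_ne (Ne.symm hij), mul_zero]
    · exact fun h => absurd (Finset.mem_univ j) h
  rw [show J x = (G.range.val.comp U.val) xU from rfl, hdec, map_sum]
  refine Submodule.sum_mem _ fun i _ => ?_
  rw [map_smul (G.range.val.comp U.val)]
  refine Submodule.smul_mem _ _ (idem_mem_algClosed ?_)
  refine IsIdempotentElem.map ?_ _
  refine IsIdempotentElem.map ?_ _
  show Pi.single i (1 : Fi i) * Pi.single i 1 = Pi.single i 1
  rw [← Pi.single_mul, mul_one]

/-- Membership in the span is tested after a field extension. -/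
theorem mem_P_of_map {K L M A : Type u} [Field K] [Field L] [Field M] [Algebra K L] [Algebra K M] [CommRing A]
    [Algebra K A] (φ : L →ₐ[K] M) {x : L ⊗[K] A}
    (hx : Algebra.TensorProduct.map φ (AlgHom.id K A) x ∈ P K M A) : x ∈ P K L A := by
  let E := (EtAlgD.maxWeaklyEtale K A).toSubmodule
  let hM := lTensor_exact M (LinearMap.exact_subtype_mkQ E) E.mkQ_surjective
  let hL := lTensor_exact L (LinearMap.exact_subtype_mkQ E) E.mkQ_surjective
  have hsmul : ∀ (c : M) (u : M ⊗[K] A), LinearMap.lTensor M E.mkQ (c • u) = c • LinearMap.lTensor M E.mkQ u := by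
    intro c u
    induction u using TensorProduct.induction_on with
    | zero => simp
    | tmul a b => simp [TensorProduct.smul_tmul']
    | add p q hp hq => rw [smul_add, map_add, map_add, hp, hq, smul_add]
  have hzero : ∀ z ∈ P K M A, LinearMap.lTensor M E.mkQ z = 0 := by
    intro z hz
    induction hz using Submodule.span_induction with
    | mem y hy =>
      obtain ⟨a, ha, rfl⟩ := hy
      simp only [Algebra.TensorProduct.includeRight_apply, LinearMap.lTensor_tmul, Submodule.mkQ_apply]
      rw [(Submodule.Quotient.mk_eq_zero E).mpr ha, TensorProduct.tmul_zero]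
    | zero => simp
    | add u v _ _ hu hv => rw [map_add, hu, hv, add_zero]
    | smul c u _ hu =>
      rw [hsmul, hu, smul_zero]
  have h1 := hzero _ hx
  have h2 : LinearMap.rTensor (A ⧸ E) φ.toLinearMap (LinearMap.lTensor L E.mkQ x) =
      LinearMap.lTensor M E.mkQ (Algebra.TensorProduct.map φ (AlgHom.id K A) x) := by
    clear h1 hx
    induction x using TensorProduct.induction_on with
    | zero => simp
    | tmul a b => simp
    | add p q hp hq => rw [map_add, map_add, map_add, map_add, hp, hq]
  have h3 : LinearMap.lTensor L E.mkQ x = 0 :=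
    Module.Flat.rTensor_preserves_injective_linearMap (M := A ⧸ E) φ.toLinearMap φ.toRingHom.injective
      (by rw [h2, h1, map_zero])
  obtain ⟨y, rfl⟩ := (hL x).mp h3
  clear h1 h2 h3 hx
  induction y using TensorProduct.induction_on with
  | zero => simp
  | tmul a b =>
    rw [LinearMap.lTensor_tmul, show a ⊗ₜ[K] E.subtype b =
      a • (Algebra.TensorProduct.includeRight : A →ₐ[K] L ⊗[K] A) (b : A) by simp [TensorProduct.smul_tmul']]
    exact Submodule.smul_mem _ _ (Submodule.subset_span ⟨b, b.2, rfl⟩)
  | add p q hp hq => rw [map_add]; exact add_mem hp hq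

/-- The maximal weakly etale subalgebra commutes with field extensions. -/
theorem maxWeaklyEtale_eq (K L : Type u) [Field K] [Field L] [Algebra K L] (A : Type u) [CommRing A] [Algebra K A] :
    EtAlgD.maxWeaklyEtale L (L ⊗[K] A) =
      Algebra.adjoin L ((Algebra.TensorProduct.includeRight : A →ₐ[K] L ⊗[K] A) ''
        (EtAlgD.maxWeaklyEtale K A : Set A)) := by
  apply le_antisymm
  · intro x hx
    exact Algebra.span_le_adjoin L _ (mem_P_of_map _ (weaklyEtale_mem_P hx))
  · haveI : Algebra.WeaklyEtale K (EtAlgD.maxWeaklyEtale K A) := WEt.weaklyEtale_max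
    let f : L ⊗[K] (EtAlgD.maxWeaklyEtale K A) →ₐ[L] L ⊗[K] A :=
      Algebra.TensorProduct.map (AlgHom.id L L) (EtAlgD.maxWeaklyEtale K A).val
    haveI := WEt.weaklyEtale_range (K := L) f
    refine le_trans (Algebra.adjoin_le ?_) (WEt.le_maxWeaklyEtale f.range)
    rintro _ ⟨a, ha, rfl⟩
    exact ⟨(1 : L) ⊗ₜ[K] (⟨a, ha⟩ : EtAlgD.maxWeaklyEtale K A), by simp [f]⟩

end Groth.Agent.HenselLib.IdemBC
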