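import Mathlib
import Groth.Prelude.Def_PBC
import Groth.Agent.HenselLib.Pointed
import Groth.Agent.HenselLib.HullInd
import Groth.Agent.HenselLib.EtaleLift

/-!
# Ind-etale algebras lift along quotient maps
-/

set_option autoImplicit false

open CategoryTheory Limits TensorProduct

universe u

namespace Groth.Agent.HenselLib.IndLift

variable {A : Type u} [CommRing A]

/-- A surjective map onto an etale algebra over `A ⧸ I`: an element of the kernel is killed modulo `I` by
`1 - y` with `y` in the kernel. -/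
theorem exists_absorb (I : Ideal A) {T C : Type u} [CommRing T] [CommRing C] [Algebra A T] [Algebra A C]
    [Algebra.Etale A T] [Algebra (A ⧸ I) C] [IsScalarTower A (A ⧸ I) C] [Algebra.Etale (A ⧸ I) C]
    (Φ : T →ₐ[A] C) (hΦ : Function.Surjective Φ) {x : T} (hx : Φ x = 0) :
    ∃ y : T, Φ (1 - y) = 1 ∧ x * (1 - y) ∈ I.map (algebraMap A T) := by
  let TQ := T ⧸ I.map (algebraMap A T)
  haveI : Algebra.Etale (A ⧸ I) TQ :=
    Algebra.Etale.of_equiv (Algebra.TensorProduct.quotIdealMapEquivQuotTensor T I).symm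
  have hle : ∀ z ∈ I.map (algebraMap A T), Φ z = 0 := by
    intro z hz
    suffices hm : I.map (algebraMap A T) ≤ RingHom.ker Φ.toRingHom from hm hz
    refine Ideal.map_le_iff_le_comap.2 fun a ha => ?_
    show Φ (algebraMap A T a) = 0
    rw [Φ.commutes, IsScalarTower.algebraMap_apply A (A ⧸ I) C, Ideal.Quotient.algebraMap_eq,
      Ideal.Quotient.eq_zero_iff_mem.2 ha, map_zero]
  let ψ : TQ →+* C := Ideal.Quotient.lift _ Φ.toRingHom hle
  letI : Algebra TQ C := ψ.toAlgebra
  haveI : IsScalarTower (A ⧸ I) TQ C := IsScalarTower.of_algebraMap_eq fun q => by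
    obtain ⟨a, rfl⟩ := Ideal.Quotient.mk_surjective q
    exact ((IsScalarTower.algebraMap_apply A (A ⧸ I) C a).symm.trans (Φ.commutes a).symm)
  haveI : Algebra.Etale TQ C := Algebra.Etale.of_restrictScalars (A ⧸ I) TQ C
  have hψ : Function.Surjective (algebraMap TQ C) := fun c => by
    obtain ⟨t, rfl⟩ := hΦ c
    exact ⟨Ideal.Quotient.mk _ t, rfl⟩
  haveI : (RingHom.ker (algebraMap TQ C)).Pure :=
    Module.Flat.of_linearEquiv (Ideal.quotientKerAlgEquivOfSurjective (f := Algebra.ofId TQ C) hψ).toLinearEquiv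
  obtain ⟨y', hy', hxy⟩ := Ideal.exists_eq_mul_of_pure (I := RingHom.ker (algebraMap TQ C))
    (x := Ideal.Quotient.mk _ x) hx
  obtain ⟨y, rfl⟩ := Ideal.Quotient.mk_surjective y'
  refine ⟨y, by rw [map_sub, map_one, show Φ y = 0 from hy', sub_zero], Ideal.Quotient.eq_zero_iff_mem.1 ?_⟩
  rw [map_mul, map_sub, map_one, mul_sub, mul_one, ← hxy, sub_self]

set_option backward.isDefEq.respectTransparency false in
set_option backward.isDefEq.respectTransparency.types false in
set_option maxHeartbeats 800000 in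
theorem exists_lift (I : Ideal A) (Cb : Type u) [CommRing Cb] [Algebra (A ⧸ I) Cb]
    (h : EtPBC.IsIndEtale (A ⧸ I) Cb) :
    ∃ (C : Type u) (_ : CommRing C) (_ : Algebra A C),
      EtPBC.IsIndEtale A C ∧ Nonempty ((C ⧸ I.map (algebraMap A C)) ≃ₐ[A ⧸ I] Cb) := by
  obtain ⟨J, _, _, D, c, hc, hD, ⟨e⟩⟩ := h
  letI : Algebra A Cb := ((algebraMap (A ⧸ I) Cb).comp (Ideal.Quotient.mk I)).toAlgebra
  haveI : IsScalarTower A (A ⧸ I) Cb := IsScalarTower.of_algebraMap_eq fun _ => rfl
  let σ : ∀ j, (D.obj j).right →+* Cb := fun j => (c.ι.app j ≫ e.hom).right.hom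
  let E : J ⥤ CommRingCat.{u} := D ⋙ Under.forget _
  let cc : Cocone E := (Under.forget _).mapCocone (c.extend e.hom)
  let hcc : IsColimit cc := isColimitOfPreserves (Under.forget _) (hc.extendIso e.hom)
  letI : ∀ j, Algebra (A ⧸ I) (D.obj j).right := fun j => (D.obj j).hom.hom.toAlgebra
  letI : ∀ j, Algebra A (D.obj j).right := fun j =>
    ((D.obj j).hom.hom.comp (Ideal.Quotient.mk I)).toAlgebra
  haveI : ∀ j, IsScalarTower A (A ⧸ I) (D.obj j).right := fun j => IsScalarTower.of_algebraMap_eq fun _ => rfl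
  haveI : ∀ j, Algebra.Etale (A ⧸ I) (D.obj j).right := hD
  let σa : ∀ j, (D.obj j).right →ₐ[A] Cb := fun j =>
    { σ j with
      commutes' := fun a => ConcreteCategory.congr_hom (Under.w (c.ι.app j ≫ e.hom)) (Ideal.Quotient.mk I a) }
  let θ : Hull A Cb →ₐ[A] Cb := hullPt A Cb
  have hsurj : Function.Surjective θ := by
    intro x
    obtain ⟨j, y, hy⟩ := Concrete.isColimit_exists_rep E hcc x
    obtain ⟨B, _, _, _, θB, hθB, -, hθBA⟩ := exists_etale_lift A I (D.obj j).right
    let σB : B →ₐ[A] Cb := (σa j).comp { θB with commutes' := hθBA }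
    obtain ⟨P, eP, heP⟩ := Pt.exists_equiv B σB
    obtain ⟨b, hb⟩ := hθB y
    refine ⟨ι P (eP.symm b), ?_⟩
    rw [hullPt_ι, ← heP, eP.apply_symm_apply]
    show σ j (θB b) = x
    rw [hb]
    exact hy
  have hker : ∀ x, θ x = 0 → x ∈ I.map (algebraMap A (Hull A Cb)) := by
    intro x hx
    obtain ⟨P, z, rfl⟩ := exists_rep x
    replace hx : P.pt z = 0 := by
      rw [← hullPt_ι]; exact hx
    let α : (Functor.const J).obj (CommRingCat.of A) ⟶ E :=
      { app := fun j => CommRingCat.ofHom (algebraMap A (D.obj j).right)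
        naturality := fun i j f => CommRingCat.hom_ext (RingHom.ext fun a =>
          (ConcreteCategory.congr_hom (Under.w (D.map f)) (Ideal.Quotient.mk I a)).symm) }
    obtain ⟨j, g, hg, hgσ⟩ := RingHom.EssFiniteType.exists_eq_comp_ι_app_of_isColimit (CommRingCat.of A) E α
      (CommRingCat.ofHom (algebraMap A P.Ring)) cc hcc
      (RingHom.finitePresentation_algebraMap.2 inferInstance) (CommRingCat.ofHom P.pt.toRingHom)
      (fun i => CommRingCat.hom_ext (RingHom.ext fun a => (P.pt.commutes a).trans ((σa i).commutes a).symm))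
    have h0 : cc.ι.app j (g.hom z) = cc.ι.app j (0 : E.obj j) := by
      rw [map_zero]
      exact ((ConcreteCategory.congr_hom hgσ z).symm.trans hx)
    obtain ⟨k, u, v, huv⟩ := Concrete.isColimit_exists_of_rep_eq E hcc (g.hom z) (0 : E.obj j) h0
    let ψ : P.Ring →ₐ[A] (D.obj k).right :=
      { (g ≫ E.map u).hom with
        commutes' := fun a => by
          have h1 := ConcreteCategory.congr_hom hg a
          have h2 := ConcreteCategory.congr_hom (α.naturality u) a
          exact (congrArg (E.map u).hom h1).trans h2.symm }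
    have hψz : ψ z = 0 := huv.trans (map_zero (E.map v).hom)
    have hψσ : (σa k).comp ψ = P.pt := AlgHom.ext fun w => by
      have h1 := ConcreteCategory.congr_hom (cc.w u) (g.hom w)
      exact h1.trans (ConcreteCategory.congr_hom hgσ w).symm
    obtain ⟨B, _, _, _, θB, hθB, -, hθBA⟩ := exists_etale_lift A I (D.obj k).right
    let θB' : B →ₐ[A] (D.obj k).right := { θB with commutes' := hθBA }
    haveI : Algebra.Etale A (P.Ring ⊗[A] B) := Algebra.Etale.comp A P.Ring _
    let Φ : P.Ring ⊗[A] B →ₐ[A] (D.obj k).right :=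
      Algebra.TensorProduct.lift ψ θB' fun _ _ => Commute.all _ _
    have hΦ : Function.Surjective Φ := fun w => by
      obtain ⟨b, hb⟩ := hθB w
      exact ⟨(1 : P.Ring) ⊗ₜ[A] b, by simpa [Φ, θB'] using hb⟩
    obtain ⟨y, hy, hzy⟩ := exists_absorb I Φ hΦ (x := z ⊗ₜ[A] (1 : B)) (by simp [Φ, hψz])
    let Q := Localization.Away (1 - y)
    haveI : Algebra.Etale A Q := Algebra.Etale.comp A (P.Ring ⊗[A] B) Q
    have hu : IsUnit (((σa k).comp Φ) (1 - y)) := by
      rw [AlgHom.comp_apply, hy]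
      exact (σa k).toRingHom.map_one.symm ▸ isUnit_one
    let σQ : Q →ₐ[A] Cb := IsLocalization.Away.liftAlgHom (1 - y) (f := (σa k).comp Φ) hu
    let f : P.Ring →ₐ[A] Q :=
      (IsScalarTower.toAlgHom A (P.Ring ⊗[A] B) Q).comp Algebra.TensorProduct.includeLeft
    obtain ⟨S, m, eS, -, hm⟩ := P.exists_hom σQ f (AlgHom.ext fun w => by
      rw [← hψσ]
      simp [σQ, f, Φ])
    rw [← ι_map m z]
    have hfz : f z ∈ I.map (algebraMap A Q) := by
      have h1 := Ideal.mem_map_of_mem (IsScalarTower.toAlgHom A (P.Ring ⊗[A] B) Q).toRingHom hzy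
      rw [Ideal.map_map, AlgHom.toRingHom_eq_coe, AlgHom.comp_algebraMap, map_mul] at h1
      exact (Ideal.mul_unit_mem_iff_mem _ (IsLocalization.Away.algebraMap_isUnit (S := Q) (1 - y))).1 h1
    have h2 : m.map z ∈ I.map (algebraMap A S.Ring) := by
      rw [hm]
      have := Ideal.mem_map_of_mem eS.symm.toAlgHom.toRingHom hfz
      rwa [Ideal.map_map, AlgHom.toRingHom_eq_coe, AlgHom.comp_algebraMap] at this
    have h3 := Ideal.mem_map_of_mem (ι S).toRingHom h2
    rwa [Ideal.map_map, AlgHom.toRingHom_eq_coe, AlgHom.comp_algebraMap] at h3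
  have hle : ∀ a ∈ I.map (algebraMap A (Hull A Cb)), θ a = 0 := by
    intro a ha
    suffices hm : I.map (algebraMap A (Hull A Cb)) ≤ RingHom.ker θ.toRingHom from hm ha
    refine Ideal.map_le_iff_le_comap.2 fun a ha => ?_
    show θ (algebraMap A _ a) = 0
    rw [θ.commutes, IsScalarTower.algebraMap_apply A (A ⧸ I) Cb, Ideal.Quotient.algebraMap_eq,
      Ideal.Quotient.eq_zero_iff_mem.2 ha, map_zero]
  let Θ : (Hull A Cb ⧸ I.map (algebraMap A (Hull A Cb))) →ₐ[A ⧸ I] Cb :=
    { Ideal.Quotient.lift _ θ.toRingHom hle with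
      commutes' := fun q => by
        obtain ⟨a, rfl⟩ := Ideal.Quotient.mk_surjective q
        exact θ.commutes a }
  have hΘ : Function.Bijective Θ := by
    refine ⟨(injective_iff_map_eq_zero _).2 fun q hq => ?_, fun x => ?_⟩
    · obtain ⟨w, rfl⟩ := Ideal.Quotient.mk_surjective q
      exact Ideal.Quotient.eq_zero_iff_mem.2 (hker w hq)
    · obtain ⟨w, hw⟩ := hsurj x
      exact ⟨Ideal.Quotient.mk _ w, hw⟩
  exact ⟨Hull A Cb, inferInstance, inferInstance, isIndEtale_hull A Cb _ AlgEquiv.refl,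
    ⟨AlgEquiv.ofBijective Θ hΘ⟩⟩

end Groth.Agent.HenselLib.IndLift
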