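import Groth.Prelude.Def_EtMil
import Mathlib.RingTheory.Flat.Tensor
import Mathlib.RingTheory.Flat.EquationalCriterion
import Mathlib.RingTheory.Finiteness.Basic
import Mathlib.LinearAlgebra.TensorProduct.RightExactness
import Mathlib.Algebra.Module.FinitePresentation

/-!
# Modules over Milnor squares
-/

set_option autoImplicit false
set_option linter.all false

universe u

open TensorProduct Function

namespace Groth.Agent.HenselLib.Milnor

theorem lTensor_injective_of_flat_baseChange {R S : Type u} [CommRing R] [CommRing S] [Algebra R S]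
    (L : Type u) [AddCommGroup L] [Module R L] [Module.Flat S (S ⊗[R] L)]
    {X Y : Type u} [AddCommGroup X] [Module R X] [Module S X] [IsScalarTower R S X]
    [AddCommGroup Y] [Module R Y] [Module S Y] [IsScalarTower R S Y]
    (f : X →ₗ[S] Y) (hf : Injective f) : Injective ((f.restrictScalars R).lTensor L) := by
  have h : Injective (f.rTensor (S ⊗[R] L)) :=
    Module.Flat.rTensor_preserves_injective_linearMap f hf
  let eX := (AlgebraTensorModule.cancelBaseChange R S S X L).restrictScalars R ≪≫ₗ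
    TensorProduct.comm R X L
  let eY := (AlgebraTensorModule.cancelBaseChange R S S Y L).restrictScalars R ≪≫ₗ
    TensorProduct.comm R Y L
  have heq : (f.restrictScalars R).lTensor L ∘ₗ eX.toLinearMap =
      eY.toLinearMap ∘ₗ (f.rTensor (S ⊗[R] L)).restrictScalars R := by
    refine LinearMap.ext fun z => ?_
    induction z with
    | zero => simp
    | add x y hx hy => simp only [map_add, hx, hy]
    | tmul x w =>
      induction w with
      | zero => simp
      | add a b ha hb => simp only [tmul_add, map_add, ha, hb]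
      | tmul s l => simp [eX, eY]
  have h' : Injective ((f.restrictScalars R).lTensor L ∘ₗ eX.toLinearMap) := by
    rw [heq]; exact eY.injective.comp h
  intro a b hab
  have := @h' (eX.symm a) (eX.symm b) (by simpa using hab)
  simpa using this

variable (B' B A' A : Type u) [CommRing B'] [CommRing B] [CommRing A'] [CommRing A]
  [Algebra B' B] [Algebra B' A'] [Algebra B A] [Algebra A' A] [Algebra B' A]
  [IsScalarTower B' B A] [IsScalarTower B' A' A]

/-- Weak form of a Milnor square: no injectivity required. -/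
structure IsWeakSquare : Prop where
  surjA : Surjective (algebraMap A' A)
  surjB : Surjective (algebraMap B' B)
  lift : ∀ i : A', algebraMap A' A i = 0 →
    ∃ j : B', algebraMap B' B j = 0 ∧ algebraMap B' A' j = i

variable {B' B A' A}

theorem ext_of_isFibreSquare (hsq : EtMil.IsFibreSquare B' B A' A) {x y : B'}
    (h1 : algebraMap B' B x = algebraMap B' B y) (h2 : algebraMap B' A' x = algebraMap B' A' y) :
    x = y :=
  (hsq.2 (algebraMap B' B y) (algebraMap B' A' y) (by
    rw [← IsScalarTower.algebraMap_apply, ← IsScalarTower.algebraMap_apply])).unique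
    ⟨h1, h2⟩ ⟨rfl, rfl⟩

theorem isWeakSquare (hsq : EtMil.IsFibreSquare B' B A' A) : IsWeakSquare B' B A' A where
  surjA := hsq.1
  surjB b := by
    obtain ⟨a', ha'⟩ := hsq.1 (algebraMap B A b)
    obtain ⟨b', hb', -⟩ := hsq.2 b a' ha'.symm
    exact ⟨b', hb'.1⟩
  lift i hi := by
    obtain ⟨b', hb', -⟩ := hsq.2 0 i (by rw [map_zero, hi])
    exact ⟨b', hb'.1, hb'.2⟩

omit [Algebra B' A] [IsScalarTower B' B A] [IsScalarTower B' A' A] in
theorem one_tmul_smul {L : Type u} [AddCommGroup L] [Module B' L] (r : B') (l : L) :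
    ((1 : B) ⊗ₜ[B'] (r • l) : B ⊗[B'] L) = algebraMap B' B r ⊗ₜ l := by
  rw [← smul_tmul, Algebra.smul_def, mul_one]

theorem map_kernels (r : B') (h : algebraMap B' B r = 0) :
    algebraMap A' A (algebraMap B' A' r) = 0 := by
  rw [← IsScalarTower.algebraMap_apply, IsScalarTower.algebraMap_apply B' B A, h, map_zero]

section Fixed

/-- `J = ker(B' → B)` acts on any `B'`-module through `A' ⊗ -`. -/
theorem exists_smulMap (hsq : EtMil.IsFibreSquare B' B A' A) (L : Type u) [AddCommGroup L]
    [Module B' L] {j : B'} (hj : algebraMap B' B j = 0) :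
    ∃ ψ : A' ⊗[B'] L →ₗ[B'] L, ∀ l, ψ (1 ⊗ₜ l) = j • l := by
  have h := (isWeakSquare hsq).lift
  have hz : ∀ a : A', algebraMap A' A (algebraMap B' A' j * a) = 0 := fun a => by
    rw [map_mul, map_kernels (B := B) j hj, zero_mul]
  choose c hc hc' using fun a : A' => h _ (hz a)
  let cL : A' →ₗ[B'] B' :=
    { toFun := c
      map_add' := fun a b => ext_of_isFibreSquare hsq (by simp [hc]) (by simp [hc', mul_add])
      map_smul' := fun r a => ext_of_isFibreSquare hsq (by simp [hc]) (by
        simp only [hc', RingHom.id_apply, smul_eq_mul, map_mul, Algebra.smul_def]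
        ring) }
  refine ⟨TensorProduct.lift ((LinearMap.lsmul B' L).comp cL), fun l => ?_⟩
  rw [lift.tmul]
  change c 1 • l = j • l
  rw [show c 1 = j from ext_of_isFibreSquare hsq (by rw [hc, hj]) (by rw [hc', mul_one])]

theorem smul_eq_zero_of_tmul_eq_zero (hsq : EtMil.IsFibreSquare B' B A' A) {L : Type u}
    [AddCommGroup L] [Module B' L] {l : L} (h : ((1 : A') ⊗ₜ[B'] l : A' ⊗[B'] L) = 0)
    {j : B'} (hj : algebraMap B' B j = 0) : j • l = 0 := by
  obtain ⟨ψ, hψ⟩ := exists_smulMap hsq L hj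
  rw [← hψ, h, map_zero]

theorem tmul_eq_zero_iff_mem (hB : Surjective (algebraMap B' B)) {L : Type u}
    [AddCommGroup L] [Module B' L] (l : L) :
    ((1 : B) ⊗ₜ[B'] l : B ⊗[B'] L) = 0 ↔
      l ∈ RingHom.ker (algebraMap B' B) • (⊤ : Submodule B' L) := by
  constructor
  · intro h
    have hex : Exact (RingHom.ker (algebraMap B' B)).subtype (Algebra.linearMap B' B) := by
      intro x
      exact ⟨fun hx => ⟨⟨x, hx⟩, rfl⟩, by rintro ⟨y, rfl⟩; exact y.2⟩
    have hx : ((Algebra.linearMap B' B).rTensor L) (1 ⊗ₜ l) = 0 := by simpa using h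
    obtain ⟨η, hη⟩ := ((_root_.rTensor_exact L hex hB) _).mp hx
    have := congrArg (TensorProduct.lid B' L) hη
    rw [lid_tmul, one_smul] at this
    rw [← this]
    clear hη this
    induction η with
    | zero => simp
    | add x y hx hy => simpa using add_mem hx hy
    | tmul x y =>
      simpa using Submodule.smul_mem_smul x.2 (Submodule.mem_top : y ∈ (⊤ : Submodule B' L))
  · intro h
    refine Submodule.smul_induction_on h (fun r hr n _ => ?_) (fun x y hx hy => ?_)
    · rw [one_tmul_smul, RingHom.mem_ker.mp hr, zero_tmul]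
    · rw [tmul_add, hx, hy, add_zero]

theorem subsingleton_of_subsingleton (hsq : EtMil.IsFibreSquare B' B A' A) (L : Type u)
    [AddCommGroup L] [Module B' L] (h1 : Subsingleton (B ⊗[B'] L))
    (h2 : Subsingleton (A' ⊗[B'] L)) : Subsingleton L := by
  have hJ : RingHom.ker (algebraMap B' B) • (⊤ : Submodule B' L) = ⊥ :=
    le_bot_iff.mp (Submodule.smul_le.mpr fun r hr n _ => by
      rw [Submodule.mem_bot]
      exact smul_eq_zero_of_tmul_eq_zero hsq (Subsingleton.elim _ _) (RingHom.mem_ker.mp hr))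
  refine subsingleton_of_forall_eq 0 fun l => ?_
  have := (tmul_eq_zero_iff_mem (isWeakSquare hsq).surjB l).mp (Subsingleton.elim _ _)
  rwa [hJ, Submodule.mem_bot] at this

theorem surjective_to_pairs (w : IsWeakSquare B' B A' A)
    (L : Type u) [AddCommGroup L] [Module B' L] (x : B ⊗[B'] L) (y : A' ⊗[B'] L)
    (hxy : (IsScalarTower.toAlgHom B' B A).toLinearMap.rTensor L x =
      (IsScalarTower.toAlgHom B' A' A).toLinearMap.rTensor L y) :
    ∃ l : L, (1 : B) ⊗ₜ[B'] l = x ∧ (1 : A') ⊗ₜ[B'] l = y := by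
  obtain ⟨l₀, rfl⟩ : ∃ l : L, (1 : B) ⊗ₜ[B'] l = x := by
    clear hxy
    induction x with
    | zero => exact ⟨0, tmul_zero _ _⟩
    | tmul b l =>
      obtain ⟨r, rfl⟩ := w.surjB b
      exact ⟨r • l, one_tmul_smul r l⟩
    | add x y hx hy =>
      obtain ⟨a, rfl⟩ := hx
      obtain ⟨c, rfl⟩ := hy
      exact ⟨a + c, tmul_add _ _ _⟩
  let g := (IsScalarTower.toAlgHom B' A' A).toLinearMap
  have hex : Exact (LinearMap.ker g).subtype g := by
    intro x
    exact ⟨fun hx => ⟨⟨x, hx⟩, rfl⟩, by rintro ⟨y, rfl⟩; exact y.2⟩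
  have hz : g.rTensor L (y - 1 ⊗ₜ l₀) = 0 := by
    rw [map_sub, ← hxy]
    simp [g]
  obtain ⟨η, hη⟩ := ((_root_.rTensor_exact L hex w.surjA) _).mp hz
  obtain ⟨l₁, hl₁, hl₁'⟩ : ∃ l : L, ((1 : B) ⊗ₜ[B'] l : B ⊗[B'] L) = 0 ∧
      (1 : A') ⊗ₜ[B'] l = (LinearMap.ker g).subtype.rTensor L η := by
    clear hη
    induction η with
    | zero => exact ⟨0, tmul_zero _ _, by simp⟩
    | tmul i l =>
      obtain ⟨j, hj, hj'⟩ := w.lift i.1 i.2
      exact ⟨j • l, by rw [one_tmul_smul, hj, zero_tmul],
        by rw [one_tmul_smul (B := A'), hj']; rfl⟩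
    | add x y hx hy =>
      obtain ⟨a, ha, ha'⟩ := hx
      obtain ⟨c, hc, hc'⟩ := hy
      exact ⟨a + c, by rw [tmul_add, ha, hc, add_zero], by rw [tmul_add, ha', hc', map_add]⟩
  exact ⟨l₀ + l₁, by rw [tmul_add, hl₁, add_zero], by rw [tmul_add, hl₁', hη]; abel⟩

theorem finite_of_finite (hsq : EtMil.IsFibreSquare B' B A' A) (L : Type u) [AddCommGroup L]
    [Module B' L] [Module.Finite B (B ⊗[B'] L)] [Module.Finite A' (A' ⊗[B'] L)] :
    Module.Finite B' L := by
  classical
  -- a finite family generating both base changes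
  have key : ∀ (S : Type u) [CommRing S] [Algebra B' S] [Module.Finite S (S ⊗[B'] L)],
      ∃ N : Submodule B' L, N.FG ∧ Subsingleton (S ⊗[B'] (L ⧸ N)) := by
    intro S _ _ _
    obtain ⟨s, hs⟩ := (Module.Finite.fg_top : (⊤ : Submodule S (S ⊗[B'] L)).FG)
    have : ∀ z : S ⊗[B'] L, ∃ t : Finset L,
        z ∈ Submodule.span S ((fun l => (1 : S) ⊗ₜ[B'] l) '' (t : Set L)) := by
      intro z
      induction z with
      | zero => exact ⟨∅, zero_mem _⟩
      | tmul a l =>
        refine ⟨{l}, ?_⟩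
        have : (a ⊗ₜ[B'] l : S ⊗[B'] L) = a • ((1 : S) ⊗ₜ l) := by
          rw [smul_tmul', smul_eq_mul, mul_one]
        rw [this]
        exact Submodule.smul_mem _ _ (Submodule.subset_span (by simp))
      | add x y hx hy =>
        obtain ⟨t₁, h₁⟩ := hx
        obtain ⟨t₂, h₂⟩ := hy
        exact ⟨t₁ ∪ t₂, add_mem
          (Submodule.span_mono (Set.image_mono (by simp)) h₁)
          (Submodule.span_mono (Set.image_mono (by simp)) h₂)⟩
    choose t ht using this
    refine ⟨Submodule.span B' (s.biUnion t : Set L), ⟨_, rfl⟩, ?_⟩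
    set N := Submodule.span B' (s.biUnion t : Set L)
    have hle : (⊤ : Submodule S (S ⊗[B'] L)) ≤ LinearMap.ker (N.mkQ.baseChange S) := by
      rw [← hs, Submodule.span_le]
      intro z hz
      refine Submodule.span_le.mpr ?_ (ht z)
      rintro _ ⟨l, hl, rfl⟩
      have hlN : l ∈ N := Submodule.subset_span (Finset.mem_biUnion.mpr ⟨z, hz, hl⟩)
      have h0 : N.mkQ l = 0 := (Submodule.Quotient.mk_eq_zero _).mpr hlN
      rw [SetLike.mem_coe, LinearMap.mem_ker, LinearMap.baseChange_tmul, h0, tmul_zero]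
    refine subsingleton_of_forall_eq 0 fun z => ?_
    obtain ⟨y, rfl⟩ := LinearMap.lTensor_surjective S N.mkQ_surjective z
    exact hle (Submodule.mem_top : y ∈ _)
  obtain ⟨N₁, hN₁, h₁⟩ := key B
  obtain ⟨N₂, hN₂, h₂⟩ := key A'
  have hN : (N₁ ⊔ N₂).FG := hN₁.sup hN₂
  have aux : ∀ (S : Type u) [CommRing S] [Algebra B' S] (N N' : Submodule B' L), N ≤ N' →
      Subsingleton (S ⊗[B'] (L ⧸ N)) → Subsingleton (S ⊗[B'] (L ⧸ N')) := by
    intro S _ _ N N' h hss
    exact (LinearMap.lTensor_surjective S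
      (g := Submodule.factor h) (Submodule.factor_surjective h)).subsingleton
  haveI := subsingleton_of_subsingleton hsq (L ⧸ (N₁ ⊔ N₂)) (aux B _ _ le_sup_left h₁)
    (aux A' _ _ le_sup_right h₂)
  have : N₁ ⊔ N₂ = ⊤ := Submodule.Quotient.subsingleton_iff.mp inferInstance
  exact ⟨this ▸ hN⟩

end Fixed

end Groth.Agent.HenselLib.Milnor
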