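import Groth.Agent.HenselLib.Milnor
import Mathlib.LinearAlgebra.Finsupp.LinearCombination

/-!
# Flatness descends along Milnor squares
-/

set_option autoImplicit false
set_option linter.all false
set_option maxHeartbeats 1000000

universe u

open TensorProduct Function

namespace Groth.Agent.HenselLib.Milnor

theorem lTensor_eq_zero_of_comp {R S : Type u} [CommRing R] [CommRing S] [Algebra R S]
    (L : Type u) [AddCommGroup L] [Module R L] [Module.Flat S (S ⊗[R] L)]
    {X Y W Z : Type u} [AddCommGroup X] [Module R X] [Module S X] [IsScalarTower R S X]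
    [AddCommGroup Y] [Module R Y] [Module S Y] [IsScalarTower R S Y]
    [AddCommGroup W] [Module R W] [AddCommGroup Z] [Module R Z]
    (f : X →ₗ[S] Y) (hf : Injective f) (g : W →ₗ[R] X) (u : W →ₗ[R] Z) (v : Z →ₗ[R] Y)
    (h : ∀ w, f (g w) = v (u w)) (ξ : L ⊗[R] W) (h0 : u.lTensor L ξ = 0) :
    g.lTensor L ξ = 0 := by
  refine lTensor_injective_of_flat_baseChange (R := R) (S := S) L f hf ?_
  have : (f.restrictScalars R) ∘ₗ g = v ∘ₗ u := LinearMap.ext h
  rw [map_zero, ← LinearMap.lTensor_comp_apply, this, LinearMap.lTensor_comp_apply, h0, map_zero]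

variable {B' B A' A : Type u} [CommRing B'] [CommRing B] [CommRing A'] [CommRing A]
  [Algebra B' B] [Algebra B' A'] [Algebra B A] [Algebra A' A] [Algebra B' A]
  [IsScalarTower B' B A] [IsScalarTower B' A' A]

variable (hsq : EtMil.IsFibreSquare B' B A' A) (L : Type u) [AddCommGroup L] [Module B' L]
  [Module.Flat B (B ⊗[B'] L)] [Module.Flat A' (A' ⊗[B'] L)]

include hsq in
/-- Submodules of a free module containing `J • free` stay inside after tensoring with `L`. -/
theorem lTensor_subtype_injective_of_free {ι : Type u} (K : Submodule B' (ι →₀ B'))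
    (hK : ∀ g : ι →₀ B', (∀ i, algebraMap B' B (g i) = 0) → g ∈ K) :
    Injective (K.subtype.lTensor L) := by
  classical
  have w := isWeakSquare hsq
  let ψ : (ι →₀ B') →ₗ[B'] (ι →₀ B) := Finsupp.mapRange.linearMap (Algebra.linearMap B' B)
  obtain ⟨Kb, hKb⟩ : ∃ Kb : Submodule B (ι →₀ B), ∀ x, x ∈ Kb ↔ x ∈ K.map ψ :=
    ⟨{ (K.map ψ).toAddSubmonoid with
       smul_mem' := fun b x hx => by
         obtain ⟨r, rfl⟩ := w.surjB b
         change algebraMap B' B r • x ∈ K.map ψ
         rw [IsScalarTower.algebraMap_smul]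
         exact (K.map ψ).smul_mem r hx }, fun x => Iff.rfl⟩
  let ψK : K →ₗ[B'] Kb :=
    { toFun := fun x => ⟨ψ x.1, (hKb _).mpr (Submodule.mem_map_of_mem x.2)⟩
      map_add' := fun x y => Subtype.ext (map_add ψ x.1 y.1)
      map_smul' := fun r x => Subtype.ext (map_smul ψ r x.1) }
  have hψK : Surjective ψK := fun x => by
    obtain ⟨y, hy, hyx⟩ := (hKb x.1).mp x.2
    exact ⟨⟨y, hy⟩, Subtype.ext hyx⟩
  let I : Ideal A' := RingHom.ker (algebraMap A' A)
  choose c hc hc' using fun i : I => w.lift i.1 i.2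
  let e : I →ₗ[B'] B' :=
    { toFun := c
      map_add' := fun a b => ext_of_isFibreSquare hsq (by simp [hc]) (by simp [hc'])
      map_smul' := fun r a => ext_of_isFibreSquare hsq (by simp [hc]) (by
        simp [hc', Algebra.smul_def]) }
  let ω₀ : (ι →₀ I) →ₗ[B'] (ι →₀ B') := Finsupp.mapRange.linearMap e
  have hω₀ : ∀ x, ω₀ x ∈ K := fun x => hK _ fun i => by
    simp [ω₀, e, hc]
  let ω : (ι →₀ I) →ₗ[B'] K := ω₀.codRestrict K hω₀
  have hex : Exact ω ψK := by
    intro x
    constructor
    · intro hx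
      have h0 : ∀ i, algebraMap B' B (x.1 i) = 0 := fun i => by
        have := congrArg (fun z : Kb => z.1 i) hx
        simpa [ψK, ψ] using this
      have hI : ∀ i, algebraMap B' A' (x.1 i) ∈ I := fun i => map_kernels (B := B) _ (h0 i)
      refine ⟨Finsupp.onFinset x.1.support (fun i => ⟨_, hI i⟩) fun i hi => ?_, ?_⟩
      · rw [Finsupp.mem_support_iff]
        intro h
        exact hi (Subtype.ext (by simp [h]))
      · refine Subtype.ext (Finsupp.ext fun i => ?_)
        refine ext_of_isFibreSquare hsq ?_ ?_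
        · rw [h0]; simp [ω, ω₀, e, hc]
        · simp [ω, ω₀, e, hc']
    · rintro ⟨y, rfl⟩
      refine Subtype.ext (Finsupp.ext fun i => ?_)
      simp [ψK, ψ, ω, ω₀, e, hc]
  rw [injective_iff_map_eq_zero]
  intro ξ hξ
  have t1 : ∀ w, Kb.subtype (ψK w) = ψ (K.subtype w) := fun _ => rfl
  have t2 : Injective Kb.subtype := Subtype.val_injective
  have t5 := fun (ξ : L ⊗[B'] K) h => lTensor_eq_zero_of_comp (R := B') (S := B) L (X := Kb)
    (Y := ι →₀ B) (W := K) (Z := ι →₀ B') Kb.subtype t2 ψK K.subtype ψ t1 ξ h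
  have h1 := t5 ξ hξ
  have hex' := _root_.lTensor_exact (M := ι →₀ I) (N := K) (P := Kb) L (f := ω) (g := ψK) hex hψK
  obtain ⟨η, hη⟩ := (hex' ξ).mp h1
  subst hη
  let incl : (ι →₀ I) →ₗ[A'] (ι →₀ A') := Finsupp.mapRange.linearMap I.subtype
  have hincl : Injective incl := by
    intro x y hxy
    ext i
    simpa [incl] using DFunLike.congr_fun hxy i
  let qm : (ι →₀ B') →ₗ[B'] (ι →₀ A') := Finsupp.mapRange.linearMap (Algebra.linearMap B' A')
  have t2 : ∀ x, incl ((LinearMap.id : (ι →₀ I) →ₗ[B'] (ι →₀ I)) x) = qm ((K.subtype ∘ₗ ω) x) := fun x =>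
    Finsupp.ext fun i => by simp [incl, qm, ω, ω₀, e, hc']
  have h3 : (K.subtype ∘ₗ ω).lTensor L η = 0 := by
    rw [LinearMap.lTensor_comp_apply]; exact hξ
  have h2 := lTensor_eq_zero_of_comp (R := B') (S := A') L (X := ι →₀ I) (Y := ι →₀ A')
    (W := ι →₀ I) (Z := ι →₀ B') incl hincl LinearMap.id (K.subtype ∘ₗ ω) qm t2 η h3
  rw [LinearMap.lTensor_id, LinearMap.id_apply] at h2
  rw [h2, map_zero]

include hsq in
/-- An injection with cokernel killed by `J` stays injective after tensoring with `L`. -/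
theorem lTensor_injective_of_coker_killed {C D : Type u} [AddCommGroup C] [Module B' C]
    [AddCommGroup D] [Module B' D] (f : C →ₗ[B'] D) (hf : Injective f)
    (hD : ∀ j : B', algebraMap B' B j = 0 → ∀ d : D, j • d ∈ LinearMap.range f) :
    Injective (f.lTensor L) := by
  classical
  let π : (D →₀ B') →ₗ[B'] D := Finsupp.linearCombination B' _root_.id
  have hπ : Surjective π := Finsupp.linearCombination_id_surjective B' D
  let K : Submodule B' (D →₀ B') := (LinearMap.range f).comap π
  have hKinj : Injective (K.subtype.lTensor L) := by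
    refine lTensor_subtype_injective_of_free hsq L K fun g hg => ?_
    rw [Submodule.mem_comap, Finsupp.linearCombination_apply]
    exact Submodule.finsuppSum_mem _ _ _ _ fun d _ => hD _ (hg d) d
  let π₀ : K →ₗ[B'] LinearMap.range f := (π ∘ₗ K.subtype).codRestrict _ fun x => x.2
  let π' : K →ₗ[B'] C := (LinearEquiv.ofInjective f hf).symm.toLinearMap ∘ₗ π₀
  have hfπ : ∀ x, f (π' x) = π x.1 := fun x => by
    change f ((LinearEquiv.ofInjective f hf).symm (π₀ x)) = _
    rw [← LinearEquiv.ofInjective_apply f (h := hf), LinearEquiv.apply_symm_apply]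
    rfl
  have hπ' : Surjective π' := by
    intro c
    obtain ⟨g, hg⟩ := hπ (f c)
    exact ⟨⟨g, by rw [Submodule.mem_comap, hg]; exact ⟨c, rfl⟩⟩, hf ((hfπ _).trans hg)⟩
  rw [injective_iff_map_eq_zero]
  intro ξ hξ
  obtain ⟨κ, rfl⟩ := LinearMap.lTensor_surjective L hπ' ξ
  have hker : LinearMap.ker π ≤ K := fun x hx => by
    rw [Submodule.mem_comap, LinearMap.mem_ker.mp hx]; exact zero_mem _
  have h1 : π.lTensor L (K.subtype.lTensor L κ) = 0 := by
    rw [← LinearMap.lTensor_comp_apply, ← hξ, ← LinearMap.lTensor_comp_apply]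
    congr 2
    exact LinearMap.ext fun x => (hfπ x).symm
  obtain ⟨σ, hσ⟩ := ((_root_.lTensor_exact (M := LinearMap.ker π) (N := D →₀ B') (P := D) L (f := (LinearMap.ker π).subtype) (g := π) (LinearMap.exact_subtype_ker_map π) hπ) _).mp h1
  have h2 : κ = (Submodule.inclusion hker).lTensor L σ := hKinj (by
    rw [← hσ, ← LinearMap.lTensor_comp_apply]; congr 2)
  rw [h2, ← LinearMap.lTensor_comp_apply]
  have : π' ∘ₗ Submodule.inclusion hker = 0 := LinearMap.ext fun x => hf (by
    rw [LinearMap.comp_apply, hfπ, LinearMap.zero_apply, map_zero]; exact x.2)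
  rw [this, LinearMap.lTensor_zero, LinearMap.zero_apply]

include hsq in
theorem flat_of_flat : Module.Flat B' L := by
  have w := isWeakSquare hsq
  refine Module.Flat.iff_lTensor_injective'.mpr fun a => ?_
  rw [injective_iff_map_eq_zero]
  intro ξ hξ
  let ab : Ideal B := a.map (algebraMap B' B)
  let ψa : a →ₗ[B'] ab :=
    { toFun := fun x => ⟨algebraMap B' B x.1, Ideal.mem_map_of_mem _ x.2⟩
      map_add' := fun x y => Subtype.ext (map_add _ x.1 y.1)
      map_smul' := fun r x => Subtype.ext (by simp [Algebra.smul_def]) }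
  have hψa : Surjective ψa := by
    rintro ⟨x, hx⟩
    obtain ⟨y, hy, rfl⟩ := (Ideal.mem_map_iff_of_surjective _ w.surjB).mp hx
    exact ⟨⟨y, hy⟩, rfl⟩
  have t1 : ∀ w, ab.subtype (ψa w) = Algebra.linearMap B' B (a.subtype w) := fun _ => rfl
  have t2 : Injective ab.subtype := Subtype.val_injective
  have t5 := fun (ξ : L ⊗[B'] a) h => lTensor_eq_zero_of_comp (R := B') (S := B) L (X := ab)
    (Y := B) (W := a) (Z := B') ab.subtype t2 ψa a.subtype (Algebra.linearMap B' B) t1 ξ h
  have h1 := t5 ξ hξ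
  obtain ⟨η, rfl⟩ := ((_root_.lTensor_exact L (LinearMap.exact_subtype_ker_map ψa) hψa) ξ).mp h1
  -- the kernel of `a → ab`, seen inside `A'`
  let θ : LinearMap.ker ψa →ₗ[B'] A' :=
    Algebra.linearMap B' A' ∘ₗ a.subtype ∘ₗ (LinearMap.ker ψa).subtype
  have hp0 : ∀ x : LinearMap.ker ψa, algebraMap B' B x.1.1 = 0 := fun x =>
    congrArg Subtype.val (LinearMap.mem_ker.mp x.2)
  have hθinj : Injective θ := fun x y h =>
    Subtype.ext (Subtype.ext (ext_of_isFibreSquare hsq ((hp0 x).trans (hp0 y).symm) h))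
  let chat : Submodule A' A' := Submodule.span A' (Set.range θ)
  let θ' : LinearMap.ker ψa →ₗ[B'] chat :=
    θ.codRestrict (chat.restrictScalars B') fun x => Submodule.subset_span ⟨x, rfl⟩
  have hθ' : Injective θ' := fun x y h => hθinj (congrArg Subtype.val h)
  have key : ∀ x ∈ chat, ∀ j : B', algebraMap B' B j = 0 → j • x ∈ LinearMap.range θ := by
    intro x hx
    induction hx using Submodule.span_induction with
    | mem x hx =>
      obtain ⟨y, rfl⟩ := hx
      exact fun j _ => ⟨j • y, map_smul θ j y⟩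
    | zero => exact fun j _ => by rw [smul_zero]; exact zero_mem _
    | add x y _ _ hx hy => exact fun j hj => by rw [smul_add]; exact add_mem (hx j hj) (hy j hj)
    | smul a' x _ hx =>
      intro j hj
      obtain ⟨j', hj', hj''⟩ := w.lift (algebraMap B' A' j * a') (by
        rw [map_mul, map_kernels (B := B) j hj, zero_mul])
      have : j • a' • x = j' • x := by
        simp only [Algebra.smul_def, smul_eq_mul, hj'', Algebra.algebraMap_self, RingHom.id_apply]; ring
      rw [this]
      exact hx j' hj'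
  have hinj := lTensor_injective_of_coker_killed hsq L θ' hθ' (by
    intro j hj d
    obtain ⟨y, hy⟩ := key d.1 d.2 j hj
    exact ⟨y, Subtype.ext hy⟩)
  suffices η = 0 by rw [this, map_zero]
  apply hinj
  rw [map_zero]
  let u : LinearMap.ker ψa →ₗ[B'] B' := a.subtype ∘ₗ (LinearMap.ker ψa).subtype
  have t3 : ∀ x, chat.subtype (θ' x) = Algebra.linearMap B' A' (u x) := fun _ => rfl
  have h4 : u.lTensor L η = 0 := by
    rw [LinearMap.lTensor_comp_apply]; exact hξ
  exact lTensor_eq_zero_of_comp (R := B') (S := A') L (X := chat) (Y := A')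
    (W := LinearMap.ker ψa) (Z := B') chat.subtype
    Subtype.val_injective θ' u (Algebra.linearMap B' A') t3 η h4

end Groth.Agent.HenselLib.Milnor
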