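import Groth.Agent.HenselLib.MilnorGlue
import Groth.Agent.HenselLib.MilnorFlat
import Groth.Agent.AlgSpLib.SmoothField
import Mathlib.RingTheory.Smooth.Fiber
import Mathlib.RingTheory.Etale.Basic
import Mathlib.RingTheory.Kaehler.TensorProduct
import Mathlib.RingTheory.Flat.EquationalCriterion

/-!
# Algebras over Milnor squares
-/

set_option autoImplicit false
set_option linter.all false
universe u

open TensorProduct Function

namespace Groth.Agent.HenselLib.MilnorAlg
open Groth.Agent.HenselLib.Milnor

variable {B' B A' A : Type u} [CommRing B'] [CommRing B] [CommRing A'] [CommRing A]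
  [Algebra B' B] [Algebra B' A'] [Algebra B A] [Algebra A' A] [Algebra B' A]
  [IsScalarTower B' B A] [IsScalarTower B' A' A]
  (hsq : EtMil.IsFibreSquare B' B A' A)
  {D' D C' C : Type u} [CommRing D'] [CommRing D] [CommRing C'] [CommRing C]
  [Algebra D' D] [Algebra D' C'] [Algebra D C] [Algebra C' C] [Algebra D' C]
  [IsScalarTower D' D C] [IsScalarTower D' C' C]
  (hsq' : EtMil.IsFibreSquare D' D C' C)
  [Algebra B' D'] [Algebra B D] [Algebra A' C'] [Algebra A C]
  [Algebra B' D] [IsScalarTower B' B D] [IsScalarTower B' D' D]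
  [Algebra B' C'] [IsScalarTower B' A' C'] [IsScalarTower B' D' C']
  [Algebra B C] [IsScalarTower B A C] [IsScalarTower B D C]
  [Algebra A' C] [IsScalarTower A' A C] [IsScalarTower A' C' C]
  [Algebra.IsPushout B D A C] [Algebra.IsPushout A' C' A C]

include hsq hsq' in
/-- The fibre product algebra is the glued module and has the expected base changes. -/
theorem main_facts :
    Algebra.IsPushout B' B D' D ∧ Algebra.IsPushout B' A' D' C' ∧
      (Module.Flat B D → Module.Flat A' C' → Module.Flat B' D') := by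
  haveI : Algebra.IsPushout B A D C := Algebra.IsPushout.symm inferInstance
  haveI : Algebra.IsPushout A' A C' C := Algebra.IsPushout.symm inferInstance
  have h1 : IsBaseChange A (IsScalarTower.toAlgHom B D C).toLinearMap := Algebra.IsPushout.out
  have h2 : IsBaseChange A (IsScalarTower.toAlgHom A' C' C).toLinearMap := Algebra.IsPushout.out
  let φ : A ⊗[B] D ≃ₗ[A] A ⊗[A'] C' := h1.equiv ≪≫ₗ h2.equiv.symm
  have hmem : ∀ (d : D) (c : C'), (d, c) ∈ EtMil.glue B' φ ↔ algebraMap D C d = algebraMap C' C c := by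
    intro d c
    show h2.equiv.symm (h1.equiv (1 ⊗ₜ d)) = 1 ⊗ₜ c ↔ _
    rw [LinearEquiv.symm_apply_eq, h1.equiv_tmul, h2.equiv_tmul, one_smul, one_smul]
    rfl
  let E₀ : D' →ₗ[B'] EtMil.glue B' φ :=
    LinearMap.codRestrict _
      ((IsScalarTower.toAlgHom B' D' D).toLinearMap.prod (IsScalarTower.toAlgHom B' D' C').toLinearMap)
      fun x => (hmem _ _).mpr (by
        show algebraMap D C (algebraMap D' D x) = algebraMap C' C (algebraMap D' C' x)
        rw [← IsScalarTower.algebraMap_apply, ← IsScalarTower.algebraMap_apply])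
  let E : D' ≃ₗ[B'] EtMil.glue B' φ := LinearEquiv.ofBijective E₀ ⟨fun x y h => by
      have h1 : algebraMap D' D x = algebraMap D' D y := congrArg (fun z : EtMil.glue B' φ => z.1.1) h
      have h2 : algebraMap D' C' x = algebraMap D' C' y := congrArg (fun z : EtMil.glue B' φ => z.1.2) h
      exact ext_of_isFibreSquare hsq' h1 h2,
    fun ⟨⟨d, c⟩, h⟩ => by
      obtain ⟨x, ⟨hx1, hx2⟩, -⟩ := hsq'.2 d c ((hmem d c).mp h)
      exact ⟨x, Subtype.ext (Prod.ext hx1 hx2)⟩⟩
  refine ⟨⟨?_⟩, ⟨?_⟩, fun _ _ => ?_⟩
  · refine IsBaseChange.of_equiv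
      (E.baseChange B' B _ _ ≪≫ₗ LinearEquiv.ofBijective _ (bijective_liftBaseChange_glueFst hsq φ)) fun x => ?_
    show LinearMap.liftBaseChange B (EtMil.glueFst B' φ) (E.baseChange B' B _ _ (1 ⊗ₜ x)) = _
    rw [LinearEquiv.baseChange_tmul, LinearMap.liftBaseChange_tmul, one_smul]
    rfl
  · refine IsBaseChange.of_equiv
      (E.baseChange B' A' _ _ ≪≫ₗ LinearEquiv.ofBijective _ (bijective_liftBaseChange_glueSnd hsq φ)) fun x => ?_
    show LinearMap.liftBaseChange A' (EtMil.glueSnd B' φ) (E.baseChange B' A' _ _ (1 ⊗ₜ x)) = _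
    rw [LinearEquiv.baseChange_tmul, LinearMap.liftBaseChange_tmul, one_smul]
    rfl
  · haveI := flat_glue hsq φ
    exact Module.Flat.of_linearEquiv E

include hsq hsq' in
theorem finiteType [Algebra.FiniteType B D] [Algebra.FiniteType A' C'] : Algebra.FiniteType B' D' := by
  classical
  have w := isWeakSquare hsq
  have w' := isWeakSquare hsq'
  obtain ⟨hpD, hpC, -⟩ := main_facts hsq hsq'
  obtain ⟨s, hs⟩ := ‹Algebra.FiniteType B D›.out
  choose f hf using w'.surjB
  obtain ⟨t, ht⟩ := ‹Algebra.FiniteType A' C'›.out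
  have hspan : ∀ c : C', c ∈ Submodule.span A' (Set.range (algebraMap D' C')) := by
    intro c
    have hb : IsBaseChange A' (IsScalarTower.toAlgHom B' D' C').toLinearMap := hpC.out
    induction c using hb.inductionOn with
    | zero => exact zero_mem _
    | tmul x => exact Submodule.subset_span ⟨x, rfl⟩
    | smul r x hx => exact Submodule.smul_mem _ r hx
    | add x y hx hy => exact add_mem hx hy
  choose T hT using fun c : C' => Submodule.mem_span_finite_of_mem_span (hspan c)
  choose pre hpre using fun (c : C') (x : T c) => (hT c).1 x.2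
  let G : Finset D' := s.image f ∪ t.biUnion fun c => (T c).attach.image (pre c)
  let S := Algebra.adjoin B' (G : Set D')
  refine ⟨G, eq_top_iff.mpr fun x _ => ?_⟩
  -- `S` surjects to `D`
  have hSD : ∀ d : D, ∃ y ∈ S, algebraMap D' D y = d := by
    intro d
    have hd : d ∈ Algebra.adjoin B (s : Set D) := hs ▸ trivial
    induction hd using Algebra.adjoin_induction with
    | mem d hd =>
      exact ⟨f d, Algebra.subset_adjoin (Finset.mem_union_left _ (Finset.mem_image_of_mem f hd)), hf d⟩
    | algebraMap b =>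
      obtain ⟨r, rfl⟩ := w.surjB b
      exact ⟨algebraMap B' D' r, S.algebraMap_mem r, by rw [← IsScalarTower.algebraMap_apply, ← IsScalarTower.algebraMap_apply]⟩
    | add a b _ _ ha hb =>
      obtain ⟨a', ha', rfl⟩ := ha; obtain ⟨b', hb', rfl⟩ := hb
      exact ⟨a' + b', add_mem ha' hb', map_add _ _ _⟩
    | mul a b _ _ ha hb =>
      obtain ⟨a', ha', rfl⟩ := ha; obtain ⟨b', hb', rfl⟩ := hb
      exact ⟨a' * b', mul_mem ha' hb', map_mul _ _ _⟩
  -- and generates `C'` over `A'`
  have hSC : ∀ c : C', c ∈ Submodule.span A' (algebraMap D' C' '' (S : Set D')) := by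
    intro c
    have hc : c ∈ Algebra.adjoin A' (algebraMap D' C' '' (G : Set D')) := by
      have : Algebra.adjoin A' (t : Set C') ≤ Algebra.adjoin A' (algebraMap D' C' '' (G : Set D')) := by
        refine Algebra.adjoin_le fun y hy => ?_
        refine Submodule.span_le (p := Subalgebra.toSubmodule (Algebra.adjoin A' (algebraMap D' C' '' (G : Set D')))) |>.2 ?_ (hT y).2
        intro z hz
        refine Algebra.subset_adjoin ⟨pre y ⟨z, hz⟩, Finset.mem_union_right _ (Finset.mem_biUnion.2 ⟨y, hy, Finset.mem_image_of_mem _ (Finset.mem_attach _ _)⟩), hpre y ⟨z, hz⟩⟩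
      exact this (ht ▸ trivial)
    rw [← Subalgebra.mem_toSubmodule, Algebra.adjoin_eq_span] at hc
    refine Submodule.span_mono ?_ hc
    intro z hz
    induction hz using Submonoid.closure_induction with
    | mem z hz => obtain ⟨g, hg, rfl⟩ := hz; exact ⟨g, Algebra.subset_adjoin hg, rfl⟩
    | one => exact ⟨1, one_mem _, map_one _⟩
    | mul a b _ _ ha hb =>
      obtain ⟨a', ha', rfl⟩ := ha; obtain ⟨b', hb', rfl⟩ := hb
      exact ⟨a' * b', mul_mem ha' hb', map_mul _ _ _⟩
  obtain ⟨y, hy, hxy⟩ := hSD (algebraMap D' D x)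
  suffices x - y ∈ S by simpa using add_mem this hy
  have hd0 : algebraMap D' D (x - y) = 0 := by rw [map_sub, hxy, sub_self]
  generalize x - y = z at hd0
  -- the part over `A'`
  have hker : algebraMap D' C' z ∈ RingHom.ker (algebraMap A' A) • (⊤ : Submodule A' C') := by
    haveI : Algebra.IsPushout A' A C' C := Algebra.IsPushout.symm inferInstance
    have h2 : IsBaseChange A (IsScalarTower.toAlgHom A' C' C).toLinearMap := Algebra.IsPushout.out
    rw [← tmul_eq_zero_iff_mem w.surjA, ← h2.equiv.map_eq_zero_iff, h2.equiv_tmul, one_smul]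
    show algebraMap C' C (algebraMap D' C' z) = 0
    rw [← IsScalarTower.algebraMap_apply, IsScalarTower.algebraMap_apply D' D C, hd0, map_zero]
  suffices key : ∀ c ∈ RingHom.ker (algebraMap A' A) • (⊤ : Submodule A' C'),
      ∃ y ∈ S, algebraMap D' D y = 0 ∧ algebraMap D' C' y = c by
    obtain ⟨y, hy, h1, h2⟩ := key _ hker
    rwa [show z = y from ext_of_isFibreSquare hsq' (hd0.trans h1.symm) h2.symm]
  intro c hc
  refine Submodule.smul_induction_on hc (fun i hi m _ => ?_) ?_
  · suffices ∀ i : A', algebraMap A' A i = 0 → ∃ y ∈ S, algebraMap D' D y = 0 ∧ algebraMap D' C' y = i • m from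
      this i hi
    induction hSC m using Submodule.span_induction with
    | mem m hm =>
      obtain ⟨g, hg, rfl⟩ := hm
      intro i hi
      obtain ⟨j, hj, rfl⟩ := w.lift i hi
      refine ⟨algebraMap B' D' j * g, mul_mem (S.algebraMap_mem j) hg, ?_, ?_⟩
      · rw [map_mul, ← IsScalarTower.algebraMap_apply, IsScalarTower.algebraMap_apply B' B D, hj, map_zero, zero_mul]
      · rw [map_mul, ← IsScalarTower.algebraMap_apply, Algebra.smul_def, ← IsScalarTower.algebraMap_apply]
    | zero => exact fun i _ => ⟨0, zero_mem _, map_zero _, by rw [map_zero, smul_zero]⟩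
    | add a b _ _ ha hb =>
      intro i hi
      obtain ⟨y, hy, h1, h2⟩ := ha trivial i hi; obtain ⟨y', hy', h1', h2'⟩ := hb trivial i hi
      exact ⟨y + y', add_mem hy hy', by rw [map_add, h1, h1', add_zero], by rw [map_add, h2, h2', smul_add]⟩
    | smul r a _ ha =>
      intro i hi
      obtain ⟨y, hy, h1, h2⟩ := ha trivial (i * r) (by rw [map_mul, hi, zero_mul])
      exact ⟨y, hy, h1, by rw [h2, mul_smul]⟩
  · rintro a b ⟨y, hy, h1, h2⟩ ⟨y', hy', h1', h2'⟩
    exact ⟨y + y', add_mem hy hy', by rw [map_add, h1, h1', add_zero], by rw [map_add, h2, h2']⟩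

include hsq hsq' in
theorem finitePresentation_of_flat [Module.Flat B D] [Module.Flat A' C']
    [Algebra.FinitePresentation B D] [Algebra.FinitePresentation A' C'] :
    Algebra.FinitePresentation B' D' := by
  classical
  have w := isWeakSquare hsq
  obtain ⟨hpD, hpC, hflat⟩ := main_facts hsq hsq'
  haveI := hflat inferInstance inferInstance
  haveI := finiteType hsq hsq'
  obtain ⟨n, π, hπ⟩ := Algebra.FiniteType.iff_quotient_mvPolynomial''.1 (inferInstance : Algebra.FiniteType B' D')
  let P := MvPolynomial (Fin n) B'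
  -- base changes of `π`
  let πB : MvPolynomial (Fin n) B →ₐ[B] D := MvPolynomial.aeval fun i => algebraMap D' D (π (.X i))
  let πA : MvPolynomial (Fin n) A' →ₐ[A'] C' := MvPolynomial.aeval fun i => algebraMap D' C' (π (.X i))
  let rB : P →+* MvPolynomial (Fin n) B := MvPolynomial.map (algebraMap B' B)
  let rA : P →+* MvPolynomial (Fin n) A' := MvPolynomial.map (algebraMap B' A')
  have cB : ∀ p, πB (rB p) = algebraMap D' D (π p) := by
    intro p
    have h : πB.toRingHom.comp rB = (algebraMap D' D).comp π.toRingHom := by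
      apply MvPolynomial.ringHom_ext
      · intro r; simp [πB, rB, ← IsScalarTower.algebraMap_apply]
      · intro i; simp [πB, rB]
    exact RingHom.congr_fun h p
  have cA : ∀ p, πA (rA p) = algebraMap D' C' (π p) := by
    intro p
    have h : πA.toRingHom.comp rA = (algebraMap D' C').comp π.toRingHom := by
      apply MvPolynomial.ringHom_ext
      · intro r; simp [πA, rA, ← IsScalarTower.algebraMap_apply]
      · intro i; simp [πA, rA]
    exact RingHom.congr_fun h p
  have hcB : ∀ (q : P) (m : Fin n →₀ ℕ), (rB q).coeff m = algebraMap B' B (q.coeff m) := fun q m => MvPolynomial.coeff_map _ q m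
  have hcA : ∀ (q : P) (m : Fin n →₀ ℕ), (rA q).coeff m = algebraMap B' A' (q.coeff m) := fun q m => MvPolynomial.coeff_map _ q m
  have hmA : ∀ m : Fin n →₀ ℕ, rA (MvPolynomial.monomial m 1) = MvPolynomial.monomial m 1 := fun m =>
    (MvPolynomial.map_monomial _ _ _).trans (by rw [map_one])
  have hrB : Surjective rB := MvPolynomial.map_surjective _ w.surjB
  have hπB : Surjective πB := fun d => by
    obtain ⟨x, rfl⟩ := (isWeakSquare hsq').surjB d
    obtain ⟨p, rfl⟩ := hπ x
    exact ⟨rB p, cB p⟩
  have hπA : Surjective πA := by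
    intro c
    have hb : IsBaseChange A' (IsScalarTower.toAlgHom B' D' C').toLinearMap := hpC.out
    induction c using hb.inductionOn with
    | zero => exact ⟨0, map_zero _⟩
    | tmul x => obtain ⟨p, rfl⟩ := hπ x; exact ⟨rA p, cA p⟩
    | smul r x hx => obtain ⟨p, rfl⟩ := hx; exact ⟨r • p, map_smul πA r p⟩
    | add x y hx hy => obtain ⟨p, rfl⟩ := hx; obtain ⟨q, rfl⟩ := hy; exact ⟨p + q, map_add πA p q⟩
  obtain ⟨sB, hsB⟩ := Algebra.FinitePresentation.ker_fG_of_surjective πB hπB
  obtain ⟨sA, hsA⟩ := Algebra.FinitePresentation.ker_fG_of_surjective πA hπA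
  -- lift generators of the kernel over `B`
  have liftB : ∀ q ∈ RingHom.ker πB.toRingHom, ∃ k ∈ RingHom.ker π.toRingHom, rB k = q := by
    intro q hq
    obtain ⟨p, rfl⟩ := hrB q
    have hpd : algebraMap D' D (π p) = 0 := (cB p).symm.trans hq
    -- correct by an element of `J • P`
    have hmem : ((1 : B) ⊗ₜ[B'] (π p) : B ⊗[B'] D') = 0 := by
      have hb : IsBaseChange B (IsScalarTower.toAlgHom B' D' D).toLinearMap := hpD.out
      rw [← hb.equiv.map_eq_zero_iff, hb.equiv_tmul, one_smul]
      exact hpd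
    rw [tmul_eq_zero_iff_mem w.surjB] at hmem
    have : ∃ p' : P, rB p' = 0 ∧ π p' = π p := by
      refine Submodule.smul_induction_on hmem (fun j hj x _ => ?_) ?_
      · obtain ⟨x, rfl⟩ := hπ x
        exact ⟨j • x, by rw [Algebra.smul_def, map_mul, MvPolynomial.algebraMap_eq,
          show rB (MvPolynomial.C j) = MvPolynomial.C (algebraMap B' B j) from MvPolynomial.map_C _ _,
          RingHom.mem_ker.mp hj, map_zero, zero_mul], map_smul π j x⟩
      · rintro a b ⟨p, h1, h2⟩ ⟨q, h1', h2'⟩
        exact ⟨p + q, by rw [map_add, h1, h1', add_zero], by rw [map_add, h2, h2']⟩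
    obtain ⟨p', h1, h2⟩ := this
    exact ⟨p - p', by rw [RingHom.mem_ker, map_sub]; exact sub_eq_zero.mpr h2.symm, by rw [map_sub, h1, sub_zero]⟩
  -- the kernel over `A'` is spanned by the image of the kernel
  have hspanA : ∀ q ∈ RingHom.ker πA.toRingHom,
      q ∈ Ideal.map rA (RingHom.ker π.toRingHom) := by
    let I := Ideal.map rA (RingHom.ker π.toRingHom)
    -- a section `C' → A'[X] / I`
    let Q := MvPolynomial (Fin n) A' ⧸ I
    let ρ : P →ₐ[B'] Q := AlgHom.mk' ((Ideal.Quotient.mk I).comp rA) fun c x => by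
      change Ideal.Quotient.mk I (rA (c • x)) = Ideal.Quotient.mk I (c • rA x)
      congr 1
      rw [Algebra.smul_def, Algebra.smul_def, map_mul]
      congr 1
      exact (MvPolynomial.map_C _ _).trans rfl
    have hρ : ∀ p ∈ RingHom.ker π.toRingHom, ρ p = 0 := fun p hp =>
      Ideal.Quotient.eq_zero_iff_mem.mpr (Ideal.mem_map_of_mem rA hp)
    let σ : D' →ₐ[B'] Q := AlgHom.liftOfSurjective π hπ ρ hρ
    have hb : IsBaseChange A' (IsScalarTower.toAlgHom B' D' C').toLinearMap := hpC.out
    let τ : C' →ₗ[A'] Q := hb.lift σ.toLinearMap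
    have hτ : ∀ q, τ (πA q) = Ideal.Quotient.mk I q := by
      intro q
      induction q using MvPolynomial.induction_on' with
      | add a b ha hb => rw [map_add, map_add, map_add, ha, hb]
      | monomial m a =>
        have e1 : MvPolynomial.monomial m a = a • rA (MvPolynomial.monomial m 1) := by
          rw [hmA]; simp [MvPolynomial.smul_monomial]
        rw [e1, map_smul, map_smul, cA]
        have : τ (algebraMap D' C' (π (MvPolynomial.monomial m 1))) = σ (π (MvPolynomial.monomial m 1)) :=
          hb.lift_eq _ _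
        rw [this]
        have e2 : σ (π (MvPolynomial.monomial m 1)) = ρ (MvPolynomial.monomial m 1) :=
          AlgHom.liftOfSurjective_apply π hπ ρ hρ _
        rw [e2]
        rfl
    intro q hq
    rw [← Ideal.Quotient.eq_zero_iff_mem, ← hτ, show πA q = 0 from hq, map_zero]
  choose kB hkB hkB' using fun x : sB => liftB x.1 (hsB ▸ Ideal.subset_span x.2)
  choose TA hTA using fun x : sA => Submodule.mem_span_finite_of_mem_span
    (hspanA x.1 (hsA ▸ Ideal.subset_span x.2))
  choose kA hkA hkA' using fun (x : sA) (y : TA x) => (hTA x).1 y.2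
  let G : Finset P := Finset.univ.image kB ∪ Finset.univ.biUnion fun x : sA => (Finset.univ : Finset (TA x)).image (kA x)
  let K := RingHom.ker π.toRingHom
  have hGK : Ideal.span (G : Set P) ≤ K := by
    rw [Ideal.span_le]
    intro g hg
    rcases Finset.mem_union.1 hg with h | h
    · obtain ⟨x, -, rfl⟩ := Finset.mem_image.1 h; exact hkB x
    · obtain ⟨x, -, h⟩ := Finset.mem_biUnion.1 h; obtain ⟨y, -, rfl⟩ := Finset.mem_image.1 h; exact hkA x y
  have hA : RingHom.ker πA.toRingHom ≤ Ideal.map rA (Ideal.span (G : Set P)) := by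
    refine hsA ▸ Ideal.span_le.2 fun x hx => ?_
    refine Submodule.span_le.2 ?_ (hTA ⟨x, hx⟩).2
    intro y hy
    rw [show y = rA (kA ⟨x, hx⟩ ⟨y, hy⟩) from (hkA' ⟨x, hx⟩ ⟨y, hy⟩).symm]
    exact Ideal.mem_map_of_mem rA (Ideal.subset_span (Finset.mem_union_right _
      (Finset.mem_biUnion.2 ⟨⟨x, hx⟩, Finset.mem_univ _, Finset.mem_image_of_mem _ (Finset.mem_univ _)⟩)))
  have hB : RingHom.ker πB.toRingHom ≤ Ideal.map rB (Ideal.span (G : Set P)) := by
    refine hsB ▸ Ideal.span_le.2 fun x hx => ?_
    rw [show x = rB (kB ⟨x, hx⟩) from (hkB' ⟨x, hx⟩).symm]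
    exact Ideal.mem_map_of_mem rB (Ideal.subset_span (Finset.mem_union_left _ (Finset.mem_image_of_mem _ (Finset.mem_univ _))))
  refine Algebra.FinitePresentation.of_surjective (f := π) hπ ⟨G, le_antisymm hGK fun k hk => ?_⟩
  obtain ⟨g, hg, hgk⟩ := (Ideal.mem_map_iff_of_surjective rB hrB).1 (hB (show rB k ∈ RingHom.ker πB.toRingHom by
    rw [RingHom.mem_ker]; exact (cB k).trans (by rw [show π k = 0 from hk, map_zero])))
  suffices k - g ∈ Ideal.span (G : Set P) by simpa using add_mem this hg
  have hk0 : π (k - g) = 0 := by rw [map_sub, show π k = 0 from hk, show π g = 0 from hGK hg, sub_zero]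
  have hJ : ∀ m, algebraMap B' B ((k - g).coeff m) = 0 := by
    intro m
    have := congrArg (fun q : MvPolynomial (Fin n) B => q.coeff m) hgk
    simp only [hcB] at this
    rw [MvPolynomial.coeff_sub, map_sub, this, sub_self]
  generalize k - g = k at hk0 hJ
  -- flatness: `k` lies in `J • K`
  have hrel : ∑ m : k.support, k.coeff m.1 • π (MvPolynomial.monomial m.1 1) = 0 := by
    rw [← hk0]
    conv_rhs => rw [k.as_sum, map_sum, ← Finset.sum_coe_sort]
    exact Finset.sum_congr rfl fun m _ => by rw [← map_smul, MvPolynomial.smul_monomial, smul_eq_mul, mul_one]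
  obtain ⟨N, a, y, hy, ha⟩ := Module.Flat.isTrivialRelation_of_sum_smul_eq_zero hrel
  choose y' hy' using fun j : Fin N => hπ (y j)
  let kk : k.support → P := fun m => MvPolynomial.monomial m.1 1 - ∑ j, a m j • y' j
  have hkk : ∀ m, kk m ∈ K := fun m => by
    change π (kk m) = 0
    simp [kk, hy', hy m]
  have hk : k = ∑ m : k.support, k.coeff m.1 • kk m := by
    simp only [kk, smul_sub, Finset.sum_sub_distrib, Finset.smul_sum, smul_smul]
    rw [Finset.sum_comm (s := Finset.univ) (t := (Finset.univ : Finset (Fin N)))]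
    have : ∀ j : Fin N, ∑ m : k.support, (k.coeff m.1 * a m j) • y' j = 0 := fun j => by
      rw [← Finset.sum_smul, ha j, zero_smul]
    rw [Finset.sum_eq_zero fun j _ => this j, sub_zero]
    conv_lhs => rw [k.as_sum, ← Finset.sum_coe_sort]
    exact Finset.sum_congr rfl fun m _ => by rw [MvPolynomial.smul_monomial, smul_eq_mul, mul_one]
  rw [hk]
  refine Ideal.sum_mem _ fun m _ => ?_
  -- `j • K ≤ span G`
  have key : ∀ (q : MvPolynomial (Fin n) A'), q ∈ Ideal.map rA (Ideal.span (G : Set P)) →
      ∀ i : A', algebraMap A' A i = 0 → ∃ z ∈ Ideal.span (G : Set P), rB z = 0 ∧ rA z = i • q := by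
    intro q hq
    rw [Ideal.map_span] at hq
    induction hq using Submodule.span_induction with
    | mem q hq =>
      obtain ⟨g, hg, rfl⟩ := hq
      intro i hi
      obtain ⟨j, hj, rfl⟩ := w.lift i hi
      refine ⟨MvPolynomial.C j * g, Ideal.mul_mem_left _ _ (Ideal.subset_span hg), ?_, ?_⟩
      · rw [map_mul, show rB (MvPolynomial.C j) = MvPolynomial.C (algebraMap B' B j) from MvPolynomial.map_C _ _, hj, map_zero, zero_mul]
      · rw [map_mul, show rA (MvPolynomial.C j) = MvPolynomial.C (algebraMap B' A' j) from MvPolynomial.map_C _ _, MvPolynomial.smul_eq_C_mul]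
    | zero => exact fun i _ => ⟨0, zero_mem _, map_zero _, by rw [map_zero, smul_zero]⟩
    | add a b _ _ ha hb =>
      intro i hi
      obtain ⟨z, hz, h1, h2⟩ := ha i hi; obtain ⟨z', hz', h1', h2'⟩ := hb i hi
      exact ⟨z + z', add_mem hz hz', by rw [map_add, h1, h1', add_zero], by rw [map_add, h2, h2', smul_add]⟩
    | smul r a _ ha =>
      induction r using MvPolynomial.induction_on' with
      | monomial d c =>
        intro i hi
        obtain ⟨z, hz, h1, h2⟩ := ha (i * c) (by rw [map_mul, hi, zero_mul])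
        refine ⟨MvPolynomial.monomial d 1 * z, Ideal.mul_mem_left _ _ hz, by rw [map_mul, h1, mul_zero], ?_⟩
        rw [map_mul, h2, hmA,
          show MvPolynomial.monomial d c = c • MvPolynomial.monomial d (1 : A') by simp [MvPolynomial.smul_monomial]]
        simp only [smul_eq_mul, Algebra.smul_def, map_mul]
        ring
      | add r r' hr hr' =>
        intro i hi
        obtain ⟨z, hz, h1, h2⟩ := hr i hi; obtain ⟨z', hz', h1', h2'⟩ := hr' i hi
        exact ⟨z + z', add_mem hz hz', by rw [map_add, h1, h1', add_zero],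
          by rw [map_add, h2, h2', ← smul_add, ← add_smul]⟩
  have hAmem : rA (kk m) ∈ Ideal.map rA (Ideal.span (G : Set P)) := hA (by
    rw [RingHom.mem_ker]; exact (cA _).trans (by rw [show π (kk m) = 0 from hkk m, map_zero]))
  obtain ⟨z, hz, h1, h2⟩ := key _ hAmem (algebraMap B' A' (k.coeff m.1))
    (by rw [← IsScalarTower.algebraMap_apply, IsScalarTower.algebraMap_apply B' B A, hJ, map_zero])
  have : k.coeff m.1 • kk m = z := by
    ext d
    refine ext_of_isFibreSquare hsq ?_ ?_
    · have := congrArg (fun q : MvPolynomial (Fin n) B => q.coeff d) h1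
      simp only [hcB, MvPolynomial.coeff_zero] at this
      rw [MvPolynomial.coeff_smul, smul_eq_mul, map_mul, hJ, zero_mul, this]
    · have := congrArg (fun q : MvPolynomial (Fin n) A' => q.coeff d) h2
      simp only [hcA, MvPolynomial.coeff_smul, smul_eq_mul] at this
      rw [MvPolynomial.coeff_smul, smul_eq_mul, map_mul, this]
  rw [this]; exact hz

include hsq hsq' in
theorem formallyUnramified [Algebra.FormallyUnramified B D] [Algebra.FormallyUnramified A' C'] :
    Algebra.FormallyUnramified B' D' := by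
  obtain ⟨hpD, hpC, -⟩ := main_facts hsq hsq'
  haveI := hpD
  haveI := hpC
  refine ⟨subsingleton_of_subsingleton hsq _ ?_ ?_⟩
  · exact ((KaehlerDifferential.isBaseChange B' B D' D).equiv).subsingleton
  · exact ((KaehlerDifferential.isBaseChange B' A' D' C').equiv).subsingleton

/-- Smoothness of a fibre can be checked after base change to an algebra with a prime above. -/
theorem formallySmooth_fiber {R T S S' : Type u} [CommRing R] [CommRing T] [CommRing S] [CommRing S']
    [Algebra R T] [Algebra R S] [Algebra R S'] [Algebra S S'] [Algebra T S'] [IsScalarTower R S S']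
    [IsScalarTower R T S'] [Algebra.IsPushout R S T S'] [Algebra.FinitePresentation R T] [Algebra.FormallySmooth S S']
    (q : Ideal S) [q.IsPrime] (I : Ideal R) [I.IsPrime] (hI : I = q.comap (algebraMap R S)) :
    Algebra.FormallySmooth I.ResidueField (I.Fiber T) := by
  letI : Algebra I.ResidueField q.ResidueField := (Ideal.ResidueField.map I q (algebraMap R S) hI).toAlgebra
  haveI : IsScalarTower R I.ResidueField q.ResidueField := IsScalarTower.of_algebraMap_eq fun r => by
    rw [RingHom.algebraMap_toAlgebra]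
    exact ((Ideal.ResidueField.mapₐ (R := R) I q (Algebra.ofId R S) hI).commutes r).symm
  let K := q.ResidueField
  haveI : Algebra.FiniteType R T := inferInstance
  refine AlgSpLib.SmoothField.formallySmooth_of_baseChange I.ResidueField K _ ?_
  let e₁ : K ⊗[I.ResidueField] (I.ResidueField ⊗[R] T) ≃ₐ[K] K ⊗[R] T :=
    Algebra.TensorProduct.cancelBaseChange R I.ResidueField K K T
  let e₂ : K ⊗[R] T ≃ₐ[K] K ⊗[S] (S ⊗[R] T) :=
    (Algebra.TensorProduct.cancelBaseChange R S K K T).symm
  let e₃ : K ⊗[S] (S ⊗[R] T) ≃ₐ[K] K ⊗[S] S' :=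
    Algebra.TensorProduct.congr AlgEquiv.refl (Algebra.IsPushout.equiv R S T S')
  exact Algebra.FormallySmooth.of_equiv (e₁.trans (e₂.trans e₃)).symm

include hsq hsq' in
theorem smooth [Algebra.Smooth B D] [Algebra.Smooth A' C'] : Algebra.Smooth B' D' := by
  obtain ⟨hpD, hpC, hflat⟩ := main_facts hsq hsq'
  haveI := hflat inferInstance inferInstance
  haveI := finitePresentation_of_flat hsq hsq'
  haveI := hpD
  haveI := hpC
  refine Algebra.Smooth.of_formallySmooth_fiber fun I hIp => ?_
  by_cases hJ : RingHom.ker (algebraMap B' B) ≤ I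
  · have hs := (isWeakSquare hsq).surjB
    haveI : (I.map (algebraMap B' B)).IsPrime := Ideal.map_isPrime_of_surjective hs hJ
    exact formallySmooth_fiber (S := B) (S' := D) (I.map (algebraMap B' B)) I
      (by rw [Ideal.comap_map_of_surjective _ hs]; exact (sup_eq_left.mpr hJ).symm)
  obtain ⟨j, hj, hjI⟩ := SetLike.not_le_iff_exists.mp hJ
  have hz : ∀ a : A', algebraMap A' A (algebraMap B' A' j * a) = 0 := fun a => by
    rw [map_mul, map_kernels (B := B) j (RingHom.mem_ker.mp hj), zero_mul]
  choose c hc hc' using fun a : A' => (isWeakSquare hsq).lift _ (hz a)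
  have hcr : ∀ r : B', c (algebraMap B' A' r) = j * r := fun r =>
    ext_of_isFibreSquare hsq (by rw [hc, map_mul, RingHom.mem_ker.mp hj, zero_mul]) (by rw [hc', map_mul])
  have hcadd : ∀ a b, c (a + b) = c a + c b := fun a b =>
    ext_of_isFibreSquare hsq (by rw [map_add, hc, hc, hc, add_zero]) (by rw [map_add, hc', hc', hc', mul_add])
  have hcmul : ∀ a b, c a * c b = j * c (a * b) := fun a b =>
    ext_of_isFibreSquare hsq (by rw [map_mul, map_mul, hc, hc, hc, zero_mul, mul_zero])
      (by rw [map_mul, map_mul, hc', hc', hc']; ring)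
  let q : Ideal A' :=
    { carrier := {a | c a ∈ I}
      add_mem' := fun {a b} ha hb => show c (a + b) ∈ I by rw [hcadd]; exact I.add_mem ha hb
      zero_mem' := show c 0 ∈ I by
        have := hcr 0
        rw [map_zero, mul_zero] at this
        rw [this]; exact I.zero_mem
      smul_mem' := fun r a ha => show c (r * a) ∈ I from
        (hIp.mem_or_mem (show j * c (r * a) ∈ I by rw [← hcmul]; exact I.mul_mem_left _ ha)).resolve_left hjI }
  haveI : q.IsPrime := by
    refine ⟨fun h => hjI ?_, fun {a b} hab => hIp.mem_or_mem (show c a * c b ∈ I by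
      rw [hcmul]; exact I.mul_mem_left _ hab)⟩
    have h1 : c (algebraMap B' A' 1) ∈ I := by
      show algebraMap B' A' 1 ∈ q
      rw [h]; exact trivial
    rwa [hcr, mul_one] at h1
  refine formallySmooth_fiber (S := A') (S' := C') q I (Ideal.ext fun r => ?_)
  show r ∈ I ↔ c (algebraMap B' A' r) ∈ I
  rw [hcr]
  exact ⟨fun h => I.mul_mem_left _ h, fun h => (hIp.mem_or_mem h).resolve_left hjI⟩

end Groth.Agent.HenselLib.MilnorAlg
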