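import Groth.Agent.HenselLib.MilnorGlue
import Groth.Agent.HenselLib.MilnorFlat
import Mathlib.RingTheory.FinitePresentation
import Mathlib.RingTheory.FiniteStability
import Mathlib.RingTheory.Finiteness.ModuleFinitePresentation
import Mathlib.RingTheory.Flat.Stability
import Mathlib.Algebra.Module.FinitePresentation

/-!
# Finite presentation in the relative Milnor situation
-/

set_option autoImplicit false
set_option linter.all false
universe u

open TensorProduct Function Groth.Agent.HenselLib.Milnor

namespace Groth.Agent.HenselLib.MilnorRel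

variable {B' B A' A : Type u} [CommRing B'] [CommRing B] [CommRing A'] [CommRing A]
  [Algebra B' B] [Algebra B' A'] [Algebra B A] [Algebra A' A] [Algebra B' A]
  [IsScalarTower B' B A] [IsScalarTower B' A' A]

/-- A module over a `B'`-algebra, flat over both corners and finitely presented there, is finitely presented. -/
theorem finitePresentation_of_flat (hsq : EtMil.IsFibreSquare B' B A' A) (P : Type u) [CommRing P]
    [Algebra B' P] (M : Type u) [AddCommGroup M] [Module P M] [Module B' M] [IsScalarTower B' P M]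
    [Module.Finite P M] [Module.Flat B (B ⊗[B'] M)] [Module.Flat A' (A' ⊗[B'] M)]
    (fB : letI : Algebra P (B ⊗[B'] P) := Algebra.TensorProduct.rightAlgebra
      Module.FinitePresentation (B ⊗[B'] P) ((B ⊗[B'] P) ⊗[P] M))
    (fA : letI : Algebra P (A' ⊗[B'] P) := Algebra.TensorProduct.rightAlgebra
      Module.FinitePresentation (A' ⊗[B'] P) ((A' ⊗[B'] P) ⊗[P] M)) :
    Module.FinitePresentation P M := by
  classical
  letI : Algebra P (B ⊗[B'] P) := Algebra.TensorProduct.rightAlgebra
  letI : Algebra P (A' ⊗[B'] P) := Algebra.TensorProduct.rightAlgebra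
  haveI := fB
  haveI := fA
  obtain ⟨n, π, hπ⟩ := Module.Finite.exists_fin' P M
  have key : ∀ (S : Type u) [CommRing S] [Algebra P S]
      [Module.FinitePresentation S (S ⊗[P] M)],
      ∃ K₀ : Submodule P (Fin n → P), K₀.FG ∧ K₀ ≤ LinearMap.ker π ∧
        ∀ y, π.baseChange S y = 0 →
          y ∈ Submodule.span S ((fun k => (1 : S) ⊗ₜ[P] k) '' (K₀ : Set (Fin n → P))) := by
    intro S _ _ _
    obtain ⟨s, hs⟩ := Module.FinitePresentation.fg_ker (π.baseChange S)
      (LinearMap.lTensor_surjective S hπ)
    have : ∀ z : S ⊗[P] LinearMap.ker π, ∃ t : Finset (Fin n → P),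
        ↑t ⊆ (LinearMap.ker π : Set (Fin n → P)) ∧ (LinearMap.ker π).subtype.baseChange S z ∈
          Submodule.span S ((fun k => (1 : S) ⊗ₜ[P] k) '' (t : Set (Fin n → P))) := by
      intro z
      induction z with
      | zero => exact ⟨∅, by simp, by simp⟩
      | tmul a l =>
        refine ⟨{l.1}, by simp, ?_⟩
        rw [LinearMap.baseChange_tmul, show (a ⊗ₜ[P] ((LinearMap.ker π).subtype l) :
          S ⊗[P] (Fin n → P)) = a • ((1 : S) ⊗ₜ l.1) by rw [smul_tmul', smul_eq_mul, mul_one]; rfl]
        exact Submodule.smul_mem _ _ (Submodule.subset_span (by simp))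
      | add x y hx hy =>
        obtain ⟨t₁, ht₁, h₁⟩ := hx
        obtain ⟨t₂, ht₂, h₂⟩ := hy
        refine ⟨t₁ ∪ t₂, by simp [ht₁, ht₂], ?_⟩
        rw [map_add]
        exact add_mem (Submodule.span_mono (Set.image_mono (by simp)) h₁)
          (Submodule.span_mono (Set.image_mono (by simp)) h₂)
    have hsk : ∀ y : {y // y ∈ s}, ∃ z : S ⊗[P] LinearMap.ker π,
        (LinearMap.ker π).subtype.baseChange S z = y.1 := by
      intro y
      have hy : π.baseChange S y.1 = 0 := LinearMap.mem_ker.mp (hs ▸ Submodule.subset_span y.2)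
      exact ((_root_.lTensor_exact S (LinearMap.exact_subtype_ker_map π) hπ) y.1).mp hy
    choose z hz using hsk
    choose t ht ht' using this
    refine ⟨Submodule.span P ↑(s.attach.biUnion fun y => t (z y)), ⟨_, rfl⟩, ?_, fun y hy => ?_⟩
    · rw [Submodule.span_le]
      intro k hk
      obtain ⟨y, -, hy⟩ := Finset.mem_biUnion.mp hk
      exact ht _ hy
    · have : y ∈ Submodule.span S (s : Set (S ⊗[P] (Fin n → P))) := hs ▸ LinearMap.mem_ker.mpr hy
      refine Submodule.span_le.mpr (fun x hx => ?_) this
      have hx' := ht' (z ⟨x, hx⟩)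
      rw [hz] at hx'
      exact Submodule.span_mono (Set.image_mono fun k hk => Submodule.subset_span
        (Finset.mem_biUnion.mpr ⟨⟨x, hx⟩, Finset.mem_attach _ _, hk⟩)) hx'
  obtain ⟨K₁, h₁, h₁', h₁''⟩ := key (B ⊗[B'] P)
  obtain ⟨K₂, h₂, h₂', h₂''⟩ := key (A' ⊗[B'] P)
  let K₀ := K₁ ⊔ K₂
  let π₀ := K₀.liftQ π (sup_le h₁' h₂')
  have hπ₀ : Surjective π₀ := fun x => by
    obtain ⟨y, rfl⟩ := hπ x
    exact ⟨K₀.mkQ y, rfl⟩
  have bij : ∀ (S : Type u) [CommRing S] [Algebra P S] (K : Submodule P (Fin n → P)), K ≤ K₀ →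
      (∀ y, π.baseChange S y = 0 →
        y ∈ Submodule.span S ((fun k => (1 : S) ⊗ₜ[P] k) '' (K : Set (Fin n → P)))) →
      Bijective (π₀.baseChange S) := by
    intro S _ _ K hK hy
    refine ⟨(injective_iff_map_eq_zero _).mpr fun x hx => ?_, LinearMap.lTensor_surjective S hπ₀⟩
    obtain ⟨y, rfl⟩ := LinearMap.lTensor_surjective S K₀.mkQ_surjective x
    have hy0 : π.baseChange S y = 0 := by
      rw [← hx]
      change π.lTensor S y = π₀.lTensor S (K₀.mkQ.lTensor S y)
      rw [← LinearMap.lTensor_comp_apply, Submodule.liftQ_mkQ]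
    change K₀.mkQ.baseChange S y = 0
    refine LinearMap.mem_ker.mp (Submodule.span_le.mpr ?_ (hy y hy0))
    rintro _ ⟨k, hk, rfl⟩
    have h0 : K₀.mkQ k = 0 := (Submodule.Quotient.mk_eq_zero _).mpr (hK hk)
    rw [SetLike.mem_coe, LinearMap.mem_ker, LinearMap.baseChange_tmul, h0, tmul_zero]
  have b₁ := bij (B ⊗[B'] P) K₁ le_sup_left h₁''
  have b₂ := bij (A' ⊗[B'] P) K₂ le_sup_right h₂''
  let Q := (Fin n → P) ⧸ K₀
  let cB := fun (T : Type u) (_ : AddCommGroup T) (_ : Module P T) (_ : Module B' T) (_ : IsScalarTower B' P T) =>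
    Algebra.IsPushout.cancelBaseChange B' B P (B ⊗[B'] P) T
  let cA := fun (T : Type u) (_ : AddCommGroup T) (_ : Module P T) (_ : Module B' T) (_ : IsScalarTower B' P T) =>
    Algebra.IsPushout.cancelBaseChange B' A' P (A' ⊗[B'] P) T
  haveI : Module.Flat B (B ⊗[B'] Q) := .of_linearEquiv
    ((cB Q inferInstance inferInstance inferInstance inferInstance).symm ≪≫ₗ
      ((LinearEquiv.ofBijective _ b₁).restrictScalars B) ≪≫ₗ cB M inferInstance inferInstance inferInstance inferInstance)
  haveI : Module.Flat A' (A' ⊗[B'] Q) := .of_linearEquiv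
    ((cA Q inferInstance inferInstance inferInstance inferInstance).symm ≪≫ₗ
      ((LinearEquiv.ofBijective _ b₂).restrictScalars A') ≪≫ₗ cA M inferInstance inferInstance inferInstance inferInstance)
  haveI := flat_of_flat hsq Q
  have hle : LinearMap.ker π ≤ K₀ := fun x hx => by
    rw [← Submodule.Quotient.mk_eq_zero]
    have h0 : π₀ (Submodule.Quotient.mk x) = 0 := hx
    refine injective_pairs hsq _ _ ?_ ?_
    · apply (cB Q inferInstance inferInstance inferInstance inferInstance).symm.injective
      rw [map_zero]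
      change (Algebra.IsPushout.cancelBaseChange B' B P (B ⊗[B'] P) Q).symm (1 ⊗ₜ Submodule.Quotient.mk x) = 0
      rw [Algebra.IsPushout.cancelBaseChange_symm_tmul, map_one]
      exact b₁.injective (by rw [LinearMap.baseChange_tmul, map_zero, h0, tmul_zero])
    · apply (cA Q inferInstance inferInstance inferInstance inferInstance).symm.injective
      rw [map_zero]
      change (Algebra.IsPushout.cancelBaseChange B' A' P (A' ⊗[B'] P) Q).symm (1 ⊗ₜ Submodule.Quotient.mk x) = 0
      rw [Algebra.IsPushout.cancelBaseChange_symm_tmul, map_one]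
      exact b₂.injective (by rw [LinearMap.baseChange_tmul, map_zero, h0, tmul_zero])
  refine Module.finitePresentation_of_surjective π hπ ?_
  rw [le_antisymm hle (sup_le h₁' h₂')]
  exact h₁.sup h₂

/-- The corner hypothesis from an identification of `S ⊗ M` with a finitely presented module over a quotient. -/
theorem corner {R S : Type u} [CommRing R] [CommRing S] [Algebra R S] (P : Type u) [CommRing P] [Algebra R P]
    {D E : Type u} [CommRing D] [CommRing E] [Algebra R D] [Algebra P D] [IsScalarTower R P D]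
    [Algebra S E] [Algebra R E] [IsScalarTower R S E] [Algebra D E] [IsScalarTower R D E]
    [Algebra.IsPushout R S D E] [Module.Finite P D] [Algebra.FinitePresentation P D]
    {M N : Type u} [AddCommGroup M] [Module P M] [Module R M] [IsScalarTower R P M] [Module D M] [IsScalarTower P D M]
    [AddCommGroup N] [Module S N] [Module E N] [IsScalarTower S E N] [Module D N] [IsScalarTower D E N]
    [Module.FinitePresentation E N] (e : S ⊗[R] M ≃ₗ[S] N) {F : M →ₗ[D] N} (he : ∀ x, e (1 ⊗ₜ x) = F x) :
    letI : Algebra P (S ⊗[R] P) := Algebra.TensorProduct.rightAlgebra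
    Module.FinitePresentation (S ⊗[R] P) ((S ⊗[R] P) ⊗[P] M) := by
  letI : Algebra P (S ⊗[R] P) := Algebra.TensorProduct.rightAlgebra
  let g : S ⊗[R] P →ₐ[S] E := Algebra.TensorProduct.lift (Algebra.ofId S E)
    ((IsScalarTower.toAlgHom R D E).comp (IsScalarTower.toAlgHom R P D)) (fun _ _ => Commute.all _ _)
  letI : Algebra (S ⊗[R] P) E := g.toRingHom.toAlgebra
  letI : Algebra P E := ((algebraMap D E).comp (algebraMap P D)).toAlgebra
  haveI : IsScalarTower P D E := IsScalarTower.of_algebraMap_eq fun _ => rfl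
  haveI : IsScalarTower P (S ⊗[R] P) E := IsScalarTower.of_algebraMap_eq fun p => by
    change algebraMap D E (algebraMap P D p) = g (1 ⊗ₜ p)
    simp [g]
  haveI : IsScalarTower S (S ⊗[R] P) E := IsScalarTower.of_algebraMap_eq fun p => by
    change algebraMap S E p = g (p ⊗ₜ 1)
    simp [g]
  haveI : IsScalarTower R P E := IsScalarTower.of_algebraMap_eq fun x => by
    rw [IsScalarTower.algebraMap_apply R D E, IsScalarTower.algebraMap_apply R P D]; rfl
  haveI : IsScalarTower R (S ⊗[R] P) E := IsScalarTower.of_algebraMap_eq fun x => by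
    rw [IsScalarTower.algebraMap_apply R S E, IsScalarTower.algebraMap_apply R S (S ⊗[R] P),
      ← IsScalarTower.algebraMap_apply S (S ⊗[R] P) E]
  haveI hpush : Algebra.IsPushout P (S ⊗[R] P) D E :=
    ((Algebra.IsPushout.comp_iff R P S (S ⊗[R] P)).mp (Algebra.IsPushout.symm inferInstance)).symm
  haveI : Module.Finite (S ⊗[R] P) E := Module.Finite.equiv (Algebra.IsPushout.equiv P (S ⊗[R] P) D E).toLinearEquiv
  haveI : Algebra.FinitePresentation (S ⊗[R] P) E :=
    Algebra.FinitePresentation.equiv (Algebra.IsPushout.equiv P (S ⊗[R] P) D E)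
  haveI : Module.FinitePresentation (S ⊗[R] P) E := Module.FinitePresentation.of_finite_of_finitePresentation _ _
  letI : Module (S ⊗[R] P) N := Module.compHom N (algebraMap (S ⊗[R] P) E)
  haveI : IsScalarTower (S ⊗[R] P) E N := ⟨fun a b x => by rw [Algebra.smul_def, mul_smul]; rfl⟩
  haveI : IsScalarTower S (S ⊗[R] P) N := ⟨fun a b x => by
    change algebraMap (S ⊗[R] P) E (a • b) • x = a • (algebraMap (S ⊗[R] P) E b • x)
    rw [Algebra.smul_def, map_mul, ← IsScalarTower.algebraMap_apply, mul_smul, IsScalarTower.algebraMap_smul]⟩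
  haveI : Module.FinitePresentation (S ⊗[R] P) N := Module.FinitePresentation.trans (S ⊗[R] P) N E
  letI : Module P N := Module.compHom N (algebraMap P E)
  haveI : IsScalarTower P (S ⊗[R] P) N := ⟨fun a b x => by
    change algebraMap (S ⊗[R] P) E (a • b) • x = algebraMap P E a • (algebraMap (S ⊗[R] P) E b • x)
    rw [← mul_smul, Algebra.smul_def, map_mul, ← IsScalarTower.algebraMap_apply]⟩
  let FP : M →ₗ[P] N :=
    { toFun := F
      map_add' := map_add F
      map_smul' := fun p x => by
        change F (p • x) = algebraMap P E p • F x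
        rw [← IsScalarTower.algebraMap_smul D p x, map_smul, ← IsScalarTower.algebraMap_smul E (algebraMap P D p)]
        rfl }
  let G : (S ⊗[R] P) ⊗[P] M →ₗ[S ⊗[R] P] N := LinearMap.liftBaseChange _ FP
  have hG : ∀ z, G z = e (Algebra.IsPushout.cancelBaseChange R S P (S ⊗[R] P) M z) := by
    have : G.restrictScalars S = e.toLinearMap ∘ₗ (Algebra.IsPushout.cancelBaseChange R S P (S ⊗[R] P) M).toLinearMap := by
      have h : ∀ z : S ⊗[R] M, G ((Algebra.IsPushout.cancelBaseChange R S P (S ⊗[R] P) M).symm z) = e z := by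
        intro z
        induction z with
        | zero => simp
        | add a b ha hb => simp only [map_add, ha, hb]
        | tmul s m =>
          rw [Algebra.IsPushout.cancelBaseChange_symm_tmul, LinearMap.liftBaseChange_tmul,
            show (s ⊗ₜ[R] m : S ⊗[R] M) = s • (1 ⊗ₜ m) by rw [smul_tmul', smul_eq_mul, mul_one],
            map_smul, he, IsScalarTower.algebraMap_smul]
          rfl
      ext z
      simpa using h (Algebra.IsPushout.cancelBaseChange R S P (S ⊗[R] P) M z)
    exact fun z => LinearMap.congr_fun this z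
  have hb : Bijective G := by
    rw [show (G : _ → N) = e ∘ (Algebra.IsPushout.cancelBaseChange R S P (S ⊗[R] P) M) from funext hG]
    exact e.bijective.comp (LinearEquiv.bijective _)
  exact Module.FinitePresentation.of_equiv (LinearEquiv.ofBijective G hb).symm

end Groth.Agent.HenselLib.MilnorRel
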