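import Mathlib.RingTheory.Jacobson.Ring
import Mathlib.RingTheory.Ideal.KrullsHeightTheorem
import Mathlib.RingTheory.Etale.Locus
import Mathlib.RingTheory.Finiteness.FinitePresentationLocal
import Mathlib.RingTheory.Length
import Mathlib.RingTheory.Finiteness.ModuleFinitePresentation
import Mathlib.RingTheory.Flat.Basic
import Mathlib.RingTheory.Finiteness.Nakayama
import Mathlib.RingTheory.Nakayama
import Mathlib.RingTheory.IntegralClosure.IsIntegralClosure.Basic
import Mathlib.RingTheory.Flat.EquationalCriterion
import Mathlib.RingTheory.Spectrum.Prime.Topology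
import Mathlib.Tactic.LinearCombination

/-!
# Miscellaneous commutative algebra
-/

set_option autoImplicit false
set_option linter.all false

universe u

namespace Groth.Agent.HenselLib.MiscA

open Function

section Jacobson

theorem false_of_chain {R : Type u} [CommRing R] [IsDomain R] [IsNoetherianRing R] {h : R}
    (hh : h ≠ 0) (hall : ∀ P : Ideal R, P.IsPrime → P ≠ ⊥ → h ∈ P) {P M : Ideal R} [P.IsPrime]
    [M.IsPrime] (hP : P ≠ ⊥) (hPM : P < M) : False := by
  classical
  have hfin : (Ideal.span {h}).minimalPrimes.Finite := Ideal.finite_minimalPrimes_of_isNoetherianRing R _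
  have hnot : ¬ ((M : Set R) ⊆ ⋃ Q ∈ (hfin.toFinset : Set (Ideal R)), (Q : Set R)) := by
    intro hsub
    obtain ⟨Q, hQ, hMQ⟩ := (Ideal.subset_union_prime ⊤ ⊤ fun Q hQ _ _ =>
      (hfin.mem_toFinset.mp hQ).1.1).mp hsub
    have hQ' := hfin.mem_toFinset.mp hQ
    have hhP : Ideal.span {h} ≤ P := (Ideal.span_singleton_le_iff_mem _).mpr (hall P ‹_› hP)
    have := hQ'.2 ⟨‹P.IsPrime›, hhP⟩ (hPM.le.trans hMQ)
    exact hPM.not_ge (hMQ.trans this)
  rw [Set.not_subset] at hnot
  obtain ⟨y, hyM, hy⟩ := hnot
  have hhM : h ∈ M := hall M ‹_› (fun e => by rw [e] at hPM; exact not_lt_bot hPM)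
  obtain ⟨Q, hQ, hQM⟩ := Ideal.exists_minimalPrimes_le
    (I := Ideal.span {y}) (J := M) ((Ideal.span_singleton_le_iff_mem _).mpr hyM)
  haveI := hQ.1.1
  have hy0 : y ≠ 0 := by
    rintro rfl
    obtain ⟨Q', hQ', -⟩ := Ideal.exists_minimalPrimes_le
      (I := Ideal.span {h}) (J := M) ((Ideal.span_singleton_le_iff_mem _).mpr hhM)
    exact hy (Set.mem_biUnion (hfin.mem_toFinset.mpr hQ') (zero_mem _))
  have hQ0 : Q ≠ ⊥ := fun e => hy0 (by
    have := hQ.1.2 (Ideal.mem_span_singleton_self y)
    rwa [e, Ideal.mem_bot] at this)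
  obtain ⟨Q', hQ', hQ'Q⟩ := Ideal.exists_minimalPrimes_le
    (I := Ideal.span {h}) (J := Q) ((Ideal.span_singleton_le_iff_mem _).mpr (hall Q inferInstance hQ0))
  haveI := hQ'.1.1
  have hlt : Q' < Q := lt_of_le_of_ne hQ'Q fun e =>
    hy (Set.mem_biUnion (hfin.mem_toFinset.mpr hQ') (by rw [e]; exact hQ.1.2 (Ideal.mem_span_singleton_self y)))
  have hbot : (⊥ : Ideal R) < Q' := bot_lt_iff_ne_bot.mpr fun e => hh (by
    have := hQ'.1.2 (Ideal.mem_span_singleton_self h)
    rwa [e, Ideal.mem_bot] at this)
  have h1 : Q.height ≤ 1 := Ideal.height_le_one_of_isPrincipal_of_mem_minimalPrimes _ Q hQ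
  have h2 : (1 : ℕ∞) ≤ Q'.height := by
    rw [ENat.one_le_iff_ne_zero]
    intro e
    have := Ideal.height_strict_mono_of_isPrime hbot
    rw [e] at this
    exact not_lt_zero this
  have h3 := Ideal.height_strict_mono_of_isPrime hlt
  exact absurd ((h2.trans_lt h3).trans_le h1) (lt_irrefl _)

theorem isJacobsonRing_away (A : Type u) [CommRing A] [IsNoetherianRing A]
    (f : A) (hf : f ∈ (⊥ : Ideal A).jacobson) : IsJacobsonRing (Localization.Away f) := by
  rw [isJacobsonRing_iff_prime_eq]
  intro P hP
  refine le_antisymm (fun x hx => ?_) Ideal.le_jacobson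
  by_contra hxP
  obtain ⟨g, s, hgs⟩ := IsLocalization.exists_mk'_eq (Submonoid.powers f) (x : (Localization.Away f))
  set p := P.comap (algebraMap A (Localization.Away f)) with hp
  haveI : p.IsPrime := Ideal.IsPrime.comap _
  have hgp : g ∉ p := fun hg => hxP (by
    rw [← hgs, ← Ideal.mul_unit_mem_iff_mem _ (IsLocalization.map_units (Localization.Away f) s), IsLocalization.mk'_spec]
    exact hg)
  have hfu : IsUnit (algebraMap A (Localization.Away f) f) := IsLocalization.Away.algebraMap_isUnit f
  have hfp : f ∉ p := fun h => hP.ne_top (Ideal.eq_top_of_isUnit_mem _ h hfu)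
  have hfgp : f * g ∉ p := fun h => ((‹p.IsPrime›).mem_or_mem h).elim hfp hgp
  obtain ⟨q, ⟨hq, hpq, hfgq⟩, hmax⟩ := set_has_maximal_iff_noetherian.mpr
    (inferInstance : IsNoetherian A A) {q : Ideal A | q.IsPrime ∧ p ≤ q ∧ f * g ∉ q}
    ⟨p, ‹_›, le_rfl, hfgp⟩
  haveI := hq
  have hmax' : ∀ q' : Ideal A, q'.IsPrime → q < q' → f * g ∈ q' := fun q' hq' hlt => by
    by_contra h
    exact hmax q' ⟨hq', hpq.trans hlt.le, h⟩ hlt
  have key : ∀ q' : Ideal A, q'.IsPrime → q < q' → f ∈ q' := by
    intro q' hq' hlt
    by_contra hfq'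
    haveI := hq'
    obtain ⟨M, hM, hq'M⟩ := Ideal.exists_le_maximal q' hq'.ne_top
    have hfM : f ∈ M := (Ideal.mem_sInf.mp hf) ⟨bot_le, hM⟩
    have hlt' : q' < M := lt_of_le_of_ne hq'M fun e => hfq' (e ▸ hfM)
    haveI := hM.isPrime
    let π := Ideal.Quotient.mk q
    have hkerle : ∀ J : Ideal A, q ≤ J → RingHom.ker π ≤ J := fun J hJ => by rwa [Ideal.mk_ker]
    have hcm : ∀ J : Ideal A, q ≤ J → (J.map π).comap π = J := fun J hJ => by
      rw [Ideal.comap_map_of_surjective _ Ideal.Quotient.mk_surjective, ← RingHom.ker_eq_comap_bot]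
      exact sup_eq_left.mpr (hkerle J hJ)
    haveI : (q'.map π).IsPrime :=
      Ideal.map_isPrime_of_surjective Ideal.Quotient.mk_surjective (hkerle _ hlt.le)
    haveI : (M.map π).IsPrime :=
      Ideal.map_isPrime_of_surjective Ideal.Quotient.mk_surjective (hkerle _ (hlt.le.trans hq'M))
    refine false_of_chain (R := A ⧸ q) (h := π (f * g))
      (fun e => hfgq (Ideal.Quotient.eq_zero_iff_mem.mp e)) (fun Q hQ hQ0 => ?_)
      (P := q'.map π) (M := M.map π) (fun e => ?_) (lt_of_le_of_ne (Ideal.map_mono hq'M) fun e => ?_)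
    · refine hmax' (Q.comap π) (Ideal.IsPrime.comap _) (lt_of_le_of_ne ?_ fun e => hQ0 ?_)
      · conv_lhs => rw [← Ideal.mk_ker (I := q)]
        exact Ideal.ker_le_comap _
      · rw [← Ideal.map_comap_of_surjective _ Ideal.Quotient.mk_surjective Q, ← e,
          Ideal.map_quotient_self]
    · have := hcm q' hlt.le
      rw [e, ← RingHom.ker_eq_comap_bot, Ideal.mk_ker] at this
      exact hlt.ne this
    · have := hcm q' hlt.le
      rw [e, hcm M (hlt.le.trans hq'M)] at this
      exact hlt'.ne this.symm
  have hfq : f ∉ q := fun h => hfgq (Ideal.mul_mem_right g (q : Ideal A) h)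
  have hdisj : Disjoint (Submonoid.powers f : Set A) (q : Set A) := by
    rw [Set.disjoint_left]
    rintro _ ⟨n, rfl⟩ hn
    exact hfq (hq.mem_of_pow_mem n hn)
  set M' := Ideal.map (algebraMap A (Localization.Away f)) q
  haveI : M'.IsPrime := IsLocalization.isPrime_of_isPrime_disjoint (Submonoid.powers f) (Localization.Away f) q hq hdisj
  have hc : M'.comap (algebraMap A (Localization.Away f)) = q :=
    IsLocalization.comap_map_of_isPrime_disjoint (Submonoid.powers f) (Localization.Away f) hq hdisj
  haveI : M'.IsMaximal := by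
    obtain ⟨N, hN, hle⟩ := Ideal.exists_le_maximal M' (Ideal.IsPrime.ne_top inferInstance)
    rcases eq_or_lt_of_le hle with e | hlt
    · exact e ▸ hN
    · exfalso
      haveI := hN.isPrime
      have hlt' : q < N.comap (algebraMap A (Localization.Away f)) := by
        refine lt_of_le_of_ne (hc ▸ Ideal.comap_mono hle) fun e => hlt.ne ?_
        rw [← IsLocalization.map_comap (Submonoid.powers f) (Localization.Away f) N]
        show M' = _
        rw [show M' = Ideal.map (algebraMap A (Localization.Away f)) q from rfl, e]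
      exact hN.ne_top (Ideal.eq_top_of_isUnit_mem _ (key _ (Ideal.IsPrime.comap _) hlt') hfu)
  have hPM : P ≤ M' := by
    rw [← IsLocalization.map_comap (Submonoid.powers f) (Localization.Away f) P]
    exact Ideal.map_mono hpq
  have := Ideal.mem_sInf.mp hx ⟨hPM, inferInstance⟩
  rw [← hgs, ← Ideal.mul_unit_mem_iff_mem _ (IsLocalization.map_units (Localization.Away f) s), IsLocalization.mk'_spec] at this
  have hgq : g ∈ q := hc ▸ this
  exact hfgq (Ideal.mul_mem_left q f hgq)

end Jacobson

theorem away_right {R : Type u} [CommRing R] {S T : Type u} [CommRing S] [CommRing T] [Algebra R S]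
    [Algebra R T] [Algebra S T] [IsScalarTower R S T] (x y : R) [IsLocalization.Away x S]
    [IsLocalization.Away (x * y) T] : IsLocalization.Away (algebraMap R S y) T := by
  haveI : IsLocalization.Away (x * y) (Localization.Away (algebraMap R S y)) := inferInstance
  let e : Localization.Away (algebraMap R S y) ≃ₐ[R] T :=
    IsLocalization.algEquiv (Submonoid.powers (x * y)) _ _
  have he : e.toRingEquiv.toRingHom.comp (algebraMap S _) = algebraMap S T := by
    refine IsLocalization.ringHom_ext (Submonoid.powers x) (RingHom.ext fun r => ?_)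
    simp only [RingHom.comp_apply]
    rw [← IsScalarTower.algebraMap_apply R S, ← IsScalarTower.algebraMap_apply R S]
    exact e.commutes r
  exact IsLocalization.isLocalization_of_algEquiv (Submonoid.powers (algebraMap R S y))
    { e.toRingEquiv with commutes' := fun r => RingHom.congr_fun he r }

theorem exists_away_etale (A B : Type u) [CommRing A] [CommRing B] [Algebra A B] (J : Ideal B)
    (h : ∀ (q : Ideal B) [q.IsPrime], J ≤ q → ∃ h : B, h ∉ q ∧ Algebra.Etale A (Localization.Away h)) :
    ∃ g : B, IsUnit (Ideal.Quotient.mk J g) ∧ Algebra.Etale A (Localization.Away g) := by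
  classical
  let H : Set B := {b | Algebra.Etale A (Localization.Away b)}
  have htop : Ideal.span H ⊔ J = ⊤ := by
    by_contra hne
    obtain ⟨q, hq, hle⟩ := Ideal.exists_le_maximal _ hne
    haveI := hq.isPrime
    obtain ⟨b, hb, hb'⟩ := h q (le_sup_right.trans hle)
    exact hb (hle (Submodule.mem_sup_left (Ideal.subset_span hb')))
  obtain ⟨g, hg, j, hj, hgj⟩ := Submodule.mem_sup.mp ((Ideal.eq_top_iff_one _).mp htop)
  obtain ⟨T, hTH, hgT⟩ := Submodule.mem_span_finite_of_mem_span hg
  refine ⟨g, ⟨1, ?_⟩, ?_⟩
  · rw [Units.val_one, eq_comm, ← map_one (Ideal.Quotient.mk J), Ideal.Quotient.eq, ← hgj]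
    simpa using neg_mem hj
  · have hsub : (PrimeSpectrum.basicOpen g : Set (PrimeSpectrum B)) ⊆ Algebra.etaleLocus A B := by
      intro x hx
      obtain ⟨t, ht, htx⟩ : ∃ t ∈ T, t ∉ x.asIdeal := by
        by_contra hall
        push_neg at hall
        exact hx ((Ideal.span_le.mpr fun t ht => hall t ht) hgT)
      haveI : Algebra.Etale A (Localization.Away t) := hTH ht
      exact Algebra.basicOpen_subset_etaleLocus_iff.mpr inferInstance htx
    haveI : Algebra.FormallyEtale A (Localization.Away g) :=
      Algebra.basicOpen_subset_etaleLocus_iff.mp hsub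
    refine ⟨‹_›, Algebra.FinitePresentation.of_span_eq_top_target
      (algebraMap B (Localization.Away g) '' (T : Set B)) ?_ ?_⟩
    · have hmem : algebraMap B (Localization.Away g) g ∈
          Ideal.span (algebraMap B (Localization.Away g) '' (T : Set B)) := by
        rw [← Ideal.map_span]
        exact Ideal.mem_map_of_mem _ hgT
      exact Ideal.eq_top_of_isUnit_mem _ hmem (IsLocalization.Away.algebraMap_isUnit g)
    · rintro _ ⟨t, ht, rfl⟩
      haveI : Algebra.Etale A (Localization.Away t) := hTH ht
      let C := Localization.Away (algebraMap B (Localization.Away g) t)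
      haveI : IsLocalization.Away (t * g) C := inferInstance
      have hu : IsUnit (algebraMap B C t) := by
        have := IsLocalization.Away.algebraMap_isUnit (S := C) (t * g)
        rw [map_mul] at this
        exact isUnit_of_mul_isUnit_left this
      let φ : Localization.Away t →ₐ[B] C :=
        IsLocalization.liftAlgHom (M := Submonoid.powers t) (f := Algebra.ofId B C) (fun y => by
          obtain ⟨n, hn⟩ := y.2
          change IsUnit (algebraMap B C (y : B))
          rw [← hn, map_pow]
          exact hu.pow n)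
      letI : Algebra (Localization.Away t) C := φ.toRingHom.toAlgebra
      haveI : IsScalarTower B (Localization.Away t) C :=
        IsScalarTower.of_algebraMap_eq fun b => (φ.commutes b).symm
      haveI : IsScalarTower A (Localization.Away t) C := IsScalarTower.of_algebraMap_eq fun a => by
        rw [IsScalarTower.algebraMap_apply A B C, IsScalarTower.algebraMap_apply A B (Localization.Away t),
          ← IsScalarTower.algebraMap_apply B (Localization.Away t) C]
      haveI : IsLocalization.Away (algebraMap B (Localization.Away t) g) C :=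
        away_right t g
      haveI : Algebra.FinitePresentation (Localization.Away t) C :=
        IsLocalization.Away.finitePresentation (algebraMap B (Localization.Away t) g)
      exact Algebra.FinitePresentation.trans A (Localization.Away t) C

theorem bijective_of_flat_integral_fp (A B : Type u) [CommRing A] [CommRing B] [Algebra A B]
    (I : Ideal A) (hI : I ≤ (⊥ : Ideal A).jacobson) [Module.Flat A B] [Algebra.IsIntegral A B]
    [Algebra.FinitePresentation A B]
    (hq : Bijective (Ideal.quotientMap (I.map (algebraMap A B)) (algebraMap A B) Ideal.le_comap_map)) :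
    Bijective (algebraMap A B) := by
  haveI : Module.Finite A B := Algebra.IsIntegral.finite
  haveI : Module.FinitePresentation A B := Module.FinitePresentation.of_finite_of_finitePresentation A B
  have hrange : (⊤ : Submodule A B) ≤ LinearMap.range (Algebra.linearMap A B) ⊔ I • ⊤ := by
    intro b _
    obtain ⟨a, ha⟩ := hq.2 (Ideal.Quotient.mk _ b)
    obtain ⟨a, rfl⟩ := Ideal.Quotient.mk_surjective a
    rw [Ideal.quotientMap_mk, Ideal.Quotient.eq] at ha
    refine Submodule.mem_sup.mpr ⟨algebraMap A B a, ⟨a, rfl⟩, b - algebraMap A B a, ?_, by abel⟩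
    rw [Ideal.smul_top_eq_map, Submodule.restrictScalars_mem, ← neg_mem_iff, neg_sub]
    exact ha
  have hsurj : Surjective (Algebra.linearMap A B) := by
    rw [← LinearMap.range_eq_top, eq_top_iff]
    exact Submodule.le_of_le_smul_of_le_jacobson_bot Module.Finite.fg_top hI hrange
  refine ⟨?_, hsurj⟩
  haveI : Module.Projective A B := Module.Flat.projective_of_finitePresentation
  obtain ⟨s, hs⟩ := Module.projective_lifting_property (Algebra.linearMap A B) LinearMap.id hsurj
  let r : A →ₗ[A] A := LinearMap.id - s ∘ₗ Algebra.linearMap A B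
  have hr : ∀ a, r a ∈ LinearMap.ker (Algebra.linearMap A B) := fun a => by
    rw [LinearMap.mem_ker]
    have := LinearMap.congr_fun hs (algebraMap A B a)
    simp only [LinearMap.comp_apply, LinearMap.id_apply, Algebra.linearMap_apply] at this
    simp [r, this]
  have hker : LinearMap.ker (Algebra.linearMap A B) ≤ I • LinearMap.ker (Algebra.linearMap A B) := by
    intro x hx
    have h0 : algebraMap A B x = 0 := hx
    have hxI : x ∈ I := by
      rw [← Ideal.Quotient.eq_zero_iff_mem]
      apply hq.1
      rw [Ideal.quotientMap_mk, h0, map_zero, map_zero]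
    have : x = x • r 1 := by
      have h1 : r (x • 1) = x • r 1 := r.map_smul x 1
      rw [smul_eq_mul, mul_one] at h1
      rw [← h1]
      simp [r, h0]
    rw [this]
    exact Submodule.smul_mem_smul hxI (hr 1)
  have hbot := Submodule.eq_bot_of_le_smul_of_le_jacobson_bot I _
    (Module.FinitePresentation.fg_ker _ hsurj) hker hI
  exact LinearMap.ker_eq_bot.mp hbot

theorem card_minimalPrimes_le_length (R : Type u) [CommRing R] [IsNoetherianRing R] [IsLocalRing R]
    (x : R) (hx : x ∈ IsLocalRing.maximalIdeal R) (hmin : ∀ p ∈ minimalPrimes R, x ∉ p) :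
    (Set.ncard (minimalPrimes R) : ℕ∞) ≤ Module.length R (R ⧸ Ideal.span {x}) := by
  classical
  have hfin := minimalPrimes.finite_of_isNoetherianRing R
  set n := Set.ncard (minimalPrimes R)
  haveI : Finite (minimalPrimes R) := hfin.to_subtype
  let e : Fin n ≃ minimalPrimes R := (Finite.equivFinOfCardEq (by
    rw [Nat.card_coe_set_eq]) (α := minimalPrimes R)).symm
  let J : ℕ → Ideal R := fun k => (Finset.univ.filter fun i : Fin n => (i : ℕ) < k).inf fun i => (e i).1
  have hmem : ∀ {k : ℕ} {a : R}, a ∈ J k ↔ ∀ i : Fin n, (i : ℕ) < k → a ∈ (e i).1 := by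
    intro k a
    simp [J, Submodule.mem_finsetInf]
  let L : Fin (n + 1) → Submodule R (R ⧸ Ideal.span {x}) := fun k =>
    Submodule.map (Ideal.span {x}).mkQ (J (n - k) : Submodule R R)
  have hJanti : ∀ a b, a ≤ b → J b ≤ J a := fun a b hab y hy => hmem.mpr fun i hi =>
    hmem.mp hy i (hi.trans_le hab)
  have hne : ∀ k, k < n →
      ¬ (J k : Submodule R R) ≤ (J (k + 1) : Submodule R R) ⊔ Ideal.span {x} := by
    intro k hk hle
    have hle' : (J k : Submodule R R) ≤ (J (k + 1) : Submodule R R) ⊔ Ideal.span {x} • J k := by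
      intro a ha
      obtain ⟨b, hb, z, hz, rfl⟩ := Submodule.mem_sup.mp (hle ha)
      obtain ⟨c, rfl⟩ := Ideal.mem_span_singleton'.mp hz
      refine Submodule.mem_sup.mpr ⟨b, hb, c * x, ?_, rfl⟩
      have hc : c ∈ J k := hmem.mpr fun i hi => by
        haveI := (e i).2.1.1
        have h2 : c * x ∈ (e i).1 := by
          have := sub_mem (hmem.mp ha i hi) (hmem.mp (hJanti _ _ (Nat.le_succ k) hb) i hi)
          simpa using this
        exact ((‹(e i).1.IsPrime›).mem_or_mem h2).resolve_right (hmin _ (e i).2)
      rw [mul_comm]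
      exact Submodule.smul_mem_smul (Ideal.mem_span_singleton_self x) hc
    have hjac : Ideal.span {x} ≤ (⊥ : Ideal R).jacobson := by
      rw [Ideal.span_singleton_le_iff_mem, IsLocalRing.jacobson_eq_maximalIdeal _ bot_ne_top]
      exact hx
    have hJJ : (J k : Submodule R R) ≤ J (k + 1) :=
      Submodule.le_of_le_smul_of_le_jacobson_bot (IsNoetherian.noetherian _) hjac hle'
    haveI := (e ⟨k, hk⟩).2.1.1
    have hle2 : J k ≤ (e ⟨k, hk⟩).1 := fun a ha => hmem.mp (hJJ ha) ⟨k, hk⟩ (Nat.lt_succ_self k)
    obtain ⟨i, hi, hie⟩ := (Ideal.IsPrime.inf_le' ‹_›).mp hle2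
    simp only [Finset.mem_filter, Finset.mem_univ, true_and] at hi
    have := le_antisymm hie ((e ⟨k, hk⟩).2.2 (e i).2.1 hie)
    have := congrArg Fin.val (e.injective (Subtype.ext this))
    simp only at this
    omega
  have hmono : StrictMono L := by
    rw [Fin.strictMono_iff_lt_succ]
    intro i
    have hi : n - (i.castSucc : ℕ) = (n - (i.succ : ℕ)) + 1 := by
      simp only [Fin.val_castSucc, Fin.val_succ]; omega
    refine lt_of_le_of_ne ?_ fun he => hne (n - (i.succ : ℕ)) (by simp only [Fin.val_succ]; omega) ?_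
    · exact Submodule.map_mono (hJanti _ _ (by simp only [Fin.val_castSucc, Fin.val_succ]; omega))
    · rw [← hi]
      have := congrArg (Submodule.comap (Ideal.span {x}).mkQ) he
      simp only [L, Submodule.comap_map_mkQ] at this
      rw [sup_comm, this]
      exact le_sup_right
  have := Order.LTSeries.length_le_krullDim (LTSeries.mk n L hmono)
  rw [← Module.coe_length] at this
  simp only [LTSeries.mk, RelSeries.length] at this
  exact_mod_cast this

end Groth.Agent.HenselLib.MiscA
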