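import Groth.Agent.CAlgH.HenselToCompletion
import Groth.Agent.CAlgH.ReducedFormalFibres
import Groth.Agent.CommAlg6.GeomFib
import Groth.Agent.HenselLib.WEtField
import Groth.Agent.HenselLib.HullWEt
import Groth.Agent.S1993
import Groth.Agent.S2657
import Groth.Agent.S0567

/-!
# Henselization and the Nagata property
-/

set_option autoImplicit false
set_option linter.all false

universe u

open TensorProduct IsLocalRing

namespace Groth.Agent.HenselLib.NagataHens

open Algebra.TensorProduct in
/-- Base change from `R` to `S` is reduced if the fibres of `S → T` modulo a weakly etale `R → S` are. -/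
theorem isReduced_baseChange {R S T L : Type u} [CommRing R] [CommRing S] [CommRing T] [Field L]
    [Algebra R S] [Algebra R T] [Algebra S T] [IsScalarTower R S T] [Algebra R L] [Algebra S L]
    [IsScalarTower R S L] [Algebra.WeaklyEtale R S] (h : IsReduced (L ⊗[R] T)) :
    IsReduced (L ⊗[S] T) := by
  let W := L ⊗[R] S
  have hW : WEt.VNR W := WEt.vnr_of_weaklyEtale (A := L) (B := W) (WEt.vnr_field L)
  let m : W →ₐ[L] L := Algebra.TensorProduct.lift (AlgHom.id L L) (IsScalarTower.toAlgHom R S L)
    fun _ _ => Commute.all _ _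
  let j : W →ₐ[R] L ⊗[R] T := Algebra.TensorProduct.map (AlgHom.id R L) (IsScalarTower.toAlgHom R S T)
  let J : Ideal (L ⊗[R] T) := (RingHom.ker m).map j
  let q : L ⊗[R] T →ₗ[R] L ⊗[S] T := TensorProduct.lift
    (LinearMap.mk₂ R (fun l t => l ⊗ₜ[S] t) (fun a b t => add_tmul a b t)
      (fun r a t => by rw [← smul_tmul']) (fun a s t => tmul_add a s t) fun r a t => by rw [tmul_smul])
  have hqmul : ∀ x y, q (x * y) = q x * q y := fun x y => by
    induction x with
    | zero => simp
    | add a b ha hb => simp [add_mul, ha, hb]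
    | tmul a b =>
      induction y with
      | zero => simp
      | add c d hc hd => simp [mul_add, hc, hd]
      | tmul c d => simp [q]
  have hqsurj : Function.Surjective q := fun z => by
    induction z with
    | zero => exact ⟨0, map_zero q⟩
    | add a b ha hb =>
      obtain ⟨a, rfl⟩ := ha
      obtain ⟨b, rfl⟩ := hb
      exact ⟨a + b, map_add q a b⟩
    | tmul a b => exact ⟨a ⊗ₜ b, rfl⟩
  have hbal : ∀ (s : S) (l : L) (t : T),
      Ideal.Quotient.mk J ((s • l) ⊗ₜ[R] t) = Ideal.Quotient.mk J (l ⊗ₜ[R] (s • t)) := by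
    intro s l t
    rw [Ideal.Quotient.eq]
    have hk : algebraMap S L s ⊗ₜ[R] (1 : S) - (1 : L) ⊗ₜ[R] s ∈ RingHom.ker m := by
      rw [RingHom.mem_ker, map_sub]
      show algebraMap S L s * algebraMap S L 1 - 1 * algebraMap S L s = 0
      rw [map_one, mul_one, one_mul, sub_self]
    have := J.mul_mem_left (l ⊗ₜ[R] t) (Ideal.mem_map_of_mem j hk)
    rw [map_sub, show j (algebraMap S L s ⊗ₜ[R] (1 : S)) = algebraMap S L s ⊗ₜ[R] algebraMap S T 1 from rfl,
      show j ((1 : L) ⊗ₜ[R] s) = (1 : L) ⊗ₜ[R] algebraMap S T s from rfl, map_one, mul_sub,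
      Algebra.TensorProduct.tmul_mul_tmul, Algebra.TensorProduct.tmul_mul_tmul, mul_one, mul_one] at this
    rw [Algebra.smul_def, Algebra.smul_def, mul_comm (algebraMap S L s), mul_comm (algebraMap S T s)]
    exact this
  let r : L ⊗[S] T →+ (L ⊗[R] T) ⧸ J := TensorProduct.liftAddHom
    (AddMonoidHom.mk' (fun l => AddMonoidHom.mk' (fun t => Ideal.Quotient.mk J (l ⊗ₜ[R] t))
      fun a b => by simp [tmul_add]) fun a b => by ext t; simp [add_tmul])
    fun s l t => hbal s l t
  have hker : ∀ x, q x = 0 → x ∈ J := by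
    intro x hx
    have hr : ∀ x, r (q x) = Ideal.Quotient.mk J x := fun x => by
      induction x with
      | zero => simp
      | add a b ha hb => simp [ha, hb]
      | tmul a b => simp [q, r]
    rw [← Ideal.Quotient.eq_zero_iff_mem, ← hr, hx, map_zero]
  have hJq : ∀ x ∈ J, q x = 0 := by
    intro x hx
    let qa : L ⊗[R] T →+* L ⊗[S] T :=
      { toFun := q, map_one' := rfl, map_mul' := hqmul, map_zero' := map_zero q, map_add' := map_add q }
    have hle : J ≤ RingHom.ker qa := Ideal.map_le_iff_le_comap.2 fun w hw => by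
      have hm : q (j w) = m w ⊗ₜ[S] (1 : T) := by
        clear hw
        induction w using TensorProduct.induction_on with
        | zero => simp
        | add a b ha hb => rw [map_add, map_add, map_add, add_tmul, ha, hb]
        | tmul a b =>
          show a ⊗ₜ[S] (algebraMap S T b) = (a * algebraMap S L b) ⊗ₜ[S] (1 : T)
          rw [Algebra.algebraMap_eq_smul_one (A := T), tmul_smul, smul_tmul', Algebra.smul_def, mul_comm]
      show q (j w) = 0
      rw [hm, RingHom.mem_ker.1 hw, zero_tmul]
    exact hle hx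
  refine ⟨fun z hz => ?_⟩
  obtain ⟨n, hn⟩ := hz
  obtain ⟨x, rfl⟩ := hqsurj z
  have hpow : ∀ n, q (x ^ n) = q x ^ n := fun n => by
    induction n with
    | zero => rfl
    | succ n ih => rw [pow_succ, pow_succ, hqmul, ih]
  have hxn : x ^ n ∈ J := hker _ (by rw [hpow, hn])
  -- absorb by an idempotent
  have habs : ∀ y ∈ J, ∃ e ∈ J, y * e = y := by
    intro y hy
    induction hy using Submodule.span_induction with
    | mem y hy =>
      obtain ⟨w, hw, rfl⟩ := hy
      obtain ⟨a, ha⟩ := hW w
      exact ⟨j (w * a), Ideal.mem_map_of_mem j (Ideal.mul_mem_right a _ hw), by rw [← map_mul, ← mul_assoc, ← ha]⟩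
    | zero => exact ⟨0, J.zero_mem, mul_zero _⟩
    | add y z _ _ hy hz =>
      obtain ⟨e, he, hye⟩ := hy
      obtain ⟨f, hf, hzf⟩ := hz
      exact ⟨e + f - e * f, J.sub_mem (J.add_mem he hf) (J.mul_mem_left e hf), by
        linear_combination (1 - f) * hye + (1 - e) * hzf⟩
    | smul c y _ hy =>
      obtain ⟨e, he, hye⟩ := hy
      exact ⟨e, he, by rw [smul_eq_mul, mul_assoc, hye]⟩
  obtain ⟨e, he, hxe⟩ := habs _ hxn
  have h0 : x * (1 - e) = 0 := IsReduced.eq_zero _ ⟨n + 1, by
    rw [mul_pow, pow_succ, pow_succ (1 - e)]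
    linear_combination (-(x * (1 - e) ^ n)) * hxe⟩
  have : x = x * e := by linear_combination h0
  rw [this, hqmul, hJq e he, mul_zero]

/-- Henselization preserves and reflects the Nagata property. -/
theorem isNagata_iff (R S : Type u) [CommRing R] [IsLocalRing R] [IsNoetherianRing R] [CommRing S] [IsLocalRing S]
    [Algebra R S] [IsLocalHom (algebraMap R S)] [Hensel.IsHenselization R S] [IsNoetherianRing S] :
    CAlg.IsNagata S ↔ CAlg.IsNagata R := by
  haveI : HenselianLocalRing (EGA4.Cpl R) := Disc12.henselianLocalRing_completion R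
  haveI : IsLocalHom (algebraMap R (EGA4.Cpl R)) := CAlgH.isLocalHom_algebraMap_cpl R
  obtain ⟨ψ, hψ, -⟩ := Hensel.IsHenselization.universal (R := R) (S := S) (EGA4.Cpl R)
    (algebraMap R (EGA4.Cpl R)) inferInstance
  obtain ⟨-, -, -, θ, hθ⟩ := CAlgH.HenselToCompletion.map_to_completion R S ψ hψ
  obtain ⟨e⟩ := HenselLib.IsPairHull.equiv_pairH (R := R) (I := maximalIdeal R) ((S1993.result R S).mpr inferInstance)
  haveI : Algebra.WeaklyEtale R S := HenselLib.weaklyEtale_of_equiv e
  letI : Algebra S (EGA4.Cpl R) := ψ.toAlgebra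
  haveI : IsScalarTower R S (EGA4.Cpl R) := .of_algebraMap_eq fun r => (RingHom.congr_fun hψ r).symm
  let θS : EGA4.Cpl R ≃ₐ[S] EGA4.Cpl S := AlgEquiv.ofRingEquiv (f := θ) fun s => RingHom.congr_fun hθ s
  haveI : Module.Flat S (EGA4.Cpl S) := AdicCompletion.flat_of_isNoetherian _
  haveI : Module.Flat S (EGA4.Cpl R) := Module.Flat.of_linearEquiv θS.toLinearEquiv
  constructor
  · intro hS
    refine S2657.result R (CAlgH.ReducedFibres.hasGeomReducedFormalFibres_of_tensor R fun D _ _ _ _ => ?_)
    haveI : IsReduced (D ⊗[R] S) := WEt.isReduced_of_weaklyEtale (A := D)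
    haveI : IsReduced (S ⊗[R] D) := isReduced_of_injective (Algebra.TensorProduct.comm R S D) (AlgEquiv.injective _)
    haveI := CAlgH.ReducedFibres.isReduced_completion_tensor_reduced hS (S ⊗[R] D)
    haveI : IsReduced (EGA4.Cpl R ⊗[S] (S ⊗[R] D)) :=
      isReduced_of_injective (Algebra.TensorProduct.congr θS (AlgEquiv.refl (A₁ := S ⊗[R] D))) (AlgEquiv.injective _)
    exact isReduced_of_injective (Algebra.TensorProduct.cancelBaseChange R S S (EGA4.Cpl R) D).symm (AlgEquiv.injective _)
  · intro hR
    have hg : EGA4.HasGeomReducedFormalFibres R :=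
      CAlgH.ReducedFibres.hasGeomReducedFormalFibres_of_tensor R fun D _ _ _ _ =>
        CAlgH.ReducedFibres.isReduced_completion_tensor_reduced hR D
    refine S2657.result S (CAlgH.ReducedFibres.hasGeomReducedFormalFibres_of_tensor S fun D _ _ _ _ => ?_)
    let L := FractionRing D
    letI : Algebra R D := ((algebraMap S D).comp (algebraMap R S)).toAlgebra
    haveI : IsScalarTower R S D := .of_algebraMap_eq fun _ => rfl
    haveI : IsScalarTower R S L := .of_algebraMap_eq fun r => by
      rw [IsScalarTower.algebraMap_apply R D L, IsScalarTower.algebraMap_apply S D L, ← IsScalarTower.algebraMap_apply R S D]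
    let p := RingHom.ker (algebraMap R L)
    haveI : p.IsPrime := RingHom.ker_isPrime _
    letI : Algebra p.ResidueField L :=
      (Ideal.ResidueField.lift p (algebraMap R L) le_rfl fun x hx => IsUnit.mk0 _ hx).toAlgebra
    haveI : IsScalarTower R p.ResidueField L := .of_algebraMap_eq fun x =>
      (Ideal.ResidueField.lift_algebraMap p _ _ _ x).symm
    let Φ : p.ResidueField ⊗[R] S →ₐ[p.ResidueField] L :=
      Algebra.TensorProduct.lift (Algebra.ofId _ _) (IsScalarTower.toAlgHom R S L) fun _ _ => Commute.all _ _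
    haveI : Algebra.IsIntegral p.ResidueField (p.ResidueField ⊗[R] S) := WEt.isIntegral_of_weaklyEtale
    have hSi : ∀ s : S, IsIntegral p.ResidueField (algebraMap S L s) := fun s => by
      have := (Algebra.IsIntegral.isIntegral (R := p.ResidueField) ((1 : p.ResidueField) ⊗ₜ[R] s)).map Φ
      simpa [Φ] using this
    let F := algebraicClosure p.ResidueField L
    have hDi : ∀ d : D, algebraMap D L d ∈ F := fun d => by
      obtain ⟨P, hP, hP0⟩ := (Algebra.IsIntegral.isIntegral (R := S) d).map (IsScalarTower.toAlgHom S D L)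
      rw [mem_algebraicClosure_iff]
      haveI : Algebra.IsAlgebraic p.ResidueField F := inferInstance
      have hmon : (P.map (algebraMap S L)).Monic := hP.map _
      have hlift : P.map (algebraMap S L) ∈ Polynomial.lifts (algebraMap F L) := by
        rw [Polynomial.lifts_iff_coeff_lifts]
        intro i
        rw [Polynomial.coeff_map]
        exact ⟨⟨_, mem_algebraicClosure_iff.2 (hSi _).isAlgebraic⟩, rfl⟩
      obtain ⟨Q, hQ, -, hQm⟩ := Polynomial.lifts_and_degree_eq_and_monic hlift hmon
      have : IsIntegral F (algebraMap D L d) := ⟨Q, hQm, by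
        rw [← Polynomial.eval_map, hQ, Polynomial.eval_map]; exact hP0⟩
      exact (isIntegral_trans _ this).isAlgebraic
    haveI : Algebra.IsAlgebraic p.ResidueField L := ⟨fun x => by
      obtain ⟨a, b, hb, rfl⟩ := IsFractionRing.div_surjective (A := D) x
      exact mem_algebraicClosure_iff.1 (div_mem (hDi a) (hDi b))⟩
    haveI := hg p
    haveI : IsReduced (L ⊗[p.ResidueField] p.Fiber (EGA4.Cpl R)) := inferInstance
    let c := (Algebra.TensorProduct.cancelBaseChange R p.ResidueField L L (EGA4.Cpl R)).symm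
    haveI : IsReduced (L ⊗[S] EGA4.Cpl R) := isReduced_baseChange (isReduced_of_injective c c.injective)
    haveI : IsReduced (EGA4.Cpl R ⊗[S] L) := isReduced_of_injective (Algebra.TensorProduct.comm S _ L) (AlgEquiv.injective _)
    refine isReduced_of_injective ((Algebra.TensorProduct.map (θS.symm : EGA4.Cpl S →ₐ[S] EGA4.Cpl R)
      (IsScalarTower.toAlgHom S D L))) ?_
    have h1 : Function.Injective (Algebra.TensorProduct.map (AlgHom.id S (EGA4.Cpl R)) (IsScalarTower.toAlgHom S D L)) :=
      Module.Flat.lTensor_preserves_injective_linearMap (IsScalarTower.toAlgHom S D L).toLinearMap (IsFractionRing.injective D L)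
    rw [show Algebra.TensorProduct.map (θS.symm : EGA4.Cpl S →ₐ[S] EGA4.Cpl R) (IsScalarTower.toAlgHom S D L) =
      (Algebra.TensorProduct.map (AlgHom.id S (EGA4.Cpl R)) (IsScalarTower.toAlgHom S D L)).comp
        (Algebra.TensorProduct.congr θS.symm (AlgEquiv.refl (A₁ := D))).toAlgHom from
      Algebra.TensorProduct.ext' fun a b => rfl]
    exact h1.comp (AlgEquiv.injective _)

end Groth.Agent.HenselLib.NagataHens
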