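import Groth.Agent.HenselLib.Lift
import Groth.Agent.HenselLib.Perm
import Mathlib.RingTheory.Polynomial.Basic
import Mathlib.LinearAlgebra.Matrix.Nondegenerate
import Mathlib.LinearAlgebra.Matrix.ToLinearEquiv

/-!
# Factorizations of nonmonic polynomials over henselian local rings
-/

set_option autoImplicit false

open Polynomial

namespace Groth.Agent.HenselLib

universe u

section Generic

variable {S : Type*} [CommRing S]

/-- The monic polynomial with lower coefficients given by the first coordinates. -/
noncomputable def monicPart (d e : ℕ) (a : Fin (d + e) → S) : S[X] :=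
  X ^ d + ∑ i : Fin d, C (a (Fin.castAdd e i)) * X ^ (i : ℕ)

/-- The polynomial with coefficients given by the last coordinates. -/
noncomputable def restPart (d e : ℕ) (a : Fin (d + e) → S) : S[X] :=
  ∑ j : Fin e, C (a (Fin.natAdd d j)) * X ^ (j : ℕ)

theorem monicPart_map {T : Type*} [CommRing T] (φ : S →+* T) (d e : ℕ) (a : Fin (d + e) → S) :
    (monicPart d e a).map φ = monicPart d e (φ ∘ a) := by
  simp [monicPart, Polynomial.map_sum]

theorem restPart_map {T : Type*} [CommRing T] (φ : S →+* T) (d e : ℕ) (a : Fin (d + e) → S) :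
    (restPart d e a).map φ = restPart d e (φ ∘ a) := by
  simp [restPart, Polynomial.map_sum]

theorem monicPart_monic (d e : ℕ) (a : Fin (d + e) → S) : (monicPart d e a).Monic := by
  exact monic_X_pow_add (degree_sum_fin_lt fun i : Fin d => a (Fin.castAdd e i))

end Generic

open MvPolynomial in
theorem exists_factor_nonmonic (R : Type u) [CommRing R] [HenselianLocalRing R]
    (f : R[X]) (g₀ h₀ : (IsLocalRing.ResidueField R)[X]) (hg : g₀.Monic)
    (hc : IsCoprime g₀ h₀) (hf : f.map (IsLocalRing.residue R) = g₀ * h₀) :
    ∃ g h : R[X], f = g * h ∧ g.Monic ∧ g.map (IsLocalRing.residue R) = g₀ ∧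
      h.map (IsLocalRing.residue R) = h₀ := by
  classical
  have := henselianRing_maximalIdeal R
  set d := g₀.natDegree with hd
  set e := f.natDegree + h₀.natDegree + 1 with he
  have hcases : ∀ l : Fin (d + e), (∃ i, Fin.castAdd e i = l) ∨ ∃ j, Fin.natAdd d j = l :=
    Fin.addCases (fun i => Or.inl ⟨i, rfl⟩) (fun j => Or.inr ⟨j, rfl⟩)
  have hsurj := IsLocalRing.residue_surjective (R := R)
  choose l hl using fun x : IsLocalRing.ResidueField R => hsurj x
  let a₀ : Fin (d + e) → R := Fin.addCases (fun i => l (g₀.coeff i)) (fun j => l (h₀.coeff j))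
  have hg₀ : monicPart d e (IsLocalRing.residue R ∘ a₀) = g₀ := by
    conv_rhs => rw [hg.as_sum]
    rw [monicPart, ← hd, Finset.sum_range fun i => Polynomial.C (g₀.coeff i) * Polynomial.X ^ i]
    simp [a₀, hl]
  have hh₀ : restPart d e (IsLocalRing.residue R ∘ a₀) = h₀ := by
    conv_rhs => rw [h₀.as_sum_range' e (by omega)]
    rw [restPart, Finset.sum_range fun i => Polynomial.monomial i (h₀.coeff i)]
    simp [a₀, hl, Polynomial.C_mul_X_pow_eq_monomial]
  let V : Fin (d + e) → MvPolynomial (Fin (d + e)) R := MvPolynomial.X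
  let gU := monicPart d e V
  let hU := restPart d e V
  let G : Fin (d + e) → MvPolynomial (Fin (d + e)) R := fun k =>
    (gU * hU).coeff k - MvPolynomial.C (f.coeff k)
  have hev : ∀ (a : Fin (d + e) → R) (k : Fin (d + e)),
      MvPolynomial.eval a (G k) = (monicPart d e a * restPart d e a).coeff k - f.coeff k := by
    intro a k
    have hcomp : (MvPolynomial.eval a : MvPolynomial (Fin (d + e)) R →+* R) ∘ V = a :=
      funext fun i => MvPolynomial.eval_X i
    simp only [G, map_sub, MvPolynomial.eval_C]
    rw [← Polynomial.coeff_map, Polynomial.map_mul]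
    simp only [gU, hU, monicPart_map, restPart_map, hcomp]
  have h0 : ∀ k, MvPolynomial.eval a₀ (G k) ∈ IsLocalRing.maximalIdeal R := fun k => by
    rw [hev, ← IsLocalRing.residue_eq_zero_iff, map_sub, ← Polynomial.coeff_map, Polynomial.map_mul,
      monicPart_map, restPart_map, hg₀, hh₀, ← hf, Polynomial.coeff_map, sub_self]
  -- the columns of the Jacobian
  let col : Fin (d + e) → (IsLocalRing.ResidueField R)[X] :=
    Fin.addCases (fun i => Polynomial.X ^ (i : ℕ) * h₀) (fun j => g₀ * Polynomial.X ^ (j : ℕ))
  let Φ : MvPolynomial (Fin (d + e)) R →+* IsLocalRing.ResidueField R :=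
    (IsLocalRing.residue R).comp (MvPolynomial.eval a₀)
  have hΦV : Φ ∘ V = IsLocalRing.residue R ∘ a₀ := funext fun i => by simp [Φ, V]
  let dg : Fin (d + e) → (MvPolynomial (Fin (d + e)) R)[X] :=
    Fin.addCases (fun i => Polynomial.X ^ (i : ℕ)) (fun _ => 0)
  let dh : Fin (d + e) → (MvPolynomial (Fin (d + e)) R)[X] :=
    Fin.addCases (fun _ => 0) (fun j => Polynomial.X ^ (j : ℕ))
  have hjac : ∀ k l, Φ (MvPolynomial.pderiv l (G k)) = (col l).coeff k := by
    intro k l
    have hg' : ∀ m, MvPolynomial.pderiv l (gU.coeff m) =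
        (dg l).coeff m := by
      intro m
      simp only [gU, monicPart, Polynomial.coeff_add, Polynomial.finsetSum_coeff, map_add, map_sum,
        Polynomial.coeff_C_mul, Polynomial.coeff_X_pow, mul_ite, mul_one, mul_zero, apply_ite (MvPolynomial.pderiv l),
        map_zero, pderiv_one, V]
      obtain ⟨i, rfl⟩ | ⟨j, rfl⟩ := hcases l
      ·
          simp only [dg]; rw [Fin.addCases_left, Polynomial.coeff_X_pow, Finset.sum_eq_single i
            (fun b _ hb => by simp [MvPolynomial.pderiv_X, hb.symm]) (by simp)]
          simp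
      ·
          simp only [dg]; rw [Fin.addCases_right, Polynomial.coeff_zero, Finset.sum_eq_zero]
          · simp
          · intro b _
            have : Fin.castAdd e b ≠ Fin.natAdd d j := Fin.ne_of_lt (by simp [Fin.lt_def]; omega)
            simp [MvPolynomial.pderiv_X, this]
    have hh' : ∀ m, MvPolynomial.pderiv l (hU.coeff m) =
        (dh l).coeff m := by
      intro m
      simp only [hU, restPart, Polynomial.finsetSum_coeff, map_sum, Polynomial.coeff_C_mul,
        Polynomial.coeff_X_pow, mul_ite, mul_one, mul_zero, apply_ite (MvPolynomial.pderiv l), map_zero, V]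
      obtain ⟨i, rfl⟩ | ⟨j, rfl⟩ := hcases l
      ·
          simp only [dh]; rw [Fin.addCases_left, Polynomial.coeff_zero, Finset.sum_eq_zero]
          intro b _
          have : Fin.natAdd d b ≠ Fin.castAdd e i := Fin.ne_of_gt (by simp [Fin.lt_def]; omega)
          simp [MvPolynomial.pderiv_X, this]
      ·
          simp only [dh]; rw [Fin.addCases_right, Polynomial.coeff_X_pow, Finset.sum_eq_single j
            (fun b _ hb => by simp [MvPolynomial.pderiv_X, hb.symm]) (by simp)]
          simp
    have hprod : MvPolynomial.pderiv l (G k) =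
        (dg l * hU + gU * dh l).coeff k := by
      simp only [G, map_sub, MvPolynomial.pderiv_C, sub_zero, Polynomial.coeff_mul, map_sum,
        MvPolynomial.pderiv_mul, hg', hh', Finset.sum_add_distrib, Polynomial.coeff_add]
    rw [hprod, ← Polynomial.coeff_map, Polynomial.map_add, Polynomial.map_mul, Polynomial.map_mul]
    simp only [gU, hU, monicPart_map, restPart_map, hΦV, hg₀, hh₀, col, dg, dh]
    obtain ⟨i, rfl⟩ | ⟨j, rfl⟩ := hcases l
    · simp
    · simp
  have hdet : IsUnit (Ideal.Quotient.mk (IsLocalRing.maximalIdeal R)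
      (Matrix.of fun i j => MvPolynomial.eval a₀ (MvPolynomial.pderiv j (G i))).det) := by
    show IsUnit (IsLocalRing.residue R _)
    rw [RingHom.map_det]
    refine Ne.isUnit fun hzero => ?_
    obtain ⟨v, hv, hv'⟩ := Matrix.exists_mulVec_eq_zero_iff.mpr hzero
    refine hv ?_
    let P : (IsLocalRing.ResidueField R)[X] := ∑ l, Polynomial.C (v l) * col l
    have hP : P = (∑ i : Fin d, Polynomial.C (v (Fin.castAdd e i)) * Polynomial.X ^ (i : ℕ)) * h₀ +
        g₀ * ∑ j : Fin e, Polynomial.C (v (Fin.natAdd d j)) * Polynomial.X ^ (j : ℕ) := by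
      simp only [P, Fin.sum_univ_add, col, Fin.addCases_left, Fin.addCases_right, Finset.sum_mul,
        Finset.mul_sum]
      exact congrArg₂ (· + ·) (Finset.sum_congr rfl fun i _ => by ring)
        (Finset.sum_congr rfl fun j _ => by ring)
    set δg := ∑ i : Fin d, Polynomial.C (v (Fin.castAdd e i)) * Polynomial.X ^ (i : ℕ) with hδg
    set δh := ∑ j : Fin e, Polynomial.C (v (Fin.natAdd d j)) * Polynomial.X ^ (j : ℕ) with hδh
    have hdegg : δg.degree < d := degree_sum_fin_lt _
    have hdegh : δh.degree < e := degree_sum_fin_lt _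
    have hP0 : P = 0 := by
      ext k
      by_cases hk : k < d + e
      · have h1 := congrFun hv' ⟨k, hk⟩
        simp only [Matrix.mulVec, dotProduct, RingHom.mapMatrix_apply, Matrix.map_apply, Matrix.of_apply,
          Pi.zero_apply] at h1
        rw [Polynomial.coeff_zero]
        simp only [P, Polynomial.finsetSum_coeff, Polynomial.coeff_C_mul]
        rw [← h1]
        refine Finset.sum_congr rfl fun l _ => ?_
        rw [mul_comm]
        exact congrArg (· * v l) (hjac ⟨k, hk⟩ l).symm
      · rw [Polynomial.coeff_zero]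
        refine Polynomial.coeff_eq_zero_of_degree_lt (lt_of_lt_of_le ?_ (Nat.cast_le.mpr (not_lt.mp hk)))
        rw [hP]
        refine lt_of_le_of_lt (Polynomial.degree_add_le _ _) (max_lt ?_ ?_)
        · refine lt_of_le_of_lt (Polynomial.degree_mul_le _ _) ?_
          rcases eq_or_ne δg 0 with h | h
          · rw [h, Polynomial.degree_zero, WithBot.bot_add]; exact WithBot.bot_lt_coe _
          rcases eq_or_ne h₀ 0 with h' | h'
          · rw [h', Polynomial.degree_zero, WithBot.add_bot]; exact WithBot.bot_lt_coe _
          rw [Polynomial.degree_eq_natDegree h, Polynomial.degree_eq_natDegree h', ← Nat.cast_add,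
            Nat.cast_lt]
          rw [Polynomial.degree_eq_natDegree h, Nat.cast_lt] at hdegg
          omega
        · refine lt_of_le_of_lt (Polynomial.degree_mul_le _ _) ?_
          rcases eq_or_ne δh 0 with h | h
          · rw [h, Polynomial.degree_zero, WithBot.add_bot]; exact WithBot.bot_lt_coe _
          rw [Polynomial.degree_eq_natDegree h, Polynomial.degree_eq_natDegree hg.ne_zero,
            ← Nat.cast_add, Nat.cast_lt]
          rw [Polynomial.degree_eq_natDegree h, Nat.cast_lt] at hdegh
          omega
    have hδg0 : δg = 0 := by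
      have hdvd : g₀ ∣ δg * h₀ := ⟨-δh, by linear_combination hP0 - hP⟩
      refine Polynomial.eq_zero_of_dvd_of_degree_lt (hc.dvd_of_dvd_mul_right hdvd) ?_
      rw [Polynomial.degree_eq_natDegree hg.ne_zero]; exact hdegg
    have hδh0 : δh = 0 := by
      have : g₀ * δh = 0 := by rw [← hP0, hP, hδg0, zero_mul, zero_add]
      exact (mul_eq_zero.mp this).resolve_left hg.ne_zero
    funext l
    obtain ⟨i, rfl⟩ | ⟨j, rfl⟩ := hcases l
    ·
        have := congrArg (fun p => Polynomial.coeff p i) hδg0
        simpa [δg, Polynomial.coeff_X_pow, Fin.val_inj] using this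
    ·
        have := congrArg (fun p => Polynomial.coeff p j) hδh0
        simpa [δh, Polynomial.coeff_X_pow, Fin.val_inj] using this
  obtain ⟨a, ha, ha'⟩ := exists_root_system (IsLocalRing.maximalIdeal R) G a₀ h0 hdet
  have hres : IsLocalRing.residue R ∘ a = IsLocalRing.residue R ∘ a₀ :=
    funext fun j => Ideal.Quotient.eq.mpr (ha' j)
  refine ⟨monicPart d e a, restPart d e a, ?_, monicPart_monic d e a, ?_, ?_⟩
  · ext k
    by_cases hk : k < d + e
    · have := ha ⟨k, hk⟩
      rw [hev, sub_eq_zero] at this
      exact this.symm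
    · rw [Polynomial.coeff_eq_zero_of_natDegree_lt (by omega)]
      refine (Polynomial.coeff_eq_zero_of_degree_lt (lt_of_lt_of_le ?_ (Nat.cast_le.mpr (not_lt.mp hk)))).symm
      have hdh : (restPart d e a).degree < e := degree_sum_fin_lt _
      refine lt_of_le_of_lt (Polynomial.degree_mul_le _ _) ?_
      rcases eq_or_ne (restPart d e a) 0 with h | h
      · rw [h, Polynomial.degree_zero, WithBot.add_bot]; exact WithBot.bot_lt_coe _
      have hdg : (monicPart d e a).degree ≤ d := by
        refine (Polynomial.degree_add_le _ _).trans (max_le (Polynomial.degree_X_pow_le _) ?_)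
        exact (degree_sum_fin_lt _).le
      refine lt_of_le_of_lt (add_le_add_left hdg _) ?_
      rw [Polynomial.degree_eq_natDegree h, ← Nat.cast_add, Nat.cast_lt]
      rw [Polynomial.degree_eq_natDegree h, Nat.cast_lt] at hdh
      omega
  · rw [monicPart_map, hres, hg₀]
  · rw [restPart_map, hres, hh₀]

end Groth.Agent.HenselLib
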