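import Mathlib.RingTheory.DiscreteValuationRing.Basic
import Mathlib.RingTheory.LocalRing.Quotient
import Mathlib.FieldTheory.PurelyInseparable.Basic
import Mathlib.FieldTheory.KummerPolynomial
import Mathlib.FieldTheory.IsAlgClosed.AlgebraicClosure
import Mathlib.RingTheory.AdjoinRoot
import Mathlib.RingTheory.Ideal.GoingUp
import Mathlib.LinearAlgebra.FreeModule.PID

/-!
# Unramified extensions of a DVR with perfect residue field

Inside an algebraically closed field containing a DVR `R`: a directed union of finite free local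
`R`-subalgebras, unramified, with purely inseparable residue extensions and perfect residue field.
-/

set_option autoImplicit false
set_option linter.all false
universe u

open IsLocalRing Polynomial

namespace Groth.Agent.HenselLib.PerfResidue

variable {R : Type u} [CommRing R] [IsDomain R] [IsDiscreteValuationRing R]
  {Ω : Type u} [Field Ω] [Algebra R Ω]

/-- Exponential characteristic of the residue field. -/
noncomputable abbrev pp (R : Type u) [CommRing R] [IsLocalRing R] : ℕ := ringExpChar (ResidueField R)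

/-- The extended maximal ideal. -/
noncomputable abbrev mI (T : Subalgebra R Ω) : Ideal T := (maximalIdeal R).map (algebraMap R T)

/-- Finite, unramified, purely inseparable residue extension. -/
structure Good (T : Subalgebra R Ω) : Prop where
  finite : Module.Finite R T
  max : (mI T).IsMaximal
  pins : ∀ w : T ⧸ mI T, ∃ (m : ℕ) (z : R),
    algebraMap R (T ⧸ mI T) z = w ^ (pp R ^ m)

variable [FaithfulSMul R Ω]

theorem algebraMap_injective (T : Subalgebra R Ω) : Function.Injective (algebraMap R T) :=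
  fun _ _ h => FaithfulSMul.algebraMap_injective R Ω (congrArg Subtype.val h)

theorem mI_ne_top (T : Subalgebra R Ω) [Algebra.IsIntegral R T] : mI T ≠ ⊤ := by
  haveI : FaithfulSMul R T := (faithfulSMul_iff_algebraMap_injective R T).mpr (algebraMap_injective T)
  obtain ⟨P, hP, hPl⟩ := Ideal.exists_maximal_ideal_liesOver_of_isIntegral (maximalIdeal R) (S := T)
  exact fun h => hP.ne_top (top_le_iff.mp (h ▸ Ideal.map_le_iff_le_comap.mpr hPl.over.le))

omit [FaithfulSMul R Ω] in
theorem inclusion_mI {T T' : Subalgebra R Ω} (h : T ≤ T') {a : T} (ha : a ∈ mI T) :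
    Subalgebra.inclusion h a ∈ mI T' := by
  have h1 : (mI T).map (Subalgebra.inclusion h).toRingHom = mI T' := by
    rw [mI, Ideal.map_map]
    congr 1
  exact h1 ▸ Ideal.mem_map_of_mem (Subalgebra.inclusion h).toRingHom ha

theorem good_bot : Good (⊥ : Subalgebra R Ω) := by
  have hb : Function.Bijective (algebraMap R (⊥ : Subalgebra R Ω)) :=
    ⟨algebraMap_injective _, fun ⟨x, hx⟩ => by
      obtain ⟨r, hr⟩ := Algebra.mem_bot.mp hx
      exact ⟨r, Subtype.ext hr⟩⟩
  refine ⟨Module.Finite.of_surjective (Algebra.linearMap R (⊥ : Subalgebra R Ω)) hb.2, ?_, fun w => ?_⟩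
  · exact Ideal.IsMaximal.map_bijective _ hb (maximalIdeal.isMaximal R)
  · obtain ⟨t, rfl⟩ := Ideal.Quotient.mk_surjective w
    obtain ⟨r, rfl⟩ := hb.2 t
    exact ⟨0, r, by rw [pow_zero, pow_one]; rfl⟩

theorem free_and_rank {T : Subalgebra R Ω} (hT : Good T) :
    Module.Free R T ∧ ∃ m, Module.finrank R T = pp R ^ m := by
  haveI := hT.finite
  haveI : FaithfulSMul R T := (faithfulSMul_iff_algebraMap_injective R T).mpr (algebraMap_injective T)
  haveI : Module.IsTorsionFree R T := inferInstance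
  haveI hfree : Module.Free R T := Module.free_of_finite_type_torsion_free'
  refine ⟨hfree, ?_⟩
  haveI := hT.max
  letI := Ideal.Quotient.field (mI T)
  letI := Ideal.Quotient.field (maximalIdeal R)
  haveI : ExpChar (R ⧸ maximalIdeal R) (pp R) := ringExpChar.expChar (ResidueField R)
  haveI : IsPurelyInseparable (R ⧸ maximalIdeal R) (T ⧸ mI T) := by
    rw [isPurelyInseparable_iff_pow_mem (R ⧸ maximalIdeal R) (pp R)]
    intro w
    obtain ⟨m, z, hz⟩ := hT.pins w
    exact ⟨m, Ideal.Quotient.mk _ z, hz⟩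
  haveI : Module.Finite (R ⧸ maximalIdeal R) (T ⧸ mI T) := Module.Finite.of_restrictScalars_finite R _ _
  obtain ⟨n, hn⟩ := IsPurelyInseparable.finrank_eq_pow (T ⧸ mI T) (F := R ⧸ maximalIdeal R) (pp R)
  exact ⟨n, by rw [← hn]; exact (IsLocalRing.finrank_quotient_map (R := R) (S := T)).symm⟩

theorem isUnit_of_notMem {T : Subalgebra R Ω} (hT : Good T) {a : T} (ha : a ∉ mI T) : IsUnit a := by
  haveI := hT.finite
  by_contra hu
  obtain ⟨M, hM, haM⟩ := exists_max_ideal_of_mem_nonunits hu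
  haveI := hM
  have hc : (M.comap (algebraMap R T)) = maximalIdeal R :=
    IsLocalRing.eq_maximalIdeal (Ideal.isMaximal_comap_of_isIntegral_of_isMaximal M)
  exact ha (hT.max.eq_of_le hM.ne_top (Ideal.map_le_iff_le_comap.mpr hc.ge) ▸ haM)

set_option maxHeartbeats 1600000 in
/-- Adjoining a `p`-th root of an element which is not a `p`-th power modulo `π`. -/
theorem good_step {T : Subalgebra R Ω} (hT : Good T) {p : ℕ} (hp : p.Prime) (hpp : pp R = p) (x : T) (y : Ω)
    (hy : y ^ p = x) (hx : ∀ z : T, z ^ p - x ∉ mI T) : Good (T ⊔ Algebra.adjoin R {y}) := by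
  haveI := hT.finite
  set T' := T ⊔ Algebra.adjoin R {y} with hT'
  have hyint : IsIntegral R y := by
    refine IsIntegral.of_pow hp.pos ?_
    rw [hy]
    exact (Algebra.IsIntegral.isIntegral x).map T.val
  haveI hfy : Module.Finite R (Algebra.adjoin R ({y} : Set Ω)) :=
    ⟨(Submodule.fg_top _).mpr hyint.fg_adjoin_singleton⟩
  haveI hfin : Module.Finite R T' := Subalgebra.finite_sup _ _
  let incl : T →ₐ[R] T' := Subalgebra.inclusion le_sup_left
  let y' : T' := ⟨y, (le_sup_right : Algebra.adjoin R {y} ≤ T') (Algebra.self_mem_adjoin_singleton R y)⟩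
  let Q := T' ⧸ mI T'
  haveI : Nontrivial Q := Ideal.Quotient.nontrivial_iff.mpr (mI_ne_top T')
  let q : T' →ₐ[R] Q := Ideal.Quotient.mkₐ R _
  haveI := hT.max
  letI := Ideal.Quotient.field (mI T)
  let i₀ : (T ⧸ mI T) →+* Q := Ideal.Quotient.lift (mI T) (q.comp incl).toRingHom fun a ha =>
    Ideal.Quotient.eq_zero_iff_mem.mpr (inclusion_mI (le_sup_left : T ≤ T') ha)
  have hy' : y' ^ p = incl x := Subtype.ext (by simpa [y', incl] using hy)
  let φ : AdjoinRoot (X ^ p - C (Ideal.Quotient.mk (mI T) x)) →+* Q :=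
    AdjoinRoot.lift i₀ (q y') (by
      rw [eval₂_sub, eval₂_X_pow, eval₂_C, sub_eq_zero, ← map_pow, hy']
      rfl)
  haveI : Fact (Irreducible (X ^ p - C (Ideal.Quotient.mk (mI T) x))) := ⟨X_pow_sub_C_irreducible_of_prime hp fun b hb => by
    obtain ⟨z, rfl⟩ := Ideal.Quotient.mk_surjective b
    exact hx z (Ideal.Quotient.eq.mp (by rw [map_pow]; exact hb))⟩
  -- every element of `T'` is a polynomial in `y` with coefficients in `T`
  have hgen : ∀ t : T', q t ∈ φ.range := by
    intro t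
    have hle : T' ≤ (Subalgebra.map T'.val ((Subalgebra.comap q
        ({ φ.range with algebraMap_mem' := fun r => ⟨AdjoinRoot.of _ (algebraMap R _ r), by
            simp [φ, i₀]; rfl⟩ } : Subalgebra R Q)))) := by
      refine sup_le (fun a ha => ⟨incl ⟨a, ha⟩, ⟨AdjoinRoot.of _ (Ideal.Quotient.mk _ ⟨a, ha⟩), by simp [φ, i₀]⟩, rfl⟩) ?_
      rw [Algebra.adjoin_le_iff, Set.singleton_subset_iff]
      exact ⟨y', ⟨AdjoinRoot.root _, by simp [φ]⟩, rfl⟩
    obtain ⟨t', ht', he⟩ := hle t.2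
    rwa [Subtype.ext he] at ht'
  have hsurj : Function.Surjective φ := fun w => by
    obtain ⟨t, rfl⟩ := Ideal.Quotient.mk_surjective w
    exact hgen t
  have hmax : (mI T').IsMaximal := Ideal.Quotient.maximal_of_isField _
    (MulEquiv.isField (Field.toIsField (AdjoinRoot (X ^ p - C (Ideal.Quotient.mk (mI T) x))))
      (RingEquiv.ofBijective φ ⟨φ.injective, hsurj⟩).symm.toMulEquiv)
  refine ⟨hfin, hmax, fun w => ?_⟩
  letI := Ideal.Quotient.field (maximalIdeal R)
  haveI : ExpChar (R ⧸ maximalIdeal R) p := ringExpChar.of_eq (hpp : pp R = p)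
  letI := Ideal.Quotient.field (mI T')
  haveI : ExpChar Q p := expChar_of_injective_ringHom
    (f := Ideal.quotientMap (mI T') (algebraMap R T') (Ideal.le_comap_map : maximalIdeal R ≤ _))
    (RingHom.injective _) p
  rw [hpp]
  obtain ⟨v, rfl⟩ := hsurj w
  obtain ⟨f, rfl⟩ := AdjoinRoot.mk_surjective v
  induction f using Polynomial.induction_on' with
  | add f g hf hg =>
    obtain ⟨m, z, hz⟩ := hf
    obtain ⟨n, z', hz'⟩ := hg
    refine ⟨m + n, z ^ p ^ n + z' ^ p ^ m, ?_⟩
    rw [map_add (AdjoinRoot.mk _), map_add φ, add_pow_expChar_pow, map_add (algebraMap R _), map_pow, map_pow, hz, hz', ← pow_mul, ← pow_mul, ← pow_add,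
      ← pow_add, add_comm n m]
  | monomial n a =>
    obtain ⟨m, z, hz⟩ := hT.pins a
    obtain ⟨m', z', hz'⟩ := hT.pins (Ideal.Quotient.mk (mI T) x)
    rw [hpp] at hz hz'
    have e1 : ∀ r : R, i₀ (algebraMap R _ r) = algebraMap R Q r := fun r => rfl
    have e2 : φ (AdjoinRoot.mk _ (monomial n a)) = i₀ a * q y' ^ n := by
      rw [AdjoinRoot.lift_mk, eval₂_monomial]
    have e3 : q y' ^ p = i₀ (Ideal.Quotient.mk (mI T) x) := by rw [← map_pow, hy']; rfl
    refine ⟨m + m' + 1, z ^ p ^ (m' + 1) * z' ^ (p ^ m * n), ?_⟩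
    rw [map_mul, map_pow, map_pow, ← e1, ← e1, hz, hz', e2, mul_pow, map_pow, map_pow, ← e3]
    rw [← pow_mul, ← pow_mul, ← pow_mul, ← pow_mul]
    congr 2 <;> ring

/-- Every finite subset lies in a good subalgebra. -/
def Q (S : Subalgebra R Ω) : Prop :=
  ∀ s : Finset Ω, (s : Set Ω) ⊆ S → ∃ T, Good T ∧ T ≤ S ∧ (s : Set Ω) ⊆ T

theorem exists_maximal : ∃ S : Subalgebra R Ω, Maximal Q S := by
  have hbot : Q (⊥ : Subalgebra R Ω) := fun s hs => ⟨⊥, good_bot, le_rfl, hs⟩
  refine (zorn_le_nonempty₀ {S : Subalgebra R Ω | Q S} (fun c hc hch S₀ hS₀ => ?_) ⊥ hbot).imp fun S hS => hS.2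
  haveI : Nonempty c := ⟨⟨S₀, hS₀⟩⟩
  have hd : Directed (· ≤ ·) (fun S : c => (S : Subalgebra R Ω)) := hch.directedOn.directed_val
  refine ⟨⨆ S : c, (S : Subalgebra R Ω), fun s hs => ?_, fun T hT => le_iSup (fun S : c => (S : Subalgebra R Ω)) ⟨T, hT⟩⟩
  rw [Subalgebra.coe_iSup_of_directed hd] at hs
  obtain ⟨S, hsS⟩ := DirectedOn.exists_mem_subset_of_finset_subset_biUnion (f := fun S : c => ((S : Subalgebra R Ω) : Set Ω))
    (c := Set.univ) Set.univ_nonempty (fun a _ b _ => by
      obtain ⟨d, h1, h2⟩ := hd a b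
      exact ⟨d, trivial, h1, h2⟩) (s := s) (by simpa using hs)
  obtain ⟨T, h1, h2, h3⟩ := hc S.2 s hsS.2
  exact ⟨T, h1, h2.trans (le_iSup (fun S : c => (S : Subalgebra R Ω)) S), h3⟩

theorem perfect [IsAlgClosed Ω] {S : Subalgebra R Ω} (hS : Maximal Q S) (x : S) :
    ∃ z : S, z ^ pp R - x ∈ mI S := by
  classical
  obtain ⟨p, hp, hpp⟩ | h1 : (∃ p, p.Prime ∧ pp R = p) ∨ pp R = 1 :=
    (expChar_is_prime_or_one (ResidueField R) (pp R)).imp_left fun h => ⟨_, h, rfl⟩
  swap
  · exact ⟨x, by rw [h1, pow_one, sub_self]; exact Ideal.zero_mem _⟩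
  rw [hpp]
  by_contra hne
  push_neg at hne
  obtain ⟨y, hy⟩ := IsAlgClosed.exists_pow_nat_eq (x : Ω) hp.pos
  let ι := {T : Subalgebra R Ω // Good T ∧ T ≤ S ∧ (x : Ω) ∈ T}
  obtain ⟨T₀, hT₀, hle₀, hx₀⟩ := hS.prop {(x : Ω)} (by simp)
  haveI : Nonempty ι := ⟨⟨T₀, hT₀, hle₀, by simpa using hx₀⟩⟩
  let F : ι → Subalgebra R Ω := fun T => T.1 ⊔ Algebra.adjoin R {y}
  have hd : Directed (· ≤ ·) F := fun a b => by
    haveI := a.2.1.finite
    haveI := b.2.1.finite
    haveI : Module.Finite R ↥(a.1 ⊔ b.1) := Subalgebra.finite_sup _ _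
    obtain ⟨g, hg⟩ := (Subalgebra.fg_iff_finiteType (a.1 ⊔ b.1)).mpr inferInstance
    obtain ⟨T, h1, h2, h3⟩ := hS.prop (insert (x : Ω) g) (by
      rw [Finset.coe_insert]
      exact Set.insert_subset x.2 ((hg ▸ Algebra.subset_adjoin).trans (sup_le a.2.2.1 b.2.2.1)))
    rw [Finset.coe_insert, Set.insert_subset_iff] at h3
    have hab : a.1 ⊔ b.1 ≤ T := hg ▸ Algebra.adjoin_le h3.2
    exact ⟨⟨T, h1, h2, h3.1⟩, sup_le_sup_right (le_sup_left.trans hab) _, sup_le_sup_right (le_sup_right.trans hab) _⟩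
  have hFgood : ∀ T : ι, Good (F T) := fun T => by
    refine good_step T.2.1 hp hpp ⟨x, T.2.2.2⟩ y hy fun z hz => hne (Subalgebra.inclusion T.2.2.1 z) ?_
    have := inclusion_mI T.2.2.1 hz
    rw [map_sub, map_pow] at this
    exact this
  have hQ : Q (⨆ T, F T) := fun s hs => by
    rw [Subalgebra.coe_iSup_of_directed hd] at hs
    obtain ⟨T, hT⟩ := DirectedOn.exists_mem_subset_of_finset_subset_biUnion (f := fun T : ι => (F T : Set Ω))
      (c := Set.univ) Set.univ_nonempty (fun a _ b _ => by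
        obtain ⟨d, h1, h2⟩ := hd a b
        exact ⟨d, trivial, h1, h2⟩) (s := s) (by simpa using hs)
    exact ⟨F T, hFgood T, le_iSup F T, hT.2⟩
  have hle : S ≤ ⨆ T, F T := fun a ha => by
    obtain ⟨T, h1, h2, h3⟩ := hS.prop {a, (x : Ω)} (by simp [Set.insert_subset_iff, ha])
    rw [Finset.coe_insert, Finset.coe_singleton, Set.insert_subset_iff, Set.singleton_subset_iff] at h3
    exact le_iSup F ⟨T, h1, h2, h3.2⟩ ((le_sup_left : T ≤ T ⊔ _) h3.1)
  have hyS : y ∈ S := hS.le_of_ge hQ hle (le_iSup F (Classical.arbitrary ι)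
    ((le_sup_right : Algebra.adjoin R {y} ≤ _) (Algebra.self_mem_adjoin_singleton R y)))
  exact hne ⟨y, hyS⟩ (by
    rw [show (⟨y, hyS⟩ : S) ^ p = x from Subtype.ext (by push_cast; exact hy), sub_self]
    exact Ideal.zero_mem _)

theorem exists_good {S : Subalgebra R Ω} (hS : Q S) (a : S) : ∃ T, Good T ∧ ∃ h : T ≤ S, ∃ t : T, Subalgebra.inclusion h t = a := by
  obtain ⟨T, h1, h2, h3⟩ := hS {(a : Ω)} (by simp)
  exact ⟨T, h1, h2, ⟨a, by simpa using h3⟩, rfl⟩

theorem isIntegral {S : Subalgebra R Ω} (hS : Q S) : Algebra.IsIntegral R S := by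
  refine ⟨fun a => ?_⟩
  obtain ⟨T, hT, h, t, rfl⟩ := exists_good hS a
  haveI := hT.finite
  exact (Algebra.IsIntegral.isIntegral t).map (Subalgebra.inclusion h)

theorem isUnit_iff {S : Subalgebra R Ω} (hS : Q S) (a : S) : IsUnit a ↔ a ∉ mI S := by
  haveI := isIntegral hS
  refine ⟨fun hu h => mI_ne_top S (Ideal.eq_top_of_isUnit_mem _ h hu), fun ha => ?_⟩
  obtain ⟨T, hT, h, t, rfl⟩ := exists_good hS a
  exact (isUnit_of_notMem hT fun h' => ha (inclusion_mI h h')).map _

theorem isLocalRing {S : Subalgebra R Ω} (hS : Q S) :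
    ∃ _ : IsLocalRing S, maximalIdeal S = mI S := by
  have h : IsLocalRing S := IsLocalRing.of_nonunits_add fun {a b} ha hb => by
    simp only [mem_nonunits_iff, isUnit_iff hS, not_not] at ha hb ⊢
    exact add_mem ha hb
  exact ⟨h, Ideal.ext fun a => by rw [mem_maximalIdeal, mem_nonunits_iff, isUnit_iff hS, not_not]⟩

theorem isDVR {S : Subalgebra R Ω} (hS : Q S) : IsDiscreteValuationRing S := by
  obtain ⟨π, hπ⟩ := IsDiscreteValuationRing.exists_irreducible R
  have hspan : ∀ T : Subalgebra R Ω, mI T = Ideal.span {algebraMap R T π} := fun T => by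
    rw [mI, hπ.maximalIdeal_eq, Ideal.map_span, Set.image_singleton]
  set π' := algebraMap R S π
  have hπ0 : π' ≠ 0 := (map_ne_zero_iff _ (algebraMap_injective S)).mpr hπ.ne_zero
  have hnu : ¬ IsUnit π' := fun hu => (isUnit_iff hS π').mp hu (by rw [hspan]; exact Ideal.mem_span_singleton_self _)
  have hfac : ∀ a : S, a ≠ 0 → ∃ n : ℕ, Associated (π' ^ n) a := by
    intro a ha
    obtain ⟨T, hT, h, t, rfl⟩ := exists_good hS a
    haveI := hT.finite
    haveI : IsNoetherianRing T := IsNoetherianRing.of_finite R T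
    haveI := hT.max
    have ht : t ≠ 0 := fun h0 => ha (by rw [h0, map_zero])
    have hπT : ¬ IsUnit (algebraMap R T π) := fun hu =>
      hT.max.ne_top (Ideal.eq_top_of_isUnit_mem _ (hspan T ▸ Ideal.mem_span_singleton_self _) hu)
    obtain ⟨n, u, hu, he⟩ := WfDvdMonoid.max_power_factor' ht hπT
    have hunit : IsUnit u := isUnit_of_notMem hT (by rw [hspan, Ideal.mem_span_singleton]; exact hu)
    refine ⟨n, (hunit.map (Subalgebra.inclusion h)).unit, ?_⟩
    rw [IsUnit.unit_spec, he, map_mul, map_pow, AlgHom.commutes]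
  refine IsDiscreteValuationRing.ofHasUnitMulPowIrreducibleFactorization ⟨π', ⟨hnu, fun a b hab => ?_⟩, fun {a} => hfac a⟩
  obtain ⟨i, u, rfl⟩ := hfac a fun h => hπ0 (by rw [hab, h, zero_mul])
  obtain ⟨j, v, rfl⟩ := hfac b fun h => hπ0 (by rw [hab, h, mul_zero])
  rcases Nat.eq_zero_or_pos i with rfl | hi
  · exact Or.inl (by simp)
  rcases Nat.eq_zero_or_pos j with rfl | hj
  · exact Or.inr (by simp)
  exfalso
  obtain ⟨i, rfl⟩ := Nat.exists_eq_add_of_le' hi
  obtain ⟨j, rfl⟩ := Nat.exists_eq_add_of_le' hj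
  apply hnu
  refine IsUnit.of_mul_eq_one (π' ^ (i + j) * (u * v)) ?_
  refine mul_left_cancel₀ hπ0 ?_
  rw [mul_one]
  conv_rhs => rw [hab]
  ring

end Groth.Agent.HenselLib.PerfResidue
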