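import Mathlib.RingTheory.Flat.EquationalCriterion
import Mathlib.RingTheory.Henselian
import Mathlib.RingTheory.Ideal.GoingDown
import Mathlib.RingTheory.Ideal.MinimalPrime.Noetherian
import Mathlib.RingTheory.Flat.FaithfullyFlat.Algebra

/-!
# A henselian domain has no isolated point in the punctured spectrum of its completion
-/

set_option autoImplicit false
set_option linter.all false

universe u

open IsLocalRing

namespace Groth.Agent.HenselLib.PunctureSplit

variable {B C : Type u} [CommRing B] [CommRing C] [Algebra B C]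

/-- Colon ideals commute with flat extensions. -/
theorem mem_map_colon [Module.Flat B C] [IsNoetherianRing B] (I : Ideal B) (Z : Finset B) (u : C)
    (hu : ∀ z ∈ Z, algebraMap B C z * u ∈ I.map (algebraMap B C)) :
    ∃ (k : ℕ) (l : Fin k → B) (c : Fin k → C), (∀ i, ∀ z ∈ Z, z * l i ∈ I) ∧
      u = ∑ i, c i * algebraMap B C (l i) := by
  classical
  induction Z using Finset.induction with
  | empty => exact ⟨1, fun _ => 1, fun _ => u, by simp, by simp⟩
  | insert z Z hz ih =>
    obtain ⟨k, l, c, hl, rfl⟩ := ih fun w hw => hu w (Finset.mem_insert_of_mem hw)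
    obtain ⟨m, g, hg⟩ := Submodule.fg_iff_exists_fin_generating_family.mp (IsNoetherian.noetherian I)
    have h1 := hu z (Finset.mem_insert_self z Z)
    have h2 : I.map (algebraMap B C) = Submodule.span C (Set.range fun j => algebraMap B C (g j)) := by
      rw [← hg, Ideal.submodule_span_eq, Ideal.map_span, ← Set.range_comp]
      rfl
    rw [h2, Submodule.mem_span_range_iff_exists_fun] at h1
    obtain ⟨d, hd⟩ := h1
    simp only [smul_eq_mul] at hd
    have h3 : ∑ i, (Sum.elim (fun i => z * l i) (fun j => -g j) i : B) • (Sum.elim c d i : C) = 0 := by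
      rw [Fintype.sum_sum_type]
      simp only [Sum.elim_inl, Sum.elim_inr, Algebra.smul_def, map_mul, map_neg, neg_mul, Finset.sum_neg_distrib]
      rw [← sub_eq_add_neg, sub_eq_zero]
      calc _ = algebraMap B C z * ∑ i, c i * algebraMap B C (l i) := by
            rw [Finset.mul_sum]; exact Finset.sum_congr rfl fun i _ => by ring
        _ = _ := by rw [← hd]; exact Finset.sum_congr rfl fun i _ => by ring
    obtain ⟨p, a, y, hy, ha⟩ := Module.Flat.isTrivialRelation_of_sum_smul_eq_zero h3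
    refine ⟨p, fun t => ∑ i, l i * a (Sum.inl i) t, y, fun t w hw => ?_, ?_⟩
    · rcases Finset.mem_insert.mp hw with rfl | hw
      · have h4 := ha t
        rw [Fintype.sum_sum_type] at h4
        simp only [Sum.elim_inl, Sum.elim_inr, neg_mul, Finset.sum_neg_distrib] at h4
        rw [Finset.mul_sum, show ∑ i, w * (l i * a (Sum.inl i) t) = ∑ j, g j * a (Sum.inr j) t by
          rw [← sub_eq_zero, sub_eq_add_neg]
          calc _ = ∑ i, w * l i * a (Sum.inl i) t + -∑ j, g j * a (Sum.inr j) t := by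
                congr 1; exact Finset.sum_congr rfl fun i _ => by ring
            _ = 0 := h4]
        refine sum_mem fun j _ => I.mul_mem_right _ ?_
        rw [← hg]
        exact Submodule.subset_span ⟨j, rfl⟩
      · rw [Finset.mul_sum]
        refine sum_mem fun i _ => ?_
        rw [← mul_assoc]
        exact I.mul_mem_right _ (hl i w hw)
    · calc ∑ i, c i * algebraMap B C (l i)
          = ∑ i, ∑ t, y t * algebraMap B C (l i * a (Sum.inl i) t) := by
            refine Finset.sum_congr rfl fun i _ => ?_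
            have h5 := hy (Sum.inl i)
            simp only [Sum.elim_inl, Algebra.smul_def] at h5
            rw [h5, Finset.sum_mul]
            exact Finset.sum_congr rfl fun t _ => by rw [map_mul]; ring
        _ = _ := by
            rw [Finset.sum_comm]
            exact Finset.sum_congr rfl fun t _ => by rw [map_sum, Finset.mul_sum]

/-- An element not in a prime is regular modulo the extension of the prime along a flat map. -/
theorem mem_of_mul_mem [Module.Flat B C] [IsNoetherianRing B] (P : Ideal B) [P.IsPrime] {b : B} (hb : b ∉ P) (u : C)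
    (hu : algebraMap B C b * u ∈ P.map (algebraMap B C)) : u ∈ P.map (algebraMap B C) := by
  obtain ⟨k, l, c, hl, rfl⟩ := mem_map_colon P {b} u (by simpa using hu)
  refine sum_mem fun i _ => Ideal.mul_mem_left _ _ (Ideal.mem_map_of_mem _ ?_)
  exact ((‹P.IsPrime›).mem_or_mem (hl i b (Finset.mem_singleton_self b))).resolve_left hb

variable [IsLocalRing B] [IsLocalRing C] [IsNoetherianRing B] [IsNoetherianRing C] [HenselianLocalRing B]

/-- If `B → C` is a flat local map of Noetherian local rings, `B` henselian, with surjective maps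
`B → C / m_B^N C`, then a prime `Q` of `C` lying over a prime `P` of `B` and covered only by the closed
point is minimal over `P C` only if no prime lies strictly between `P` and `m_B`. -/
theorem eq_of_lt_prime [Module.Flat B C] [IsLocalHom (algebraMap B C)]
    (happ : ∀ (N : ℕ) (c : C), ∃ b : B, c - algebraMap B C b ∈ (maximalIdeal B ^ N).map (algebraMap B C))
    (P : Ideal B) [P.IsPrime] (Q : Ideal C) [Q.IsPrime] (hQ : Q ∈ (P.map (algebraMap B C)).minimalPrimes)
    (hQP : Q.comap (algebraMap B C) = P)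
    (hcov : ∀ R : Ideal C, R.IsPrime → Q ≤ R → R ≠ Q → R = maximalIdeal C)
    (p' : Ideal B) [p'.IsPrime] (hPp : P < p') : p' = maximalIdeal B := by
  have hQp : Q.IsPrime := inferInstance
  have hPp0 : P.IsPrime := inferInstance
  have hp'p : p'.IsPrime := inferInstance
  by_contra hp'
  obtain ⟨x, hxm, hxp⟩ := SetLike.exists_of_lt (lt_of_le_of_ne (le_maximalIdeal (Ideal.IsPrime.ne_top ‹_›)) hp')
  have hxP : x ∉ P := fun h => hxp (hPp.le h)
  set PC := P.map (algebraMap B C) with hPC
  set φ := algebraMap B C with hφ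
  haveI : Module.FaithfullyFlat B C := Module.FaithfullyFlat.of_flat_of_isLocalHom
  -- the primary component at `Q`
  let q' : Ideal C :=
    { carrier := {a | ∃ s, s ∉ Q ∧ s * a ∈ PC}
      add_mem' := fun {a b} ⟨s, hs, hsa⟩ ⟨t, ht, htb⟩ => ⟨s * t, hQp.mul_notMem hs ht, by
        rw [show s * t * (a + b) = t * (s * a) + s * (t * b) by ring]
        exact add_mem (PC.mul_mem_left _ hsa) (PC.mul_mem_left _ htb)⟩
      zero_mem' := ⟨1, fun h => hQp.ne_top ((Ideal.eq_top_iff_one _).mpr h), by simp⟩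
      smul_mem' := fun c a ⟨s, hs, hsa⟩ => ⟨s, hs, by
        rw [smul_eq_mul, mul_left_comm]; exact PC.mul_mem_left _ hsa⟩ }
  have hPCQ : PC ≤ Q := hQ.1.2
  have hq'Q : q' ≤ Q := by
    intro a ha
    obtain ⟨s, hs, hsa⟩ : ∃ s, s ∉ Q ∧ s * a ∈ PC := ha
    exact (hQp.mem_or_mem (hPCQ hsa)).resolve_left hs
  have hPCq' : PC ≤ q' := fun a ha => ⟨1, fun h => hQp.ne_top ((Ideal.eq_top_iff_one _).mpr h), by simpa using ha⟩
  -- the complementary element
  obtain ⟨s, hsQ, hs⟩ : ∃ s, s ∉ Q ∧ ∀ a ∈ q', s * a ∈ PC := by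
    classical
    obtain ⟨G, hG⟩ := (IsNoetherian.noetherian q' : q'.FG)
    have hG' : ∀ g ∈ G, ∃ s, s ∉ Q ∧ s * g ∈ PC := fun g hg => by
      have : g ∈ q' := by rw [← hG]; exact Submodule.subset_span hg
      exact this
    choose t ht htg using hG'
    refine ⟨∏ g ∈ G.attach, t g.1 g.2, fun h => ?_, fun a ha => ?_⟩
    · obtain ⟨g, -, hg⟩ := (Ideal.IsPrime.prod_mem_iff).mp h
      exact ht g.1 g.2 hg
    · rw [← hG] at ha
      induction ha using Submodule.span_induction with
      | mem g hg =>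
        rw [← Finset.prod_erase_mul _ _ (Finset.mem_attach G ⟨g, hg⟩), mul_assoc]
        exact PC.mul_mem_left _ (htg g hg)
      | zero => simp
      | add a b _ _ iha ihb => rw [mul_add]; exact add_mem iha ihb
      | smul c a _ iha => rw [smul_eq_mul, mul_left_comm]; exact PC.mul_mem_left _ iha
  -- primes containing `q'` contain `Q`
  have hQle : ∀ R : Ideal C, R.IsPrime → q' ≤ R → Q ≤ R := by
    intro R hR hqR a ha
    by_contra haR
    let M : Submonoid C := Submonoid.powers a ⊔ Q.primeCompl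
    have hdis : Disjoint (PC : Set C) M := Set.disjoint_left.mpr fun z hz hzM => by
      obtain ⟨_, ⟨n, rfl⟩, t, ht, rfl⟩ := Submonoid.mem_sup.mp hzM
      exact haR (hR.mem_of_pow_mem n (hqR ⟨t, ht, by rwa [mul_comm]⟩))
    obtain ⟨R', hR', hPR', hdR'⟩ := Ideal.exists_le_prime_disjoint _ M hdis
    have hR'Q : R' ≤ Q := fun z hz => by
      by_contra hzQ
      exact Set.disjoint_left.mp hdR' hz (Submonoid.mem_sup_right hzQ)
    exact Set.disjoint_left.mp hdR' (hQ.2 ⟨hR', hPR'⟩ hR'Q ha)
      (Submonoid.mem_sup_left (Submonoid.mem_powers a))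
  have htop : ∀ R : Ideal C, R.IsPrime → q' ≤ R → s ∈ R → R = maximalIdeal C := fun R hR h1 h2 =>
    hcov R hR (hQle R hR h1) fun h => hsQ (h ▸ h2)
  have hrad : maximalIdeal C ≤ (q' ⊔ Ideal.span {s}).radical := by
    rw [Ideal.radical_eq_sInf]
    exact le_sInf fun R hR => (htop R hR.2 (le_sup_left.trans hR.1)
      (hR.1 (Submodule.mem_sup_right (Ideal.mem_span_singleton_self s)))).ge
  obtain ⟨N, hN⟩ := Ideal.exists_pow_le_of_le_radical_of_fg hrad (IsNoetherian.noetherian _)
  have hsplit : ∀ z ∈ maximalIdeal B ^ N, ∃ a ∈ q', ∃ t, φ z = a + s * t := by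
    intro z hz
    have h1 : φ z ∈ q' ⊔ Ideal.span {s} := hN (by
      have := Ideal.mem_map_of_mem φ hz
      rw [Ideal.map_pow] at this
      exact Ideal.pow_right_mono (map_maximalIdeal_le _) N this)
    obtain ⟨a, ha, w, hw, he⟩ := Submodule.mem_sup.mp h1
    obtain ⟨t, rfl⟩ := Ideal.mem_span_singleton'.mp hw
    exact ⟨a, ha, t, by rw [mul_comm s t, he]⟩
  obtain ⟨a, ha, t, hat⟩ := hsplit (x ^ N) (Ideal.pow_mem_pow hxm N)
  obtain ⟨X, hX⟩ : ∃ X, X = φ (x ^ N) := ⟨_, rfl⟩
  have hXat : X = a + s * t := hX.trans hat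
  set u := s * t with hu
  have hau : a * u ∈ PC := by
    rw [hu, show a * (s * t) = t * (s * a) by ring]; exact PC.mul_mem_left _ (hs a ha)
  have hzu : ∀ z ∈ maximalIdeal B ^ N, ∃ t', φ z * u - X * (s * t') ∈ PC := by
    intro z hz
    obtain ⟨a', ha', t', hz'⟩ := hsplit z hz
    refine ⟨t', ?_⟩
    rw [hz', hXat, hu, show (a' + s * t') * (s * t) - (a + s * t) * (s * t') = t * (s * a') - t' * (s * a) by ring]
    exact sub_mem (PC.mul_mem_left _ (hs a' ha')) (PC.mul_mem_left _ (hs a ha))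
  -- descend `u`
  let I : Ideal B := Ideal.span {x ^ N} ⊔ P
  obtain ⟨G, hG⟩ := (IsNoetherian.noetherian (maximalIdeal B ^ N) : (maximalIdeal B ^ N).FG)
  obtain ⟨k, l, c, hl, hul⟩ := mem_map_colon (C := C) I G u fun z hz => by
    obtain ⟨t', ht'⟩ := hzu z (by rw [← hG]; exact Submodule.subset_span hz)
    rw [show φ z * u = (φ z * u - X * (s * t')) + X * (s * t') by ring]
    refine add_mem (Ideal.map_mono le_sup_right ht') (Ideal.mul_mem_right _ _ ?_)
    rw [hX]
    exact Ideal.mem_map_of_mem _ (Submodule.mem_sup_left (Ideal.mem_span_singleton_self _))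
  have hl' : ∀ i, ∀ z ∈ maximalIdeal B ^ N, z * l i ∈ I := by
    intro i z hz
    rw [← hG] at hz
    induction hz using Submodule.span_induction with
    | mem z hz => exact hl i z hz
    | zero => simp
    | add a b _ _ iha ihb => rw [add_mul]; exact add_mem iha ihb
    | smul r a _ iha => rw [smul_eq_mul, mul_assoc]; exact I.mul_mem_left _ iha
  choose b hb using fun i => happ (N + 1 + N) (c i)
  let u' : B := ∑ i, b i * l i
  have hdiff : ∀ i, (c i - φ (b i)) * φ (l i) ∈ (maximalIdeal B ^ (N + 1) * Ideal.span {x ^ N} ⊔ P).map φ := by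
    intro i
    have h1 : maximalIdeal B ^ (N + 1 + N) * Ideal.span {l i} ≤ maximalIdeal B ^ (N + 1) * Ideal.span {x ^ N} ⊔ P := by
      rw [pow_add, mul_assoc]
      calc _ ≤ maximalIdeal B ^ (N + 1) * I := Ideal.mul_mono_right (Ideal.mul_le.mpr fun z hz w hw => by
            obtain ⟨r, rfl⟩ := Ideal.mem_span_singleton'.mp hw
            rw [mul_left_comm]
            exact I.mul_mem_left _ (hl' i z hz))
        _ ≤ _ := by rw [Ideal.mul_sup]; exact sup_le_sup_left Ideal.mul_le_right _
    refine Ideal.map_mono h1 ?_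
    rw [Ideal.map_mul]
    exact Ideal.mul_mem_mul (hb i) (Ideal.mem_map_of_mem _ (Ideal.mem_span_singleton_self _))
  have hdiff' : u - φ u' ∈ (maximalIdeal B ^ (N + 1) * Ideal.span {x ^ N} ⊔ P).map φ := by
    rw [hul, map_sum, ← Finset.sum_sub_distrib]
    refine sum_mem fun i _ => ?_
    rw [map_mul, ← sub_mul]
    exact hdiff i
  obtain ⟨c₀, hc₀, hcu⟩ : ∃ c₀ ∈ (maximalIdeal B ^ (N + 1)).map φ, u - φ u' - X * c₀ ∈ PC := by
    rw [Ideal.map_sup, Ideal.map_mul, Ideal.map_span, Set.image_singleton] at hdiff'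
    obtain ⟨w, hw, p, hp, he⟩ := Submodule.mem_sup.mp hdiff'
    obtain ⟨c₀, hc₀, rfl⟩ := Ideal.mem_mul_span_singleton.mp hw
    exact ⟨c₀, hc₀, by rw [← he, mul_comm X c₀]; simpa [hX] using hp⟩
  have hmC : ∀ y ∈ maximalIdeal B, φ y ∈ maximalIdeal C := fun y hy => map_maximalIdeal_le _ (Ideal.mem_map_of_mem _ hy)
  obtain ⟨w, hw, hwu⟩ : ∃ w ∈ maximalIdeal C, c₀ * u - X * w ∈ PC := by
    let W : Ideal C :=
      { carrier := {c | ∃ w ∈ maximalIdeal C, c * u - X * w ∈ PC}
        add_mem' := fun {c c'} ⟨w, hw, hc⟩ ⟨w', hw', hc'⟩ => ⟨w + w', add_mem hw hw', by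
          rw [show (c + c') * u - X * (w + w') = (c * u - X * w) + (c' * u - X * w') by ring]
          exact add_mem hc hc'⟩
        zero_mem' := ⟨0, zero_mem _, by simp⟩
        smul_mem' := fun r c ⟨w, hw, hc⟩ => ⟨r * w, Ideal.mul_mem_left _ r hw, by
          rw [smul_eq_mul, show r * c * u - X * (r * w) = r * (c * u - X * w) by ring]
          exact PC.mul_mem_left _ hc⟩ }
    have : (maximalIdeal B ^ (N + 1)).map φ ≤ W := by
      rw [Ideal.map_le_iff_le_comap, pow_succ, Ideal.mul_le]
      intro z hz y hy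
      obtain ⟨t', ht'⟩ := hzu z hz
      refine ⟨φ y * (s * t'), Ideal.mul_mem_right _ _ (hmC y hy), ?_⟩
      rw [map_mul, show φ z * φ y * u - X * (φ y * (s * t')) = φ y * (φ z * u - X * (s * t')) by ring]
      exact PC.mul_mem_left _ ht'
    exact this hc₀
  have hc₀m : c₀ ∈ maximalIdeal C :=
    (Ideal.map_le_iff_le_comap (K := maximalIdeal C)).mpr (fun y hy => hmC y (Ideal.pow_le_self (Nat.succ_ne_zero N) hy)) hc₀
  let d : C := c₀ * c₀ + c₀ - 2 * w
  have hdm : d ∈ maximalIdeal C :=
    sub_mem (add_mem (Ideal.mul_mem_left _ _ hc₀m) hc₀m) (Ideal.mul_mem_left _ _ hw)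
  let e₀ : B := u' * u' - x ^ N * u'
  have he₀ : φ e₀ - X * X * d ∈ PC := by
    rw [show φ e₀ = φ u' * φ u' - X * φ u' by simp [e₀, hX]]
    have h1 : u * u - X * u ∈ PC := by
      rw [hXat, show u * u - (a + s * t) * u = -(a * u) by rw [hu]; ring]
      exact neg_mem hau
    set v := u - φ u' - X * c₀ with hv
    rw [show φ u' = u - X * c₀ - v by rw [hv]; ring,
      show (u - X * c₀ - v) * (u - X * c₀ - v) - X * (u - X * c₀ - v) - X * X * d =
        (u * u - X * u) - 2 * X * (c₀ * u - X * w) + v * (X - 2 * (u - X * c₀) + v) by simp only [d]; ring]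
    exact add_mem (sub_mem h1 (PC.mul_mem_left _ hwu)) (PC.mul_mem_right _ hcu)
  have hxn : ∀ n, x ^ n ∉ P := fun n h => hxP (hPp0.mem_of_pow_mem n h)
  obtain ⟨d₀, hd₀, hd₀m⟩ : ∃ d₀ : B, e₀ - x ^ N * x ^ N * d₀ ∈ P ∧ d₀ ∈ maximalIdeal B := by
    have h2 : φ e₀ ∈ (Ideal.span {x ^ N * x ^ N} ⊔ P).map φ := by
      rw [show φ e₀ = (φ e₀ - X * X * d) + X * X * d by ring]
      refine add_mem (Ideal.map_mono le_sup_right he₀) (Ideal.mul_mem_right _ _ ?_)
      rw [hX, ← map_mul φ (x ^ N) (x ^ N)]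
      exact Ideal.mem_map_of_mem _ (Submodule.mem_sup_left (Ideal.mem_span_singleton_self _))
    have h3 : e₀ ∈ Ideal.span {x ^ N * x ^ N} ⊔ P := by
      rw [← Ideal.comap_map_eq_self_of_faithfullyFlat (B := C) (Ideal.span {x ^ N * x ^ N} ⊔ P)]
      exact h2
    obtain ⟨y, hy, p, hp, he⟩ := Submodule.mem_sup.mp h3
    obtain ⟨d₀, rfl⟩ := Ideal.mem_span_singleton'.mp hy
    refine ⟨d₀, by rw [← he, mul_comm d₀]; simpa using hp, ?_⟩
    have h4 : φ d₀ - d ∈ PC := by
      refine mem_of_mul_mem P (hPp0.mul_notMem (hxn N) (hxn N)) _ ?_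
      rw [show φ (x ^ N * x ^ N) * (φ d₀ - d) = (φ e₀ - X * X * d) - φ p by
        rw [← he, map_add, map_mul φ d₀, map_mul φ (x ^ N) (x ^ N), ← hX]; ring]
      exact sub_mem he₀ (Ideal.mem_map_of_mem _ hp)
    by_contra hd
    have h5 : IsUnit (φ d₀) := ((IsLocalRing.notMem_maximalIdeal).mp hd).map φ
    refine (maximalIdeal.isMaximal C).ne_top (Ideal.eq_top_of_isUnit_mem _ ?_ h5)
    rw [show φ d₀ = (φ d₀ - d) + d by ring]
    exact add_mem (le_maximalIdeal (Ideal.IsPrime.ne_top ‹_›) (hPCQ h4)) hdm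
  obtain ⟨r, hr, hrm⟩ := HenselianLocalRing.is_henselian (R := B)
    (Polynomial.X ^ 2 - Polynomial.X - Polynomial.C d₀) (by monicity!) 0
    (by simpa using hd₀m) (by simp [Polynomial.derivative_pow])
  have hr' : r * r - r - d₀ = 0 := by
    rw [Polynomial.IsRoot.def] at hr
    simpa [sq] using hr
  rw [sub_zero] at hrm
  have hprod : (u' - x ^ N * r) * (u' - x ^ N * (1 - r)) ∈ P := by
    rw [show (u' - x ^ N * r) * (u' - x ^ N * (1 - r)) = (e₀ - x ^ N * x ^ N * d₀) - x ^ N * x ^ N * (r * r - r - d₀) by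
      simp only [e₀]; ring, hr', mul_zero, sub_zero]
    exact hd₀
  have key : ∀ v : C, u - X * v ∈ PC → v * v - v ∈ PC := by
    intro v hv
    refine mem_of_mul_mem P (hPp0.mul_notMem (hxn N) (hxn N)) _ ?_
    rw [map_mul, ← hX, show X * X * (v * v - v) = (-(a * u)) - (u - X * v) * (u + X * v - X) by
      rw [hXat, hu]; ring]
    exact sub_mem (neg_mem hau) (PC.mul_mem_right _ hv)
  rcases hPp0.mem_or_mem hprod with h | h
  · let v : C := φ r + c₀
    have hv : u - X * v ∈ PC := by
      rw [show u - X * v = (u - φ u' - X * c₀) + φ (u' - x ^ N * r) by simp [v, hX]; ring]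
      exact add_mem hcu (Ideal.mem_map_of_mem _ h)
    have hvm : v ∈ maximalIdeal C := add_mem (hmC r hrm) hc₀m
    have hv0 : v ∈ PC := by
      have h1 := key v hv
      rw [show v * v - v = (v - 1) * v by ring] at h1
      refine (Ideal.unit_mul_mem_iff_mem _ ?_).mp h1
      by_contra hc
      have h2 : v - 1 ∈ maximalIdeal C := hc
      exact (maximalIdeal.isMaximal C).ne_top ((Ideal.eq_top_iff_one _).mpr (by simpa using sub_mem hvm h2))
    have huQ : u ∈ Q := hPCQ (by
      rw [show u = (u - X * v) + X * v by ring]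
      exact add_mem hv (PC.mul_mem_left _ hv0))
    have hXQ : X ∈ Q := by rw [hXat]; exact add_mem (hq'Q ha) huQ
    exact hxn N (by rw [← hQP]; show φ (x ^ N) ∈ Q; rw [← hX]; exact hXQ)
  · let v : C := 1 - φ r + c₀
    have hv : u - X * v ∈ PC := by
      rw [show u - X * v = (u - φ u' - X * c₀) + φ (u' - x ^ N * (1 - r)) by simp [v, hX]; ring]
      exact add_mem hcu (Ideal.mem_map_of_mem _ h)
    have hv1 : v - 1 ∈ PC := by
      have h1 := key v hv
      rw [show v * v - v = v * (v - 1) by ring] at h1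
      refine (Ideal.unit_mul_mem_iff_mem _ ?_).mp h1
      by_contra hc
      have h2 : v ∈ maximalIdeal C := hc
      refine (maximalIdeal.isMaximal C).ne_top ((Ideal.eq_top_iff_one _).mpr ?_)
      rw [show (1 : C) = v + φ r - c₀ by simp [v]; ring]
      exact sub_mem (add_mem h2 (hmC r hrm)) hc₀m
    have haP : a ∈ PC := by
      rw [show a = -(u - X * v) - X * (v - 1) by rw [hXat, hu]; ring]
      exact sub_mem (neg_mem hv) (PC.mul_mem_left _ hv1)
    haveI : Algebra.HasGoingDown B C := inferInstance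
    obtain ⟨R, hR, hRp⟩ : ∃ R : Ideal C, R.IsPrime ∧ R.comap φ = p' := by
      obtain ⟨R, hR⟩ := PrimeSpectrum.comap_surjective_of_faithfullyFlat (A := B) (B := C) ⟨p', inferInstance⟩
      exact ⟨R.asIdeal, R.2, congr(($hR).asIdeal)⟩
    have hPR : PC ≤ R := Ideal.map_le_iff_le_comap.mpr (hRp ▸ hPp.le)
    have hsR : s ∈ R := by
      obtain ⟨a', ha', ha'R⟩ : ∃ a' ∈ q', a' ∉ R := by
        by_contra hall
        push Not at hall
        by_cases hRQ : R = Q
        · exact hPp.ne (by rw [← hQP, ← hRp, hRQ])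
        · exact hp' (by rw [← hRp, hcov R hR (hQle R hR hall) hRQ,
            ((IsLocalRing.local_hom_TFAE (algebraMap B C)).out 0 4 rfl rfl).mp ‹IsLocalHom (algebraMap B C)›])
      exact (hR.mem_or_mem (hPR (hs a' ha'))).resolve_right ha'R
    have hXR : X ∈ R := by rw [hXat]; exact add_mem (hPR haP) (R.mul_mem_right _ hsR)
    have h6 : x ^ N ∈ p' := by rw [← hRp]; show φ (x ^ N) ∈ R; rw [← hX]; exact hXR
    exact hxp (hp'p.mem_of_pow_mem N h6)

end Groth.Agent.HenselLib.PunctureSplit
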