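import Groth.Agent.S9459
import Groth.Agent.S9460
import Groth.Agent.HenselLib.QFLocal

/-!
# Henselizations at quasi-finite points
-/

set_option autoImplicit false
set_option linter.all false

universe u

open IsLocalRing TensorProduct

namespace Groth.Agent.HenselLib.QFHens

variable (R : Type u) [CommRing R] (S : Type u) [CommRing S] [Algebra R S] [Algebra.FiniteType R S]
  (p : Ideal R) [p.IsPrime] (q : Ideal S) [q.IsPrime] [q.LiesOver p] [Algebra.QuasiFiniteAt R q]
  (Rh : Type u) [CommRing Rh] [IsLocalRing Rh] [Algebra (Localization.AtPrime p) Rh]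
  [IsLocalHom (algebraMap (Localization.AtPrime p) Rh)] [Algebra R Rh]
  [IsScalarTower R (Localization.AtPrime p) Rh]
  (Sh : Type u) [CommRing Sh] [IsLocalRing Sh] [Algebra (Localization.AtPrime q) Sh]
  [IsLocalHom (algebraMap (Localization.AtPrime q) Sh)] [Algebra S Sh]
  [IsScalarTower S (Localization.AtPrime q) Sh] [Algebra R Sh] [IsScalarTower R S Sh]
  [Algebra Rh Sh] [IsScalarTower R Rh Sh]

omit [Algebra.FiniteType R S] [q.LiesOver p] [Algebra.QuasiFiniteAt R q] [Algebra R S]
  [IsScalarTower R S Sh] [Algebra R Sh] [IsScalarTower R Rh Sh] in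
theorem comap_maximalIdeal_Sh : (maximalIdeal Sh).comap (algebraMap S Sh) = q := by
  ext s
  rw [Ideal.mem_comap, IsScalarTower.algebraMap_apply S (Localization.AtPrime q) Sh,
    IsLocalRing.mem_maximalIdeal, mem_nonunits_iff, isUnit_map_iff, ← mem_nonunits_iff,
    ← IsLocalRing.mem_maximalIdeal, IsLocalization.AtPrime.to_map_mem_maximal_iff _ q]

include S q in
omit [Algebra.FiniteType R S] [Algebra.QuasiFiniteAt R q] in
theorem comap_Rh_Sh
    (hm : (maximalIdeal (Localization.AtPrime p)).map (algebraMap (Localization.AtPrime p) Rh) =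
      maximalIdeal Rh) :
    (maximalIdeal Sh).comap (algebraMap Rh Sh) = maximalIdeal Rh := by
  refine ((maximalIdeal.isMaximal Rh).eq_of_le (Ideal.IsPrime.ne_top inferInstance) ?_).symm
  have hp : (maximalIdeal (Localization.AtPrime p)) = p.map (algebraMap R _) :=
    (Localization.AtPrime.map_eq_maximalIdeal).symm
  rw [← hm, hp, Ideal.map_map, ← IsScalarTower.algebraMap_eq, Ideal.map_le_iff_le_comap,
    Ideal.comap_comap, ← IsScalarTower.algebraMap_eq, IsScalarTower.algebraMap_eq R S Sh,
    ← Ideal.comap_comap, comap_maximalIdeal_Sh S q Sh]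
  exact (q.over_def p).le

/-- The base change prime. -/
abbrev basePrime : Ideal (Rh ⊗[R] S) :=
  Ideal.comap (Algebra.TensorProduct.lift (IsScalarTower.toAlgHom R Rh Sh)
    (IsScalarTower.toAlgHom R S Sh) (fun _ _ => Commute.all _ _)) (maximalIdeal Sh)

include q in
theorem quasiFiniteAt_and_comap
    (hm : (maximalIdeal (Localization.AtPrime p)).map (algebraMap (Localization.AtPrime p) Rh) =
      maximalIdeal Rh) :
    Algebra.QuasiFiniteAt Rh (basePrime R S Rh Sh) ∧
      (basePrime R S Rh Sh).comap (algebraMap Rh (Rh ⊗[R] S)) = maximalIdeal Rh := by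
  refine ⟨Algebra.QuasiFiniteAt.baseChange q _ ?_, ?_⟩
  · ext s
    have h : s ∈ q ↔ algebraMap S Sh s ∈ maximalIdeal Sh := by
      conv_lhs => rw [← comap_maximalIdeal_Sh S q Sh]
      exact Iff.rfl
    simpa using h
  · refine Eq.trans ?_ (comap_Rh_Sh R S p q Rh Sh hm)
    ext r
    simp

include p q in
theorem finite_of_isHenselization [Hensel.IsHenselization (Localization.AtPrime p) Rh]
    [Hensel.IsHenselization (Localization.AtPrime q) Sh] : Module.Finite Rh Sh := by
  have := (inferInstance : Hensel.IsHenselization (Localization.AtPrime p) Rh).henselian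
  obtain ⟨hqf, hcomap⟩ := quasiFiniteAt_and_comap R S p q Rh Sh
    (HensBase.map_maximalIdeal_of_isHenselization _ _)
  let L := Localization.AtPrime (basePrime R S Rh Sh)
  have : HenselianLocalRing L := QFLocal.henselianLocalRing_localization Rh _ hcomap
  have : IsLocalHom (algebraMap L L) := ⟨fun _ h => h⟩
  have := LocalInt.isHenselization_self L
  obtain ⟨e, he⟩ := Groth.Agent.S9459.aux R S p q Rh Sh (basePrime R S Rh Sh)
    (fun _ => Iff.rfl) L
  have hfin := (QFLocal.surjective_and_finite Rh _ hcomap).2
  let e' : L ≃ₐ[Rh] Sh := AlgEquiv.ofRingEquiv (f := e) fun r => by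
    rw [IsScalarTower.algebraMap_apply Rh (Rh ⊗[R] S) L]
    refine (he _).trans ?_
    simp
  exact Module.Finite.equiv e'.toLinearEquiv

include p q in
theorem finite_of_isStrictHenselization [Hensel.IsStrictHenselization (Localization.AtPrime p) Rh]
    [Hensel.IsStrictHenselization (Localization.AtPrime q) Sh] : Module.Finite Rh Sh := by
  have := (inferInstance : Hensel.IsStrictHenselization (Localization.AtPrime p) Rh).henselian
  have : IsSepClosed (ResidueField Rh) :=
    (inferInstance : Hensel.IsStrictHenselization (Localization.AtPrime p) Rh).isSepClosure.sep_closed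
  obtain ⟨hqf, hcomap⟩ := quasiFiniteAt_and_comap R S p q Rh Sh
    (HensBase.map_maximalIdeal_of_isStrictHenselization _ _)
  let L := Localization.AtPrime (basePrime R S Rh Sh)
  have hfin : Module.Finite Rh L := (QFLocal.surjective_and_finite Rh _ hcomap).2
  have : HenselianLocalRing L := QFLocal.henselianLocalRing_localization Rh _ hcomap
  have : IsLocalHom (algebraMap Rh L) := LocalInt.isLocalHom_of_isIntegral Rh L
  have : IsSepClosed (ResidueField L) := LocalInt.isSepClosed_residueField Rh L
  have : IsLocalHom (algebraMap L L) := ⟨fun _ h => h⟩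
  have := LocalInt.isStrictHenselization_self L
  obtain ⟨e, he⟩ := Groth.Agent.S9460.aux R S p q Rh Sh (basePrime R S Rh Sh)
    (fun _ => Iff.rfl) L
  let e' : L ≃ₐ[Rh] Sh := AlgEquiv.ofRingEquiv (f := e) fun r => by
    rw [IsScalarTower.algebraMap_apply Rh (Rh ⊗[R] S) L]
    refine (he _).trans ?_
    simp
  exact Module.Finite.equiv e'.toLinearEquiv

end Groth.Agent.HenselLib.QFHens
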