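import Mathlib.RingTheory.AdjoinRoot
import Mathlib.RingTheory.Polynomial.ScaleRoots
import Mathlib.RingTheory.Finiteness.Basic
import Mathlib.RingTheory.FinitePresentation
import Mathlib.RingTheory.Flat.Basic
import Mathlib.LinearAlgebra.FiniteDimensional.Basic
import Mathlib.RingTheory.IntegralClosure.IsIntegral.Basic
import Mathlib.RingTheory.LocalRing.ResidueField.Ideal

/-!
# Realizing finite residue field extensions by finite free algebras
-/

set_option autoImplicit false
universe u

open Polynomial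

namespace Groth.Agent.HenselLib.Realize

variable {A K : Type u} [CommRing A] [Field K] (φ : A →+* K)

/-- Every element is a fraction of elements in the image. -/
def Dense : Prop := ∀ x : K, ∃ a b : A, φ b ≠ 0 ∧ φ b * x = φ a

variable {φ}

theorem exists_den (hφ : Dense φ) (s : Finset K) :
    ∃ c : A, φ c ≠ 0 ∧ ∀ x ∈ s, ∃ a, φ c * x = φ a := by
  classical
  induction s using Finset.induction with
  | empty => exact ⟨1, by simp, by simp⟩
  | insert y s _ ih =>
    obtain ⟨c, hc, hs⟩ := ih
    obtain ⟨a, b, hb, hy⟩ := hφ y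
    refine ⟨c * b, by simp [hc, hb], fun x hx => ?_⟩
    rcases Finset.mem_insert.mp hx with rfl | hx
    · exact ⟨c * a, by rw [map_mul, map_mul, mul_assoc, hy]⟩
    · obtain ⟨a', ha'⟩ := hs x hx
      exact ⟨b * a', by rw [map_mul, map_mul, ← ha']; ring⟩

theorem exists_monic_root (hφ : Dense φ) {L : Type u} [Field L] [Algebra K L] (x : L) (hx : IsIntegral K x) :
    ∃ (c : A) (f : A[X]), φ c ≠ 0 ∧ f.Monic ∧
      f.eval₂ ((algebraMap K L).comp φ) (algebraMap K L (φ c) * x) = 0 := by
  classical
  let m := minpoly K x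
  obtain ⟨c, hc, hcs⟩ := exists_den hφ ((Finset.range m.natDegree).image m.coeff)
  have hl : m.scaleRoots (φ c) ∈ Polynomial.lifts φ := (Polynomial.lifts_iff_coeff_lifts _).mpr fun i => by
    rcases lt_trichotomy i m.natDegree with h | h | h
    · obtain ⟨a, ha⟩ := hcs (m.coeff i) (Finset.mem_image_of_mem _ (Finset.mem_range.mpr h))
      refine ⟨a * c ^ (m.natDegree - i - 1), ?_⟩
      obtain ⟨j, hj⟩ : ∃ j, m.natDegree - i = j + 1 := ⟨m.natDegree - i - 1, by omega⟩
      rw [map_mul, map_pow, ← ha, coeff_scaleRoots, hj, Nat.add_sub_cancel, pow_succ]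
      ring
    · subst h
      exact ⟨1, by rw [map_one, coeff_scaleRoots, (minpoly.monic hx).coeff_natDegree, one_mul, Nat.sub_self, pow_zero]⟩
    · exact ⟨0, by rw [map_zero, coeff_scaleRoots, coeff_eq_zero_of_natDegree_lt h, zero_mul]⟩
  obtain ⟨f, hf, -, hfm⟩ := Polynomial.lifts_and_natDegree_eq_and_monic hl
    ((Polynomial.monic_scaleRoots_iff _).mpr (minpoly.monic hx))
  refine ⟨c, f, hc, hfm, ?_⟩
  rw [← eval₂_map, hf, ← aeval_def]
  exact scaleRoots_aeval_eq_zero (minpoly.aeval K x)

theorem exists_finite_free (hφ : Dense φ) {L : Type u} [Field L] [Algebra K L] [Module.Finite K L] :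
    ∃ (B : Type u) (_ : CommRing B) (_ : Algebra A B) (ψ : B →+* L),
      Algebra.FinitePresentation A B ∧ Module.Flat A B ∧
      ψ.comp (algebraMap A B) = (algebraMap K L).comp φ ∧ Dense ψ := by
  classical
  have key : ∀ s : Finset L, ∃ (B : Type u) (_ : CommRing B) (_ : Algebra A B) (ψ : B →+* L),
      Algebra.FinitePresentation A B ∧ Module.Free A B ∧
      ψ.comp (algebraMap A B) = (algebraMap K L).comp φ ∧
      ∀ x ∈ s, ∃ a b : B, ψ b ≠ 0 ∧ ψ b * x = ψ a := by
    intro s
    induction s using Finset.induction with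
    | empty => exact ⟨A, inferInstance, Algebra.id A, (algebraMap K L).comp φ, inferInstance, inferInstance, rfl, by simp⟩
    | insert y s _ ih =>
      obtain ⟨B, _, _, ψ, hB, hBfree, hψ, hs⟩ := ih
      obtain ⟨c, f, hc, hf, hfy⟩ := exists_monic_root hφ y (IsIntegral.of_finite K y)
      let g := f.map (algebraMap A B)
      haveI : Module.Free B (AdjoinRoot g) := (hf.map _).free_adjoinRoot
      haveI : Algebra.FinitePresentation B (AdjoinRoot g) := inferInstance
      let ψ' : AdjoinRoot g →+* L := AdjoinRoot.lift ψ (algebraMap K L (φ c) * y)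
        (by rw [eval₂_map, hψ]; exact hfy)
      refine ⟨AdjoinRoot g, inferInstance, inferInstance, ψ', Algebra.FinitePresentation.trans A B _,
        Module.Free.trans (R := A) (S := B), ?_, fun x hx => ?_⟩
      · rw [← hψ]
        ext a
        simp only [RingHom.comp_apply, IsScalarTower.algebraMap_apply A B (AdjoinRoot g),
          AdjoinRoot.algebraMap_eq, ψ', AdjoinRoot.lift_of]
      · rcases Finset.mem_insert.mp hx with rfl | hx
        · refine ⟨AdjoinRoot.root g, AdjoinRoot.of g (algebraMap A B c), ?_, ?_⟩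
          · simp only [ψ', AdjoinRoot.lift_of]
            rw [← RingHom.comp_apply, hψ]
            simpa using hc
          · simp only [ψ', AdjoinRoot.lift_of, AdjoinRoot.lift_root]
            rw [← RingHom.comp_apply, hψ]
            rfl
        · obtain ⟨a, b, hb, hab⟩ := hs x hx
          exact ⟨AdjoinRoot.of g a, AdjoinRoot.of g b, by simpa [ψ'] using hb, by simpa [ψ'] using hab⟩
  obtain ⟨s, hs⟩ := Module.Finite.fg_top (R := K) (M := L)
  obtain ⟨B, _, _, ψ, hB, hBfree, hψ, hmem⟩ := key s
  refine ⟨B, inferInstance, inferInstance, ψ, hB, inferInstance, hψ, fun x => ?_⟩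
  have hx : x ∈ Submodule.span K (s : Set L) := hs ▸ Submodule.mem_top
  induction hx using Submodule.span_induction with
  | mem x hx => exact hmem x hx
  | zero => exact ⟨0, 1, by simp, by simp⟩
  | add x y _ _ hx hy =>
    obtain ⟨a, b, hb, hab⟩ := hx
    obtain ⟨a', b', hb', hab'⟩ := hy
    refine ⟨a * b' + a' * b, b * b', by simp [hb, hb'], ?_⟩
    simp only [map_add, map_mul, ← hab, ← hab']
    ring
  | smul r x _ hx =>
    obtain ⟨a, b, hb, hab⟩ := hx
    obtain ⟨u, v, hv, huv⟩ := hφ r
    have hc : ∀ t, ψ (algebraMap A B t) = algebraMap K L (φ t) := fun t => congrArg (fun h : A →+* L => h t) hψ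
    refine ⟨algebraMap A B u * a, algebraMap A B v * b, by simp [hc, hb, hv], ?_⟩
    simp only [map_mul, hc, ← huv, ← hab, Algebra.smul_def]
    ring

theorem surjective_localRingHom {B L : Type u} [CommRing B] [Field L] {ψ : B →+* L} [(RingHom.ker ψ).IsPrime] (hψ : Dense ψ)
    (θ : Localization.AtPrime (RingHom.ker ψ) →+* L)
    (hθ : θ.comp (algebraMap B (Localization.AtPrime (RingHom.ker ψ))) = ψ) : Function.Surjective θ := by
  intro x
  obtain ⟨a, b, hb, hab⟩ := hψ x
  refine ⟨IsLocalization.mk' _ a (⟨b, hb⟩ : (RingHom.ker ψ).primeCompl), ?_⟩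
  have h := congrArg θ (IsLocalization.mk'_spec (Localization.AtPrime (RingHom.ker ψ)) a
    (⟨b, hb⟩ : (RingHom.ker ψ).primeCompl))
  have hc : ∀ t, θ (algebraMap _ _ t) = ψ t := fun t => congrArg (fun g : B →+* L => g t) hθ
  rw [map_mul, hc, hc, ← hab] at h
  exact mul_left_cancel₀ hb (by rw [mul_comm]; exact h)

end Groth.Agent.HenselLib.Realize
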