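import Groth.Agent.FlatLocal.StalkCrit

/-!
# The residue extension at an unramified point
-/

set_option autoImplicit false
set_option backward.isDefEq.respectTransparency.types false
universe u

namespace Groth.Agent.HenselLib

open CategoryTheory AlgebraicGeometry

/-- The residue extension at an unramified point is finite separable. -/
theorem finite_residueFieldMap {X Y : Scheme.{u}} (f : X ⟶ Y) [LocallyOfFiniteType f] (x : X)
    (h : (f.stalkMap x).hom.FormallyUnramified) :
    letI := (f.residueFieldMap x).hom.toAlgebra
    Module.Finite (Y.residueField (f x)) (X.residueField x) := by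
  algebraize [(f.stalkMap x).hom]
  haveI : IsLocalHom (algebraMap (Y.presheaf.stalk (f x)) (X.presheaf.stalk x)) :=
    inferInstanceAs <| IsLocalHom (f.stalkMap x).hom
  haveI : Algebra.EssFiniteType (Y.presheaf.stalk (f x)) (X.presheaf.stalk x) := by
    rw [← RingHom.essFiniteType_algebraMap, RingHom.algebraMap_toAlgebra]
    exact LocallyOfFiniteType.stalkMap f x
  have hfin : Module.Finite (IsLocalRing.ResidueField (Y.presheaf.stalk (f x)))
      (IsLocalRing.ResidueField (X.presheaf.stalk x)) := inferInstance
  have he : (inferInstance : Algebra (IsLocalRing.ResidueField (Y.presheaf.stalk (f x)))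
      (IsLocalRing.ResidueField (X.presheaf.stalk x))) = (f.residueFieldMap x).hom.toAlgebra := by
    refine Algebra.algebra_ext _ _ fun z ↦ ?_
    obtain ⟨z, rfl⟩ := IsLocalRing.residue_surjective z
    rfl
  exact (iff_of_eq (congrArg (fun a : Algebra (IsLocalRing.ResidueField (Y.presheaf.stalk (f x)))
      (IsLocalRing.ResidueField (X.presheaf.stalk x)) =>
      @Module.Finite _ _ _ _ (@Algebra.toModule _ _ _ _ a)) he)).mp hfin

end Groth.Agent.HenselLib
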