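import Groth.Agent.HenselLib.HullProps
import Groth.Agent.HenselLib.HensBase
import Groth.Agent.HenselLib.LocalInt
import Groth.Agent.CAlgH.EtaleOfCompletionIso
import Groth.Agent.CommAlg6.CompletionEquidim
import Groth.Agent.Matlis6.CompletionNoetherian
import Groth.Prelude.Def_Hensel

/-!
# Strict henselizations of a Noetherian local ring and of its completion
-/

set_option autoImplicit false
set_option linter.all false

universe u

open IsLocalRing

namespace Groth.Agent.HenselLib.StrictCompletion

theorem isNoetherianRing_sh (R S : Type u) [CommRing R] [IsLocalRing R] [IsNoetherianRing R] [CommRing S]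
    [IsLocalRing S] [Algebra R S] [IsLocalHom (algebraMap R S)] [Hensel.IsStrictHenselization R S] :
    IsNoetherianRing S := by
  obtain ⟨e⟩ := exists_equiv_localSH (R := R) S
  haveI := isNoetherianRing_localSH (R := R)
  exact isNoetherianRing_of_ringEquiv _ e.toRingEquiv

theorem flat_of_comap_pow {B C : Type u} [CommRing B] [IsLocalRing B] [IsNoetherianRing B] [CommRing C] [IsLocalRing C]
    [IsNoetherianRing C] (g : B →+* C) [IsLocalHom g] (hker : ∀ j, (maximalIdeal C ^ j).comap g = maximalIdeal B ^ j)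
    (hres : ∀ z : C, ∃ b, z - g b ∈ maximalIdeal C) (hmap : (maximalIdeal B).map g = maximalIdeal C) : g.Flat := by
  letI := g.toAlgebra
  haveI : IsLocalHom (algebraMap B C) := ‹IsLocalHom g›
  haveI := CAlgH.EtaleApprox.isAdicComplete_cpl C
  haveI := CAlgH.isLocalHom_algebraMap_cpl C
  have hmT : (maximalIdeal C).map (algebraMap C (EGA4.Cpl C)) = maximalIdeal (EGA4.Cpl C) :=
    AdicCompletion.maximalIdeal_eq_map.symm
  have hCflat : (algebraMap C (EGA4.Cpl C)).Flat :=
    RingHom.flat_algebraMap_iff.2 (AdicCompletion.flat_of_isNoetherian _)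
  obtain ⟨e, he⟩ := CAlgH.completion_equiv_of_quotients (maximalIdeal B) (maximalIdeal (EGA4.Cpl C))
    (algebraMap B (EGA4.Cpl C))
    (fun j => by
      rw [IsScalarTower.algebraMap_eq B C (EGA4.Cpl C), ← Ideal.comap_comap,
        CAlgH.comap_pow_eq_of_flat _ hCflat hmT j]
      exact hker j)
    (fun j y => by
      obtain ⟨c, hc⟩ := CAlgH.EtaleApprox.exists_sub_mem C j y
      obtain ⟨b, hb⟩ := CAlgH.exists_sub_mem_pow g hmap hres j c
      refine ⟨b, ?_⟩
      have h2 := Ideal.mem_map_of_mem (algebraMap C (EGA4.Cpl C)) hb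
      rw [Ideal.map_pow, hmT, map_sub] at h2
      rw [IsScalarTower.algebraMap_apply B C (EGA4.Cpl C),
        show y - algebraMap C (EGA4.Cpl C) (algebraMap B C b) =
          (y - algebraMap C (EGA4.Cpl C) c) + (algebraMap C (EGA4.Cpl C) c - algebraMap C (EGA4.Cpl C) (g b)) by
          rw [show algebraMap B C b = g b from rfl]; ring]
      exact add_mem hc h2)
  haveI : Module.Flat B (EGA4.Cpl B) := AdicCompletion.flat_of_isNoetherian _
  haveI : Module.Flat B (EGA4.Cpl C) :=
    Module.Flat.of_linearEquiv ({ e with commutes' := he } : EGA4.Cpl B ≃ₐ[B] EGA4.Cpl C).symm.toLinearEquiv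
  haveI : Module.FaithfullyFlat C (EGA4.Cpl C) :=
    haveI : Module.Flat C (EGA4.Cpl C) := AdicCompletion.flat_of_isNoetherian _
    Module.FaithfullyFlat.of_flat_of_isLocalHom
  exact RingHom.flat_algebraMap_iff.2 (CAlgH.flat_of_comp_faithfullyFlat B C (EGA4.Cpl C))

theorem exists_map (A : Type u) [CommRing A] [IsNoetherianRing A] [IsLocalRing A]
    (S : Type u) [CommRing S] [IsLocalRing S] [Algebra A S] [IsLocalHom (algebraMap A S)]
    [hS : Hensel.IsStrictHenselization A S]
    (T : Type u) [CommRing T] [IsLocalRing T] [Algebra (AdicCompletion (maximalIdeal A) A) T]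
    [IsLocalHom (algebraMap (AdicCompletion (maximalIdeal A) A) T)]
    [hT : Hensel.IsStrictHenselization (AdicCompletion (maximalIdeal A) A) T] :
    ∃ g : S →+* T, IsLocalHom g ∧ g.Flat ∧
      g.comp (algebraMap A S) = (algebraMap (AdicCompletion (maximalIdeal A) A) T).comp
        (algebraMap A (AdicCompletion (maximalIdeal A) A)) ∧
      ∀ (N : ℕ) (c : T), ∃ b : S, c - g b ∈ (maximalIdeal S ^ N).map g := by
  let Ah := AdicCompletion (maximalIdeal A) A
  haveI : IsNoetherianRing Ah := Groth.Agent.Matlis6.isNoetherianRing_adicCompletion _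
  haveI : IsLocalHom (algebraMap A Ah) := CommAlg6.isLocalHom_completion A
  haveI : IsNoetherianRing S := isNoetherianRing_sh A S
  haveI : IsNoetherianRing T := isNoetherianRing_sh Ah T
  haveI := hT.henselian
  haveI := hS.henselian
  let f : A →+* T := (algebraMap Ah T).comp (algebraMap A Ah)
  haveI hf : IsLocalHom f := inferInstanceAs (IsLocalHom ((algebraMap Ah T).comp (algebraMap A Ah)))
  -- residue fields
  have hApx : ∀ (j : ℕ) (y : Ah), ∃ a, y - algebraMap A Ah a ∈ maximalIdeal Ah ^ j :=
    fun j y => CAlgH.EtaleApprox.exists_sub_mem A j y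
  letI alg : Algebra (ResidueField A) (ResidueField T) := (ResidueField.map f).toAlgebra
  let q : ResidueField A ≃+* ResidueField Ah := RingEquiv.ofBijective (ResidueField.map (algebraMap A Ah))
    ⟨(ResidueField.map (algebraMap A Ah)).injective, fun y => by
      obtain ⟨y, rfl⟩ := residue_surjective y
      obtain ⟨a, ha⟩ := hApx 1 y
      rw [pow_one] at ha
      exact ⟨residue A a, (Ideal.Quotient.eq.mpr ha).symm⟩⟩
  haveI hsep : IsSepClosure (ResidueField A) (ResidueField T) := by
    haveI := hT.isSepClosure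
    refine ⟨IsSepClosure.sep_closed (ResidueField Ah), ?_⟩
    exact Algebra.IsSeparable.of_equiv_equiv q.symm (RingEquiv.refl (ResidueField T)) (RingHom.ext fun x => by
      obtain ⟨x, rfl⟩ := q.surjective x
      obtain ⟨a, rfl⟩ := residue_surjective x
      simp only [RingHom.comp_apply, RingEquiv.coe_toRingHom, q.symm_apply_apply, RingEquiv.refl_apply]
      rfl)
  haveI := hS.isSepClosure
  let e := IsSepClosure.equiv (ResidueField A) (ResidueField S) (ResidueField T)
  obtain ⟨g, ⟨hg, hgres⟩, -⟩ := hS.universal T f e.toRingEquiv.toRingHom (RingHom.ext fun x => e.commutes x)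
  haveI hgl : IsLocalHom g := ⟨fun x hx => by
    by_contra hxu
    have h1 : residue S x = 0 := (residue_eq_zero_iff x).mpr hxu
    have h2 := hgres x
    rw [h1, map_zero, residue_eq_zero_iff] at h2
    exact h2 hx⟩
  have hmap : (maximalIdeal S).map g = maximalIdeal T := by
    rw [← HensBase.map_maximalIdeal_of_isStrictHenselization A S, Ideal.map_map, hg,
      ← HensBase.map_maximalIdeal_of_isStrictHenselization Ah T]
    show (maximalIdeal A).map ((algebraMap Ah T).comp (algebraMap A Ah)) = _
    rw [← Ideal.map_map, ← AdicCompletion.maximalIdeal_eq_map]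
  have hres : ∀ z : T, ∃ b, z - g b ∈ maximalIdeal T := fun z => by
    obtain ⟨b, hb⟩ := residue_surjective (e.symm (residue T z))
    refine ⟨b, Ideal.Quotient.eq.mp ?_⟩
    show residue T z = residue T (g b)
    rw [hgres, hb]
    exact (e.apply_symm_apply _).symm
  -- retractions modulo powers
  have hker : ∀ j, (maximalIdeal T ^ j).comap g = maximalIdeal S ^ j := by
    intro j
    refine le_antisymm ?_ (by rw [← Ideal.map_le_iff_le_comap, Ideal.map_pow, hmap])
    rcases Nat.eq_zero_or_pos j with rfl | hj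
    · simp
    let J := maximalIdeal S ^ j
    have hJ : J ≠ ⊤ := ne_top_of_le_ne_top (maximalIdeal.isMaximal S).ne_top (Ideal.pow_le_self hj.ne')
    haveI : Nontrivial (S ⧸ J) := Ideal.Quotient.nontrivial_iff.mpr hJ
    haveI : IsLocalRing (S ⧸ J) := .of_surjective' (Ideal.Quotient.mk J) Ideal.Quotient.mk_surjective
    haveI : HenselianLocalRing (S ⧸ J) := henselianLocalRing_of_isIntegral S (S ⧸ J)
    haveI : IsLocalHom (Ideal.Quotient.mk J) := IsLocalHom.of_surjective _ Ideal.Quotient.mk_surjective
    haveI hml : IsLocalHom ((Ideal.Quotient.mk J).comp (algebraMap A S)) := inferInstance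
    let φ₀ : A →+* S ⧸ J := (Ideal.Quotient.mk J).comp (algebraMap A S)
    have hφ₀ : ∀ a ∈ maximalIdeal A ^ j, φ₀ a = 0 := fun a ha => by
      refine Ideal.Quotient.eq_zero_iff_mem.mpr ?_
      have := Ideal.mem_map_of_mem (algebraMap A S) ha
      rwa [Ideal.map_pow, HensBase.map_maximalIdeal_of_isStrictHenselization A S] at this
    let ψ : Ah →+* S ⧸ J :=
      (Ideal.Quotient.lift (maximalIdeal A ^ j) φ₀ hφ₀).comp (AdicCompletion.evalₐ (maximalIdeal A) j).toRingHom
    have hψ : ψ.comp (algebraMap A Ah) = φ₀ := RingHom.ext fun a => by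
      simp only [ψ, RingHom.comp_apply, AlgHom.toRingHom_eq_coe, RingHom.coe_coe, AlgHom.commutes]
      exact Ideal.Quotient.lift_mk _ _ _
    haveI : IsLocalHom ψ := ((local_hom_TFAE ψ).out 0 2 rfl rfl).mpr (by
      rw [show maximalIdeal Ah = (maximalIdeal A).map (algebraMap A Ah) from AdicCompletion.maximalIdeal_eq_map,
        Ideal.map_map, hψ]
      exact ((local_hom_TFAE φ₀).out 0 2 rfl rfl).mp hml)
    let σ : ResidueField T →+* ResidueField (S ⧸ J) :=
      (ResidueField.map (Ideal.Quotient.mk J)).comp e.symm.toRingEquiv.toRingHom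
    have hσ : ∀ s, σ (residue T (g s)) = residue (S ⧸ J) (Ideal.Quotient.mk J s) := fun s => by
      rw [hgres]
      show ResidueField.map (Ideal.Quotient.mk J) (e.symm (e (residue S s))) = _
      rw [e.symm_apply_apply]
      rfl
    obtain ⟨h, ⟨hh, hhres⟩, -⟩ := hT.universal (S ⧸ J) ψ σ (RingHom.ext fun x => by
      obtain ⟨x, rfl⟩ := q.surjective x
      obtain ⟨a, rfl⟩ := residue_surjective x
      show σ (residue T (algebraMap Ah T (algebraMap A Ah a))) = residue (S ⧸ J) (ψ (algebraMap A Ah a))
      rw [show algebraMap Ah T (algebraMap A Ah a) = g (algebraMap A S a) from congr($(hg.symm) a), hσ,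
        show ψ (algebraMap A Ah a) = φ₀ a from congr($hψ a)]
      rfl)
    have hcomp : h.comp g = Ideal.Quotient.mk J :=
      (hS.universal (S ⧸ J) ((Ideal.Quotient.mk J).comp (algebraMap A S)) (ResidueField.map (Ideal.Quotient.mk J))
        (RingHom.ext fun x => by obtain ⟨a, rfl⟩ := residue_surjective x; rfl)).unique
        ⟨by rw [RingHom.comp_assoc, hg, ← RingHom.comp_assoc, hh]; exact hψ, fun s => by
          show residue (S ⧸ J) (h (g s)) = _
          rw [hhres, hσ]
          rfl⟩ ⟨rfl, fun s => rfl⟩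
    intro s hs
    have h1 : h (g s) ∈ (maximalIdeal T ^ j).map h := Ideal.mem_map_of_mem _ hs
    rw [← hmap, ← Ideal.map_pow, Ideal.map_map, hcomp, Ideal.map_quotient_self, Ideal.mem_bot] at h1
    exact Ideal.Quotient.eq_zero_iff_mem.mp (congr($hcomp s).symm.trans h1)
  refine ⟨g, hgl, flat_of_comap_pow g hker hres hmap, hg, fun N c => ?_⟩
  obtain ⟨b, hb⟩ := CAlgH.exists_sub_mem_pow g hmap hres N c
  exact ⟨b, by rwa [Ideal.map_pow, hmap]⟩

end Groth.Agent.HenselLib.StrictCompletion
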