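import Mathlib.NumberTheory.RamificationInertia.Galois
import Mathlib.RingTheory.RamificationInertia.Ramification
import Mathlib.RingTheory.DedekindDomain.Ideal.Lemmas
import Mathlib.RingTheory.Filtration
import Mathlib.RingTheory.Ideal.Cotangent
import Mathlib.RingTheory.Etale.Field
import Mathlib.RingTheory.Unramified.Field
import Mathlib.RingTheory.RootsOfUnity.Basic
import Mathlib.GroupTheory.PGroup
import Mathlib.GroupTheory.Perm.Cycle.Type
import Mathlib.RingTheory.Invariant.Galois
import Mathlib.Data.Nat.Factorization.Basic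

/-!
# Wild and tame inertia
-/

set_option autoImplicit false
universe u

open scoped Pointwise
open Ideal

namespace Groth.Agent.HenselLib.TameInertia

section Filtration

variable {B : Type u} [CommRing B] (m : Ideal B) {G : Type u} [Group G] [MulSemiringAction G B]

/-- `σ` acts trivially on `m ^ i / m ^ (i+1)` when it does so on `B / m` and `m / m ^ 2`. -/
theorem sub_mem_pow_succ {σ : G} (h1 : σ ∈ m.inertia G) (h2 : ∀ a ∈ m, σ • a - a ∈ m ^ 2) :
    ∀ (i : ℕ), ∀ δ ∈ m ^ i, σ • δ - δ ∈ m ^ (i + 1) := by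
  intro i
  induction i with
  | zero => intro δ _; rw [zero_add, pow_one]; exact h1 δ
  | succ i ih =>
    intro δ hδ
    rw [pow_succ'] at hδ
    induction hδ using Submodule.mul_induction_on' with
    | mem_mul_mem a ha b hb =>
      have hσb : σ • b ∈ m ^ i := by
        have := (m ^ i).add_mem (Ideal.pow_le_pow_right (Nat.le_succ i) (ih b hb)) hb
        rwa [sub_add_cancel] at this
      have e : σ • (a * b) - a * b = (σ • a - a) * (σ • b) + a * (σ • b - b) := by
        rw [smul_mul']; ring
      rw [e]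
      refine (m ^ (i + 1 + 1)).add_mem ?_ ?_
      · have := Ideal.mul_mem_mul (h2 a ha) hσb
        rwa [← pow_add, show 2 + i = i + 1 + 1 by omega] at this
      · have := Ideal.mul_mem_mul ha (ih b hb)
        rwa [← pow_succ'] at this
    | add x _ y _ hx hy =>
      rw [smul_add, add_sub_add_comm]
      exact Submodule.add_mem _ hx hy

theorem inertia_sq_le : (m ^ 2).inertia G ≤ m.inertia G :=
  fun _ h x => Ideal.pow_le_self two_ne_zero (h x)

theorem mem_pow_of_smul {σ : G} (hσ : σ ∈ (m ^ 2).inertia G) (n : ℕ) (hn : IsUnit (Ideal.Quotient.mk m (n : B)))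
    (hone : σ ^ n = 1) [m.IsMaximal] : ∀ i : ℕ, ∀ x : B, σ • x - x ∈ m ^ i := by
  intro i
  induction i with
  | zero => intro x; simp
  | succ i ih =>
    intro x
    have hstep := sub_mem_pow_succ m (inertia_sq_le m hσ) (fun a _ => hσ a) i
    have hk : ∀ k : ℕ, σ ^ k • x - x - (k : B) * (σ • x - x) ∈ m ^ (i + 1) := by
      intro k
      induction k with
      | zero => simp
      | succ k ihk =>
        have hd : σ ^ k • x - x ∈ m ^ i := by
          have := (m ^ i).add_mem (Ideal.pow_le_pow_right (Nat.le_succ i) ihk) ((m ^ i).mul_mem_left (k : B) (ih x))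
          rwa [sub_add_cancel] at this
        have h := hstep _ hd
        have e : σ ^ (k + 1) • x - x - ((k + 1 : ℕ) : B) * (σ • x - x) =
            (σ • (σ ^ k • x - x) - (σ ^ k • x - x)) + (σ ^ k • x - x - (k : B) * (σ • x - x)) := by
          rw [pow_succ', mul_smul, smul_sub]; push_cast; ring
        rw [e]
        exact (m ^ (i + 1)).add_mem h ihk
    have h := hk n
    rw [hone, one_smul, sub_self, zero_sub, neg_mem_iff] at h
    obtain ⟨c, hc⟩ := hn.exists_left_inv
    obtain ⟨c, rfl⟩ := Ideal.Quotient.mk_surjective c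
    rw [← map_mul, ← map_one (Ideal.Quotient.mk m), Ideal.Quotient.eq] at hc
    have e : σ • x - x = c * ((n : B) * (σ • x - x)) - (c * (n : B) - 1) * (σ • x - x) := by ring
    rw [e]
    refine (m ^ (i + 1)).sub_mem ((m ^ (i + 1)).mul_mem_left _ h) ?_
    rw [pow_succ']
    exact Ideal.mul_mem_mul hc (ih x)

theorem eq_one_of_pow_eq_one [IsDomain B] [IsNoetherianRing B] [m.IsMaximal] [FaithfulSMul G B] {σ : G}
    (hσ : σ ∈ (m ^ 2).inertia G) (n : ℕ) (hn : IsUnit (Ideal.Quotient.mk m (n : B))) (hone : σ ^ n = 1) :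
    σ = 1 := by
  refine eq_of_smul_eq_smul fun x : B => ?_
  have : σ • x - x ∈ ⨅ i : ℕ, m ^ i := by
    rw [Submodule.mem_iInf]
    exact fun i => mem_pow_of_smul m hσ n hn hone i x
  have hz := (Ideal.iInf_pow_eq_bot_of_isDomain (I := m) (IsMaximal.ne_top ‹_›)).le this
  rw [Ideal.mem_bot, sub_eq_zero] at hz
  rw [hz, one_smul]

/-- In the separable residue field case, fixing a uniformizer modulo `m ^ 2` suffices. -/
theorem mem_inertia_sq (A : Type u) [CommRing A] [Algebra A B] [SMulCommClass G A B]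
    [Algebra.FormallyUnramified A (B ⧸ m)] {π : B} (hπ : π ∈ m)
    (hgen : m ≤ Ideal.span {π} ⊔ m ^ 2) {σ : G} (h1 : σ ∈ m.inertia G) (h2 : σ • π - π ∈ m ^ 2) :
    σ ∈ (m ^ 2).inertia G := by
  have hsq : ∀ a ∈ m ^ 2, σ • a - a ∈ m ^ 2 := by
    intro a ha
    rw [pow_two] at ha
    induction ha using Submodule.mul_induction_on' with
    | mem_mul_mem a ha b hb =>
      have hσb : σ • b ∈ m := by
        have := m.add_mem (h1 b) hb
        rwa [sub_add_cancel] at this
      have e : σ • (a * b) - a * b = (σ • a - a) * (σ • b) + a * (σ • b - b) := by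
        rw [smul_mul']; ring
      rw [e, pow_two]
      exact (m * m).add_mem (Ideal.mul_mem_mul (h1 a) hσb) (Ideal.mul_mem_mul ha (h1 b))
    | add x _ y _ hx hy =>
      rw [smul_add, add_sub_add_comm]
      exact Submodule.add_mem _ hx hy
  have hlin : ∀ a ∈ m, σ • a - a ∈ m ^ 2 := by
    intro a ha
    obtain ⟨_, hb, c, hc, rfl⟩ := Submodule.mem_sup.mp (hgen ha)
    obtain ⟨b, rfl⟩ := Ideal.mem_span_singleton'.mp hb
    have e : σ • (b * π + c) - (b * π + c) = σ • b * (σ • π - π) + (σ • b - b) * π + (σ • c - c) := by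
      rw [smul_add, smul_mul']; ring
    rw [e]
    refine (m ^ 2).add_mem ((m ^ 2).add_mem ((m ^ 2).mul_mem_left _ h2) ?_) (hsq c hc)
    rw [pow_two]
    exact Ideal.mul_mem_mul (h1 b) hπ
  let g₀ : B →ₗ[A] m :=
    { toFun := fun x => ⟨σ • x - x, h1 x⟩
      map_add' := fun x y => Subtype.ext (by
        show σ • (x + y) - (x + y) = (σ • x - x) + (σ • y - y)
        rw [smul_add]; ring)
      map_smul' := fun a x => Subtype.ext (by
        show σ • (a • x) - a • x = a • (σ • x - x)
        rw [smul_comm, smul_sub]) }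
  let f : B →ₗ[A] m.Cotangent := (m.toCotangent.restrictScalars A).comp g₀
  haveI : IsScalarTower A (B ⧸ m) m.Cotangent := by
    refine IsScalarTower.of_algebraMap_smul fun a c => ?_
    obtain ⟨y, rfl⟩ := m.toCotangent_surjective c
    rw [← IsScalarTower.algebraMap_smul B a (m.toCotangent y)]
    rfl
  have hker : ∀ x ∈ (Submodule.restrictScalars A m), f x = 0 := fun x hx => by
    show m.toCotangent ⟨σ • x - x, h1 x⟩ = 0
    exact (m.toCotangent_eq_zero _).mpr (hlin x hx)
  let fb : (B ⧸ m) →ₗ[A] m.Cotangent :=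
    ((Submodule.restrictScalars A m).liftQ f hker).comp (Submodule.Quotient.restrictScalarsEquiv A m).symm.toLinearMap
  have hfb : ∀ x : B, fb (Ideal.Quotient.mk m x) = m.toCotangent ⟨σ • x - x, h1 x⟩ := fun x => rfl
  let Dd : Derivation A (B ⧸ m) m.Cotangent := Derivation.mk' fb (by
    intro x y
    obtain ⟨x, rfl⟩ := Ideal.Quotient.mk_surjective x
    obtain ⟨y, rfl⟩ := Ideal.Quotient.mk_surjective y
    rw [← map_mul, hfb, hfb, hfb]
    show _ = x • m.toCotangent _ + y • m.toCotangent _
    rw [← map_smul, ← map_smul, ← map_add, ← sub_eq_zero, ← map_sub, Ideal.toCotangent_eq_zero]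
    show σ • (x * y) - x * y - (x * (σ • y - y) + y * (σ • x - x)) ∈ m ^ 2
    have e : σ • (x * y) - x * y - (x * (σ • y - y) + y * (σ • x - x)) = (σ • x - x) * (σ • y - y) := by
      rw [smul_mul']; ring
    rw [e, pow_two]
    exact Ideal.mul_mem_mul (h1 x) (h1 y))
  have hD : ∀ z, Dd z = 0 := fun z => by
    rw [← Derivation.liftKaehlerDifferential_comp_D Dd z, Subsingleton.elim (KaehlerDifferential.D A (B ⧸ m) z) 0, map_zero]
  intro x
  exact (m.toCotangent_eq_zero ⟨σ • x - x, h1 x⟩).mp ((hfb x).symm.trans (hD _))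

/-- The tame character. -/
theorem exists_theta [m.IsMaximal] (A : Type u) [CommRing A] [Algebra A B] [SMulCommClass G A B]
    [Algebra.FormallyUnramified A (B ⧸ m)] {π : B} (hπ : π ∈ m) (hπ2 : π ∉ m ^ 2)
    (hgen : m ≤ Ideal.span {π} ⊔ m ^ 2) :
    ∃ θ : (m.inertia G) →* (B ⧸ m)ˣ, ∀ σ : m.inertia G, σ ∈ θ.ker ↔ (σ : G) ∈ (m ^ 2).inertia G := by
  have huniq : ∀ c : B, c * π ∈ m ^ 2 → c ∈ m := by
    intro c hc
    by_contra h
    obtain ⟨d, q, hq, hdq⟩ := Ideal.IsMaximal.exists_inv ‹m.IsMaximal› h
    have e : π = d * (c * π) + q * π := by linear_combination (-π) * hdq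
    apply hπ2
    rw [e]
    refine (m ^ 2).add_mem ((m ^ 2).mul_mem_left _ hc) ?_
    rw [pow_two]
    exact Ideal.mul_mem_mul hq hπ
  have hex : ∀ σ : m.inertia G, ∃ b : B, (σ : G) • π - b * π ∈ m ^ 2 := by
    intro σ
    have hσπ : (σ : G) • π ∈ m := by
      have := m.add_mem (σ.2 π) hπ
      rwa [sub_add_cancel] at this
    obtain ⟨_, hb, c, hc, e⟩ := Submodule.mem_sup.mp (hgen hσπ)
    obtain ⟨b, rfl⟩ := Ideal.mem_span_singleton'.mp hb
    exact ⟨b, by rw [← e, add_sub_cancel_left]; exact hc⟩
  choose b hb using hex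
  have hmk : ∀ (σ : m.inertia G) (c : B), (σ : G) • π - c * π ∈ m ^ 2 →
      Ideal.Quotient.mk m (b σ) = Ideal.Quotient.mk m c := by
    intro σ c hc
    rw [Ideal.Quotient.eq]
    refine huniq _ ?_
    rw [show (b σ - c) * π = ((σ : G) • π - c * π) - ((σ : G) • π - b σ * π) by ring]
    exact (m ^ 2).sub_mem hc (hb σ)
  let θ : (m.inertia G) →* (B ⧸ m) :=
    { toFun := fun σ => Ideal.Quotient.mk m (b σ)
      map_one' := by
        rw [← map_one (Ideal.Quotient.mk m)]
        exact hmk 1 1 (by simp)
      map_mul' := by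
        intro σ τ
        rw [← map_mul]
        refine hmk (σ * τ) _ ?_
        have hσ2 : ∀ a ∈ m ^ 2, (σ : G) • a ∈ m ^ 2 := by
          intro a ha
          rw [pow_two] at ha
          induction ha using Submodule.mul_induction_on' with
          | mem_mul_mem a ha c hc =>
            rw [smul_mul', pow_two]
            have ha' : (σ : G) • a ∈ m := by
              have := m.add_mem (σ.2 a) ha
              rwa [sub_add_cancel] at this
            have hc' : (σ : G) • c ∈ m := by
              have := m.add_mem (σ.2 c) hc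
              rwa [sub_add_cancel] at this
            exact Ideal.mul_mem_mul ha' hc'
          | add x _ y _ hx hy => rw [smul_add]; exact Submodule.add_mem _ hx hy
        have e : ((σ * τ : m.inertia G) : G) • π - b σ * b τ * π =
            (σ : G) • ((τ : G) • π - b τ * π) + ((σ : G) • b τ - b τ) * ((σ : G) • π) +
              b τ * ((σ : G) • π - b σ * π) := by
          rw [Subgroup.coe_mul, mul_smul, smul_sub, smul_mul']
          ring
        rw [e]
        refine (m ^ 2).add_mem ((m ^ 2).add_mem (hσ2 _ (hb τ)) ?_) ((m ^ 2).mul_mem_left _ (hb σ))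
        have hσπ : (σ : G) • π ∈ m := by
          have := m.add_mem (σ.2 π) hπ
          rwa [sub_add_cancel] at this
        rw [pow_two]
        exact Ideal.mul_mem_mul (σ.2 (b τ)) hσπ }
  refine ⟨θ.toHomUnits, fun σ => ?_⟩
  rw [MonoidHom.mem_ker, Units.ext_iff, MonoidHom.coe_toHomUnits, Units.val_one]
  show Ideal.Quotient.mk m (b σ) = 1 ↔ _
  constructor
  · intro h
    refine mem_inertia_sq m A hπ hgen σ.2 ?_
    have h1 : b σ - 1 ∈ m := by rw [← Ideal.Quotient.eq, h, map_one]
    have e : (σ : G) • π - π = ((σ : G) • π - b σ * π) + (b σ - 1) * π := by ring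
    rw [e]
    refine (m ^ 2).add_mem (hb σ) ?_
    rw [pow_two]
    exact Ideal.mul_mem_mul h1 hπ
  · intro h
    rw [← map_one (Ideal.Quotient.mk m)]
    exact hmk σ 1 (by simpa using h π)

end Filtration

section Counting

theorem card_stabilizer_eq_of_separable {R S G : Type u} [CommRing R] [CommRing S] [Algebra R S] [Group G]
    [MulSemiringAction G S] [IsGaloisGroup G R S] [Finite G] (p : Ideal R) [p.IsMaximal]
    (P : Ideal S) [P.LiesOver p] [P.IsMaximal]
    (hsep : Algebra.IsSeparable (R ⧸ p) (S ⧸ P)) :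
    Nat.card (MulAction.stabilizer G P) = Nat.card (inertia G P) * P.inertiaDeg R := by
  let := Localization.AtPrime.algebraOfLiesOver p P
  have heq : (algebraMap (S ⧸ P) P.ResidueField).comp (algebraMap (R ⧸ p) (S ⧸ P)) =
      (algebraMap p.ResidueField P.ResidueField).comp (algebraMap (R ⧸ p) p.ResidueField) := by
    ext
    simp [← IsScalarTower.algebraMap_apply]
  let := ((algebraMap (S ⧸ P) P.ResidueField).comp (algebraMap (R ⧸ p) (S ⧸ P))).toAlgebra
  have : IsScalarTower (R ⧸ p) (S ⧸ P) P.ResidueField := .of_algebraMap_eq' rfl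
  have : IsScalarTower (R ⧸ p) p.ResidueField P.ResidueField := .of_algebraMap_eq' heq
  letI := Ideal.Quotient.field p
  letI := Ideal.Quotient.field P
  haveI : Algebra.IsSeparable (R ⧸ p) P.ResidueField :=
    AlgEquiv.Algebra.isSeparable (AlgEquiv.ofBijective (IsScalarTower.toAlgHom (R ⧸ p) (S ⧸ P) P.ResidueField)
      (Ideal.bijective_algebraMap_quotient_residueField P))
  haveI : Algebra.IsSeparable p.ResidueField P.ResidueField :=
    Algebra.isSeparable_tower_top_of_isSeparable (R ⧸ p) _ _
  have : IsGalois p.ResidueField P.ResidueField :=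
    { __ := Ideal.IsFractionRing.normal G p P p.ResidueField P.ResidueField }
  have : Module.Finite p.ResidueField P.ResidueField :=
    Ideal.IsFractionRing.finite_of_isInvariant G p P p.ResidueField P.ResidueField
  have : Subgroup.index _ = _ := Nat.card_congr
    (IsFractionRing.stabilizerQuotientInertiaEquiv G p P p.ResidueField P.ResidueField).toEquiv
  rw [inertiaDeg_eq p P, ← IsGalois.card_aut_eq_finrank p.ResidueField P.ResidueField, ← this,
    ← ((inertia G P).subgroupOf (MulAction.stabilizer G P)).card_mul_index,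
    Nat.card_congr (Subgroup.subgroupOfEquivOfLe (inertia_le_stabilizer (M := G) P)).toEquiv,
    AddSubgroup.subgroupOf_inertia]

theorem card_inertia_eq_of_separable {R S G : Type u} [CommRing R] [CommRing S] [Algebra R S] [Group G]
    [MulSemiringAction G S] [IsGaloisGroup G R S] [Finite G] [IsDomain R] [IsDomain S] [Module.Finite R S]
    [Module.Flat R S] (p : Ideal R) [p.IsMaximal] (P : Ideal S) [P.LiesOver p] [P.IsMaximal]
    (hsep : Algebra.IsSeparable (R ⧸ p) (S ⧸ P)) :
    Nat.card (P.inertia G) = Ideal.ramificationIdxIn p S := by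
  have H : (p.primesOver S).ncard * Nat.card (P.inertia G) * P.inertiaDeg R = Nat.card G := by
    rw [mul_assoc, ← card_stabilizer_eq_of_separable p P hsep,
      ← Algebra.IsInvariant.orbit_eq_primesOver R S G p P]
    simpa using Nat.card_congr (MulAction.orbitProdStabilizerEquivGroup G P)
  rw [← inertiaDegIn_eq_inertiaDeg p P G] at H
  have h1 : (p.primesOver S).ncard ≠ 0 := by
    intro h; rw [h, zero_mul, zero_mul] at H; exact Nat.card_pos.ne H
  have h2 : p.inertiaDegIn S ≠ 0 := by
    intro h; rw [h, mul_zero] at H; exact Nat.card_pos.ne H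
  rwa [← ncard_primesOver_mul_ramificationIdxIn_mul_inertiaDegIn p S G,
    mul_assoc, mul_right_inj' h1, mul_left_inj' h2] at H

/-- A subgroup of units with `|G| = q * t`, where `x ^ q = 1` only for `x = 1`, is all roots of unity. -/
theorem range_eq_rootsOfUnity {G κ : Type u} [Group G] [Field κ] (θ : G →* κˣ) [Finite θ.range] (e q : ℕ)
    (he : e = q * Nat.card θ.range) (hq : ∀ x : κ, x ^ q = 1 → x = 1) :
    θ.range = rootsOfUnity e κ := by
  haveI : NeZero (Nat.card θ.range) := ⟨Nat.card_pos.ne'⟩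
  have hle : θ.range ≤ rootsOfUnity (Nat.card θ.range) κ := fun x hx => by
    rw [mem_rootsOfUnity]
    exact congrArg Subtype.val (pow_card_eq_one' (x := (⟨x, hx⟩ : θ.range)))
  have h1 : θ.range = rootsOfUnity (Nat.card θ.range) κ :=
    Subgroup.eq_of_le_of_card_ge hle (card_rootsOfUnity κ (Nat.card θ.range))
  refine le_antisymm (hle.trans (rootsOfUnity_le_of_dvd (he ▸ Dvd.intro_left q rfl))) (fun x hx => ?_)
  rw [h1, mem_rootsOfUnity, Units.ext_iff, Units.val_pow_eq_pow_val, Units.val_one]
  refine hq _ ?_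
  rw [mem_rootsOfUnity, Units.ext_iff, Units.val_pow_eq_pow_val, Units.val_one, he] at hx
  rw [← pow_mul, mul_comm]
  exact hx

theorem char_not_dvd_card {H : Type u} [Group H] [Finite H] {κ : Type u} [Field κ] (p : ℕ) [Fact p.Prime]
    [CharP κ p] (θ : H →* κˣ) : ¬ p ∣ Nat.card θ.range := by
  intro h
  haveI : Finite θ.range := Finite.of_surjective θ.rangeRestrict θ.rangeRestrict_surjective
  obtain ⟨x, hx⟩ := exists_prime_orderOf_dvd_card' p h
  have h1 : ((x : κˣ) : κ) ^ p = 1 := by
    have := pow_orderOf_eq_one x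
    rw [hx] at this
    exact congrArg (fun y : θ.range => ((y : κˣ) : κ)) this
  haveI : ExpChar κ p := .prime Fact.out
  have h2 : ((x : κˣ) : κ) = 1 := frobenius_inj κ p (by simpa [frobenius_def] using h1)
  have : x = 1 := Subtype.ext (Units.ext h2)
  rw [this, orderOf_one] at hx
  exact (Fact.out : p.Prime).ne_one hx.symm

end Counting

end Groth.Agent.HenselLib.TameInertia
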