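import Groth.Agent.CAlgH.Spreading
import Mathlib.RingTheory.Extension.Presentation.Core
import Mathlib.RingTheory.Extension.Presentation.Basic

/-!
# Models of unramified algebras over rings of finite type over `ℤ`
-/

set_option autoImplicit false
set_option linter.all false

universe u

open TensorProduct MvPolynomial

namespace Groth.Agent.HenselLib.UnramModel

open Groth.Agent.CAlgH in
theorem fgSubalg_colimSys (A₀ R : Type u) [CommRing A₀] [CommRing R] [Algebra A₀ R] :
    ColimSys (fun s : Finset R => (Algebra.adjoin A₀ (s : Set R)).val) := by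
  classical
  refine ⟨inferInstance, fun s t => ⟨s ∪ t, ⟨⟨Subalgebra.inclusion (Algebra.adjoin_mono ?_), AlgHom.ext fun _ => rfl⟩⟩,
    ⟨⟨Subalgebra.inclusion (Algebra.adjoin_mono ?_), AlgHom.ext fun _ => rfl⟩⟩⟩,
    fun a => ⟨{a}, ⟨a, Algebra.subset_adjoin (by simp)⟩, rfl⟩, fun s x hx => ⟨s, CompatHom.refl _ s, Subtype.ext hx⟩⟩
  · simp
  · simp

theorem exists_model (R S : Type u) [CommRing R] [CommRing S] [Algebra R S] [Algebra.FinitePresentation R S]
    [Algebra.FormallyUnramified R S] :
    ∃ (R₀ : Type u) (_ : CommRing R₀) (_ : Algebra.FiniteType ℤ R₀) (S₀ : Type u) (_ : CommRing S₀)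
      (_ : Algebra R₀ S₀) (_ : Algebra.FinitePresentation R₀ S₀) (_ : Algebra.FormallyUnramified R₀ S₀)
      (_ : Algebra R₀ R), Nonempty (R ⊗[R₀] S₀ ≃ₐ[R] S) := by
  let P := Algebra.Presentation.ofFinitePresentation R S
  let A₀ := Algebra.adjoin ℤ P.coeffs
  haveI : P.HasCoeffs A₀ := ⟨by simp [A₀]⟩
  haveI hA₀ : Algebra.FiniteType ℤ A₀ :=
    (Subalgebra.fg_iff_finiteType A₀).mp ⟨P.finite_coeffs.toFinset, by simp [A₀]⟩
  let C := P.ModelOfHasCoeffs A₀
  haveI : Algebra.FinitePresentation A₀ C := inferInstance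
  let e : R ⊗[A₀] C ≃ₐ[R] S := P.tensorModelOfHasCoeffsEquiv A₀
  haveI : Algebra.FormallyUnramified R (R ⊗[A₀] C) := Algebra.FormallyUnramified.of_equiv e.symm
  obtain ⟨s, -, hs⟩ := (fgSubalg_colimSys A₀ R).unramified_spreads (C := C) ∅ inferInstance
  let R₁ := Algebra.adjoin A₀ (s : Set R)
  haveI hR₁ : Algebra.FiniteType A₀ R₁ := (Subalgebra.fg_iff_finiteType R₁).mp ⟨s, rfl⟩
  exact ⟨R₁, inferInstance, Algebra.FiniteType.trans hA₀ hR₁, R₁ ⊗[A₀] C, inferInstance, inferInstance,
    inferInstance, hs, inferInstance, ⟨(Algebra.TensorProduct.cancelBaseChange A₀ R₁ R R C).trans e⟩⟩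

/-- The derivation criterion: in a presented unramified algebra the coordinate vectors are combinations
of gradients of relations. -/
theorem exists_gradient {R S : Type u} [CommRing R] [CommRing S] [Algebra R S] [Algebra.FormallyUnramified R S]
    {n : ℕ} (π : MvPolynomial (Fin n) R →ₐ[R] S) (hπ : Function.Surjective π) (i : Fin n) :
    (fun k => if k = i then (1 : S) else 0) ∈
      Submodule.span S ((fun f => fun k => π (pderiv k f)) '' (RingHom.ker π : Set (MvPolynomial (Fin n) R))) := by
  classical
  letI : Algebra (MvPolynomial (Fin n) R) S := π.toRingHom.toAlgebra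
  haveI : IsScalarTower R (MvPolynomial (Fin n) R) S := .of_algebraMap_eq fun r => (π.commutes r).symm
  set N := Submodule.span S ((fun f => fun k => π (pderiv k f)) '' (RingHom.ker π : Set (MvPolynomial (Fin n) R)))
  let δ : MvPolynomial (Fin n) R →ₗ[R] (Fin n → S) ⧸ N :=
    ((Submodule.mkQ N).restrictScalars R).comp (LinearMap.pi fun k => π.toLinearMap.comp (pderiv k).toLinearMap)
  have hδ : ∀ f, δ f = Submodule.Quotient.mk (fun k => π (pderiv k f)) := fun f => rfl
  have hmul : ∀ f g, δ (f * g) = π f • δ g + π g • δ f := fun f g => by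
    rw [hδ, hδ, hδ, ← Submodule.Quotient.mk_smul, ← Submodule.Quotient.mk_smul, ← Submodule.Quotient.mk_add]
    congr 1
    funext k
    simp [Derivation.leibniz]
  have hker : ∀ f, π f = 0 → δ f = 0 := fun f hf => by
    rw [hδ, Submodule.Quotient.mk_eq_zero]
    exact Submodule.subset_span ⟨f, hf, rfl⟩
  have hwd : ∀ f g, π f = π g → δ f = δ g := fun f g h => by
    rw [← sub_eq_zero, ← map_sub]; exact hker _ (by rw [map_sub, h, sub_self])
  let r := Function.surjInv hπ
  have hr : ∀ x, π (r x) = x := Function.surjInv_eq hπ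
  let D : Derivation R S ((Fin n → S) ⧸ N) :=
    { toFun := fun x => δ (r x)
      map_add' := fun x y => by rw [← map_add]; exact hwd _ _ (by simp [hr])
      map_smul' := fun c x => by
        rw [RingHom.id_apply, ← map_smul]; exact hwd _ _ (by rw [hr, map_smul, hr])
      map_one_eq_zero' := by
        show δ (r 1) = 0
        rw [hwd (r 1) 1 (by simp [hr])]
        simpa using hmul 1 1
      leibniz' := fun x y => by
        show δ (r (x * y)) = x • δ (r y) + y • δ (r x)
        rw [hwd (r (x * y)) (r x * r y) (by simp [hr]), hmul, hr, hr] }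
  have hD : ∀ x, D x = 0 := fun x => by
    rw [← Derivation.liftKaehlerDifferential_comp D]
    show D.liftKaehlerDifferential (KaehlerDifferential.D R S x) = 0
    rw [Subsingleton.elim (KaehlerDifferential.D R S x) 0, map_zero]
  have h1 : δ (r (π (X i))) = 0 := hD (π (X i))
  rw [hwd (r (π (X i))) (X i) (hr _), hδ, Submodule.Quotient.mk_eq_zero] at h1
  convert h1 using 1
  funext k
  rcases eq_or_ne k i with rfl | h
  · simp
  · simp [h, pderiv_X_of_ne (Ne.symm h)]

/-- Converse criterion. -/
theorem formallyUnramified_of_gradient {R : Type u} [CommRing R] {n : ℕ} (J : Ideal (MvPolynomial (Fin n) R))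
    (h : ∀ i : Fin n, (fun k => if k = i then (1 : MvPolynomial (Fin n) R ⧸ J) else 0) ∈
      Submodule.span (MvPolynomial (Fin n) R ⧸ J)
        ((fun f => fun k => Ideal.Quotient.mk J (pderiv k f)) '' (J : Set (MvPolynomial (Fin n) R)))) :
    Algebra.FormallyUnramified R (MvPolynomial (Fin n) R ⧸ J) := by
  classical
  constructor
  let dx : Fin n → Ω[MvPolynomial (Fin n) R ⧸ J⁄R] := fun k => KaehlerDifferential.D R (MvPolynomial (Fin n) R ⧸ J) (Ideal.Quotient.mk J (X k))
  let φ : (Fin n → (MvPolynomial (Fin n) R ⧸ J)) →ₗ[(MvPolynomial (Fin n) R ⧸ J)] Ω[MvPolynomial (Fin n) R ⧸ J⁄R] := Fintype.linearCombination (MvPolynomial (Fin n) R ⧸ J) dx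
  have hφ : ∀ f : MvPolynomial (Fin n) R, φ (fun k => Ideal.Quotient.mk J (pderiv k f)) =
      KaehlerDifferential.D R (MvPolynomial (Fin n) R ⧸ J) (Ideal.Quotient.mk J f) := by
    intro f
    rw [Fintype.linearCombination_apply]
    induction f using MvPolynomial.induction_on with
    | C a =>
      rw [show Ideal.Quotient.mk J (C a) = algebraMap R (MvPolynomial (Fin n) R ⧸ J) a from rfl, Derivation.map_algebraMap]
      refine Finset.sum_eq_zero fun x _ => ?_
      rw [pderiv_C, map_zero]
      exact zero_smul (MvPolynomial (Fin n) R ⧸ J) (dx x)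
    | add p q hp hq => simp only [map_add, add_smul, Finset.sum_add_distrib, hp, hq]
    | mul_X p j hp =>
      rw [map_mul, Derivation.leibniz, ← hp, Finset.smul_sum]
      simp only [Derivation.leibniz, map_add, smul_eq_mul, map_mul, add_smul, mul_smul, Finset.sum_add_distrib]
      congr 1
      rw [Finset.sum_eq_single j]
      · simp [dx]
      · intro b _ hb
        rw [pderiv_X_of_ne (Ne.symm hb), map_zero]
        exact (congrArg _ (zero_smul (MvPolynomial (Fin n) R ⧸ J) (dx b))).trans (smul_zero _)
      · simp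
  have hzero : ∀ i, dx i = 0 := fun i => by
    have h1 : φ (fun k => if k = i then (1 : (MvPolynomial (Fin n) R ⧸ J)) else 0) = dx i := by
      rw [show (fun k => if k = i then (1 : (MvPolynomial (Fin n) R ⧸ J)) else 0) = Pi.single i 1 from
        funext fun k => (Pi.single_apply i 1 k).symm]
      exact (Fintype.linearCombination_apply_single _ _ i 1).trans (one_smul _ _)
    have h2 : Submodule.span (MvPolynomial (Fin n) R ⧸ J) ((fun f => fun k => Ideal.Quotient.mk J (pderiv k f)) '' (J : Set _)) ≤ LinearMap.ker φ := by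
      rw [Submodule.span_le]
      rintro _ ⟨f, hf, rfl⟩
      show φ _ = 0
      rw [hφ, Ideal.Quotient.eq_zero_iff_mem.mpr hf, map_zero]
    rw [← h1]
    exact h2 (h i)
  refine subsingleton_of_forall_eq 0 fun ω => ?_
  have : ω ∈ Submodule.span (MvPolynomial (Fin n) R ⧸ J) (Set.range (KaehlerDifferential.D R (MvPolynomial (Fin n) R ⧸ J))) := by
    rw [KaehlerDifferential.span_range_derivation]; exact Submodule.mem_top
  induction this using Submodule.span_induction with
  | mem x hx =>
    obtain ⟨y, rfl⟩ := hx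
    obtain ⟨f, rfl⟩ := Ideal.Quotient.mk_surjective y
    rw [← hφ, Fintype.linearCombination_apply]
    simp [hzero]
  | zero => rfl
  | add a b _ _ ha hb => rw [ha, hb, add_zero]
  | smul a b _ hb => rw [hb, smul_zero]

/-- An unramified algebra is a quotient of an unramified algebra of finite presentation. -/
theorem exists_fp_cover (R S : Type u) [CommRing R] [CommRing S] [Algebra R S] [Algebra.FiniteType R S]
    [Algebra.FormallyUnramified R S] :
    ∃ (T : Type u) (_ : CommRing T) (_ : Algebra R T) (_ : Algebra.FinitePresentation R T)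
      (_ : Algebra.FormallyUnramified R T) (π : T →ₐ[R] S), Function.Surjective π := by
  classical
  obtain ⟨n, π, hπ⟩ := Algebra.FiniteType.iff_quotient_mvPolynomial''.mp ‹Algebra.FiniteType R S›
  have h := fun i => exists_gradient π hπ i
  simp only [Submodule.mem_span_image_iff_exists_fun] at h
  choose t ht c hc using h
  choose c' hc' using fun i (f : {x // x ∈ t i}) => hπ (c i f)
  let err : Fin n → Fin n → MvPolynomial (Fin n) R := fun i k =>
    ∑ f : {x // x ∈ t i}, c' i f * pderiv k (f : MvPolynomial (Fin n) R) - if k = i then 1 else 0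
  let G : Finset (MvPolynomial (Fin n) R) :=
    (Finset.univ.biUnion t) ∪ Finset.univ.image fun ik : Fin n × Fin n => err ik.1 ik.2
  let J : Ideal (MvPolynomial (Fin n) R) := Ideal.span (G : Set (MvPolynomial (Fin n) R))
  have hJ : J ≤ RingHom.ker π := by
    rw [Ideal.span_le]
    intro x hx
    rcases Finset.mem_union.mp hx with hx | hx
    · obtain ⟨i, -, hi⟩ := Finset.mem_biUnion.mp hx
      exact ht i hi
    · obtain ⟨⟨i, k⟩, -, rfl⟩ := Finset.mem_image.mp hx
      have := congrFun (hc i) k
      simp only [Finset.sum_apply, Pi.smul_apply, smul_eq_mul] at this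
      show π (err i k) = 0
      simp only [err, map_sub, map_sum, map_mul, hc']
      rw [this]
      split_ifs <;> simp
  refine ⟨MvPolynomial (Fin n) R ⧸ J, inferInstance, inferInstance,
    Algebra.FinitePresentation.quotient ⟨G, rfl⟩, formallyUnramified_of_gradient J (fun i => ?_),
    Ideal.Quotient.liftₐ J π (fun a ha => hJ ha), Ideal.Quotient.lift_surjective_of_surjective _ _ hπ⟩
  have : (fun k => if k = i then (1 : MvPolynomial (Fin n) R ⧸ J) else 0) =
      ∑ f : {x // x ∈ t i}, Ideal.Quotient.mk J (c' i f) •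
        fun k => Ideal.Quotient.mk J (pderiv k (f : MvPolynomial (Fin n) R)) := by
    funext k
    have h0 : Ideal.Quotient.mk J (err i k) = 0 := Ideal.Quotient.eq_zero_iff_mem.mpr
      (Ideal.subset_span (Finset.mem_union_right _ (Finset.mem_image.mpr ⟨(i, k), Finset.mem_univ _, rfl⟩)))
    simp only [err, map_sub, map_sum, map_mul, sub_eq_zero] at h0
    simp only [Finset.sum_apply, Pi.smul_apply, smul_eq_mul, h0]
    split_ifs <;> simp
  rw [this]
  exact Submodule.sum_mem _ fun f _ => Submodule.smul_mem _ _ (Submodule.subset_span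
    ⟨f, Ideal.subset_span (Finset.mem_union_left _ (Finset.mem_biUnion.mpr ⟨i, Finset.mem_univ _, f.2⟩)), rfl⟩)

end Groth.Agent.HenselLib.UnramModel
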